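import Mathlib

/-!
# Modules over simple artinian algebras

* `nonempty_linearEquiv_of_isSimpleModule` : two simple modules over a simple artinian ring are
  isomorphic.
* `nonempty_linearEquiv_of_finrank_eq` : two finite-dimensional modules over a simple artinian
  `k`-algebra with the same `k`-dimension are isomorphic.
* `exists_linearEquiv_fun` : a nontrivial f.d. module is `≃ Fin n → S` with `S` a prescribed
  simple module.
-/

set_option autoImplicit false
set_option linter.style.haveILetI false

namespace Groth.Agent.Lib.Helper52.CSAModules

open Module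

section simple

variable (T : Type*) [Ring T] [IsSimpleRing T] [IsArtinianRing T]

/-- Any two simple modules over a simple artinian ring are isomorphic. -/
theorem nonempty_linearEquiv_of_isSimpleModule (S S' : Type*) [AddCommGroup S] [Module T S]
    [AddCommGroup S'] [Module T S'] [IsSimpleModule T S] [IsSimpleModule T S'] :
    Nonempty (S ≃ₗ[T] S') := by
  have hiso := IsSimpleRing.isIsotypic T (S × S')
  let e1 : S ≃ₗ[T] LinearMap.range (LinearMap.inl T S S') :=
    LinearEquiv.ofInjective _ LinearMap.inl_injective
  let e2 : S' ≃ₗ[T] LinearMap.range (LinearMap.inr T S S') :=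
    LinearEquiv.ofInjective _ LinearMap.inr_injective
  haveI : IsSimpleModule T (LinearMap.range (LinearMap.inl T S S')) := .congr e1.symm
  haveI : IsSimpleModule T (LinearMap.range (LinearMap.inr T S S')) := .congr e2.symm
  obtain ⟨e⟩ := hiso (LinearMap.range (LinearMap.inr T S S'))
    (LinearMap.range (LinearMap.inl T S S'))
  exact ⟨e1.trans (e.trans e2.symm)⟩

end simple

section dim

variable (k : Type*) [Field k] (T : Type*) [Ring T] [Algebra k T] [IsSimpleRing T]
  [IsArtinianRing T]

/-- A nontrivial finite module over a simple artinian ring is a finite power of any given simple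
module. -/
theorem exists_linearEquiv_fun (M : Type*) [AddCommGroup M] [Module T M] [Module.Finite T M]
    [Nontrivial M] (S : Type*) [AddCommGroup S] [Module T S] [IsSimpleModule T S] :
    ∃ (n : ℕ) (_ : NeZero n), Nonempty (M ≃ₗ[T] (Fin n → S)) := by
  obtain ⟨n, hn, S₀, hS₀, ⟨e⟩⟩ := (IsSimpleRing.isIsotypic T M).linearEquiv_fun
  obtain ⟨e'⟩ := nonempty_linearEquiv_of_isSimpleModule T S₀ S
  exact ⟨n, hn, ⟨e.trans (LinearEquiv.piCongrRight fun _ => e')⟩⟩

variable {T}

omit [IsSimpleRing T] [IsArtinianRing T] in
theorem finrank_eq_mul_of_linearEquiv_fun {M : Type*} [AddCommGroup M] [Module T M] [Module k M]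
    [IsScalarTower k T M] {S : Type*} [AddCommGroup S] [Module T S] [Module k S]
    [IsScalarTower k T S] [FiniteDimensional k S] {n : ℕ} (e : M ≃ₗ[T] (Fin n → S)) :
    finrank k M = n * finrank k S := by
  have := (e.restrictScalars k).finrank_eq
  rw [this, Module.finrank_pi_fintype]
  simp

variable (T)

/-- Finite-dimensional modules over a simple artinian `k`-algebra are classified by their
`k`-dimension. -/
theorem nonempty_linearEquiv_of_finrank_eq (M N : Type*) [AddCommGroup M] [Module T M]
    [Module k M] [IsScalarTower k T M] [FiniteDimensional k M]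
    [AddCommGroup N] [Module T N] [Module k N] [IsScalarTower k T N] [FiniteDimensional k N]
    (h : finrank k M = finrank k N) : Nonempty (M ≃ₗ[T] N) := by
  rcases subsingleton_or_nontrivial M with hM | hM
  · have h0 : finrank k N = 0 := by rw [← h]; exact Module.finrank_zero_of_subsingleton
    have : Subsingleton N := Module.finrank_zero_iff.mp h0
    exact ⟨⟨0, 0, fun _ => Subsingleton.elim _ _, fun _ => Subsingleton.elim _ _⟩⟩
  · have hN : Nontrivial N := by
      apply Module.nontrivial_of_finrank_pos (R := k)
      rw [← h]; exact Module.finrank_pos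
    haveI : Module.Finite T M := Module.Finite.of_restrictScalars_finite k T M
    haveI : Module.Finite T N := Module.Finite.of_restrictScalars_finite k T N
    obtain ⟨n, hn, S, hS, ⟨e⟩⟩ := (IsSimpleRing.isIsotypic T M).linearEquiv_fun
    obtain ⟨n', hn', ⟨e'⟩⟩ := exists_linearEquiv_fun T N S
    haveI : Nontrivial S := IsSimpleModule.nontrivial T S
    haveI : FiniteDimensional k S :=
      Module.Finite.of_injective ((S.subtype).restrictScalars k) S.injective_subtype
    have h1 := finrank_eq_mul_of_linearEquiv_fun k e
    have h2 := finrank_eq_mul_of_linearEquiv_fun k e'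
    have hSpos : 0 < finrank k S := Module.finrank_pos
    have hnn : n = n' := by
      have : n * finrank k S = n' * finrank k S := by rw [← h1, ← h2, h]
      exact Nat.eq_of_mul_eq_mul_right hSpos this
    subst hnn
    exact ⟨e.trans e'.symm⟩

end dim

end Groth.Agent.Lib.Helper52.CSAModules
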