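import Mathlib
import Groth.Agent.Lib.Helper59.SkolemNoether

/-!
# Tensor product of a simple algebra with a finite central simple algebra is simple
-/

set_option autoImplicit false
set_option linter.style.haveILetI false

namespace Groth.Agent.Lib.Helper52.CSATensor

open TensorProduct MulOpposite

variable {k : Type*} [Field k] {A : Type*} [Ring A] [Algebra k A]
  {A' : Type*} [Ring A'] [Algebra k A']

lemma lTensor_mulLeftRight_tmul (c d : A') (y : A ⊗[k] A') :
    (AlgHom.mulLeftRight k A' (c ⊗ₜ[k] op d)).lTensor A y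
      = ((1 : A) ⊗ₜ[k] c) * y * ((1 : A) ⊗ₜ[k] d) := by
  induction y using TensorProduct.induction_on with
  | zero => simp
  | tmul a x =>
    simp [AlgHom.mulLeftRight_apply]
  | add y z hy hz => rw [map_add, hy, hz, mul_add, add_mul]

lemma lTensor_mulLeftRight_mem (I : TwoSidedIdeal (A ⊗[k] A')) (w : A' ⊗[k] A'ᵐᵒᵖ)
    {y : A ⊗[k] A'} (hy : y ∈ I) :
    (AlgHom.mulLeftRight k A' w).lTensor A y ∈ I := by
  induction w using TensorProduct.induction_on with
  | zero => simp [I.zero_mem]
  | tmul c d =>
    have := lTensor_mulLeftRight_tmul (k := k) (A := A) c d.unop y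
    rw [op_unop] at this
    rw [this]
    exact I.mul_mem_right _ _ (I.mul_mem_left _ _ hy)
  | add w w' hw hw' =>
    rw [map_add, LinearMap.lTensor_add, LinearMap.add_apply]
    exact I.add_mem hw hw'

/-- Every `k`-linear endomorphism of the finite central simple algebra `A'`, applied on the second
factor, preserves two-sided ideals of `A ⊗ A'`. -/
lemma lTensor_mem [Algebra.IsCentral k A'] [IsSimpleRing A'] [FiniteDimensional k A']
    (I : TwoSidedIdeal (A ⊗[k] A')) (T : Module.End k A') {y : A ⊗[k] A'} (hy : y ∈ I) :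
    T.lTensor A y ∈ I := by
  obtain ⟨w, rfl⟩ :=
    (Groth.Agent.Lib.Helper59.SkolemNoether.bijective_mulLeftRight_of_csa (K := k) (A := A')).2 T
  exact lTensor_mulLeftRight_mem I w hy

/-- Every two-sided ideal of `A ⊗ A'` (`A'` finite central simple) containing a nonzero element
contains a nonzero element of the form `a ⊗ 1`. -/
lemma exists_tmul_one_mem [Algebra.IsCentral k A'] [IsSimpleRing A'] [FiniteDimensional k A']
    (I : TwoSidedIdeal (A ⊗[k] A')) {z : A ⊗[k] A'} (hz : z ∈ I) (hz0 : z ≠ 0) :
    ∃ a : A, a ≠ 0 ∧ a ⊗ₜ[k] (1 : A') ∈ I := by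
  classical
  let b := Module.finBasis k A'
  let Θ := TensorProduct.equivFinsuppOfBasisRight (M := A) b
  have hΘ : Θ z ≠ 0 := fun h => hz0 (Θ.injective (by simpa using h))
  obtain ⟨j, hj⟩ : ∃ j, Θ z j ≠ 0 := by
    by_contra hcon
    exact hΘ (Finsupp.ext fun i => not_not.mp fun h => hcon ⟨i, h⟩)
  refine ⟨Θ z j, hj, ?_⟩
  let T : Module.End k A' := (b.coord j).smulRight (1 : A')
  have key : ∀ y : A ⊗[k] A', T.lTensor A y = (Θ y j) ⊗ₜ[k] (1 : A') := by
    intro y
    induction y using TensorProduct.induction_on with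
    | zero => simp
    | tmul a x =>
      simp only [LinearMap.lTensor_tmul, T, LinearMap.smulRight_apply, Θ,
        TensorProduct.equivFinsuppOfBasisRight_apply_tmul_apply, Module.Basis.coord_apply]
      rw [TensorProduct.tmul_smul, TensorProduct.smul_tmul']
    | add y y' hy hy' =>
      rw [map_add, hy, hy', map_add, Finsupp.add_apply, TensorProduct.add_tmul]
  rw [← key]
  exact lTensor_mem I T hz

variable (k A A')

/-- The tensor product of a simple algebra with a finite central simple algebra is simple. -/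
theorem isSimpleRing_tensor_csa [IsSimpleRing A] [Algebra.IsCentral k A'] [IsSimpleRing A']
    [FiniteDimensional k A'] : IsSimpleRing (A ⊗[k] A') := by
  haveI : Nontrivial (A ⊗[k] A') :=
    (Algebra.TensorProduct.includeLeft_injective (R := k) (S := k) (A := A) (B := A')
      (algebraMap k A').injective).nontrivial
  apply IsSimpleRing.of_eq_bot_or_eq_top
  intro I
  by_cases hI : I = ⊥
  · exact Or.inl hI
  · right
    obtain ⟨z, hzI, hz0⟩ : ∃ z ∈ I, z ≠ 0 := by
      by_contra hcon
      apply hI
      rw [eq_bot_iff]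
      intro x hx
      rw [TwoSidedIdeal.mem_bot]
      exact not_not.mp fun h => hcon ⟨x, hx, h⟩
    obtain ⟨a, ha0, haI⟩ := exists_tmul_one_mem I hzI hz0
    let J : TwoSidedIdeal A :=
      I.comap (Algebra.TensorProduct.includeLeft : A →ₐ[k] A ⊗[k] A')
    have haJ : a ∈ J := by
      rw [TwoSidedIdeal.mem_comap]; exact haI
    have hJ : J = ⊤ := by
      rcases eq_bot_or_eq_top J with h | h
      · rw [h, TwoSidedIdeal.mem_bot] at haJ
        exact absurd haJ ha0
      · exact h
    have h1 : (1 : A) ∈ J := by rw [hJ]; trivial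
    rw [TwoSidedIdeal.mem_comap] at h1
    rw [eq_top_iff]
    intro y _
    have := I.mul_mem_left y _ h1
    rwa [Algebra.TensorProduct.includeLeft_apply, ← Algebra.TensorProduct.one_def, mul_one] at this

/-- Symmetric version. -/
theorem isSimpleRing_csa_tensor [IsSimpleRing A] [Algebra.IsCentral k A'] [IsSimpleRing A']
    [FiniteDimensional k A'] : IsSimpleRing (A' ⊗[k] A) :=
  haveI := isSimpleRing_tensor_csa k A A'
  IsSimpleRing.of_ringEquiv (Algebra.TensorProduct.comm k A A').toRingEquiv inferInstance

end Groth.Agent.Lib.Helper52.CSATensor
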