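import Mathlib
import Groth.Agent.Lib.Helper52.CSAModules
import Groth.Agent.Lib.Helper52.CSATensor

/-!
# The bimodule `A` over `B ⊗ Aᵐᵒᵖ`, general Skolem–Noether, and the centralizer as an
endomorphism ring

For a `k`-algebra map `f : B → A` the type synonym `BiM f` is `A` with the
`B ⊗[k] Aᵐᵒᵖ`-module structure `(b ⊗ op a) • x = f b * x * a`.

* `skolem_noether` : general Skolem–Noether.
* `centralizerEquiv` : `End_{B ⊗ Aᵐᵒᵖ}(A) ≃ₐ[k] C_A(B)` for a subalgebra `B`.
-/

set_option autoImplicit false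
set_option linter.style.haveILetI false

namespace Groth.Agent.Lib.Helper52.CSABimod

open TensorProduct MulOpposite Module

variable {k : Type*} [Field k] {A : Type*} [Ring A] [Algebra k A]
  {B : Type*} [Ring B] [Algebra k B]

/-- The action of `B ⊗ Aᵐᵒᵖ` on `A` through `f`. -/
noncomputable def actHom (f : B →ₐ[k] A) : B ⊗[k] Aᵐᵒᵖ →ₐ[k] Module.End k A :=
  (AlgHom.mulLeftRight k A).comp (Algebra.TensorProduct.map f (AlgHom.id k Aᵐᵒᵖ))

@[simp] lemma actHom_tmul (f : B →ₐ[k] A) (b : B) (a : Aᵐᵒᵖ) (x : A) :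
    actHom f (b ⊗ₜ[k] a) x = f b * x * a.unop := by
  simp [actHom, AlgHom.mulLeftRight_apply]

/-- `A` as a `B ⊗ Aᵐᵒᵖ`-module through `f`. -/
def BiM (_ : B →ₐ[k] A) := A

namespace BiM

variable (f : B →ₐ[k] A)

instance : AddCommGroup (BiM f) := inferInstanceAs (AddCommGroup A)
instance : Module k (BiM f) := inferInstanceAs (Module k A)
instance [FiniteDimensional k A] : FiniteDimensional k (BiM f) :=
  inferInstanceAs (FiniteDimensional k A)
instance [Nontrivial A] : Nontrivial (BiM f) := inferInstanceAs (Nontrivial A)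

/-- The identity, as a `k`-linear equivalence. -/
def equiv : BiM f ≃ₗ[k] A := LinearEquiv.refl k A

noncomputable instance : Module (B ⊗[k] Aᵐᵒᵖ) (BiM f) :=
  Module.compHom A (actHom f).toRingHom

lemma smul_def (t : B ⊗[k] Aᵐᵒᵖ) (x : BiM f) :
    equiv f (t • x) = actHom f t (equiv f x) := rfl

lemma tmul_smul (b : B) (a : Aᵐᵒᵖ) (x : BiM f) :
    equiv f ((b ⊗ₜ[k] a) • x) = f b * equiv f x * a.unop := by
  rw [smul_def, actHom_tmul]

instance : IsScalarTower k (B ⊗[k] Aᵐᵒᵖ) (BiM f) where
  smul_assoc c t x := by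
    apply (equiv f).injective
    rw [smul_def, map_smul, LinearMap.smul_apply, map_smul, smul_def]

lemma finrank_eq : finrank k (BiM f) = finrank k A := rfl

end BiM

section SkolemNoether

variable [Algebra.IsCentral k A] [IsSimpleRing A] [FiniteDimensional k A] [IsSimpleRing B]

omit [Algebra.IsCentral k A] in
/-- A simple algebra mapping to a finite-dimensional nontrivial algebra is finite-dimensional. -/
theorem finiteDimensional_of_algHom (f : B →ₐ[k] A) : FiniteDimensional k B := by
  have hinj : Function.Injective f :=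
    (IsSimpleRing.injective_ringHom_or_subsingleton_codomain f.toRingHom).resolve_right
      (not_subsingleton A)
  exact Module.Finite.of_injective f.toLinearMap hinj

variable (k A B) in
theorem isSimpleRing_tensor_op : IsSimpleRing (B ⊗[k] Aᵐᵒᵖ) :=
  Groth.Agent.Lib.Helper52.CSATensor.isSimpleRing_tensor_csa k B Aᵐᵒᵖ

/-- **Skolem–Noether**: two algebra maps from a simple algebra to a finite central simple algebra
are conjugate. -/
theorem skolem_noether (f g : B →ₐ[k] A) :
    ∃ x : Aˣ, ∀ b : B, f b = (x : A) * g b * ((x⁻¹ : Aˣ) : A) := by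
  haveI := finiteDimensional_of_algHom f
  haveI : IsSimpleRing (B ⊗[k] Aᵐᵒᵖ) := isSimpleRing_tensor_op k A B
  haveI : IsArtinianRing (B ⊗[k] Aᵐᵒᵖ) := IsArtinianRing.of_finite k _
  have hφ : Nonempty (BiM g ≃ₗ[B ⊗[k] Aᵐᵒᵖ] BiM f) :=
    Groth.Agent.Lib.Helper52.CSAModules.nonempty_linearEquiv_of_finrank_eq k
      (B ⊗[k] Aᵐᵒᵖ) (BiM g) (BiM f) rfl
  obtain ⟨φ⟩ := hφ
  -- translate to `A`
  let Φ : A → A := fun x => BiM.equiv f (φ ((BiM.equiv g).symm x))
  let Ψ : A → A := fun x => BiM.equiv g (φ.symm ((BiM.equiv f).symm x))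
  have hΦ : ∀ (b : B) (x a : A), Φ (g b * x * a) = f b * Φ x * a := by
    intro b x a
    have h1 := φ.map_smul (b ⊗ₜ[k] op a) ((BiM.equiv g).symm x)
    have h2 := congrArg (BiM.equiv f) h1
    rw [BiM.tmul_smul] at h2
    have h3 : (b ⊗ₜ[k] op a) • (BiM.equiv g).symm x = (BiM.equiv g).symm (g b * x * a) := by
      apply (BiM.equiv g).injective
      rw [BiM.tmul_smul]
      simp
    rw [h3] at h2
    simpa [Φ] using h2
  have hΨ : ∀ (b : B) (x a : A), Ψ (f b * x * a) = g b * Ψ x * a := by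
    intro b x a
    have h1 := φ.symm.map_smul (b ⊗ₜ[k] op a) ((BiM.equiv f).symm x)
    have h2 := congrArg (BiM.equiv g) h1
    rw [BiM.tmul_smul] at h2
    have h3 : (b ⊗ₜ[k] op a) • (BiM.equiv f).symm x = (BiM.equiv f).symm (f b * x * a) := by
      apply (BiM.equiv f).injective
      rw [BiM.tmul_smul]
      simp
    rw [h3] at h2
    simpa [Ψ] using h2
  have hΦΨ : ∀ x, Φ (Ψ x) = x := fun x => by simp [Φ, Ψ]
  have hΨΦ : ∀ x, Ψ (Φ x) = x := fun x => by simp [Φ, Ψ]
  have hΦa : ∀ a : A, Φ a = Φ 1 * a := by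
    intro a
    have := hΦ 1 1 a
    simpa using this
  have hΨa : ∀ a : A, Ψ a = Ψ 1 * a := by
    intro a
    have := hΨ 1 1 a
    simpa using this
  have hΦb : ∀ b : B, Φ (g b) = f b * Φ 1 := by
    intro b
    have := hΦ b 1 1
    simpa using this
  have huv : Φ 1 * Ψ 1 = 1 := by rw [← hΦa, hΦΨ]
  have hvu : Ψ 1 * Φ 1 = 1 := by rw [← hΨa, hΨΦ]
  refine ⟨⟨Φ 1, Ψ 1, huv, hvu⟩, fun b => ?_⟩
  show f b = Φ 1 * g b * Ψ 1
  rw [← hΦa, hΦb, mul_assoc, huv, mul_one]

end SkolemNoether

section Centralizer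

variable (B' : Subalgebra k A)

/-- left multiplication by an element of the centralizer, as an endomorphism of the bimodule. -/
noncomputable def centralizerToEnd (c : Subalgebra.centralizer k (B' : Set A)) :
    Module.End (B' ⊗[k] Aᵐᵒᵖ) (BiM B'.val) where
  toFun x := (BiM.equiv B'.val).symm ((c : A) * BiM.equiv B'.val x)
  map_add' x y := by simp [mul_add]
  map_smul' t x := by
    apply (BiM.equiv B'.val).injective
    simp only [RingHom.id_apply, LinearEquiv.apply_symm_apply]
    induction t using TensorProduct.induction_on with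
    | zero =>
      rw [BiM.smul_def, BiM.smul_def, map_zero, LinearMap.zero_apply, LinearMap.zero_apply,
        mul_zero]
    | tmul b a =>
      rw [BiM.tmul_smul, BiM.tmul_smul, LinearEquiv.apply_symm_apply]
      have hc : (c : A) * (b : A) = (b : A) * (c : A) :=
        ((Subalgebra.mem_centralizer_iff k).mp c.2 b b.2).symm
      simp only [Subalgebra.coe_val]
      rw [← mul_assoc, ← mul_assoc, hc]
      simp [mul_assoc]
    | add t t' ht ht' =>
      rw [add_smul, map_add, mul_add, ht, ht', add_smul, map_add]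

lemma centralizerToEnd_apply (c : Subalgebra.centralizer k (B' : Set A)) (x : BiM B'.val) :
    BiM.equiv B'.val (centralizerToEnd B' c x) = (c : A) * BiM.equiv B'.val x := rfl

/-- An endomorphism of the bimodule is left multiplication by its value at `1`. -/
lemma end_apply (φ : Module.End (B' ⊗[k] Aᵐᵒᵖ) (BiM B'.val)) (x : BiM B'.val) :
    BiM.equiv B'.val (φ x)
      = BiM.equiv B'.val (φ ((BiM.equiv B'.val).symm 1)) * BiM.equiv B'.val x := by
  have h1 := φ.map_smul ((1 : B') ⊗ₜ[k] op (BiM.equiv B'.val x)) ((BiM.equiv B'.val).symm 1)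
  have h2 := congrArg (BiM.equiv B'.val) h1
  rw [BiM.tmul_smul] at h2
  have h3 : ((1 : B') ⊗ₜ[k] op (BiM.equiv B'.val x)) • (BiM.equiv B'.val).symm 1 = x := by
    apply (BiM.equiv B'.val).injective
    rw [BiM.tmul_smul]
    simp
  rw [h3] at h2
  simpa using h2

lemma end_one_mem_centralizer (φ : Module.End (B' ⊗[k] Aᵐᵒᵖ) (BiM B'.val)) :
    BiM.equiv B'.val (φ ((BiM.equiv B'.val).symm 1)) ∈ Subalgebra.centralizer k (B' : Set A) := by
  rw [Subalgebra.mem_centralizer_iff]
  intro b hb
  have h1 := φ.map_smul ((⟨b, hb⟩ : B') ⊗ₜ[k] op (1 : A)) ((BiM.equiv B'.val).symm 1)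
  have h2 := congrArg (BiM.equiv B'.val) h1
  rw [BiM.tmul_smul] at h2
  have h3 : ((⟨b, hb⟩ : B') ⊗ₜ[k] op (1 : A)) • (BiM.equiv B'.val).symm 1
      = (BiM.equiv B'.val).symm b := by
    apply (BiM.equiv B'.val).injective
    rw [BiM.tmul_smul]
    simp
  rw [h3] at h2
  have h4 := end_apply B' φ ((BiM.equiv B'.val).symm b)
  rw [h4] at h2
  simpa using h2.symm

/-- The centralizer of a subalgebra `B'` of `A` is the endomorphism algebra of `A` as a
`B' ⊗ Aᵐᵒᵖ`-module. -/
noncomputable def centralizerEquiv :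
    Subalgebra.centralizer k (B' : Set A) ≃ₐ[k] Module.End (B' ⊗[k] Aᵐᵒᵖ) (BiM B'.val) where
  toFun := centralizerToEnd B'
  invFun φ := ⟨BiM.equiv B'.val (φ ((BiM.equiv B'.val).symm 1)), end_one_mem_centralizer B' φ⟩
  left_inv c := by
    apply Subtype.ext
    simp [centralizerToEnd_apply]
  right_inv φ := by
    ext x
    apply (BiM.equiv B'.val).injective
    rw [centralizerToEnd_apply, end_apply B' φ x]
  map_mul' c d := by
    ext x
    apply (BiM.equiv B'.val).injective
    simp only [Module.End.mul_apply, centralizerToEnd_apply]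
    simp [mul_assoc]
  map_add' c d := by
    ext x
    apply (BiM.equiv B'.val).injective
    simp only [LinearMap.add_apply, map_add, centralizerToEnd_apply]
    simp [add_mul]
  commutes' r := by
    ext x
    apply (BiM.equiv B'.val).injective
    rw [centralizerToEnd_apply]
    simp [Algebra.smul_def]

end Centralizer

end Groth.Agent.Lib.Helper52.CSABimod
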