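import Mathlib
import Groth.Agent.Lib.Helper52.CSABimod

/-!
# The centralizer theorem for simple subalgebras of central simple algebras

* `isSimpleRing_end` : `End_T(M)` is simple for a nontrivial finite module over a simple artinian
  ring.
* `finrank_end_mul_finrank` : `dim End_T(M) * dim T = (dim M)^2`.
* `isSimpleRing_centralizer`, `finrank_eq_mul_centralizer`, `centralizer_centralizer`,
  `bijective_lift_centralizer`.
-/

set_option autoImplicit false
set_option linter.style.haveILetI false

namespace Groth.Agent.Lib.Helper52.CSACentralizer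

open TensorProduct MulOpposite Module
open Groth.Agent.Lib.Helper52.CSABimod Groth.Agent.Lib.Helper52.CSAModules

section general

variable (k : Type*) [Field k] (T : Type*) [Ring T] [Algebra k T] [IsSimpleRing T]
  [IsArtinianRing T]
variable (M : Type*) [AddCommGroup M] [Module T M] [Module.Finite T M] [Nontrivial M]

/-- The endomorphism ring of a nontrivial finite module over a simple artinian ring is simple. -/
theorem isSimpleRing_end : IsSimpleRing (Module.End T M) := by
  classical
  obtain ⟨n, hn, S, hS, ⟨e⟩⟩ := (IsSimpleRing.isIsotypic T M).linearEquiv_fun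
  let E : Module.End T M ≃+* Matrix (Fin n) (Fin n) (Module.End T S) :=
    e.conjRingEquiv.trans (endVecRingEquivMatrixEnd (Fin n) T S)
  haveI : Nonempty (Fin n) := ⟨⟨0, Nat.pos_of_ne_zero hn.out⟩⟩
  exact IsSimpleRing.of_ringEquiv E.symm inferInstance

variable [Module k M] [IsScalarTower k T M] [FiniteDimensional k M]

/-- `dim_k End_T(M) * dim_k T = (dim_k M)^2` for a nontrivial f.d. module over a simple f.d.
algebra. -/
theorem finrank_end_mul_finrank :
    finrank k (Module.End T M) * finrank k T = finrank k M ^ 2 := by
  classical
  obtain ⟨m, hm, S, hS, ⟨e⟩⟩ := (IsSimpleRing.isIsotypic T M).linearEquiv_fun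
  haveI : FiniteDimensional k S :=
    Module.Finite.of_injective ((S.subtype).restrictScalars k) S.injective_subtype
  obtain ⟨n, hn, ⟨e'⟩⟩ := exists_linearEquiv_fun T T S
  have hM : finrank k M = m * finrank k S := finrank_eq_mul_of_linearEquiv_fun k e
  have hT : finrank k T = n * finrank k S := finrank_eq_mul_of_linearEquiv_fun k e'
  have hEM : finrank k (Module.End T M) = m * m * finrank k (Module.End T S) := by
    have E : Module.End T M ≃ₐ[k] Matrix (Fin m) (Fin m) (Module.End T S) :=
      (e.conjAlgEquiv k).trans (endVecAlgEquivMatrixEnd (Fin m) k T S)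
    rw [E.toLinearEquiv.finrank_eq, Module.finrank_matrix]
    simp
  have hET : finrank k T = n * n * finrank k (Module.End T S) := by
    have E : Module.End T T ≃ₐ[k] Matrix (Fin n) (Fin n) (Module.End T S) :=
      (e'.conjAlgEquiv k).trans (endVecAlgEquivMatrixEnd (Fin n) k T S)
    have h1 : finrank k (Module.End T T) = n * n * finrank k (Module.End T S) := by
      rw [E.toLinearEquiv.finrank_eq, Module.finrank_matrix]
      simp
    have h2 : finrank k (Module.End T T) = finrank k T := by
      rw [← (AlgEquiv.moduleEndSelf k (A := T)).toLinearEquiv.finrank_eq]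
      exact (MulOpposite.opLinearEquiv k (M := T)).symm.finrank_eq
    rw [← h2, h1]
  have hn0 : 0 < n := Nat.pos_of_ne_zero hn.out
  set d := finrank k (Module.End T S)
  set s := finrank k S
  have hs : s = n * d := by
    have : n * s = n * (n * d) := by rw [← hT, hET]; ring
    exact Nat.eq_of_mul_eq_mul_left hn0 this
  rw [hEM, hM, hT, hs]
  ring

end general

section centralizer

variable {k : Type*} [Field k] {A : Type*} [Ring A] [Algebra k A]
  [Algebra.IsCentral k A] [IsSimpleRing A] [FiniteDimensional k A]
  (B : Subalgebra k A) [IsSimpleRing B]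

/-- The centralizer of a simple subalgebra of a finite central simple algebra is simple. -/
theorem isSimpleRing_centralizer : IsSimpleRing (Subalgebra.centralizer k (B : Set A)) := by
  haveI : IsSimpleRing (B ⊗[k] Aᵐᵒᵖ) := isSimpleRing_tensor_op k A B
  haveI : IsArtinianRing (B ⊗[k] Aᵐᵒᵖ) := IsArtinianRing.of_finite k _
  haveI : Module.Finite (B ⊗[k] Aᵐᵒᵖ) (BiM B.val) :=
    Module.Finite.of_restrictScalars_finite k _ _
  haveI := isSimpleRing_end (B ⊗[k] Aᵐᵒᵖ) (BiM B.val)
  exact IsSimpleRing.of_ringEquiv (centralizerEquiv B).symm.toRingEquiv inferInstance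

/-- `dim A = dim B * dim C_A(B)`. -/
theorem finrank_eq_mul_centralizer :
    finrank k A = finrank k B * finrank k (Subalgebra.centralizer k (B : Set A)) := by
  haveI : IsSimpleRing (B ⊗[k] Aᵐᵒᵖ) := isSimpleRing_tensor_op k A B
  haveI : IsArtinianRing (B ⊗[k] Aᵐᵒᵖ) := IsArtinianRing.of_finite k _
  haveI : Module.Finite (B ⊗[k] Aᵐᵒᵖ) (BiM B.val) :=
    Module.Finite.of_restrictScalars_finite k _ _
  have h := finrank_end_mul_finrank k (B ⊗[k] Aᵐᵒᵖ) (BiM B.val)
  rw [← (centralizerEquiv B).toLinearEquiv.finrank_eq, Module.finrank_tensorProduct,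
    BiM.finrank_eq] at h
  have hop : finrank k Aᵐᵒᵖ = finrank k A :=
    (MulOpposite.opLinearEquiv k (M := A)).symm.finrank_eq
  rw [hop] at h
  have hA : 0 < finrank k A := Module.finrank_pos
  have : finrank k A * (finrank k B * finrank k (Subalgebra.centralizer k (B : Set A)))
      = finrank k A * finrank k A := by
    rw [← pow_two, ← h]; ring
  exact (Nat.eq_of_mul_eq_mul_left hA this).symm

/-- **Double centralizer theorem**. -/
theorem centralizer_centralizer :
    Subalgebra.centralizer k (Subalgebra.centralizer k (B : Set A) : Set A) = B := by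
  haveI := isSimpleRing_centralizer B
  have h1 := finrank_eq_mul_centralizer B
  have h2 := finrank_eq_mul_centralizer (Subalgebra.centralizer k (B : Set A))
  have hC : 0 < finrank k (Subalgebra.centralizer k (B : Set A)) := by
    haveI : Nontrivial (Subalgebra.centralizer k (B : Set A)) := inferInstance
    exact Module.finrank_pos
  have hdim : finrank k B
      = finrank k (Subalgebra.centralizer k (Subalgebra.centralizer k (B : Set A) : Set A)) := by
    have : finrank k (Subalgebra.centralizer k (B : Set A)) * finrank k B
        = finrank k (Subalgebra.centralizer k (B : Set A)) *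
          finrank k (Subalgebra.centralizer k (Subalgebra.centralizer k (B : Set A) : Set A)) := by
      rw [← h2, h1]; ring
    exact Nat.eq_of_mul_eq_mul_left hC this
  have hle : B ≤ Subalgebra.centralizer k (Subalgebra.centralizer k (B : Set A) : Set A) :=
    Subalgebra.le_centralizer_centralizer k
  symm
  apply Subalgebra.toSubmodule_injective
  exact Submodule.eq_of_le_of_finrank_eq hle hdim

/-- A central simple subalgebra and its centralizer decompose `A` as a tensor product. -/
theorem bijective_lift_centralizer [Algebra.IsCentral k B] :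
    Function.Bijective (Algebra.TensorProduct.lift B.val
      (Subalgebra.centralizer k (B : Set A)).val (fun x y => y.2 x.1 x.2)) := by
  haveI := isSimpleRing_centralizer B
  haveI : IsSimpleRing (B ⊗[k] Subalgebra.centralizer k (B : Set A)) :=
    Groth.Agent.Lib.Helper52.CSATensor.isSimpleRing_csa_tensor k
      (Subalgebra.centralizer k (B : Set A)) B
  set φ := Algebra.TensorProduct.lift B.val
      (Subalgebra.centralizer k (B : Set A)).val (fun x y => y.2 x.1 x.2) with hφ
  have hinj : Function.Injective φ :=
    (IsSimpleRing.injective_ringHom_or_subsingleton_codomain φ.toRingHom).resolve_right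
      (not_subsingleton A)
  have hdim : finrank k (B ⊗[k] Subalgebra.centralizer k (B : Set A)) = finrank k A := by
    rw [Module.finrank_tensorProduct, ← finrank_eq_mul_centralizer B]
  exact ⟨hinj, (LinearMap.injective_iff_surjective_of_finrank_eq_finrank
    (f := φ.toLinearMap) hdim).mp hinj⟩

end centralizer

end Groth.Agent.Lib.Helper52.CSACentralizer
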