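import Mathlib
import Groth.Agent.Lib.Helper52.CSAModules

/-!
# Uniqueness in the Wedderburn theorem

* `Pull ψ M'` : restriction of scalars along an algebra isomorphism (type synonym).
* `nonempty_end_algEquiv` : isomorphic simple artinian algebras have isomorphic endomorphism
  algebras of simple modules.
* `toEndEnd` : `D ≃ₐ[k] End_{End_D(D^n)}(D^n)`.
* `nonempty_algEquiv_of_matrix_algEquiv` : `M_n(D) ≃ₐ M_m(D')` implies `D ≃ₐ D'`.
-/

set_option autoImplicit false
set_option linter.style.haveILetI false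

namespace Groth.Agent.Lib.Helper52.CSAWedderburn

open Module MulOpposite

section pull

variable {k : Type*} [Field k] {R R' : Type*} [Ring R] [Ring R'] [Algebra k R] [Algebra k R']

/-- `M'` regarded as an `R`-module through the algebra isomorphism `ψ : R ≃ₐ[k] R'`. -/
def Pull (_ : R ≃ₐ[k] R') (M' : Type*) := M'

namespace Pull

variable (ψ : R ≃ₐ[k] R') (M' : Type*) [AddCommGroup M'] [Module R' M'] [Module k M']
  [IsScalarTower k R' M']

instance : AddCommGroup (Pull ψ M') := inferInstanceAs (AddCommGroup M')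
instance : Module k (Pull ψ M') := inferInstanceAs (Module k M')
instance : Module R (Pull ψ M') := Module.compHom M' (ψ : R →+* R')

/-- the identity -/
def equiv : Pull ψ M' ≃ₗ[k] M' := LinearEquiv.refl k M'

omit [IsScalarTower k R' M'] in
lemma smul_def (r : R) (x : Pull ψ M') : equiv ψ M' (r • x) = ψ r • equiv ψ M' x := rfl

instance : IsScalarTower k R (Pull ψ M') where
  smul_assoc c r x := by
    apply (equiv ψ M').injective
    rw [smul_def, map_smul, smul_assoc, map_smul, smul_def]

instance [IsSimpleModule R' M'] : IsSimpleModule R (Pull ψ M') := by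
  rw [isSimpleModule_iff_toSpanSingleton_surjective]
  haveI : Nontrivial M' := IsSimpleModule.nontrivial R' M'
  refine ⟨inferInstanceAs (Nontrivial M'), fun x hx y => ?_⟩
  have hs := (isSimpleModule_iff_toSpanSingleton_surjective.mp
    (inferInstance : IsSimpleModule R' M')).2 (equiv ψ M' x)
      (fun h => hx ((equiv ψ M').injective (by simpa using h))) (equiv ψ M' y)
  obtain ⟨r', hr'⟩ := hs
  refine ⟨ψ.symm r', ?_⟩
  apply (equiv ψ M').injective
  simp only [LinearMap.toSpanSingleton_apply] at hr' ⊢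
  rw [smul_def, AlgEquiv.apply_symm_apply, hr']

/-- Endomorphisms of the pulled-back module are the endomorphisms of the module. -/
noncomputable def endEquiv : Module.End R (Pull ψ M') ≃ₐ[k] Module.End R' M' where
  toFun φ :=
    { toFun := fun x => equiv ψ M' (φ ((equiv ψ M').symm x))
      map_add' := fun x y => by simp
      map_smul' := fun r' x => by
        have h1 : (equiv ψ M').symm (r' • x) = ψ.symm r' • (equiv ψ M').symm x := by
          apply (equiv ψ M').injective
          rw [smul_def]; simp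
        simp only [RingHom.id_apply]
        rw [h1, map_smul, smul_def, AlgEquiv.apply_symm_apply] }
  invFun φ' :=
    { toFun := fun x => (equiv ψ M').symm (φ' (equiv ψ M' x))
      map_add' := fun x y => by simp
      map_smul' := fun r x => by
        apply (equiv ψ M').injective
        simp only [RingHom.id_apply, LinearEquiv.apply_symm_apply]
        rw [smul_def, map_smul, smul_def, LinearEquiv.apply_symm_apply] }
  left_inv φ := by ext x; simp
  right_inv φ' := by ext x; simp
  map_mul' φ χ := by ext x; simp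
  map_add' φ χ := by ext x; simp
  commutes' c := by
    ext x
    simp only [Module.algebraMap_end_apply, LinearMap.coe_mk, AddHom.coe_mk, map_smul,
      LinearEquiv.apply_symm_apply]

end Pull

/-- Isomorphic simple artinian algebras have isomorphic endomorphism algebras of their simple
modules. -/
theorem nonempty_end_algEquiv [IsSimpleRing R] [IsArtinianRing R] (ψ : R ≃ₐ[k] R')
    (M : Type*) [AddCommGroup M] [Module R M] [Module k M] [IsScalarTower k R M]
    [IsSimpleModule R M]
    (M' : Type*) [AddCommGroup M'] [Module R' M'] [Module k M'] [IsScalarTower k R' M']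
    [IsSimpleModule R' M'] :
    Nonempty (Module.End R M ≃ₐ[k] Module.End R' M') := by
  obtain ⟨e⟩ := Groth.Agent.Lib.Helper52.CSAModules.nonempty_linearEquiv_of_isSimpleModule R M
    (Pull ψ M')
  exact ⟨(e.conjAlgEquiv k).trans (Pull.endEquiv ψ M')⟩

end pull

section division

variable (k : Type*) [Field k] (D : Type*) [DivisionRing D] [Algebra k D] (n : ℕ) [NeZero n]

/-- `D` is the double commutant of `D^n`. -/
noncomputable def toEndEnd :
    D ≃ₐ[k] Module.End (Module.End D (Fin n → D)) (Fin n → D) := by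
  let φ : D →ₐ[k] Module.End (Module.End D (Fin n → D)) (Fin n → D) :=
    { Module.toModuleEnd (Module.End D (Fin n → D)) (S := D) (Fin n → D) with
      commutes' := fun c => by
        ext x i
        simp [Module.algebraMap_end_apply, Algebra.smul_def] }
  refine AlgEquiv.ofBijective φ ⟨?_, ?_⟩
  · exact (IsSimpleRing.injective_ringHom_or_subsingleton_codomain φ.toRingHom).resolve_right
      (not_subsingleton _)
  · exact Module.Finite.toModuleEnd_moduleEnd_surjective (R := D) (M := Fin n → D)

/-- `M_n(D)` as the endomorphism algebra of `(Dᵐᵒᵖ)^n`. -/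
noncomputable def matrixEquivEnd :
    Matrix (Fin n) (Fin n) D ≃ₐ[k] Module.End Dᵐᵒᵖ (Fin n → Dᵐᵒᵖ) :=
  (AlgEquiv.mapMatrix ((AlgEquiv.opOp k D).trans (AlgEquiv.moduleEndSelf k (A := Dᵐᵒᵖ)))).trans
    (endVecAlgEquivMatrixEnd (Fin n) k Dᵐᵒᵖ Dᵐᵒᵖ).symm

end division

/-- **Uniqueness in Wedderburn's theorem**: if `M_n(D) ≃ₐ[k] M_m(D')` then `D ≃ₐ[k] D'`. -/
theorem nonempty_algEquiv_of_matrix_algEquiv (k : Type*) [Field k]
    (D : Type*) [DivisionRing D] [Algebra k D] [FiniteDimensional k D]
    (D' : Type*) [DivisionRing D'] [Algebra k D']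
    (n m : ℕ) (hn : n ≠ 0) (hm : m ≠ 0)
    (e : Matrix (Fin n) (Fin n) D ≃ₐ[k] Matrix (Fin m) (Fin m) D') :
    Nonempty (D ≃ₐ[k] D') := by
  haveI : NeZero n := ⟨hn⟩
  haveI : NeZero m := ⟨hm⟩
  haveI : Nonempty (Fin n) := ⟨⟨0, Nat.pos_of_ne_zero hn⟩⟩
  let E := Module.End Dᵐᵒᵖ (Fin n → Dᵐᵒᵖ)
  let E' := Module.End D'ᵐᵒᵖ (Fin m → D'ᵐᵒᵖ)
  let ψ : E ≃ₐ[k] E' := ((matrixEquivEnd k D n).symm.trans e).trans (matrixEquivEnd k D' m)
  haveI : IsSimpleRing E :=
    IsSimpleRing.of_ringEquiv (matrixEquivEnd k D n).toRingEquiv inferInstance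
  haveI : Module.Finite k E := Module.Finite.equiv (matrixEquivEnd k D n).toLinearEquiv
  haveI : IsArtinianRing E := IsArtinianRing.of_finite k E
  obtain ⟨F⟩ := nonempty_end_algEquiv (k := k) ψ (Fin n → Dᵐᵒᵖ) (Fin m → D'ᵐᵒᵖ)
  have G : Dᵐᵒᵖ ≃ₐ[k] D'ᵐᵒᵖ :=
    ((toEndEnd k Dᵐᵒᵖ n).trans F).trans (toEndEnd k D'ᵐᵒᵖ m).symm
  exact ⟨AlgEquiv.op.symm G⟩

end Groth.Agent.Lib.Helper52.CSAWedderburn
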