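import Groth.Prelude.Def_AlgSpDec
import Groth.Prelude.Def_AlgSp4

/-!
Helper lemmas on points of sheaves (`AlgSp.Points`, `AlgSp.FieldPt`), by helper52.
-/

set_option autoImplicit false
universe u
open CategoryTheory CategoryTheory.Limits AlgebraicGeometry Opposite

set_option backward.isDefEq.respectTransparency false

namespace Groth.Agent.Lib.Helper52

open AlgSp

variable {S : Scheme.{u}} {F G : AlgSp.Sp S}

/-- `ofPt` of a composite `h_φ ≫ g` is `ofPt g` at the image point. -/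
theorem ofPt_yon_map_comp {T T' : Over S} (φ : T ⟶ T') (g : (AlgSp.yon S).obj T' ⟶ F) (t : ↥T.left) :
    Points.ofPt ((AlgSp.yon S).map φ ≫ g) t = Points.ofPt g (φ.left t) := by
  rw [Points.ofPt_eq_map_ofScheme, Points.map_comp]
  have := Points.map_yon_map_apply φ t
  change Points.map ((AlgSp.yon S).map φ) (Points.ofScheme T t) = Points.ofScheme T' (φ.left t) at this
  rw [this, ← Points.ofPt_eq_map_ofScheme]

/-- Equivalence of field-valued points in terms of the morphisms `toHom`. -/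
theorem rel_iff_toHom (p q : FieldPt F) :
    FieldPt.Rel p q ↔ ∃ (Ω : Type u) (_ : Field Ω) (w : Spec (CommRingCat.of Ω) ⟶ S)
      (a : Over.mk w ⟶ p.pt) (b : Over.mk w ⟶ q.pt),
      (AlgSp.yon S).map a ≫ p.toHom = (AlgSp.yon S).map b ≫ q.toHom := by
  have key : ∀ (Ω : Type u) (_ : Field Ω) (w : Spec (CommRingCat.of Ω) ⟶ S)
      (a : Over.mk w ⟶ p.pt) (b : Over.mk w ⟶ q.pt),
      ((AlgSp.yon S).map a ≫ p.toHom = (AlgSp.yon S).map b ≫ q.toHom ↔
        F.obj.map a.op p.val = F.obj.map b.op q.val) := by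
    intro Ω _ w a b
    rw [← (AlgSp.J S).uliftYonedaEquiv.injective.eq_iff,
      GrothendieckTopology.uliftYonedaEquiv_comp, GrothendieckTopology.uliftYonedaEquiv_comp,
      GrothendieckTopology.uliftYonedaEquiv_uliftYoneda_map,
      GrothendieckTopology.uliftYonedaEquiv_uliftYoneda_map]
    change p.toHom.hom.app _ ⟨a⟩ = q.toHom.hom.app _ ⟨b⟩ ↔ _
    rw [FieldPt.toHom_app, FieldPt.toHom_app]
    exact Iff.rfl
  constructor
  · rintro ⟨Ω, i, w, a, b, h⟩
    exact ⟨Ω, i, w, a, b, (key Ω i w a b).2 h⟩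
  · rintro ⟨Ω, i, w, a, b, h⟩
    exact ⟨Ω, i, w, a, b, (key Ω i w a b).1 h⟩

/-- For a pullback square `fst : h_P ⟶ F`, `h_snd : h_P ⟶ h_T` of `f : F ⟶ G` along `g : h_T ⟶ G`, the point
`ofPt g t` lies in the image of `Points.map f` iff `t` is in the image of `snd`. -/
theorem ofPt_mem_range_map_iff {T P : Over S} {f : F ⟶ G} {g : (AlgSp.yon S).obj T ⟶ G}
    {fst : (AlgSp.yon S).obj P ⟶ F} {snd : P ⟶ T}
    (sq : IsPullback fst ((AlgSp.yon S).map snd) f g) (t : ↥T.left) :
    Points.ofPt g t ∈ Set.range (Points.map f) ↔ t ∈ Set.range snd.left := by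
  constructor
  · rintro ⟨y, hy⟩
    induction y using Points.ind with
    | h q =>
      rw [Points.map_mk] at hy
      obtain ⟨Ω, _, w, a, b, h⟩ := (rel_iff_toHom _ _).1 (Points.mk_eq_mk_iff.1 hy)
      rw [FieldPt.toHom_map, FieldPt.toHom_ofPt] at h
      let ρ : (FieldPt.ofPt g t).pt ⟶ T := Over.homMk (T.left.fromSpecResidueField t) rfl
      have h' : ((AlgSp.yon S).map a ≫ q.toHom) ≫ f =
          ((AlgSp.yon S).map b ≫ (AlgSp.yon S).map ρ) ≫ g := by
        exact (Category.assoc _ _ _).trans (h.trans (Category.assoc _ _ _).symm)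
      obtain ⟨l, hl⟩ := (AlgSp.yon S).map_surjective (sq.lift _ _ h')
      have h2 : l ≫ snd = b ≫ ρ := (AlgSp.yon S).map_injective (by
        rw [Functor.map_comp, Functor.map_comp, hl]; exact sq.lift_snd _ _ _)
      have h3 : l.left ≫ snd.left = b.left ≫ T.left.fromSpecResidueField t :=
        congrArg CommaMorphism.left h2
      let pt : ↥(Over.mk w).left := IsLocalRing.closedPoint Ω
      refine ⟨l.left pt, ?_⟩
      have h4 := congrArg (fun k : (Over.mk w).left ⟶ T.left => k pt) h3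
      simp only [Scheme.Hom.comp_apply] at h4
      exact h4.trans (Scheme.fromSpecResidueField_apply _ _)
  · rintro ⟨z, rfl⟩
    refine ⟨Points.ofPt fst z, ?_⟩
    rw [Points.map_ofPt, sq.w, ofPt_yon_map_comp]

/-- A field-valued point with prescribed morphism `l : h_{Spec Ω} ⟶ F`. -/
noncomputable def fieldPtOfHom {Ω : Type u} [Field Ω] (w : Spec (CommRingCat.of Ω) ⟶ S)
    (l : (AlgSp.yon S).obj (Over.mk w) ⟶ F) : FieldPt F :=
  ⟨Ω, w, (AlgSp.J S).uliftYonedaEquiv l⟩

theorem fieldPtOfHom_toHom {Ω : Type u} [Field Ω] (w : Spec (CommRingCat.of Ω) ⟶ S)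
    (l : (AlgSp.yon S).obj (Over.mk w) ⟶ F) : (fieldPtOfHom w l).toHom = l :=
  Equiv.symm_apply_apply _ _

/-- The points of a fibre product of sheaves surject onto the fibre product of the sets of points. -/
theorem exists_point_of_isPullback {W X Y Z : AlgSp.Sp S} {p : W ⟶ X} {q : W ⟶ Z} {f : X ⟶ Y}
    {g : Z ⟶ Y} (sq : IsPullback p q f g) (x : Points X) (z : Points Z)
    (h : Points.map f x = Points.map g z) :
    ∃ w : Points W, Points.map p w = x ∧ Points.map q w = z := by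
  induction x using Points.ind with
  | h a =>
  induction z using Points.ind with
  | h b =>
  rw [Points.map_mk, Points.map_mk] at h
  obtain ⟨Ω, _, w, α, β, hαβ⟩ := (rel_iff_toHom _ _).1 (Points.mk_eq_mk_iff.1 h)
  rw [FieldPt.toHom_map, FieldPt.toHom_map] at hαβ
  have h' : ((AlgSp.yon S).map α ≫ a.toHom) ≫ f = ((AlgSp.yon S).map β ≫ b.toHom) ≫ g :=
    (Category.assoc _ _ _).trans (hαβ.trans (Category.assoc _ _ _).symm)
  let l := sq.lift _ _ h'
  refine ⟨Points.mk (fieldPtOfHom w l), ?_, ?_⟩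
  · rw [Points.map_mk]
    refine Points.sound ((rel_iff_toHom _ _).2 ⟨Ω, inferInstance, w, 𝟙 _, α, ?_⟩)
    rw [FieldPt.toHom_map, fieldPtOfHom_toHom]
    have : l ≫ p = _ := sq.lift_fst _ _ h'
    rw [this]
    exact (congrArg (· ≫ _) ((AlgSp.yon S).map_id _)).trans (Category.id_comp _)
  · rw [Points.map_mk]
    refine Points.sound ((rel_iff_toHom _ _).2 ⟨Ω, inferInstance, w, 𝟙 _, β, ?_⟩)
    rw [FieldPt.toHom_map, fieldPtOfHom_toHom]
    have : l ≫ q = _ := sq.lift_snd _ _ h'
    rw [this]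
    exact (congrArg (· ≫ _) ((AlgSp.yon S).map_id _)).trans (Category.id_comp _)

end Groth.Agent.Lib.Helper52
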