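import Mathlib

/-!
# `(R ⊗[S] L) ⊗[R] A ≃ L ⊗[S] A` for a non-commutative `R`-algebra `A`
-/

set_option autoImplicit false
set_option linter.style.haveILetI false
set_option linter.unusedSectionVars false
set_option linter.unusedVariables false
set_option linter.unusedSimpArgs false
set_option warn.classDefReducibility false

namespace Groth.Agent.Lib.Helper52.AzSplitBC

open scoped TensorProduct

universe u v w

variable {S : Type u} {R : Type v} [CommRing S] [CommRing R] [Algebra S R]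
  (A : Type w) [Ring A] [Algebra S A] [Algebra R A] [IsScalarTower S R A]
  (L : Type*) [CommRing L] [Algebra S L]

/-- the structure map `R ⊗ L → L ⊗ A` -/
noncomputable def jL : R ⊗[S] L →ₐ[S] L ⊗[S] A :=
  Algebra.TensorProduct.lift
    ((Algebra.TensorProduct.includeRight : A →ₐ[S] L ⊗[S] A).comp (IsScalarTower.toAlgHom S R A))
    (Algebra.TensorProduct.includeLeft : L →ₐ[S] L ⊗[S] A)
    (fun r l => by
      show Commute ((1 : L) ⊗ₜ[S] algebraMap R A r) (l ⊗ₜ[S] (1 : A))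
      unfold Commute SemiconjBy
      simp)

lemma jL_tmul (r : R) (l : L) : jL A L (r ⊗ₜ[S] l) = l ⊗ₜ[S] algebraMap R A r := by
  unfold jL
  rw [Algebra.TensorProduct.lift_tmul]
  show ((1 : L) ⊗ₜ[S] algebraMap R A r) * (l ⊗ₜ[S] (1 : A)) = _
  rw [Algebra.TensorProduct.tmul_mul_tmul, one_mul, mul_one]

lemma jL_comm (k : R ⊗[S] L) (x : L ⊗[S] A) : jL A L k * x = x * jL A L k := by
  induction k using TensorProduct.induction_on with
  | zero => simp
  | tmul r l =>
    induction x using TensorProduct.induction_on with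
    | zero => simp
    | tmul l' a =>
      rw [jL_tmul, Algebra.TensorProduct.tmul_mul_tmul, Algebra.TensorProduct.tmul_mul_tmul,
        mul_comm l l', Algebra.commutes]
    | add x y hx hy => rw [mul_add, add_mul, hx, hy]
  | add k k' hk hk' => rw [map_add, add_mul, mul_add, hk, hk']

/-- the map `L ⊗[S] A → (R ⊗[S] L) ⊗[R] A` -/
noncomputable def Gm : L ⊗[S] A →ₐ[S] (R ⊗[S] L) ⊗[R] A :=
  Algebra.TensorProduct.lift
    ((Algebra.TensorProduct.includeLeft : (R ⊗[S] L) →ₐ[S] (R ⊗[S] L) ⊗[R] A).comp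
      (Algebra.TensorProduct.includeRight : L →ₐ[S] R ⊗[S] L))
    ((Algebra.TensorProduct.includeRight : A →ₐ[R] (R ⊗[S] L) ⊗[R] A).restrictScalars S)
    (fun l a => by
      show Commute ((((1 : R) ⊗ₜ[S] l) ⊗ₜ[R] (1 : A)) : (R ⊗[S] L) ⊗[R] A)
        ((1 : R ⊗[S] L) ⊗ₜ[R] a)
      unfold Commute SemiconjBy
      simp)

lemma Gm_tmul (l : L) (a : A) :
    Gm (S := S) (R := R) A L (l ⊗ₜ[S] a) = ((1 : R) ⊗ₜ[S] l) ⊗ₜ[R] a := by
  unfold Gm
  rw [Algebra.TensorProduct.lift_tmul]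
  show ((((1 : R) ⊗ₜ[S] l) ⊗ₜ[R] (1 : A)) : (R ⊗[S] L) ⊗[R] A) * ((1 : R ⊗[S] L) ⊗ₜ[R] a) = _
  rw [Algebra.TensorProduct.tmul_mul_tmul, mul_one, one_mul]

/-- the linear equivalence underlying `Gm` -/
noncomputable def GmLin : L ⊗[S] A ≃ₗ[S] (R ⊗[S] L) ⊗[R] A :=
  (TensorProduct.comm S L A).trans
    (((TensorProduct.AlgebraTensorModule.cancelBaseChange S R R A L).symm.restrictScalars S).trans
      ((TensorProduct.comm R A (R ⊗[S] L)).restrictScalars S))

lemma GmLin_tmul (l : L) (a : A) :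
    GmLin (S := S) (R := R) A L (l ⊗ₜ[S] a) = ((1 : R) ⊗ₜ[S] l) ⊗ₜ[R] a := by
  simp [GmLin]

lemma Gm_bijective : Function.Bijective (Gm (S := S) (R := R) A L) := by
  have h : (Gm (S := S) (R := R) A L).toLinearMap = (GmLin (S := S) (R := R) A L).toLinearMap := by
    apply TensorProduct.ext'
    intro l a
    rw [AlgHom.toLinearMap_apply, Gm_tmul, LinearEquiv.coe_coe, GmLin_tmul]
  have h2 : ⇑(Gm (S := S) (R := R) A L) = ⇑(GmLin (S := S) (R := R) A L) := by
    funext x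
    exact congrArg (fun f => f x) h
  rw [h2]
  exact LinearEquiv.bijective _

/-- the algebra isomorphism `L ⊗[S] A ≃ (R ⊗[S] L) ⊗[R] A` -/
noncomputable def cEquiv : L ⊗[S] A ≃ₐ[S] (R ⊗[S] L) ⊗[R] A :=
  AlgEquiv.ofBijective (Gm (S := S) (R := R) A L) (Gm_bijective A L)

lemma cEquiv_tmul (l : L) (a : A) :
    cEquiv (S := S) (R := R) A L (l ⊗ₜ[S] a) = ((1 : R) ⊗ₜ[S] l) ⊗ₜ[R] a := Gm_tmul A L l a

lemma cEquiv_jL (k : R ⊗[S] L) :
    cEquiv (S := S) (R := R) A L (jL A L k) = k ⊗ₜ[R] (1 : A) := by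
  induction k using TensorProduct.induction_on with
  | zero => simp
  | tmul r l =>
    rw [jL_tmul, cEquiv_tmul, Algebra.algebraMap_eq_smul_one, ← TensorProduct.smul_tmul,
      TensorProduct.smul_tmul', smul_eq_mul, mul_one]
  | add k k' hk hk' => rw [map_add, map_add, hk, hk', TensorProduct.add_tmul]

lemma cEquiv_jL_mul (k : R ⊗[S] L) (x : L ⊗[S] A) :
    cEquiv (S := S) (R := R) A L (jL A L k * x) =
      algebraMap (R ⊗[S] L) ((R ⊗[S] L) ⊗[R] A) k * cEquiv (S := S) (R := R) A L x := by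
  rw [map_mul, cEquiv_jL, Algebra.TensorProduct.algebraMap_apply]
  rfl

lemma cEquiv_symm_tmul (k : R ⊗[S] L) (a : A) :
    (cEquiv (S := S) (R := R) A L).symm (k ⊗ₜ[R] a) = jL A L k * ((1 : L) ⊗ₜ[S] a) := by
  rw [AlgEquiv.symm_apply_eq, map_mul, cEquiv_jL, cEquiv_tmul,
    Algebra.TensorProduct.tmul_mul_tmul, one_mul]
  congr 1
  rw [← Algebra.TensorProduct.one_def, mul_one]

end Groth.Agent.Lib.Helper52.AzSplitBC
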