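import Mathlib
import Groth.Agent.Lib.Helper37.Hz3

/-!
# Tensor products with the limit ring `H S Ω` commute with the direct limit

Elements of `H S Ω ⊗[S] M` come from a stage `G i ⊗[S] M`, and an element of a stage that dies in
the limit dies at a later stage.
-/

set_option autoImplicit false
set_option linter.style.haveILetI false
set_option linter.unusedSectionVars false
set_option linter.unusedVariables false
set_option linter.unusedSimpArgs false

namespace Groth.Agent.Lib.Helper52.AzSplitDL

open Groth.Agent.Lib.Helper37.Hz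
open scoped TensorProduct

universe u w

attribute [local instance] Classical.propDecidable

variable {S : Type u} [CommRing S] {Ω : Type u} [Field Ω] [Algebra S Ω]

/-- linear transition maps -/
noncomputable def fL (i j : Idx S Ω) (h : i ≤ j) : G i →ₗ[S] G j := (trans i j h).toLinearMap

lemma fL_apply (i j : Idx S Ω) (h : i ≤ j) (x : G i) : fL i j h x = trans i j h x := rfl

instance directedSystem_fL :
    DirectedSystem (G (R := S) (Ω := Ω)) (fun i j h => fL (S := S) (Ω := Ω) i j h) where
  map_self i x :=
    DirectedSystem.map_self (f := fun i j h => trans (R := S) (Ω := Ω) i j h) x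
  map_map k j i hij hjk x :=
    DirectedSystem.map_map (f := fun i j h => trans (R := S) (Ω := Ω) i j h) hij hjk x

/-- comparison of the module-theoretic direct limit with `H` -/
noncomputable def toH : Module.DirectLimit (G (R := S) (Ω := Ω)) fL →ₗ[S] H S Ω :=
  Module.DirectLimit.lift S _ _ _ (fun i => (of i).toLinearMap)
    (fun i j hij x => of_trans i j hij x)

lemma toH_of (i : Idx S Ω) (x : G i) :
    toH (Module.DirectLimit.of S _ _ fL i x) = of i x :=
  Module.DirectLimit.lift_of _ _ x

lemma toH_bijective : Function.Bijective (toH (S := S) (Ω := Ω)) := by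
  constructor
  · rw [injective_iff_map_eq_zero]
    intro z hz
    obtain ⟨i, x, rfl⟩ := Module.DirectLimit.exists_of z
    rw [toH_of] at hz
    obtain ⟨k, hik, h⟩ := (of_eq_zero_iff x).mp hz
    rw [← Module.DirectLimit.of_f (hij := hik), fL_apply, h, map_zero]
  · intro y
    obtain ⟨i, x, rfl⟩ := exists_of y
    exact ⟨_, toH_of i x⟩

/-- the module-theoretic direct limit is `H` -/
noncomputable def eH : Module.DirectLimit (G (R := S) (Ω := Ω)) fL ≃ₗ[S] H S Ω :=
  LinearEquiv.ofBijective toH toH_bijective

lemma eH_of (i : Idx S Ω) (x : G i) : eH (Module.DirectLimit.of S _ _ fL i x) = of i x :=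
  toH_of i x

lemma eH_symm_of (i : Idx S Ω) (x : G i) :
    eH.symm (of i x) = Module.DirectLimit.of S _ _ fL i x := by
  rw [LinearEquiv.symm_apply_eq, eH_of]

variable (M : Type w) [AddCommGroup M] [Module S M]

instance directedSystem_rTensor :
    DirectedSystem (fun i : Idx S Ω => G i ⊗[S] M)
      (fun i j h => (fL (S := S) (Ω := Ω) i j h).rTensor M) where
  map_self i x := by
    have : fL (S := S) (Ω := Ω) i i le_rfl = LinearMap.id := by
      ext y
      exact DirectedSystem.map_self (f := fun i j h => trans (R := S) (Ω := Ω) i j h) y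
    rw [this, LinearMap.rTensor_id, LinearMap.id_apply]
  map_map k j i hij hjk x := by
    have : fL (S := S) (Ω := Ω) j k hjk ∘ₗ fL i j hij = fL i k (hij.trans hjk) := by
      ext y
      exact DirectedSystem.map_map (f := fun i j h => trans (R := S) (Ω := Ω) i j h) hij hjk y
    rw [← LinearMap.comp_apply, ← LinearMap.rTensor_comp, this]

/-- the comparison isomorphism `H ⊗ M ≃ colim (G i ⊗ M)` -/
noncomputable def eHM : H S Ω ⊗[S] M ≃ₗ[S]
    Module.DirectLimit (fun i : Idx S Ω => G i ⊗[S] M) (fun i j h => (fL i j h).rTensor M) :=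
  (LinearEquiv.rTensor M (eH (S := S) (Ω := Ω)).symm).trans (TensorProduct.directLimitLeft fL M)

lemma eHM_rTensor_of (i : Idx S Ω) (x : G i ⊗[S] M) :
    eHM M ((of i).toLinearMap.rTensor M x) =
      Module.DirectLimit.of S _ (fun i : Idx S Ω => G i ⊗[S] M) _ i x := by
  have h1 : (eH (S := S) (Ω := Ω)).symm.toLinearMap ∘ₗ (of i).toLinearMap =
      Module.DirectLimit.of S _ (G (R := S) (Ω := Ω)) fL i := by
    ext y
    exact eH_symm_of i y
  show TensorProduct.directLimitLeft fL M
    ((LinearMap.rTensor M (eH (S := S) (Ω := Ω)).symm.toLinearMap)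
      ((of i).toLinearMap.rTensor M x)) = _
  rw [← LinearMap.comp_apply, ← LinearMap.rTensor_comp, h1,
    TensorProduct.directLimitLeft_rTensor_of]

/-- an element of a stage dying in the limit dies at a later stage -/
theorem exists_rTensor_eq_zero {i : Idx S Ω} (x : G i ⊗[S] M)
    (hx : (of i).toLinearMap.rTensor M x = 0) :
    ∃ (j : Idx S Ω) (hij : i ≤ j), (trans i j hij).toLinearMap.rTensor M x = 0 := by
  have h1 := eHM_rTensor_of M i x
  rw [hx, map_zero] at h1
  obtain ⟨j, hij, h⟩ := Module.DirectLimit.of.zero_exact h1.symm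
  exact ⟨j, hij, h⟩

/-- every element of the limit comes from a stage -/
theorem exists_rTensor_of (z : H S Ω ⊗[S] M) :
    ∃ (i : Idx S Ω) (x : G i ⊗[S] M), (of i).toLinearMap.rTensor M x = z := by
  obtain ⟨i, x, hx⟩ := Module.DirectLimit.exists_of (eHM M z)
  refine ⟨i, x, ?_⟩
  apply (eHM M).injective
  rw [eHM_rTensor_of, hx]

/-- finitely many elements of the limit come from a common stage -/
theorem exists_rTensor_of_finite {ι' : Type*} [Finite ι'] (z : ι' → H S Ω ⊗[S] M) :
    ∃ (i : Idx S Ω) (x : ι' → G i ⊗[S] M), ∀ k, (of i).toLinearMap.rTensor M (x k) = z k := by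
  classical
  cases nonempty_fintype ι'
  choose i₀ x₀ hx₀ using fun k => exists_rTensor_of M (z k)
  obtain ⟨N, hN⟩ := Finset.exists_le (Finset.univ.image i₀)
  have hN' : ∀ k, i₀ k ≤ N := fun k => hN _ (Finset.mem_image_of_mem _ (Finset.mem_univ k))
  refine ⟨N, fun k => (trans (i₀ k) N (hN' k)).toLinearMap.rTensor M (x₀ k), fun k => ?_⟩
  rw [← LinearMap.comp_apply, ← LinearMap.rTensor_comp]
  have : (of N).toLinearMap ∘ₗ (trans (i₀ k) N (hN' k)).toLinearMap = (of (i₀ k)).toLinearMap := by
    ext y
    exact of_trans _ _ _ y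
  rw [this, hx₀]

/-- finitely many elements of a stage dying in the limit die at a common later stage -/
theorem exists_rTensor_eq_zero_finite {ι' : Type*} [Finite ι'] {i : Idx S Ω}
    (x : ι' → G i ⊗[S] M) (hx : ∀ k, (of i).toLinearMap.rTensor M (x k) = 0) :
    ∃ (j : Idx S Ω) (hij : i ≤ j), ∀ k, (trans i j hij).toLinearMap.rTensor M (x k) = 0 := by
  classical
  cases nonempty_fintype ι'
  choose j₀ hij₀ h₀ using fun k => exists_rTensor_eq_zero M (x k) (hx k)
  obtain ⟨N, hN⟩ := Finset.exists_le (insert i (Finset.univ.image j₀))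
  have hiN : i ≤ N := hN _ (Finset.mem_insert_self _ _)
  have hN' : ∀ k, j₀ k ≤ N := fun k =>
    hN _ (Finset.mem_insert_of_mem (Finset.mem_image_of_mem _ (Finset.mem_univ k)))
  refine ⟨N, hiN, fun k => ?_⟩
  have : (trans i N hiN).toLinearMap =
      (trans (j₀ k) N (hN' k)).toLinearMap ∘ₗ (trans i (j₀ k) (hij₀ k)).toLinearMap := by
    ext y
    exact (DirectedSystem.map_map (f := fun i j h => trans (R := S) (Ω := Ω) i j h)
      (hij₀ k) (hN' k) y).symm
  rw [this, LinearMap.rTensor_comp, LinearMap.comp_apply, h₀, map_zero]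

end Groth.Agent.Lib.Helper52.AzSplitDL
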