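import Mathlib

/-!
# Matrix units in Azumaya algebras

A full system of `n × n` matrix units in an Azumaya algebra of rank `n²` over `K` gives an
isomorphism with the matrix algebra `M_n(K)`.
-/

set_option autoImplicit false
set_option linter.style.haveILetI false
set_option linter.unusedSectionVars false
set_option linter.unusedVariables false
set_option linter.unusedSimpArgs false

namespace Groth.Agent.Lib.Helper52.AzSplitMU

open scoped TensorProduct

/-- `e` is a full system of `n × n` matrix units in `B` -/
structure IsMU {B : Type*} [Ring B] {n : ℕ} (e : Fin n → Fin n → B) : Prop where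
  mul : ∀ i j k l, e i j * e k l = if j = k then e i l else 0
  sum : ∑ i, e i i = 1

/-- `B` contains a full system of `n × n` matrix units -/
def HasMU (B : Type*) [Ring B] (n : ℕ) : Prop := ∃ e : Fin n → Fin n → B, IsMU e

section Basic

variable {B B' : Type*} [Ring B] [Ring B'] {n : ℕ}

lemma IsMU.map (φ : B →+* B') {e : Fin n → Fin n → B} (h : IsMU e) :
    IsMU (fun i j => φ (e i j)) where
  mul i j k l := by
    rw [← map_mul, h.mul]
    split_ifs <;> simp
  sum := by rw [← map_sum, h.sum, map_one]

lemma HasMU.map (φ : B →+* B') (h : HasMU B n) : HasMU B' n := by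
  obtain ⟨e, he⟩ := h
  exact ⟨_, he.map φ⟩

lemma HasMU.pi {ι : Type*} (C : ι → Type*) [∀ i, Ring (C i)] (h : ∀ i, HasMU (C i) n) :
    HasMU (∀ i, C i) n := by
  choose e he using h
  refine ⟨fun k l i => e i k l, ?_, ?_⟩
  · intro i j k l
    funext a
    simp only [Pi.mul_apply]
    rw [(he a).mul]
    split_ifs <;> rfl
  · funext a
    rw [Finset.sum_apply, (he a).sum]
    rfl

lemma isMU_single (K : Type*) [Ring K] (n : ℕ) :
    IsMU (fun i j : Fin n => Matrix.single i j (1 : K)) where
  mul i j k l := by
    by_cases h : j = k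
    · subst h
      rw [if_pos rfl, Matrix.single_mul_single_same, mul_one]
    · rw [if_neg h, Matrix.single_mul_single_of_ne _ _ _ _ h]
  sum := by
    ext a b
    rw [Matrix.sum_apply, Matrix.one_apply, Finset.sum_eq_single a]
    · simp [Matrix.single_apply]
    · intro i _ hi
      simp [Matrix.single_apply, hi]
    · simp

lemma hasMU_matrix (K : Type*) [Ring K] (n : ℕ) : HasMU (Matrix (Fin n) (Fin n) K) n :=
  ⟨_, isMU_single K n⟩

end Basic

section Hom

variable {K : Type*} [CommRing K] {B : Type*} [Ring B] [Algebra K B] {n : ℕ}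
  {e : Fin n → Fin n → B}

/-- the linear map `X ↦ ∑ X i j • e i j` -/
noncomputable def muLin (e : Fin n → Fin n → B) : Matrix (Fin n) (Fin n) K →ₗ[K] B where
  toFun X := ∑ i, ∑ j, X i j • e i j
  map_add' X Y := by simp [add_smul, Finset.sum_add_distrib]
  map_smul' c X := by simp [Finset.smul_sum, smul_smul]

lemma muLin_apply (X : Matrix (Fin n) (Fin n) K) : muLin e X = ∑ i, ∑ j, X i j • e i j := rfl

lemma muLin_single (i j : Fin n) (a : K) : muLin e (Matrix.single i j a) = a • e i j := by
  rw [muLin_apply]
  rw [Finset.sum_eq_single i, Finset.sum_eq_single j]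
  · simp
  · intro b _ hb
    simp [Matrix.single_apply, hb.symm]
  · simp
  · intro b _ hb
    apply Finset.sum_eq_zero
    intro c _
    simp [Matrix.single_apply, hb.symm]
  · simp

lemma sandwich (h : IsMU e) (X : Matrix (Fin n) (Fin n) K) (a k l b : Fin n) :
    e a k * muLin e X * e l b = X k l • e a b := by
  rw [muLin_apply, Finset.mul_sum, Finset.sum_mul, Finset.sum_eq_single k]
  · rw [Finset.mul_sum, Finset.sum_mul, Finset.sum_eq_single l]
    · rw [mul_smul_comm, smul_mul_assoc, h.mul, if_pos rfl, h.mul, if_pos rfl]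
    · intro j _ hj
      rw [mul_smul_comm, smul_mul_assoc, h.mul, if_pos rfl, h.mul, if_neg hj, smul_zero]
    · simp
  · intro i _ hi
    rw [Finset.mul_sum, Finset.sum_mul]
    apply Finset.sum_eq_zero
    intro j _
    rw [mul_smul_comm, smul_mul_assoc, h.mul, if_neg (Ne.symm hi), zero_mul, smul_zero]
  · simp

lemma muLin_one (h : IsMU e) : muLin (K := K) e 1 = 1 := by
  rw [muLin_apply, ← h.sum]
  apply Finset.sum_congr rfl
  intro i _
  rw [Finset.sum_eq_single i]
  · simp
  · intro j _ hj
    simp [Matrix.one_apply, hj.symm]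
  · simp

lemma muLin_mul (h : IsMU e) (X Y : Matrix (Fin n) (Fin n) K) :
    muLin e (X * Y) = muLin e X * muLin e Y := by
  rw [muLin_apply, muLin_apply, muLin_apply, Finset.sum_mul]
  apply Finset.sum_congr rfl
  intro i _
  rw [Finset.sum_mul]
  -- RHS: ∑ k, X i k • e i k * ∑ l ∑ j Y l j • e l j
  have h1 : ∀ k, (X i k • e i k) * (∑ l, ∑ j, Y l j • e l j) = ∑ j, (X i k * Y k j) • e i j := by
    intro k
    rw [Finset.mul_sum, Finset.sum_eq_single k]
    · rw [Finset.mul_sum]
      apply Finset.sum_congr rfl
      intro j _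
      rw [smul_mul_smul_comm, h.mul, if_pos rfl]
    · intro l _ hl
      rw [Finset.mul_sum]
      apply Finset.sum_eq_zero
      intro j _
      rw [smul_mul_smul_comm, h.mul, if_neg (Ne.symm hl), smul_zero]
    · simp
  simp_rw [h1]
  rw [Finset.sum_comm]
  apply Finset.sum_congr rfl
  intro j _
  rw [Matrix.mul_apply, Finset.sum_smul]

/-- the algebra map `M_n(K) → B` attached to a system of matrix units -/
noncomputable def muHom (h : IsMU e) : Matrix (Fin n) (Fin n) K →ₐ[K] B :=
  AlgHom.ofLinearMap (muLin e) (muLin_one h) (muLin_mul h)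

lemma muHom_apply (h : IsMU e) (X : Matrix (Fin n) (Fin n) K) : muHom h X = muLin e X := rfl

lemma muHom_single (h : IsMU e) (i j : Fin n) (a : K) :
    muHom h (Matrix.single i j a) = a • e i j := muLin_single i j a

lemma muHom_injective (h : IsMU e) (hinj : Function.Injective (algebraMap K B)) :
    Function.Injective (muHom (K := K) h) := by
  rw [injective_iff_map_eq_zero]
  intro X hX
  ext k l
  rw [Matrix.zero_apply]
  apply hinj
  rw [map_zero, Algebra.algebraMap_eq_smul_one, ← h.sum, Finset.smul_sum]
  apply Finset.sum_eq_zero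
  intro a _
  rw [← sandwich h X a k l a, ← muHom_apply h, hX, mul_zero, zero_mul]

end Hom

section Surj

variable {K : Type*} [CommRing K] {B : Type*} [Ring B] [Algebra K B] {n : ℕ}
  {e : Fin n → Fin n → B}

/-- over a field, by dimension count -/
lemma muHom_surjective_field {κ : Type*} [Field κ] {D : Type*} [Ring D] [Algebra κ D]
    {e : Fin n → Fin n → D} (h : IsMU e) (hdim : Module.finrank κ D = n ^ 2) (hn : 0 < n) :
    Function.Surjective (muHom (K := κ) h) := by
  have hpos : 0 < Module.finrank κ D := by rw [hdim]; positivity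
  haveI : Nontrivial D := Module.nontrivial_of_finrank_pos (R := κ) hpos
  haveI : FiniteDimensional κ D := Module.finite_of_finrank_pos hpos
  have hinj : Function.Injective (muHom (K := κ) h) :=
    muHom_injective h (algebraMap κ D).injective
  have hfr : Module.finrank κ (Matrix (Fin n) (Fin n) κ) = Module.finrank κ D := by
    rw [hdim, Module.finrank_matrix]
    simp [sq]
  exact (LinearMap.injective_iff_surjective_of_finrank_eq_finrank
    (f := (muHom (K := κ) h).toLinearMap) hfr).mp hinj

theorem muHom_surjective [Module.Finite K B] [Module.Projective K B] (h : IsMU e)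
    (hrank : ∀ p : PrimeSpectrum K, Module.rankAtStalk (R := K) B p = n ^ 2) (hn : 0 < n) :
    Function.Surjective (muHom (K := K) h) := by
  set Φ : Matrix (Fin n) (Fin n) K →ₗ[K] B := (muHom (K := K) h).toLinearMap with hΦ
  suffices hQ : Subsingleton (B ⧸ LinearMap.range Φ) by
    have := Submodule.Quotient.subsingleton_iff.mp hQ
    intro b
    have hb : b ∈ LinearMap.range Φ := by rw [this]; trivial
    obtain ⟨X, hX⟩ := hb
    exact ⟨X, hX⟩
  rw [← Module.support_eq_empty_iff (R := K), Set.eq_empty_iff_forall_notMem]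
  intro p
  rw [Module.mem_support_iff_nontrivial_residueField_tensorProduct, not_nontrivial_iff_subsingleton]
  set κ := p.asIdeal.ResidueField with hκ
  -- matrix units over κ
  have he' : IsMU (fun i j => (1 : κ) ⊗ₜ[K] e i j) :=
    h.map (Algebra.TensorProduct.includeRight (R := K) (A := κ) (B := B)).toRingHom
  have hdim : Module.finrank κ (κ ⊗[K] B) = n ^ 2 := by
    rw [← hrank p, Module.rankAtStalk_eq]
  have hsurjκ := muHom_surjective_field he' hdim hn
  have hrange : ∀ z : κ ⊗[K] B, z ∈ LinearMap.range (LinearMap.baseChange κ Φ) := by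
    intro z
    obtain ⟨X, rfl⟩ := hsurjκ z
    rw [muHom_apply, muLin_apply]
    refine Submodule.sum_mem _ fun i _ => Submodule.sum_mem _ fun j _ => ?_
    refine ⟨X i j ⊗ₜ[K] Matrix.single i j 1, ?_⟩
    rw [LinearMap.baseChange_tmul, hΦ, AlgHom.toLinearMap_apply, muHom_single, one_smul,
      TensorProduct.smul_tmul', smul_eq_mul, mul_one]
  constructor
  intro x y
  have key : ∀ z : κ ⊗[K] (B ⧸ LinearMap.range Φ), z = 0 := by
    intro z
    induction z using TensorProduct.induction_on with
    | zero => rfl
    | tmul c q =>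
      obtain ⟨b, rfl⟩ := Submodule.Quotient.mk_surjective _ q
      obtain ⟨w, hw⟩ := hrange (c ⊗ₜ[K] b)
      have h1 : LinearMap.baseChange κ (LinearMap.range Φ).mkQ (c ⊗ₜ[K] b) =
          c ⊗ₜ[K] Submodule.Quotient.mk b := by
        rw [LinearMap.baseChange_tmul]; rfl
      rw [← h1, ← hw, ← LinearMap.comp_apply, ← LinearMap.baseChange_comp]
      have h0 : (LinearMap.range Φ).mkQ ∘ₗ Φ = 0 := by
        ext X
        simp
      rw [h0, LinearMap.baseChange_zero, LinearMap.zero_apply]
    | add z w hz hw => rw [hz, hw, add_zero]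
  rw [key x, key y]

/-- matrix units in an Azumaya-like algebra of rank `n²` give an isomorphism with `M_n(K)` -/
theorem muHom_bijective [Module.Finite K B] [Module.Projective K B] (h : IsMU e)
    (hinj : Function.Injective (algebraMap K B))
    (hrank : ∀ p : PrimeSpectrum K, Module.rankAtStalk (R := K) B p = n ^ 2) (hn : 0 < n) :
    Function.Bijective (muHom (K := K) h) :=
  ⟨muHom_injective h hinj, muHom_surjective h hrank hn⟩

end Surj

end Groth.Agent.Lib.Helper52.AzSplitMU
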