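import Mathlib
import Groth.Agent.Lib.Helper52.AzSplitMU
import Groth.Agent.Lib.Helper52.AzSplitDL

/-!
# Descent of matrix units along direct limits and localizations
-/

set_option autoImplicit false
set_option linter.style.haveILetI false
set_option linter.unusedSectionVars false
set_option linter.unusedVariables false
set_option linter.unusedSimpArgs false

namespace Groth.Agent.Lib.Helper52.AzSplitDesc

open Groth.Agent.Lib.Helper37.Hz Groth.Agent.Lib.Helper52.AzSplitMU
  Groth.Agent.Lib.Helper52.AzSplitDL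
open scoped TensorProduct

universe u w

variable {S : Type u} [CommRing S] (A : Type w) [Ring A] [Algebra S A]

/-- base change of an algebra map along `_ ⊗ A` -/
noncomputable abbrev bc {L L' : Type*} [CommRing L] [Algebra S L] [CommRing L'] [Algebra S L']
    (φ : L →ₐ[S] L') : L ⊗[S] A →ₐ[S] L' ⊗[S] A :=
  Algebra.TensorProduct.map φ (AlgHom.id S A)

lemma bc_eq_rTensor {L L' : Type*} [CommRing L] [Algebra S L] [CommRing L'] [Algebra S L']
    (φ : L →ₐ[S] L') (x : L ⊗[S] A) : bc A φ x = φ.toLinearMap.rTensor A x := rfl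

lemma bc_algebraMap {L L' : Type*} [CommRing L] [Algebra S L] [CommRing L'] [Algebra S L']
    (φ : L →ₐ[S] L') (c : L) :
    bc A φ (algebraMap L (L ⊗[S] A) c) = algebraMap L' (L' ⊗[S] A) (φ c) := by
  rw [Algebra.TensorProduct.algebraMap_apply, Algebra.TensorProduct.algebraMap_apply]
  simp [bc]

section DL

variable {Ω : Type u} [Field Ω] [Algebra S Ω] {n : ℕ}

/-- matrix units over the limit ring descend to a stage -/
theorem hasMU_stage (h : HasMU (H S Ω ⊗[S] A) n) : ∃ i : Idx S Ω, HasMU (G i ⊗[S] A) n := by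
  classical
  obtain ⟨e, he⟩ := h
  obtain ⟨i, x, hx⟩ := exists_rTensor_of_finite (S := S) (Ω := Ω) A
    (fun kl : Fin n × Fin n => e kl.1 kl.2)
  have hx' : ∀ a b, bc A (of i) (x (a, b)) = e a b := fun a b => hx (a, b)
  -- the relations
  let r : Option (Fin n × Fin n × Fin n × Fin n) → G i ⊗[S] A := fun o =>
    match o with
    | none => ∑ a, x (a, a) - 1
    | some (a, b, c, d) => x (a, b) * x (c, d) - (if b = c then x (a, d) else 0)
  have hr : ∀ o, (of i).toLinearMap.rTensor A (r o) = 0 := by
    intro o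
    rw [← bc_eq_rTensor]
    match o with
    | none =>
      show bc A (of i) (∑ a, x (a, a) - 1) = 0
      rw [map_sub, map_sum, map_one]
      simp_rw [hx']
      rw [he.sum, sub_self]
    | some (a, b, c, d) =>
      show bc A (of i) (x (a, b) * x (c, d) - (if b = c then x (a, d) else 0)) = 0
      rw [map_sub, map_mul, hx', hx', he.mul]
      split_ifs
      · rw [hx', sub_self]
      · rw [map_zero, sub_self]
  obtain ⟨j, hij, hj⟩ := exists_rTensor_eq_zero_finite (S := S) (Ω := Ω) A r hr
  refine ⟨j, fun a b => bc A (trans i j hij) (x (a, b)), ?_, ?_⟩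
  · intro a b c d
    have := hj (some (a, b, c, d))
    rw [← bc_eq_rTensor] at this
    change bc A (trans i j hij) (x (a, b) * x (c, d) - (if b = c then x (a, d) else 0)) = 0 at this
    rw [map_sub, map_mul, sub_eq_zero] at this
    rw [this]
    split_ifs
    · rfl
    · rw [map_zero]
  · have := hj none
    rw [← bc_eq_rTensor] at this
    change bc A (trans i j hij) (∑ a, x (a, a) - 1) = 0 at this
    rw [map_sub, map_sum, map_one, sub_eq_zero] at this
    exact this

end DL

section Loc

/-- a property holding for some element of a submonoid for each index of a finite family, and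
stable under multiples, holds for a common element -/
lemma exists_common {ι' : Type*} [Finite ι'] {C : Type*} [CommMonoid C] (M : Submonoid C)
    (P : ι' → C → Prop) (hmul : ∀ k s s', s' ∈ M → P k s → P k (s * s'))
    (h : ∀ k, ∃ s ∈ M, P k s) : ∃ s ∈ M, ∀ k, P k s := by
  classical
  cases nonempty_fintype ι'
  choose s₀ hs₀ hP using h
  refine ⟨∏ k, s₀ k, Submonoid.prod_mem _ (fun k _ => hs₀ k), fun k => ?_⟩
  rw [← Finset.mul_prod_erase _ _ (Finset.mem_univ k)]
  exact hmul k _ _ (Submonoid.prod_mem _ (fun k' _ => hs₀ k')) (hP k)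

variable (C : Type u) [CommRing C] [Algebra S C] (M : Submonoid C)
  (L : Type u) [CommRing L] [Algebra C L] [Algebra S L] [IsScalarTower S C L] [IsLocalization M L]
  {n : ℕ}

/-- every element of `L ⊗ A` has a multiple coming from `C ⊗ A` -/
lemma exists_mul_eq (w : L ⊗[S] A) : ∃ s ∈ M, ∃ x : C ⊗[S] A,
    algebraMap L (L ⊗[S] A) (algebraMap C L s) * w = bc A (IsScalarTower.toAlgHom S C L) x := by
  obtain ⟨⟨x, s⟩, hxs⟩ := IsLocalizedModule.surj M
    (TensorProduct.AlgebraTensorModule.rTensor S A (Algebra.linearMap C L)) w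
  refine ⟨s, s.2, x, ?_⟩
  have h1 : (s : C) • w = algebraMap L (L ⊗[S] A) (algebraMap C L s) * w := by
    rw [← Algebra.smul_def, algebraMap_smul]
  rw [← h1]
  exact hxs

/-- an element of `C ⊗ A` dying in `L ⊗ A` is killed by an element of `M` -/
lemma exists_mul_eq_zero (y : C ⊗[S] A) (hy : bc A (IsScalarTower.toAlgHom S C L) y = 0) :
    ∃ t ∈ M, algebraMap C (C ⊗[S] A) t * y = 0 := by
  have h1 : (TensorProduct.AlgebraTensorModule.rTensor S A (Algebra.linearMap C L)) y = 0 := hy
  obtain ⟨t, ht⟩ := (IsLocalizedModule.eq_zero_iff M _).mp h1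
  refine ⟨t, t.2, ?_⟩
  rw [← Algebra.smul_def]
  exact ht

include M L in
/-- matrix units over a localization descend to a basic open -/
theorem hasMU_away (h : HasMU (L ⊗[S] A) n) :
    ∃ f ∈ M, HasMU (Localization.Away f ⊗[S] A) n := by
  classical
  obtain ⟨e, he⟩ := h
  set ψ := bc A (IsScalarTower.toAlgHom S C L) with hψ
  -- notation for central elements
  let zC : C → C ⊗[S] A := fun c => algebraMap C (C ⊗[S] A) c
  let zL : C → L ⊗[S] A := fun c => algebraMap L (L ⊗[S] A) (algebraMap C L c)
  have hψz : ∀ c, ψ (zC c) = zL c := fun c => by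
    show bc A (IsScalarTower.toAlgHom S C L) (algebraMap C (C ⊗[S] A) c) = _
    rw [bc_algebraMap]
    rfl
  have hzL_mul : ∀ c c', zL (c * c') = zL c * zL c' := fun c c' => by
    simp only [zL, map_mul]
  have hzC_mul : ∀ c c', zC (c * c') = zC c * zC c' := fun c c' => by
    simp only [zC, map_mul]
  have hzL_comm : ∀ c (w : L ⊗[S] A), zL c * w = w * zL c := fun c w => Algebra.commutes _ _
  have hzC_comm : ∀ c (w : C ⊗[S] A), zC c * w = w * zC c := fun c w => Algebra.commutes _ _
  -- common denominator for the matrix units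
  obtain ⟨s, hsM, hs⟩ := exists_common M
    (fun (kl : Fin n × Fin n) (s : C) => ∃ x : C ⊗[S] A, zL s * e kl.1 kl.2 = ψ x)
    (by
      rintro kl s s' hs' ⟨x, hx⟩
      refine ⟨zC s' * x, ?_⟩
      rw [map_mul, hψz, ← hx, mul_comm s s', hzL_mul, mul_assoc])
    (fun kl => exists_mul_eq A C M L (e kl.1 kl.2))
  choose x hx using hs
  have hx' : ∀ a b, ψ (x (a, b)) = zL s * e a b := fun a b => (hx (a, b)).symm
  -- the relations
  let r : Option (Fin n × Fin n × Fin n × Fin n) → C ⊗[S] A := fun o =>
    match o with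
    | none => ∑ a, x (a, a) - zC s
    | some (a, b, c, d) => x (a, b) * x (c, d) - (if b = c then zC s * x (a, d) else 0)
  have hr : ∀ o, ψ (r o) = 0 := by
    intro o
    match o with
    | none =>
      show ψ (∑ a, x (a, a) - zC s) = 0
      rw [map_sub, map_sum, hψz]
      simp_rw [hx']
      rw [← Finset.mul_sum, he.sum, mul_one, sub_self]
    | some (a, b, c, d) =>
      show ψ (x (a, b) * x (c, d) - (if b = c then zC s * x (a, d) else 0)) = 0
      rw [map_sub, map_mul, hx', hx']
      have h1 : zL s * e a b * (zL s * e c d) = zL s * (zL s * (e a b * e c d)) := by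
        rw [mul_assoc, ← mul_assoc (e a b), ← hzL_comm s (e a b), mul_assoc]
      rw [h1, he.mul]
      split_ifs
      · rw [map_mul, hψz, hx', sub_self]
      · rw [map_zero, mul_zero, mul_zero, sub_self]
  obtain ⟨t, htM, ht⟩ := exists_common M
    (fun (o : Option (Fin n × Fin n × Fin n × Fin n)) (t : C) => zC t * r o = 0)
    (by
      intro o t t' ht' h0
      show zC (t * t') * r o = 0
      rw [mul_comm t t', hzC_mul, mul_assoc, h0, mul_zero])
    (fun o => exists_mul_eq_zero A C M L (r o) (hr o))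
  -- pass to `C[1/(s t)]`
  refine ⟨s * t, M.mul_mem hsM htM, ?_⟩
  set Cf := Localization.Away (s * t) with hCf
  set ρ := bc A (IsScalarTower.toAlgHom S C Cf) with hρ
  let zf : Cf → Cf ⊗[S] A := fun c => algebraMap Cf (Cf ⊗[S] A) c
  have hρz : ∀ c, ρ (zC c) = zf (algebraMap C Cf c) := fun c => by
    show bc A (IsScalarTower.toAlgHom S C Cf) (algebraMap C (C ⊗[S] A) c) = _
    rw [bc_algebraMap]
    rfl
  have hzf_comm : ∀ c (w : Cf ⊗[S] A), zf c * w = w * zf c := fun c w => Algebra.commutes _ _
  have hzf_mul : ∀ c c', zf (c * c') = zf c * zf c' := fun c c' => by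
    simp only [zf, map_mul]
  have hzf_one : zf 1 = 1 := by simp only [zf, map_one]
  -- `s` and `t` become units
  have hst : IsUnit (algebraMap C Cf (s * t)) := IsLocalization.Away.algebraMap_isUnit (s * t)
  rw [map_mul] at hst
  have hsu : IsUnit (algebraMap C Cf s) := isUnit_of_mul_isUnit_left hst
  have htu : IsUnit (algebraMap C Cf t) := isUnit_of_mul_isUnit_right hst
  obtain ⟨σ, hσ⟩ := hsu
  obtain ⟨τ, hτ⟩ := htu
  set v : Cf := ↑σ⁻¹ with hv
  have hvσ : v * algebraMap C Cf s = 1 := by rw [← hσ, hv, Units.inv_mul]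
  have hzv : zf v * zf (algebraMap C Cf s) = 1 := by rw [← hzf_mul, hvσ, hzf_one]
  -- relations die in `Cf ⊗ A`
  have hρr : ∀ o, ρ (r o) = 0 := by
    intro o
    have h1 : zf (algebraMap C Cf t) * ρ (r o) = 0 := by
      rw [← hρz, ← map_mul, ht o, map_zero]
    have h2 : zf (↑τ⁻¹ : Cf) * zf (algebraMap C Cf t) = 1 := by
      rw [← hzf_mul, ← hτ, Units.inv_mul, hzf_one]
    calc ρ (r o) = (zf (↑τ⁻¹ : Cf) * zf (algebraMap C Cf t)) * ρ (r o) := by rw [h2, one_mul]
      _ = 0 := by rw [mul_assoc, h1, mul_zero]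
  refine ⟨fun a b => zf v * ρ (x (a, b)), ?_, ?_⟩
  · intro a b c d
    have h0 := hρr (some (a, b, c, d))
    change ρ (x (a, b) * x (c, d) - (if b = c then zC s * x (a, d) else 0)) = 0 at h0
    rw [map_sub, map_mul, sub_eq_zero] at h0
    have h1 : zf v * ρ (x (a, b)) * (zf v * ρ (x (c, d))) =
        zf v * (zf v * (ρ (x (a, b)) * ρ (x (c, d)))) := by
      rw [mul_assoc, ← mul_assoc (ρ (x (a, b))), ← hzf_comm v (ρ (x (a, b))), mul_assoc]
    rw [h1, h0]
    split_ifs
    · rw [map_mul, hρz, ← mul_assoc (zf v) (zf (algebraMap C Cf s)) (ρ (x (a, d))), hzv, one_mul]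
    · rw [map_zero, mul_zero, mul_zero]
  · have h0 := hρr none
    change ρ (∑ a, x (a, a) - zC s) = 0 at h0
    rw [map_sub, map_sum, sub_eq_zero, hρz] at h0
    rw [← Finset.mul_sum, h0, hzv]

end Loc

end Groth.Agent.Lib.Helper52.AzSplitDesc
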