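import Mathlib
import Groth.Agent.Lib.Helper37.Hz6
import Groth.Agent.Lib.Helper37.Hz4

/-!
# The strict henselization of a ring at a prime, as the limit ring `H S Ω`

For a prime `p` of an arbitrary commutative ring `S` and `Ω` the separable closure of the residue
field at `p`, helper37's limit ring `H S Ω` is a henselian local ring, flat over `S`, whose residue
field is separably closed.
-/

set_option autoImplicit false
set_option linter.style.haveILetI false
set_option linter.unusedSectionVars false
set_option linter.unusedVariables false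
set_option linter.unusedSimpArgs false

namespace Groth.Agent.Lib.Helper52.AzSplitHz

open Groth.Agent.Lib.Helper37.Hz IsLocalRing Polynomial

universe u

lemma isSepClosed_of_ringEquiv {k k' : Type*} [Field k] [Field k'] (e : k ≃+* k')
    [IsSepClosed k] : IsSepClosed k' := by
  refine ⟨fun p hp => ?_⟩
  have h1 : (p.map e.symm.toRingHom).Separable := hp.map
  have h2 := IsSepClosed.splits_of_separable _ h1
  have h3 := h2.map e.toRingHom
  rw [Polynomial.map_map] at h3
  have : e.toRingHom.comp e.symm.toRingHom = RingHom.id k' := by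
    ext x; simp
  rwa [this, Polynomial.map_id] at h3

variable (S : Type u) [CommRing S] (p : Ideal S) [p.IsPrime]

/-- the separable closure of the residue field at `p` -/
abbrev Om : Type u := SeparableClosure p.ResidueField

lemma algebraMap_om_eq_zero_iff (s : S) : algebraMap S (Om S p) s = 0 ↔ s ∈ p := by
  rw [IsScalarTower.algebraMap_apply S p.ResidueField (Om S p), map_eq_zero_iff _
    (algebraMap p.ResidueField (Om S p)).injective, ← RingHom.mem_ker,
    Ideal.ker_algebraMap_residueField]

lemma ker_algebraMap_om : RingHom.ker (algebraMap S (Om S p)) = p := by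
  ext s
  rw [RingHom.mem_ker, algebraMap_om_eq_zero_iff]

/-- every element of `Ω`, scaled by some `g ∉ p`, is a simple root of a monic polynomial over `S` -/
theorem exists_scaled_root (ω : Om S p) :
    ∃ (g : S) (F : S[X]), g ∉ p ∧ F.Monic ∧ aeval (algebraMap S (Om S p) g * ω) F = 0 ∧
      aeval (algebraMap S (Om S p) g * ω) (derivative F) ≠ 0 := by
  classical
  set κ := p.ResidueField with hκ
  set Sp := Localization.AtPrime p with hSp
  have hsep : IsSeparable κ ω := Algebra.IsSeparable.isSeparable _ ω
  set P := minpoly κ ω with hP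
  have hPmonic : P.Monic := minpoly.monic hsep.isIntegral
  obtain ⟨P1, hP1map, -, hP1monic⟩ := lifts_and_degree_eq_and_monic
    ((mem_lifts P).mpr (map_surjective _ (residue_surjective (R := Sp)) P)) hPmonic
  have hP1 : P1.map (algebraMap Sp κ) = P := hP1map
  obtain ⟨g, hg⟩ := IsLocalization.exist_integer_multiples_of_finset p.primeCompl
    (P1.support.image P1.coeff)
  set u : Sp := algebraMap S Sp g with hu
  set n := P1.natDegree with hn
  have hlift : P1.scaleRoots u ∈ lifts (algebraMap S Sp) := by
    rw [lifts_iff_coeff_lifts]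
    intro i
    rw [coeff_scaleRoots, ← hn]
    rcases lt_trichotomy i n with hi | hi | hi
    · by_cases h0 : P1.coeff i = 0
      · exact ⟨0, by rw [h0, zero_mul, map_zero]⟩
      · obtain ⟨c, hc⟩ := hg (P1.coeff i)
          (Finset.mem_image_of_mem _ (mem_support_iff.mpr h0))
        obtain ⟨k, hk⟩ : ∃ k, n - i = k + 1 := ⟨n - i - 1, by omega⟩
        refine ⟨c * (g : S) ^ k, ?_⟩
        have hc' : algebraMap S Sp c = u * P1.coeff i := by
          rw [hc, Algebra.smul_def]
        have hgu : algebraMap S Sp (g : S) = u := rfl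
        rw [map_mul, map_pow, hc', hk, pow_succ, hgu]
        ring
    · subst hi
      exact ⟨1, by rw [hP1monic.coeff_natDegree, Nat.sub_self, pow_zero, mul_one, map_one]⟩
    · exact ⟨0, by rw [coeff_eq_zero_of_natDegree_lt hi, zero_mul, map_zero]⟩
  obtain ⟨F, hFmap, -, hFmonic⟩ := lifts_and_degree_eq_and_monic hlift
    ((monic_scaleRoots_iff u).mpr hP1monic)
  set σ := algebraMap S (Om S p) with hσ
  set PΩ : (Om S p)[X] := P.map (algebraMap κ (Om S p)) with hPΩ
  have hgp : (g : S) ∉ p := g.2
  have hs0 : σ g ≠ 0 := fun h => hgp ((algebraMap_om_eq_zero_iff S p g).mp h)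
  -- F over Ω is the scaled minimal polynomial
  have hFΩ : F.map σ = PΩ.scaleRoots (σ g) := by
    have h1 : σ = ((algebraMap κ (Om S p)).comp (algebraMap Sp κ)).comp (algebraMap S Sp) := by
      ext s
      simp only [RingHom.comp_apply]
      rw [hσ, IsScalarTower.algebraMap_apply S κ (Om S p), IsScalarTower.algebraMap_apply S Sp κ]
    have h2 : F.map σ = ((F.map (algebraMap S Sp)).map (algebraMap Sp κ)).map
        (algebraMap κ (Om S p)) := by
      rw [Polynomial.map_map, Polynomial.map_map, ← h1]
    have hFmap' : F.map (algebraMap S Sp) = P1.scaleRoots u := hFmap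
    rw [h2, hFmap', map_scaleRoots _ _ _ (by rw [hP1monic.leadingCoeff, map_one]; exact one_ne_zero),
      hP1, map_scaleRoots _ _ _ (by rw [hPmonic.leadingCoeff, map_one]; exact one_ne_zero)]
    have h3 : (algebraMap κ (Om S p)) ((algebraMap Sp κ) u) = σ g := by
      rw [h1]
      rfl
    rw [h3]
  have hroot : eval ω PΩ = 0 := by
    rw [hPΩ, eval_map, ← aeval_def, hP, minpoly.aeval]
  have hder : eval ω (derivative PΩ) ≠ 0 := by
    rw [hPΩ, derivative_map, eval_map, ← aeval_def]
    exact Separable.aeval_derivative_ne_zero hsep (minpoly.aeval _ _)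
  refine ⟨g, F, hgp, hFmonic, ?_, ?_⟩
  · rw [aeval_def, ← eval_map, hFΩ, scaleRoots_eval_mul, hroot, mul_zero]
  · rw [aeval_def, ← eval_map, ← derivative_map, hFΩ]
    intro h0
    have h3 := eval_derivative_scaleRoots_mul PΩ (σ g) ω
    rw [h0, zero_mul] at h3
    have : σ g ^ PΩ.natDegree * eval ω (derivative PΩ) ≠ 0 := mul_ne_zero (pow_ne_zero _ hs0) hder
    exact this h3.symm

/-- the point of the limit ring is surjective onto the separable closure -/
theorem ptInf_surjective :
    Function.Surjective (ptInf : H S (Om S p) →ₐ[S] Om S p) := by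
  intro ω
  obtain ⟨g, F, hgp, hFmonic, h0, h1⟩ := exists_scaled_root S p ω
  let Pr : StandardEtalePair S := ⟨F, hFmonic, derivative F, ⟨1, 0, 1, by ring⟩⟩
  have hmap : Pr.HasMap (algebraMap S (Om S p) g * ω) := ⟨h0, Ne.isUnit h1⟩
  obtain ⟨i, e, he⟩ := exists_idx Pr.Ring (Pr.lift _ hmap)
  have hy : ptInf (of i (algebraMap i.Ring (G i) (e Pr.X))) = algebraMap S (Om S p) g * ω := by
    rw [ptInf_of, locPt_algebraMap]
    have := DFunLike.congr_fun he Pr.X
    rw [Pr.lift_X] at this
    exact this
  have hs0 : algebraMap S (Om S p) g ≠ 0 := fun h => hgp ((algebraMap_om_eq_zero_iff S p g).mp h)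
  have hunit : IsUnit (algebraMap S (H S (Om S p)) g) := by
    rw [isUnit_iff_ptInf_ne_zero, AlgHom.commutes]
    exact hs0
  obtain ⟨v, hv⟩ := hunit
  refine ⟨(↑v⁻¹ : H S (Om S p)) * of i (algebraMap i.Ring (G i) (e Pr.X)), ?_⟩
  rw [map_mul, hy]
  have h2 : ptInf (↑v⁻¹ : H S (Om S p)) * algebraMap S (Om S p) g = 1 := by
    rw [← AlgHom.commutes (ptInf : H S (Om S p) →ₐ[S] Om S p), ← hv, ← map_mul, Units.inv_mul,
      map_one]
  rw [← mul_assoc, h2, one_mul]

instance isLocalHom_ptInf' {Ω : Type u} [Field Ω] [Algebra S Ω] :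
    IsLocalHom ((ptInf : H S Ω →ₐ[S] Ω) : H S Ω →+* Ω) :=
  ⟨fun x hx => (isUnit_iff_ptInf_ne_zero x).mpr (IsUnit.ne_zero hx)⟩

/-- the residue field of the limit ring is the separable closure -/
noncomputable def residueEquiv : ResidueField (H S (Om S p)) ≃+* Om S p :=
  RingEquiv.ofBijective
    (ResidueField.lift ((ptInf : H S (Om S p) →ₐ[S] Om S p) : H S (Om S p) →+* Om S p))
    ⟨(ResidueField.lift _).injective, by
      intro ω
      obtain ⟨x, hx⟩ := ptInf_surjective S p ω
      exact ⟨residue _ x, by rw [ResidueField.lift_residue_apply]; exact hx⟩⟩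

instance isSepClosed_residueField : IsSepClosed (ResidueField (H S (Om S p))) :=
  isSepClosed_of_ringEquiv (residueEquiv S p).symm

end Groth.Agent.Lib.Helper52.AzSplitHz
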