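import Mathlib
import Groth.Agent.S5705

/-!
# Characteristic polynomials and automorphisms of matrix algebras over commutative rings

* `matrixBaseChange R S n : S ⊗[R] M_n(R) ≃ₐ[S] M_n(S)`;
* `autBaseChange`: base change of an `R`-algebra automorphism of `M_n(R)`;
* `charpoly_algEquiv`: the characteristic polynomial is invariant under every `R`-algebra
  automorphism of `M_n(R)`, `R` an arbitrary commutative ring (localise and use the local
  Skolem–Noether theorem S5705).
* `splitBaseChange`: base change of a splitting `R' ⊗[R] A ≃ₐ[R'] M_n(R')` along `R' → S`.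
-/

set_option autoImplicit false
set_option linter.style.haveILetI false

namespace Groth.Agent.Lib.Helper52.AzuCharpoly

open TensorProduct

universe u v w

section MatrixBaseChange

variable (R : Type u) (S : Type v) [CommRing R] [CommRing S] [Algebra R S]
  (n : Type w) [Fintype n] [DecidableEq n]

/-- `S ⊗[R] M_n(R) ≃ₐ[S] M_n(S)`. -/
noncomputable def matrixBaseChange : (S ⊗[R] Matrix n n R) ≃ₐ[S] Matrix n n S :=
  AlgEquiv.ofRingEquiv (f := (matrixEquivTensor n R S).symm.toRingEquiv) (by
    intro c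
    rw [Algebra.TensorProduct.algebraMap_apply]
    change (matrixEquivTensor n R S).symm ((algebraMap S S c) ⊗ₜ[R] (1 : Matrix n n R)) = _
    rw [matrixEquivTensor_apply_symm, Matrix.map_one _ (map_zero _) (map_one _),
      Algebra.algebraMap_eq_smul_one, Algebra.algebraMap_eq_smul_one, smul_assoc, one_smul])

theorem matrixBaseChange_tmul (a : S) (M : Matrix n n R) :
    matrixBaseChange R S n (a ⊗ₜ[R] M) = a • M.map (algebraMap R S) := rfl

theorem matrixBaseChange_one_tmul (M : Matrix n n R) :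
    matrixBaseChange R S n ((1 : S) ⊗ₜ[R] M) = M.map (algebraMap R S) := by
  rw [matrixBaseChange_tmul, one_smul]

/-- Base change of an `R`-algebra automorphism of `M_n(R)` to `M_n(S)`. -/
noncomputable def autBaseChange (α : Matrix n n R ≃ₐ[R] Matrix n n R) :
    Matrix n n S ≃ₐ[S] Matrix n n S :=
  (matrixBaseChange R S n).symm.trans
    ((Algebra.TensorProduct.congr (AlgEquiv.refl : S ≃ₐ[S] S) α).trans (matrixBaseChange R S n))

theorem autBaseChange_map (α : Matrix n n R ≃ₐ[R] Matrix n n R) (M : Matrix n n R) :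
    autBaseChange R S n α (M.map (algebraMap R S)) = (α M).map (algebraMap R S) := by
  unfold autBaseChange
  rw [AlgEquiv.trans_apply, AlgEquiv.trans_apply, ← matrixBaseChange_one_tmul,
    AlgEquiv.symm_apply_apply]
  simp only [Algebra.TensorProduct.congr_apply, Algebra.TensorProduct.map_tmul,
    AlgEquiv.refl_toAlgHom, AlgHom.coe_id, id_eq]
  rw [matrixBaseChange_one_tmul]
  rfl

end MatrixBaseChange

/-- Local case: the characteristic polynomial is invariant under algebra automorphisms. -/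
theorem charpoly_algEquiv_local (S : Type u) [CommRing S] [IsLocalRing S] (n : ℕ) (hn : 0 < n)
    (β : Matrix (Fin n) (Fin n) S ≃ₐ[S] Matrix (Fin n) (Fin n) S)
    (N : Matrix (Fin n) (Fin n) S) : (β N).charpoly = N.charpoly := by
  haveI : Nonempty (Fin n) := ⟨⟨0, hn⟩⟩
  haveI : IsAzumaya S (Matrix (Fin n) (Fin n) S) := IsAzumaya.matrix _ (Fin n)
  obtain ⟨⟨a, ha⟩, -⟩ := Groth.Agent.S5705.result S (Matrix (Fin n) (Fin n) S) β
  rw [ha N, Matrix.coe_units_inv]
  exact Matrix.charpoly_units_conj a N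

/-- The characteristic polynomial is invariant under `R`-algebra automorphisms of `M_n(R)`. -/
theorem charpoly_algEquiv (R : Type u) [CommRing R] (n : ℕ)
    (α : Matrix (Fin n) (Fin n) R ≃ₐ[R] Matrix (Fin n) (Fin n) R)
    (M : Matrix (Fin n) (Fin n) R) : (α M).charpoly = M.charpoly := by
  classical
  rcases Nat.eq_zero_or_pos n with rfl | hn
  · rw [Subsingleton.elim (α M) M]
  ext i
  rw [← sub_eq_zero]
  apply eq_zero_of_localization
  intro J hJ
  haveI : J.IsPrime := hJ.isPrime
  rw [map_sub, sub_eq_zero]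
  have h1 := charpoly_algEquiv_local (Localization.AtPrime J) n hn
    (autBaseChange R (Localization.AtPrime J) (Fin n) α)
    (M.map (algebraMap R (Localization.AtPrime J)))
  rw [autBaseChange_map] at h1
  rw [← Polynomial.coeff_map, ← Polynomial.coeff_map, ← Matrix.charpoly_map, ← Matrix.charpoly_map,
    h1]

section Split

variable {R : Type u} [CommRing R] {A : Type v} [Ring A] [Algebra R A]
  {R' : Type w} [CommRing R'] [Algebra R R']

section Cancel

variable (R A R') (S : Type*) [CommRing S] [Algebra R S] [Algebra R' S] [IsScalarTower R R' S]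

/-- The algebra map `S ⊗[R] A → S ⊗[R'] (R' ⊗[R] A)`. -/
noncomputable def cancelHom : (S ⊗[R] A) →ₐ[S] S ⊗[R'] (R' ⊗[R] A) :=
  Algebra.TensorProduct.lift (Algebra.TensorProduct.includeLeft)
    (((Algebra.TensorProduct.includeRight :
        (R' ⊗[R] A) →ₐ[R'] S ⊗[R'] (R' ⊗[R] A)).restrictScalars R).comp
      (Algebra.TensorProduct.includeRight : A →ₐ[R] R' ⊗[R] A))
    (by
      intro x y
      change Commute (x ⊗ₜ[R'] (1 : R' ⊗[R] A)) ((1 : S) ⊗ₜ[R'] ((1 : R') ⊗ₜ[R] y))
      unfold Commute SemiconjBy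
      simp)

theorem cancelHom_tmul (s : S) (a : A) :
    cancelHom R A R' S (s ⊗ₜ[R] a) = s ⊗ₜ[R'] ((1 : R') ⊗ₜ[R] a) := by
  unfold cancelHom
  rw [Algebra.TensorProduct.lift_tmul]
  change (s ⊗ₜ[R'] (1 : R' ⊗[R] A)) * ((1 : S) ⊗ₜ[R'] ((1 : R') ⊗ₜ[R] a)) = _
  rw [Algebra.TensorProduct.tmul_mul_tmul, mul_one, one_mul]

theorem cancelHom_bijective : Function.Bijective (cancelHom R A R' S) := by
  have h : (cancelHom R A R' S).toLinearMap =
      (TensorProduct.AlgebraTensorModule.cancelBaseChange R R' S S A).symm.toLinearMap := by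
    apply TensorProduct.AlgebraTensorModule.ext
    intro s a
    rw [AlgHom.toLinearMap_apply, cancelHom_tmul]
    simp
  have h2 : ⇑(cancelHom R A R' S) =
      ⇑(TensorProduct.AlgebraTensorModule.cancelBaseChange R R' S S A).symm := by
    funext x
    exact congrArg (fun f => f x) h
  rw [h2]
  exact LinearEquiv.bijective _

/-- `S ⊗[R] A ≃ₐ[S] S ⊗[R'] (R' ⊗[R] A)` for a not necessarily commutative `A`. -/
noncomputable def cancelEquiv : (S ⊗[R] A) ≃ₐ[S] S ⊗[R'] (R' ⊗[R] A) :=
  AlgEquiv.ofBijective (cancelHom R A R' S) (cancelHom_bijective R A R' S)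

theorem cancelEquiv_tmul (s : S) (a : A) :
    cancelEquiv R A R' S (s ⊗ₜ[R] a) = s ⊗ₜ[R'] ((1 : R') ⊗ₜ[R] a) :=
  cancelHom_tmul R A R' S s a

end Cancel

variable {n : ℕ} (φ : (R' ⊗[R] A) ≃ₐ[R'] Matrix (Fin n) (Fin n) R')
  (S : Type*) [CommRing S] [Algebra R S] [Algebra R' S] [IsScalarTower R R' S]

/-- Base change of a splitting along `R' → S`. -/
noncomputable def splitBaseChange : (S ⊗[R] A) ≃ₐ[S] Matrix (Fin n) (Fin n) S :=
  (cancelEquiv R A R' S).trans
    ((Algebra.TensorProduct.congr (AlgEquiv.refl : S ≃ₐ[S] S) φ).trans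
      (matrixBaseChange R' S (Fin n)))

theorem splitBaseChange_one_tmul (a : A) :
    splitBaseChange φ S ((1 : S) ⊗ₜ[R] a) = (φ ((1 : R') ⊗ₜ[R] a)).map (algebraMap R' S) := by
  unfold splitBaseChange
  rw [AlgEquiv.trans_apply, AlgEquiv.trans_apply, cancelEquiv_tmul]
  simp only [Algebra.TensorProduct.congr_apply, Algebra.TensorProduct.map_tmul,
    AlgEquiv.refl_toAlgHom, AlgHom.coe_id, id_eq]
  rw [matrixBaseChange_one_tmul]
  rfl

end Split

end Groth.Agent.Lib.Helper52.AzuCharpoly
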