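import Mathlib
import Groth.Agent.S11683
import Groth.Agent.Lib.Helper98.AzuHenselIso
import Groth.Agent.Lib.Helper52.AzuCharpoly
import Groth.Agent.Lib.Helper52.AzSplitMU

/-!
# Azumaya algebras over (products of) strictly henselian local rings have matrix units
-/

set_option autoImplicit false
set_option linter.style.haveILetI false
set_option linter.unusedSectionVars false
set_option linter.unusedVariables false
set_option linter.unusedSimpArgs false

namespace Groth.Agent.Lib.Helper52.AzSplitSH

open Groth.Agent.Lib.Helper52.AzSplitMU Groth.Agent.Lib.Helper52.AzuCharpoly IsLocalRing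
open scoped TensorProduct

universe a b

/-- An Azumaya algebra of rank `n²` over a strictly henselian local ring, living in the same
universe, is a matrix algebra. -/
theorem nonempty_algEquiv_matrix (T : Type a) [CommRing T] [HenselianLocalRing T]
    [IsSepClosed (ResidueField T)] (B : Type a) [Ring B] [Algebra T B] [IsAzumaya T B]
    (n : ℕ) (hn : 0 < n)
    (hrank : ∀ p : PrimeSpectrum T, Module.rankAtStalk (R := T) B p = n ^ 2) :
    Nonempty (B ≃ₐ[T] Matrix (Fin n) (Fin n) T) := by
  classical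
  haveI : Nonempty (Fin n) := ⟨⟨0, hn⟩⟩
  set κ := ResidueField T with hκ
  haveI : Module.Finite T B := IsAzumaya.toFinite  -- placeholder
  haveI : Module.Projective T B := inferInstance
  haveI : Module.Free T B := Module.free_of_flat_of_isLocalRing
  have hfr : Module.finrank T B = n ^ 2 := by
    have h1 := hrank (closedPoint T)
    rwa [Module.rankAtStalk_eq_finrank_of_free] at h1
  haveI hD : IsAzumaya κ (κ ⊗[T] B) :=
    Groth.Agent.Lib.Helper46.Azumaya.isAzumaya_baseChange T κ B
  haveI : IsSimpleRing (κ ⊗[T] B) :=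
    Groth.Agent.Lib.Helper98.AzuField.isSimpleRing_of_isAzumaya κ (κ ⊗[T] B)
  haveI : Algebra.IsCentral κ (κ ⊗[T] B) := inferInstance
  haveI : FiniteDimensional κ (κ ⊗[T] B) := inferInstance
  obtain ⟨m, ⟨φ⟩⟩ := Groth.Agent.S11683.result κ (κ ⊗[T] B)
  have hdim : Module.finrank κ (κ ⊗[T] B) = n ^ 2 := by
    rw [Module.finrank_baseChange, hfr]
  have hm : m = n := by
    have h1 := φ.toLinearEquiv.finrank_eq
    rw [hdim, Module.finrank_matrix] at h1
    simp only [Fintype.card_fin, Module.finrank_self, mul_one] at h1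
    have : n * n = m * m := by rw [← h1, sq]
    exact (Nat.mul_self_inj.mp this).symm
  subst hm
  haveI : IsAzumaya T (Matrix (Fin m) (Fin m) T) := IsAzumaya.matrix T (Fin m)
  let e₀ : (κ ⊗[T] B) ≃ₐ[κ] (κ ⊗[T] Matrix (Fin m) (Fin m) T) :=
    φ.trans (matrixBaseChange T κ (Fin m)).symm
  exact Groth.Agent.Lib.Helper98.AzuHenselIso.nonempty_algEquiv e₀

/-- An Azumaya algebra of rank `n²` over a strictly henselian local ring has matrix units. -/
theorem hasMU_of_strictHensel (T : Type a) [CommRing T] [HenselianLocalRing T]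
    [IsSepClosed (ResidueField T)] (B : Type b) [Ring B] [Algebra T B] [IsAzumaya T B]
    (n : ℕ) (hn : 0 < n)
    (hrank : ∀ p : PrimeSpectrum T, Module.rankAtStalk (R := T) B p = n ^ 2) :
    HasMU B n := by
  haveI : Module.Finite T B := IsAzumaya.toFinite  -- placeholder
  haveI : Small.{a} B := Module.Finite.small T B
  let eB : Shrink.{a} B ≃ₐ[T] B := Shrink.algEquiv T B
  haveI : IsAzumaya T (Shrink.{a} B) := IsAzumaya.of_AlgEquiv T B (Shrink.{a} B) eB.symm
  have hrank' : ∀ p : PrimeSpectrum T, Module.rankAtStalk (R := T) (Shrink.{a} B) p = n ^ 2 := by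
    intro p
    rw [← hrank p]
    exact congrFun (Module.rankAtStalk_eq_of_equiv eB.toLinearEquiv) p
  obtain ⟨ψ⟩ := nonempty_algEquiv_matrix T (Shrink.{a} B) n hn hrank'
  exact (hasMU_matrix T n).map ((ψ.symm.trans eB : Matrix (Fin n) (Fin n) T ≃ₐ[T] B) :
    Matrix (Fin n) (Fin n) T →+* B)

/-- tensor product commutes with finite products on the left (algebra version) -/
noncomputable def piLeftAlg' {K : Type*} [CommRing K] {ι : Type*} [Fintype ι] [DecidableEq ι]
    (T : ι → Type*) [∀ i, CommRing (T i)] [∀ i, Algebra K (T i)] (B : Type*) [Ring B]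
    [Algebra K B] : (∀ i, T i) ⊗[K] B ≃ₐ[K] ∀ i, T i ⊗[K] B :=
  (Algebra.TensorProduct.comm K (∀ i, T i) B).trans
    ((Algebra.TensorProduct.piRight K K B T).trans
      (AlgEquiv.piCongrRight fun i => Algebra.TensorProduct.comm K B (T i)))

/-- An Azumaya algebra of rank `n²` over a finite product of strictly henselian local rings has
matrix units. -/
theorem hasMU_of_ringEquiv_pi (K : Type a) [CommRing K] {ι : Type*} [Fintype ι]
    (T : ι → Type a) [∀ i, CommRing (T i)] [∀ i, HenselianLocalRing (T i)]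
    (hsc : ∀ i, IsSepClosed (ResidueField (T i))) (ψ : K ≃+* ∀ i, T i)
    (B : Type b) [Ring B] [Algebra K B] [IsAzumaya K B] (n : ℕ) (hn : 0 < n)
    (hrank : ∀ p : PrimeSpectrum K, Module.rankAtStalk (R := K) B p = n ^ 2) :
    HasMU B n := by
  classical
  letI algT : ∀ i, Algebra K (T i) := fun i =>
    ((Pi.evalRingHom T i).comp ψ.toRingHom).toAlgebra
  let ψA : K ≃ₐ[K] ∀ i, T i := AlgEquiv.ofRingEquiv (f := ψ) (fun k => rfl)
  haveI : Module.Finite K B := IsAzumaya.toFinite
  haveI : Module.Projective K B := inferInstance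
  have hi : ∀ i, HasMU (T i ⊗[K] B) n := fun i => by
    haveI := hsc i
    haveI : IsAzumaya (T i) (T i ⊗[K] B) :=
      Groth.Agent.Lib.Helper46.Azumaya.isAzumaya_baseChange K (T i) B
    apply hasMU_of_strictHensel (T i) (T i ⊗[K] B) n hn
    intro p
    rw [Module.rankAtStalk_baseChange, hrank]
  have hpi := HasMU.pi (fun i => T i ⊗[K] B) hi
  let e : B ≃ₐ[K] ∀ i, T i ⊗[K] B :=
    ((Algebra.TensorProduct.lid K B).symm.trans
      (Algebra.TensorProduct.congr ψA (AlgEquiv.refl : B ≃ₐ[K] B))).trans (piLeftAlg' T B)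
  exact hpi.map ((e.symm : (∀ i, T i ⊗[K] B) ≃ₐ[K] B) : (∀ i, T i ⊗[K] B) →+* B)

end Groth.Agent.Lib.Helper52.AzSplitSH
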