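import Mathlib
import Groth.Agent.S15578
import Groth.Agent.S15586
import Groth.Agent.Lib.Helper52.AzSplitMU
import Groth.Agent.Lib.Helper52.AzSplitHz
import Groth.Agent.Lib.Helper52.AzSplitDesc
import Groth.Agent.Lib.Helper52.AzSplitBC
import Groth.Agent.Lib.Helper52.AzSplitSH

/-!
# Azumaya algebras over a ring with involution are split étale locally on the fixed ring
-/

set_option autoImplicit false
set_option linter.style.haveILetI false
set_option linter.unusedSectionVars false
set_option linter.unusedVariables false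
set_option linter.unusedSimpArgs false

namespace Groth.Agent.Lib.Helper52.AzSplitMain

open Groth.Agent.Lib.Helper37.Hz Groth.Agent.Lib.Helper52.AzSplitMU
  Groth.Agent.Lib.Helper52.AzSplitHz Groth.Agent.Lib.Helper52.AzSplitDesc
  Groth.Agent.Lib.Helper52.AzSplitBC Groth.Agent.Lib.Helper52.AzSplitSH IsLocalRing
open scoped TensorProduct

universe u v w

variable {S : Type u} {R : Type v} [CommRing S] [CommRing R] [Algebra S R]
  (lam : R ≃ₐ[S] R) (hlam : ∀ r, lam (lam r) = r) (hfix : RInv.IsFixedRing S R lam.toRingEquiv)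
  (A : Type w) [Ring A] [Algebra S A] [Algebra R A] [IsScalarTower S R A]
  (n : ℕ) (hn : 0 < n) [IsAzumaya R A]
  (hrank : ∀ p : PrimeSpectrum R, Module.rankAtStalk (R := R) A p = n ^ 2)

include hlam hfix hn hrank in
/-- matrix units over the strict henselization at a prime of `S` -/
theorem hasMU_H (p : Ideal S) [p.IsPrime] : HasMU (H S (Om S p) ⊗[S] A) n := by
  classical
  set Hh := H S (Om S p) with hHh
  -- the base-changed involution and its fixed ring
  let lamH : (Hh ⊗[S] R) ≃ₐ[S] (Hh ⊗[S] R) :=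
    Algebra.TensorProduct.congr (AlgEquiv.refl : Hh ≃ₐ[S] Hh) lam
  have hfixH : RInv.IsFixedRing Hh (Hh ⊗[S] R) lamH.toRingEquiv :=
    Groth.Agent.S15586.result S R Hh lam hlam hfix (Or.inl inferInstance)
  have hinv : Function.Involutive lamH.toRingEquiv := by
    intro x
    show lamH (lamH x) = x
    induction x using TensorProduct.induction_on with
    | zero => simp
    | tmul h r =>
      simp only [lamH, Algebra.TensorProduct.congr_apply, Algebra.TensorProduct.map_tmul]
      simp [hlam]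
    | add x y hx hy => rw [map_add, map_add, hx, hy]
  obtain ⟨ι, _, T, _, _, hsc, ⟨ψ⟩⟩ :=
    Groth.Agent.S15578.result Hh (Hh ⊗[S] R) lamH.toRingEquiv hinv hfixH
  -- pass to `K' = R ⊗ H`
  let ψ' : (R ⊗[S] Hh) ≃+* (∀ i, T i) :=
    (Algebra.TensorProduct.comm S R Hh).toRingEquiv.trans ψ
  haveI : IsAzumaya (R ⊗[S] Hh) ((R ⊗[S] Hh) ⊗[R] A) :=
    Groth.Agent.Lib.Helper46.Azumaya.isAzumaya_baseChange R (R ⊗[S] Hh) A
  haveI : Module.Finite R A := IsAzumaya.toFinite
  haveI : Module.Projective R A := inferInstance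
  have hrank' : ∀ q : PrimeSpectrum (R ⊗[S] Hh),
      Module.rankAtStalk (R := R ⊗[S] Hh) ((R ⊗[S] Hh) ⊗[R] A) q = n ^ 2 := by
    intro q
    rw [Module.rankAtStalk_baseChange, hrank]
  have hMU : HasMU ((R ⊗[S] Hh) ⊗[R] A) n :=
    hasMU_of_ringEquiv_pi (R ⊗[S] Hh) T hsc ψ' ((R ⊗[S] Hh) ⊗[R] A) n hn hrank'
  exact hMU.map ((cEquiv (S := S) (R := R) A Hh).symm : (R ⊗[S] Hh) ⊗[R] A →+* Hh ⊗[S] A)

include hlam hfix hn hrank in
/-- an étale neighbourhood of a prime of `S` over which `A` has matrix units -/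
theorem exists_etale_hasMU (p : PrimeSpectrum S) :
    ∃ (E : Type u) (_ : CommRing E) (_ : Algebra S E) (_ : Algebra.Etale S E),
      HasMU (E ⊗[S] A) n ∧ p ∈ Set.range (PrimeSpectrum.comap (algebraMap S E)) := by
  classical
  haveI := p.isPrime
  obtain ⟨i, hi⟩ := hasMU_stage A (hasMU_H lam hlam hfix A n hn hrank p.asIdeal)
  obtain ⟨f, hf, hMU⟩ := hasMU_away A i.Ring (ptKer i.θ).primeCompl (G i) hi
  haveI : Algebra.Etale S (Localization.Away f) := Algebra.Etale.comp S i.Ring (Localization.Away f)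
  refine ⟨Localization.Away f, inferInstance, inferInstance, inferInstance, hMU, ?_⟩
  -- the prime
  have hdisj : Disjoint (Submonoid.powers f : Set i.Ring) (ptKer i.θ : Set i.Ring) :=
    (Ideal.disjoint_powers_iff_notMem _ (Ideal.IsPrime.isRadical inferInstance)).mpr hf
  haveI hQ : ((ptKer i.θ).map (algebraMap i.Ring (Localization.Away f))).IsPrime :=
    IsLocalization.isPrime_of_isPrime_disjoint (Submonoid.powers f) _ _ inferInstance hdisj
  refine ⟨⟨(ptKer i.θ).map (algebraMap i.Ring (Localization.Away f)), hQ⟩, ?_⟩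
  apply PrimeSpectrum.ext
  show Ideal.comap (algebraMap S (Localization.Away f))
    ((ptKer i.θ).map (algebraMap i.Ring (Localization.Away f))) = p.asIdeal
  have hc : Ideal.comap (algebraMap i.Ring (Localization.Away f))
      ((ptKer i.θ).map (algebraMap i.Ring (Localization.Away f))) = ptKer i.θ :=
    IsLocalization.under_map_of_isPrime_disjoint (Submonoid.powers f) _ inferInstance hdisj
  rw [IsScalarTower.algebraMap_eq S i.Ring (Localization.Away f), ← Ideal.comap_comap, hc]
  ext s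
  rw [Ideal.mem_comap, RingHom.mem_ker, AlgHom.commutes, algebraMap_om_eq_zero_iff]

include hlam hfix hn hrank in
/-- an étale faithfully flat cover of `S` over which `A` has matrix units -/
theorem exists_cover_hasMU :
    ∃ (E : Type u) (_ : CommRing E) (_ : Algebra S E) (_ : Algebra.Etale S E)
      (_ : Module.FaithfullyFlat S E), HasMU (E ⊗[S] A) n := by
  classical
  choose C instC algC etC hMU hrange using exists_etale_hasMU lam hlam hfix A n hn hrank
  have hopen : ∀ p, IsOpen (Set.range (PrimeSpectrum.comap (algebraMap S (C p)))) := fun p =>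
    (PrimeSpectrum.isOpenMap_comap_of_hasGoingDown_of_finitePresentation (R := S)
      (S := C p)).isOpen_range
  obtain ⟨s, hs⟩ := isCompact_univ.elim_finite_subcover
    (fun p => Set.range (PrimeSpectrum.comap (algebraMap S (C p)))) hopen
    (fun p _ => Set.mem_iUnion.mpr ⟨p, hrange p⟩)
  let B : (↥s) → Type u := fun i => C i.1
  haveI : Module.Flat S (∀ i : ↥s, B i) :=
    Module.Flat.of_linearEquiv (DirectSum.linearEquivFunOnFintype S (↥s) B).symm
  have hff : Module.FaithfullyFlat S (∀ i : ↥s, B i) := by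
    apply Module.FaithfullyFlat.of_comap_surjective
    intro p
    have hp := hs (Set.mem_univ p)
    simp only [Set.mem_iUnion, exists_prop] at hp
    obtain ⟨q, hq, ⟨𝔓, h𝔓⟩⟩ := hp
    refine ⟨⟨𝔓.asIdeal.comap (Pi.evalRingHom B ⟨q, hq⟩), Ideal.comap_isPrime _ _⟩, ?_⟩
    rw [← h𝔓]
    ext1
    show Ideal.comap _ (Ideal.comap _ _) = Ideal.comap _ _
    rw [Ideal.comap_comap]
    rfl
  refine ⟨∀ i : ↥s, B i, inferInstance, inferInstance, inferInstance, hff, ?_⟩
  have hpi := HasMU.pi (fun i : ↥s => B i ⊗[S] A) (fun i => hMU i.1)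
  exact hpi.map (((piLeftAlg' B A).symm : (∀ i : ↥s, B i ⊗[S] A) ≃ₐ[S] (∀ i : ↥s, B i) ⊗[S] A) :
    (∀ i : ↥s, B i ⊗[S] A) →+* (∀ i : ↥s, B i) ⊗[S] A)

include hn hrank in
/-- matrix units over `E` give an isomorphism with the matrix algebra over `E ⊗ R` -/
theorem exists_algEquiv_of_hasMU (E : Type u) [CommRing E] [Algebra S E]
    (h : HasMU (E ⊗[S] A) n) :
    ∃ f : E ⊗[S] A ≃ₐ[S] Matrix (Fin n) (Fin n) (E ⊗[S] R), ∀ (k : R ⊗[S] E) (x : E ⊗[S] A),
      f (jL A E k * x) = Matrix.scalar (Fin n) (Algebra.TensorProduct.comm S R E k) * f x := by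
  classical
  obtain ⟨e, he⟩ := h
  let c := cEquiv (S := S) (R := R) A E
  have he' : IsMU (fun i j => c (e i j)) := he.map (c : E ⊗[S] A →+* (R ⊗[S] E) ⊗[R] A)
  haveI : IsAzumaya (R ⊗[S] E) ((R ⊗[S] E) ⊗[R] A) :=
    Groth.Agent.Lib.Helper46.Azumaya.isAzumaya_baseChange R (R ⊗[S] E) A
  haveI : Module.Finite R A := IsAzumaya.toFinite
  haveI : Module.Projective R A := inferInstance
  haveI : Module.Finite (R ⊗[S] E) ((R ⊗[S] E) ⊗[R] A) := IsAzumaya.toFinite
  have hrank' : ∀ q : PrimeSpectrum (R ⊗[S] E),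
      Module.rankAtStalk (R := R ⊗[S] E) ((R ⊗[S] E) ⊗[R] A) q = n ^ 2 := by
    intro q
    rw [Module.rankAtStalk_baseChange, hrank]
  have hbij := muHom_bijective (K := R ⊗[S] E) he'
    (FaithfulSMul.algebraMap_injective (R ⊗[S] E) ((R ⊗[S] E) ⊗[R] A)) hrank' hn
  let Ψ : Matrix (Fin n) (Fin n) (R ⊗[S] E) ≃ₐ[R ⊗[S] E] (R ⊗[S] E) ⊗[R] A :=
    AlgEquiv.ofBijective (muHom (K := R ⊗[S] E) he') hbij
  let f : E ⊗[S] A ≃ₐ[S] Matrix (Fin n) (Fin n) (E ⊗[S] R) :=
    c.trans ((Ψ.symm.restrictScalars S).trans (Algebra.TensorProduct.comm S R E).mapMatrix)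
  refine ⟨f, fun k x => ?_⟩
  show (Algebra.TensorProduct.comm S R E).mapMatrix (Ψ.symm (c (jL A E k * x))) =
    Matrix.scalar (Fin n) (Algebra.TensorProduct.comm S R E k) *
      (Algebra.TensorProduct.comm S R E).mapMatrix (Ψ.symm (c x))
  rw [cEquiv_jL_mul, ← Algebra.smul_def, map_smul]
  ext a b
  simp [Matrix.scalar_apply, Matrix.diagonal_mul]
  rfl

end Groth.Agent.Lib.Helper52.AzSplitMain
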