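import Mathlib
import Groth.Agent.Lib.Helper52.CSACentralizer

/-!
# Commutative subalgebras of central division algebras; Kummer-type minimal polynomials

* `finrank_dvd_of_commutative` : a commutative subalgebra of a central division algebra of
  dimension `n ^ 2` has dimension dividing `n`.
* `eq_X_pow_sub_C_of_dvd` : over a field containing the roots of unity, a monic irreducible factor
  of `X ^ m - a` (`a ≠ 0`) is of the form `X ^ r - b`.
-/

set_option autoImplicit false
set_option linter.style.haveILetI false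

namespace Groth.Agent.Lib.Helper52.CSASubfield

open Module Polynomial
open Groth.Agent.Lib.Helper52.CSACentralizer

section subfield

variable {K : Type*} [Field K] {A : Type*} [DivisionRing A] [Algebra K A]
  [Algebra.IsCentral K A] [FiniteDimensional K A]

omit [Algebra.IsCentral K A] in
/-- A subalgebra of a finite-dimensional division algebra is a simple ring. -/
theorem isSimpleRing_of_subalgebra (B : Subalgebra K A) : IsSimpleRing B := by
  letI : DivisionRing B := divisionRingOfFiniteDimensional K B
  exact DivisionRing.isSimpleRing B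

/-- The dimension of a commutative subalgebra of a central division algebra of dimension `n ^ 2`
divides `n`. -/
theorem finrank_dvd_of_commutative (B : Subalgebra K A)
    (hcomm : ∀ x ∈ B, ∀ y ∈ B, x * y = y * x) (n : ℕ) (hn : finrank K A = n ^ 2) :
    finrank K B ∣ n := by
  haveI := isSimpleRing_of_subalgebra B
  have h1 := finrank_eq_mul_centralizer B
  have hBC : B ≤ Subalgebra.centralizer K (B : Set A) := by
    intro x hx
    rw [Subalgebra.mem_centralizer_iff]
    intro y hy
    exact hcomm y hy x hx
  -- the centralizer as a left `B`-module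
  letI : DivisionRing B := divisionRingOfFiniteDimensional K B
  let CB : Submodule B A :=
    { carrier := Subalgebra.centralizer K (B : Set A)
      add_mem' := fun hx hy => Subalgebra.add_mem _ hx hy
      zero_mem' := Subalgebra.zero_mem _
      smul_mem' := fun b y hy => Subalgebra.mul_mem _ (hBC b.2) hy }
  have h2 : finrank K B ∣ finrank K CB := Module.finrank_dvd_finrank_right K B CB
  have h3 : finrank K CB = finrank K (Subalgebra.centralizer K (B : Set A)) := by
    let e : CB ≃ₗ[K] Subalgebra.centralizer K (B : Set A) :=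
      { toFun := fun y => ⟨y.1, y.2⟩
        invFun := fun y => ⟨y.1, y.2⟩
        map_add' := fun _ _ => rfl
        map_smul' := fun _ _ => rfl
        left_inv := fun _ => rfl
        right_inv := fun _ => rfl }
    exact e.finrank_eq
  rw [h3] at h2
  obtain ⟨c, hc⟩ := h2
  rw [hc, hn] at h1
  have : finrank K B ^ 2 ∣ n ^ 2 := ⟨c, by rw [h1]; ring⟩
  exact (Nat.pow_dvd_pow_iff (by norm_num)).mp this

end subfield

section kummer

variable {K : Type*} [Field K]

/-- Over a field containing all roots of unity, a monic irreducible factor of `X ^ m - a`, `a ≠ 0`,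
is a binomial `X ^ r - b`. -/
theorem eq_X_pow_sub_C_of_dvd (hK : ∀ n : ℕ, 0 < n → (X ^ n - 1 : K[X]).Splits)
    {f : K[X]} (hirr : Irreducible f) (hmon : f.Monic) {m : ℕ} (hm : 0 < m) {a : K} (ha : a ≠ 0)
    (hdvd : f ∣ X ^ m - C a) : ∃ b : K, f = X ^ f.natDegree - C b := by
  classical
  let Ω := AlgebraicClosure K
  let i : K →+* Ω := algebraMap K Ω
  have hsplit : (f.map i).Splits := IsAlgClosed.splits _
  have hmonΩ : (f.map i).Monic := hmon.map i
  have hr : 0 < f.natDegree := hirr.natDegree_pos
  have hcard : (f.map i).roots.card = f.natDegree := by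
    rw [← hsplit.natDegree_eq_card_roots, natDegree_map]
  -- every root is an `m`-th root of `a`
  have hroot_pow : ∀ y ∈ (f.map i).roots, y ^ m = i a := by
    intro y hy
    have hy0 : (f.map i).eval y = 0 := (mem_roots'.mp hy).2
    have h2 : ((X ^ m - C a : K[X]).map i).eval y = 0 := by
      obtain ⟨g, hg⟩ := hdvd
      rw [hg, Polynomial.map_mul, eval_mul, hy0, zero_mul]
    simpa [sub_eq_zero] using h2
  have hia : i a ≠ 0 := (map_ne_zero i).mpr ha
  have hroot_ne : ∀ y ∈ (f.map i).roots, y ≠ 0 := by
    intro y hy h0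
    have := hroot_pow y hy
    rw [h0, zero_pow hm.ne'] at this
    exact hia this.symm
  obtain ⟨y₀, hy₀⟩ : ∃ y₀, y₀ ∈ (f.map i).roots := by
    apply Multiset.card_pos_iff_exists_mem.mp
    rw [hcard]; exact hr
  have hy₀0 := hroot_ne y₀ hy₀
  -- every root is a root of unity in `K` times `y₀`
  have hroot_form : ∀ y ∈ (f.map i).roots, ∃ ζ : K, y = i ζ * y₀ := by
    intro y hy
    have h1 : (y / y₀) ^ m = 1 := by
      rw [div_pow, hroot_pow y hy, hroot_pow y₀ hy₀, div_self hia]
    have h2 : y / y₀ ∈ ((X ^ m - 1 : K[X]).map i).roots := by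
      rw [mem_roots']
      refine ⟨?_, ?_⟩
      · have : (X ^ m - 1 : K[X]).map i = X ^ m - 1 := by simp
        rw [this]
        have h3 : (X ^ m - 1 : Polynomial Ω) = X ^ m - C 1 := by rw [map_one]
        rw [h3]
        exact (monic_X_pow_sub_C (1 : Ω) hm.ne').ne_zero
      · simp [h1]
    rw [(hK m hm).roots_map i, Multiset.mem_map] at h2
    obtain ⟨ζ, -, hζ⟩ := h2
    exact ⟨ζ, by rw [hζ, div_mul_cancel₀ _ hy₀0]⟩
  -- product of roots
  have hprod : ∀ S : Multiset Ω, (∀ y ∈ S, ∃ ζ : K, y = i ζ * y₀) →
      ∃ Z : K, S.prod = i Z * y₀ ^ Multiset.card S := by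
    intro S
    induction S using Multiset.induction_on with
    | empty => intro _; exact ⟨1, by simp⟩
    | cons y S ih =>
      intro h
      obtain ⟨Z, hZ⟩ := ih (fun y hy => h y (Multiset.mem_cons_of_mem hy))
      obtain ⟨ζ, hζ⟩ := h y (Multiset.mem_cons_self y S)
      refine ⟨ζ * Z, ?_⟩
      rw [Multiset.prod_cons, hZ, hζ, Multiset.card_cons, map_mul, pow_succ]
      ring
  obtain ⟨Z, hZ⟩ := hprod _ hroot_form
  rw [hcard] at hZ
  have hprod_ne : (f.map i).roots.prod ≠ 0 := by
    apply Multiset.prod_ne_zero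
    intro h0
    exact hroot_ne 0 h0 rfl
  have hZ0 : Z ≠ 0 := by
    rintro rfl
    rw [map_zero, zero_mul] at hZ
    exact hprod_ne hZ
  have hcoeff := hsplit.coeff_zero_eq_prod_roots_of_monic hmonΩ
  rw [coeff_map, natDegree_map, hZ] at hcoeff
  -- define b
  let b : K := (-1) ^ f.natDegree * f.coeff 0 / Z
  have hb : y₀ ^ f.natDegree = i b := by
    have hiZ : i Z ≠ 0 := (map_ne_zero i).mpr hZ0
    simp only [b, map_div₀, map_mul, map_pow, map_neg, map_one]
    rw [hcoeff, eq_div_iff hiZ]
    have : ((-1 : Ω) ^ f.natDegree) * ((-1) ^ f.natDegree) = 1 := by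
      rw [← mul_pow, neg_one_mul, neg_neg, one_pow]
    calc y₀ ^ f.natDegree * i Z = 1 * (i Z * y₀ ^ f.natDegree) := by ring
      _ = ((-1 : Ω) ^ f.natDegree) * ((-1) ^ f.natDegree) * (i Z * y₀ ^ f.natDegree) := by
          rw [this]
      _ = (-1) ^ f.natDegree * ((-1) ^ f.natDegree * (i Z * y₀ ^ f.natDegree)) := by ring
  refine ⟨b, ?_⟩
  have hfy₀ : aeval y₀ f = 0 := by
    have := (mem_roots'.mp hy₀).2
    rwa [IsRoot.def, eval_map_algebraMap] at this
  have hfmin : f = minpoly K y₀ := minpoly.eq_of_irreducible_of_monic hirr hfy₀ hmon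
  have hg0 : aeval y₀ (X ^ f.natDegree - C b : K[X]) = 0 := by
    simp only [map_sub, map_pow, aeval_X, aeval_C]
    rw [hb]; exact sub_self _
  have hdvd2 : f ∣ X ^ f.natDegree - C b := by
    rw [hfmin]
    have := minpoly.dvd K y₀ hg0
    rwa [← hfmin] at this ⊢
  have hgmon : (X ^ f.natDegree - C b : K[X]).Monic := monic_X_pow_sub_C b hr.ne'
  have hgdeg : (X ^ f.natDegree - C b : K[X]).natDegree = f.natDegree :=
    natDegree_X_pow_sub_C
  exact (eq_of_monic_of_dvd_of_natDegree_le hmon hgmon hdvd2 hgdeg.le).symm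

end kummer

end Groth.Agent.Lib.Helper52.CSASubfield
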