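import Mathlib

/-!
# Matrix lemmas for determinantal varieties

* `minor_mul_eq_zero`: the `(r+1)`-minors of a product `U * V` through `Fin r` vanish;
* `eq_mul_of_minors_zero`: a matrix whose `(r+1)`-minors vanish and which has an invertible
  `r × r` block `A` on rows `f`, columns `g` equals `N[:, g] * A⁻¹ * N[f, :]`;
* `derivation_det_mem`: derivatives of determinants lie in the ideal of submaximal minors.
-/

set_option autoImplicit false
set_option linter.style.haveILetI false

namespace Groth.Agent.Lib.Helper52.DetA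

open Matrix

variable {K : Type*} [CommRing K]

/-- a tall matrix times a wide matrix has zero determinant -/
theorem det_mul_thin {r : ℕ} (U : Matrix (Fin (r + 1)) (Fin r) K)
    (V : Matrix (Fin r) (Fin (r + 1)) K) : (U * V).det = 0 := by
  classical
  let e : Fin (r + 1) ≃ Fin r ⊕ Fin 1 := finSumFinEquiv.symm
  have h1 : U * V = (fromCols U (0 : Matrix (Fin (r + 1)) (Fin 1) K)).submatrix id e *
      (fromRows V (0 : Matrix (Fin 1) (Fin (r + 1)) K)).submatrix e id := by
    rw [submatrix_mul_equiv, fromCols_mul_fromRows, Matrix.zero_mul, add_zero, submatrix_id_id]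
  rw [h1, det_mul]
  have h2 : ((fromCols U (0 : Matrix (Fin (r + 1)) (Fin 1) K)).submatrix id e).det = 0 := by
    apply det_eq_zero_of_column_eq_zero (e.symm (Sum.inr 0))
    intro i
    simp [e]
  rw [h2, zero_mul]

/-- minors of size `r + 1` of a product through `Fin r` vanish -/
theorem minor_mul_eq_zero {n m r : ℕ} (U : Matrix (Fin n) (Fin r) K) (V : Matrix (Fin r) (Fin m) K)
    (f : Fin (r + 1) → Fin n) (g : Fin (r + 1) → Fin m) :
    ((U * V).submatrix f g).det = 0 := by
  have : (U * V).submatrix f g = U.submatrix f id * V.submatrix id g :=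
    (submatrix_mul_equiv U V f (Equiv.refl _) g).symm
  rw [this]
  exact det_mul_thin _ _

/-- rank factorisation from vanishing minors -/
theorem eq_mul_of_minors_zero {n m r : ℕ} (N : Matrix (Fin n) (Fin m) K)
    (hN : ∀ (f' : Fin (r + 1) → Fin n) (g' : Fin (r + 1) → Fin m), (N.submatrix f' g').det = 0)
    (f : Fin r → Fin n) (g : Fin r → Fin m) (hA : IsUnit (N.submatrix f g).det) :
    N = N.submatrix id g * (N.submatrix f g)⁻¹ * N.submatrix f id := by
  classical
  ext i j
  letI : Invertible (N.submatrix f g) := invertibleOfIsUnitDet _ hA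
  let e : Fin r ⊕ Fin 1 ≃ Fin (r + 1) := finSumFinEquiv
  let f' : Fin (r + 1) → Fin n := Sum.elim f (fun _ => i) ∘ e.symm
  let g' : Fin (r + 1) → Fin m := Sum.elim g (fun _ => j) ∘ e.symm
  have h0 := hN f' g'
  have h1 : N.submatrix f' g' =
      (fromBlocks (N.submatrix f g) (N.submatrix f (fun _ : Fin 1 => j))
        (N.submatrix (fun _ : Fin 1 => i) g)
        (N.submatrix (fun _ : Fin 1 => i) (fun _ : Fin 1 => j))).submatrix e.symm e.symm := by
    ext a b
    simp only [submatrix_apply, f', g', Function.comp_apply]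
    rcases e.symm a with a' | a' <;> rcases e.symm b with b' | b' <;> rfl
  rw [h1, det_submatrix_equiv_self, det_fromBlocks₁₁] at h0
  have h2 := hA.mul_right_eq_zero.mp h0
  rw [det_unique] at h2
  rw [Matrix.sub_apply, sub_eq_zero] at h2
  rw [submatrix_apply] at h2
  rw [h2, invOf_eq_nonsing_inv, Matrix.mul_apply, Matrix.mul_apply]
  refine Finset.sum_congr rfl fun b _ => ?_
  rw [Matrix.mul_apply, Matrix.mul_apply]
  rfl

section Derivation

variable {k : Type*} [CommRing k] {S : Type*} [CommRing S] [Algebra k S]

theorem derivation_prod (D : Derivation k S S) {ι : Type*} [DecidableEq ι] (s : Finset ι)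
    (h : ι → S) : D (∏ i ∈ s, h i) = ∑ i ∈ s, (∏ j ∈ s.erase i, h j) * D (h i) := by
  induction s using Finset.induction_on with
  | empty => simp
  | insert a s ha ih =>
    rw [Finset.prod_insert ha, Derivation.leibniz, ih, Finset.sum_insert ha,
      Finset.erase_insert ha, smul_eq_mul, smul_eq_mul, Finset.mul_sum, add_comm]
    congr 1
    refine Finset.sum_congr rfl fun i hi => ?_
    have hia : i ≠ a := fun h' => ha (h' ▸ hi)
    rw [Finset.erase_insert_of_ne (Ne.symm hia), Finset.prod_insert, mul_assoc]
    exact fun h' => ha (Finset.mem_of_mem_erase h')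

/-- Leibniz rule for determinants, by columns -/
theorem derivation_det (D : Derivation k S S) {ι : Type*} [DecidableEq ι] [Fintype ι]
    (M : Matrix ι ι S) :
    D M.det = ∑ c, (M.updateCol c fun a => D (M a c)).det := by
  simp only [det_apply]
  rw [map_sum, Finset.sum_comm]
  refine Finset.sum_congr rfl fun σ _ => ?_
  have h1 : D (Equiv.Perm.sign σ • ∏ i, M (σ i) i) =
      Equiv.Perm.sign σ • D (∏ i, M (σ i) i) := by
    rw [Units.smul_def, Units.smul_def, map_zsmul]
  rw [h1, derivation_prod, Finset.smul_sum]
  refine Finset.sum_congr rfl fun c _ => ?_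
  congr 1
  rw [← Finset.mul_prod_erase Finset.univ _ (Finset.mem_univ c), updateCol_self, mul_comm]
  congr 1
  refine Finset.prod_congr rfl fun j hj => ?_
  rw [updateCol_ne (Finset.ne_of_mem_erase hj)]

/-- derivatives of an `(r+1) × (r+1)` determinant are combinations of its `r × r` minors -/
theorem derivation_det_mem (D : Derivation k S S) {r : ℕ} (M : Matrix (Fin (r + 1)) (Fin (r + 1)) S)
    (I : Ideal S) (hI : ∀ a c : Fin (r + 1), (M.submatrix a.succAbove c.succAbove).det ∈ I) :
    D M.det ∈ I := by
  rw [derivation_det]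
  refine I.sum_mem fun c _ => ?_
  rw [det_succ_column _ c]
  refine I.sum_mem fun a _ => ?_
  rw [submatrix_updateCol_succAbove]
  exact I.mul_mem_left _ (hI a c)

end Derivation

end Groth.Agent.Lib.Helper52.DetA
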