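import Mathlib
import Groth.Prelude.Def_CAlgX
import Groth.Agent.Lib.Helper52.DetA

/-!
# Generic determinantal ideals: Taylor formula, derivatives of minors, a non-zero minor
-/

set_option autoImplicit false
set_option linter.unusedSectionVars false

namespace Groth.Agent.Lib.Helper52.DetB

open MvPolynomial Matrix Groth.Agent.Lib.Helper52.DetA

section Taylor

variable {k : Type*} [CommRing k] {σ : Type*} [Fintype σ] [DecidableEq σ]
  {C : Type*} [CommRing C] [Algebra k C]

/-- first-order Taylor formula for polynomial evaluation -/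
theorem aeval_taylor (a b : σ → C) (h : ∀ i j, (a i - b i) * (a j - b j) = 0)
    (F : MvPolynomial σ k) :
    aeval b F = aeval a F - ∑ i, aeval a (pderiv i F) * (a i - b i) := by
  induction F using MvPolynomial.induction_on with
  | C r => simp
  | add p q hp hq =>
    rw [map_add, hp, hq, map_add]
    simp only [map_add, add_mul, Finset.sum_add_distrib]
    abel
  | mul_X p j ih =>
    have hS : (∑ i, aeval a (pderiv i p) * (a i - b i)) * (a j - b j) = 0 := by
      rw [Finset.sum_mul]
      exact Finset.sum_eq_zero fun i _ => by rw [mul_assoc, h, mul_zero]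
    have hd : ∀ i, aeval a (pderiv i (p * X j)) =
        aeval a (pderiv i p) * a j + aeval a p * (if i = j then 1 else 0) := by
      intro i
      rw [Derivation.leibniz, pderiv_X, smul_eq_mul, smul_eq_mul, map_add, map_mul, map_mul,
        aeval_X, Pi.single_apply]
      split_ifs with hij hji hji
      · rw [map_one]; ring
      · exact absurd hij.symm hji
      · exact absurd hji.symm hij
      · rw [map_zero]; ring
    rw [map_mul, aeval_X, ih, map_mul, aeval_X]
    simp only [hd, add_mul, Finset.sum_add_distrib, mul_ite, mul_one, mul_zero, ite_mul,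
      zero_mul, Finset.sum_ite_eq', Finset.mem_univ, if_true]
    have hb : b j = a j - (a j - b j) := by ring
    have e1 : (aeval a p - ∑ i, aeval a (pderiv i p) * (a i - b i)) * b j =
        aeval a p * a j - aeval a p * (a j - b j)
          - (∑ i, aeval a (pderiv i p) * (a i - b i)) * a j
          + (∑ i, aeval a (pderiv i p) * (a i - b i)) * (a j - b j) := by
      conv_lhs => rw [hb]
      ring
    rw [e1, hS, add_zero, Finset.sum_mul]
    have e2 : ∀ i, aeval a (pderiv i p) * (a i - b i) * a j =
        aeval a (pderiv i p) * a j * (a i - b i) := fun i => by ring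
    simp only [e2]
    ring

end Taylor

section Generic

variable (k : Type*) [Field k] (n m : ℕ)

/-- the generic matrix -/
noncomputable def Xm : Matrix (Fin n) (Fin m) (MvPolynomial (Fin n × Fin m) k) :=
  Matrix.of fun (i : Fin n) (j : Fin m) => (MvPolynomial.X (i, j) : MvPolynomial (Fin n × Fin m) k)

theorem pderiv_minor_mem (r : ℕ) (f' : Fin (r + 1) → Fin n) (g' : Fin (r + 1) → Fin m)
    (v : Fin n × Fin m) :
    pderiv v ((Xm k n m).submatrix f' g').det ∈ CAlgX.minorIdeal (Xm k n m) r := by
  apply derivation_det_mem
  intro a c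
  exact Ideal.subset_span ⟨(f' ∘ a.succAbove, g' ∘ c.succAbove), rfl⟩

theorem exists_minor_ne_zero (r : ℕ) (hr : r ≤ min n m) :
    ∃ (f' : Fin r → Fin n) (g' : Fin r → Fin m), ((Xm k n m).submatrix f' g').det ≠ 0 := by
  have hn : r ≤ n := hr.trans (min_le_left _ _)
  have hm : r ≤ m := hr.trans (min_le_right _ _)
  refine ⟨Fin.castLE hn, Fin.castLE hm, fun h0 => ?_⟩
  let pt : Fin n × Fin m → k := fun ij => if (ij.1 : ℕ) = (ij.2 : ℕ) then 1 else 0
  have h1 := congrArg (MvPolynomial.eval pt) h0
  rw [RingHom.map_det, map_zero] at h1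
  have h2 : (MvPolynomial.eval pt).mapMatrix ((Xm k n m).submatrix (Fin.castLE hn) (Fin.castLE hm))
      = 1 := by
    ext a b
    simp only [RingHom.mapMatrix_apply, Matrix.map_apply, submatrix_apply, Xm, Matrix.of_apply,
      eval_X, pt, Fin.val_castLE, Matrix.one_apply]
    by_cases hab : a = b
    · rw [if_pos hab, if_pos (by rw [hab])]
    · rw [if_neg hab, if_neg (fun h' => hab (Fin.ext h'))]
  rw [h2, det_one] at h1
  exact one_ne_zero h1

end Generic

end Groth.Agent.Lib.Helper52.DetB
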