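import Mathlib
import Groth.Prelude.Def_CAlgX
import Groth.Agent.Lib.Helper52.DetB

/-!
# Generic determinantal rings: smoothness at points of maximal rank
-/

set_option autoImplicit false
set_option linter.unusedSectionVars false
set_option linter.style.haveILetI false

namespace Groth.Agent.Lib.Helper52.DetC

open MvPolynomial Matrix Groth.Agent.Lib.Helper52.DetA Groth.Agent.Lib.Helper52.DetB

universe u

variable (k : Type u) [Field k] (n m r : ℕ)

/-- the polynomial ring of the generic matrix -/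
abbrev R₀ : Type u := MvPolynomial (Fin n × Fin m) k

/-- ideal of minors of size `s` -/
noncomputable abbrev Ir (s : ℕ) : Ideal (R₀ k n m) := CAlgX.minorIdeal (Xm k n m) s

/-- the determinantal ring -/
abbrev B : Type u := R₀ k n m ⧸ Ir k n m (r + 1)

variable {k n m r}

theorem algHom_minor {C : Type*} [CommRing C] [Algebra k C] (ψ : R₀ k n m →ₐ[k] C) (s : ℕ)
    (f' : Fin s → Fin n) (g' : Fin s → Fin m) :
    ψ ((Xm k n m).submatrix f' g').det =
      ((Matrix.of fun i j => ψ (X (i, j)) : Matrix (Fin n) (Fin m) C).submatrix f' g').det := by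
  rw [AlgHom.map_det]
  congr 1

theorem mk_minor_eq_zero (f' : Fin (r + 1) → Fin n) (g' : Fin (r + 1) → Fin m) :
    Ideal.Quotient.mk (Ir k n m (r + 1)) ((Xm k n m).submatrix f' g').det = 0 :=
  Ideal.Quotient.eq_zero_iff_mem.mpr (Ideal.subset_span ⟨(f', g'), rfl⟩)

/-- **Smoothness at points where some `r`-minor is invertible.** -/
theorem formallySmooth_of_minor_notMem (P : Ideal (B k n m r)) [P.IsPrime]
    (f : Fin r → Fin n) (g : Fin r → Fin m)
    (hδ : Ideal.Quotient.mk (Ir k n m (r + 1)) ((Xm k n m).submatrix f g).det ∉ P) :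
    Algebra.FormallySmooth k (Localization.AtPrime P) := by
  classical
  refine Algebra.FormallySmooth.of_comp_surjective fun C _ _ J hJ φ => ?_
  have hJnil : IsNilpotent J := ⟨2, hJ⟩
  let toLoc : B k n m r →ₐ[k] Localization.AtPrime P := Algebra.algHom k _ _
  let ψ : R₀ k n m →ₐ[k] C ⧸ J := φ.comp (toLoc.comp (Ideal.Quotient.mkₐ k _))
  have hψ : ∀ x, ψ x = φ (algebraMap _ _ (Ideal.Quotient.mk (Ir k n m (r + 1)) x)) := fun x => rfl
  let Mb : Matrix (Fin n) (Fin m) (C ⧸ J) := Matrix.of fun i j => ψ (X (i, j))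
  have hMbminors : ∀ (f' : Fin (r + 1) → Fin n) (g' : Fin (r + 1) → Fin m),
      (Mb.submatrix f' g').det = 0 := by
    intro f' g'
    rw [← algHom_minor ψ, hψ, mk_minor_eq_zero, map_zero, map_zero]
  have hMbunit : IsUnit (Mb.submatrix f g).det := by
    rw [← algHom_minor ψ, hψ]
    exact (IsLocalization.map_units (Localization.AtPrime P)
      (⟨_, hδ⟩ : P.primeCompl)).map φ
  -- lift the entries
  have hsurj := Ideal.Quotient.mk_surjective (I := J)
  choose lft hlft using hsurj
  let M₀ : Matrix (Fin n) (Fin m) C := Matrix.of fun i j => lft (Mb i j)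
  have hM₀ : M₀.map (Ideal.Quotient.mk J) = Mb := by
    ext i j
    simp only [Matrix.map_apply, M₀, Matrix.of_apply, hlft]
  have hM₀sub : ∀ {s t : ℕ} (f' : Fin s → Fin n) (g' : Fin t → Fin m),
      (M₀.submatrix f' g').map (Ideal.Quotient.mk J) = Mb.submatrix f' g' := by
    intro s t f' g'
    rw [← hM₀]
    rfl
  have hA₀ : IsUnit (M₀.submatrix f g).det := by
    rw [← IsNilpotent.isUnit_quotient_mk_iff hJnil, RingHom.map_det, RingHom.mapMatrix_apply,
      hM₀sub]
    exact hMbunit
  let M : Matrix (Fin n) (Fin m) C :=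
    M₀.submatrix id g * (M₀.submatrix f g)⁻¹ * M₀.submatrix f id
  have hMminors : ∀ (f' : Fin (r + 1) → Fin n) (g' : Fin (r + 1) → Fin m),
      (M.submatrix f' g').det = 0 := fun f' g' =>
    minor_mul_eq_zero (M₀.submatrix id g * (M₀.submatrix f g)⁻¹) (M₀.submatrix f id) f' g'
  have hinv : ((M₀.submatrix f g)⁻¹).map (Ideal.Quotient.mk J) = (Mb.submatrix f g)⁻¹ := by
    symm
    apply Matrix.inv_eq_right_inv
    rw [← hM₀sub, ← Matrix.map_mul, Matrix.mul_nonsing_inv _ hA₀, Matrix.map_one _ (map_zero _)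
      (map_one _)]
  have hMlift : M.map (Ideal.Quotient.mk J) = Mb := by
    have e0 := eq_mul_of_minors_zero Mb hMbminors f g hMbunit
    simp only [M, Matrix.map_mul]
    rw [hinv, hM₀sub, hM₀sub]
    exact e0.symm
  -- the algebra map
  let h₀ : R₀ k n m →ₐ[k] C := aeval (fun ij : Fin n × Fin m => M ij.1 ij.2)
  have hh₀X : ∀ i j, h₀ (X (i, j)) = M i j := fun i j => by simp [h₀]
  have hkill : ∀ a ∈ Ir k n m (r + 1), h₀ a = 0 := by
    intro a ha
    have hle : Ir k n m (r + 1) ≤ RingHom.ker h₀.toRingHom := by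
      rw [Ir, CAlgX.minorIdeal, Ideal.span_le]
      rintro _ ⟨⟨f', g'⟩, rfl⟩
      change h₀ ((Xm k n m).submatrix f' g').det = 0
      rw [algHom_minor h₀]
      have : (Matrix.of fun i j => h₀ (X (i, j)) : Matrix (Fin n) (Fin m) C) = M := by
        ext i j
        exact hh₀X i j
      rw [this]
      exact hMminors f' g'
    exact hle ha
  let h : B k n m r →ₐ[k] C := Ideal.Quotient.liftₐ _ h₀ hkill
  have hcomp : (Ideal.Quotient.mkₐ k J).comp h = φ.comp toLoc := by
    apply Ideal.Quotient.algHom_ext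
    apply MvPolynomial.algHom_ext
    rintro ⟨i, j⟩
    change Ideal.Quotient.mk J (h₀ (X (i, j))) = Mb i j
    rw [hh₀X, ← hMlift]
    rfl
  have hunits : ∀ s : P.primeCompl, IsUnit (h s) := by
    intro s
    rw [← IsNilpotent.isUnit_quotient_mk_iff hJnil]
    have h1 : Ideal.Quotient.mk J (h s) = φ (toLoc s) := AlgHom.congr_fun hcomp s
    rw [h1]
    exact (IsLocalization.map_units (Localization.AtPrime P) s).map φ
  refine ⟨IsLocalization.liftAlgHom (M := P.primeCompl) (f := h) hunits, ?_⟩
  apply IsLocalization.algHom_ext P.primeCompl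
  apply AlgHom.ext
  intro x
  change Ideal.Quotient.mk J (IsLocalization.lift hunits (algebraMap _ _ x)) = φ (toLoc x)
  rw [IsLocalization.lift_eq]
  exact AlgHom.congr_fun hcomp x

end Groth.Agent.Lib.Helper52.DetC
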