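import Mathlib
import Groth.Prelude.Def_CAlgX
import Groth.Agent.Lib.Helper52.DetC

/-!
# Generic determinantal rings: non-smoothness at points of lower rank
-/

set_option autoImplicit false
set_option linter.unusedSectionVars false
set_option linter.style.haveILetI false

namespace Groth.Agent.Lib.Helper52.DetD

open MvPolynomial Matrix Groth.Agent.Lib.Helper52.DetA Groth.Agent.Lib.Helper52.DetB
  Groth.Agent.Lib.Helper52.DetC

universe u

/-- lifting along a square-zero extension from a formally smooth localization -/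
theorem exists_lift_of_formallySmooth {k A : Type*} [CommRing k] [CommRing A] [Algebra k A]
    (P : Ideal A) [P.IsPrime] [Algebra.FormallySmooth k (Localization.AtPrime P)]
    {C : Type*} [CommRing C] [Algebra k C] (J : Ideal C) (hJ : J ^ 2 = ⊥)
    (φ₀ : A →ₐ[k] C ⧸ J) (hunits : ∀ s : P.primeCompl, IsUnit (φ₀ s)) :
    ∃ ψ : A →ₐ[k] C, ∀ x, Ideal.Quotient.mk J (ψ x) = φ₀ x := by
  let φ : Localization.AtPrime P →ₐ[k] C ⧸ J :=
    IsLocalization.liftAlgHom (M := P.primeCompl) (f := φ₀) hunits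
  obtain ⟨φt, hφt⟩ := Algebra.FormallySmooth.comp_surjective k (Localization.AtPrime P) J hJ φ
  refine ⟨φt.comp (Algebra.algHom k A (Localization.AtPrime P)), fun x => ?_⟩
  have h1 : Ideal.Quotient.mk J (φt (algebraMap A (Localization.AtPrime P) x)) =
      φ (algebraMap A (Localization.AtPrime P) x) := AlgHom.congr_fun hφt _
  change Ideal.Quotient.mk J (φt (algebraMap A (Localization.AtPrime P) x)) = _
  rw [h1]
  change IsLocalization.lift hunits (algebraMap A (Localization.AtPrime P) x) = _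
  rw [IsLocalization.lift_eq]
  rfl

theorem sq_map_mk_eq_bot {Q : Type*} [CommRing Q] (IQ : Ideal Q) :
    (IQ.map (Ideal.Quotient.mk (IQ ^ 2))) ^ 2 = ⊥ := by
  rw [← Ideal.map_pow (Ideal.Quotient.mk (IQ ^ 2)) IQ 2, Ideal.map_quotient_self]

/-- **Jacobian obstruction**: at a formally smooth point of `k[X]/I`, every map `c` from the
polynomial ring to a square-zero extension that kills `I` modulo `J` satisfies a first-order
relation on `I`. -/
theorem exists_deriv_relation {k : Type*} [CommRing k] {σ : Type*} [Fintype σ] [DecidableEq σ]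
    (I : Ideal (MvPolynomial σ k)) (P : Ideal (MvPolynomial σ k ⧸ I)) [P.IsPrime]
    [Algebra.FormallySmooth k (Localization.AtPrime P)]
    {C : Type*} [CommRing C] [Algebra k C] (J : Ideal C) (hJ : J ^ 2 = ⊥)
    (c : MvPolynomial σ k →ₐ[k] C) (hcI : ∀ a ∈ I, c a ∈ J)
    (hunits : ∀ x, Ideal.Quotient.mk I x ∉ P → IsUnit (Ideal.Quotient.mk J (c x))) :
    ∃ d : σ → C, (∀ v, d v ∈ J) ∧ ∀ F ∈ I, c F = ∑ v, c (pderiv v F) * d v := by
  have hcI' : ∀ a ∈ I, ((Ideal.Quotient.mkₐ k J).comp c) a = 0 := by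
    intro a ha
    change Ideal.Quotient.mk J (c a) = 0
    rw [Ideal.Quotient.eq_zero_iff_mem]
    exact hcI a ha
  let φ₀ : (MvPolynomial σ k ⧸ I) →ₐ[k] C ⧸ J :=
    Ideal.Quotient.liftₐ I ((Ideal.Quotient.mkₐ k J).comp c) hcI'
  have hφ₀ : ∀ x, φ₀ (Ideal.Quotient.mk I x) = Ideal.Quotient.mk J (c x) := fun x => rfl
  have hunits' : ∀ s : P.primeCompl, IsUnit (φ₀ s) := by
    rintro ⟨s, hs⟩
    obtain ⟨x, rfl⟩ := Ideal.Quotient.mk_surjective s
    change IsUnit (φ₀ (Ideal.Quotient.mk I x))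
    rw [hφ₀]
    exact hunits x hs
  obtain ⟨ψ, hψ⟩ := exists_lift_of_formallySmooth P J hJ φ₀ hunits'
  let t : MvPolynomial σ k →ₐ[k] C := ψ.comp (Ideal.Quotient.mkₐ k I)
  have ht : ∀ x, t x = ψ (Ideal.Quotient.mk I x) := fun x => rfl
  have htc : ∀ F, Ideal.Quotient.mk J (t F) = Ideal.Quotient.mk J (c F) := by
    intro F
    rw [ht, hψ, hφ₀]
  have htI : ∀ f ∈ I, t f = 0 := by
    intro f hf
    rw [ht, Ideal.Quotient.eq_zero_iff_mem.mpr hf, map_zero]
  let a : σ → C := fun v => c (X v)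
  let b : σ → C := fun v => t (X v)
  have hca : c = aeval a := MvPolynomial.aeval_unique c
  have htb : t = aeval b := MvPolynomial.aeval_unique t
  have habJ : ∀ v, a v - b v ∈ J := by
    intro v
    rw [← Ideal.Quotient.eq]
    exact (htc (X v)).symm
  have hab : ∀ v w, (a v - b v) * (a w - b w) = 0 := by
    intro v w
    have h1 : (a v - b v) * (a w - b w) ∈ J ^ 2 := by
      rw [pow_two]
      exact Ideal.mul_mem_mul (habJ v) (habJ w)
    rw [hJ] at h1
    exact h1
  refine ⟨fun v => a v - b v, habJ, fun F hFI => ?_⟩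
  have h1 := aeval_taylor (k := k) a b hab F
  rw [← hca, ← htb, htI F hFI] at h1
  rw [eq_comm, ← sub_eq_zero, ← neg_eq_zero, neg_sub]
  exact h1.symm

/-- If all partial derivatives of a set of generators of `I` lie in the prime `p'` (the preimage
of a formally smooth point `P`), then `I` vanishes in the local ring at `p'`. -/
theorem map_eq_bot_of_pderiv_mem {k : Type*} [Field k] {σ : Type*} [Fintype σ] [DecidableEq σ]
    (I : Ideal (MvPolynomial σ k)) (G : Set (MvPolynomial σ k)) (hG : I = Ideal.span G)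
    (P : Ideal (MvPolynomial σ k ⧸ I)) [P.IsPrime]
    [Algebra.FormallySmooth k (Localization.AtPrime P)]
    (p' : Ideal (MvPolynomial σ k)) [p'.IsPrime] (hp' : p' = P.comap (Ideal.Quotient.mk I))
    (hpd : ∀ f ∈ G, ∀ v, pderiv v f ∈ p')
    (Q : Type*) [CommRing Q] [Algebra (MvPolynomial σ k) Q] [IsLocalization.AtPrime Q p']
    [Algebra k Q] [IsScalarTower k (MvPolynomial σ k) Q] :
    I.map (algebraMap (MvPolynomial σ k) Q) = ⊥ := by
  haveI hloc : IsLocalRing Q := IsLocalization.AtPrime.isLocalRing Q p'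
  have hIp : I ≤ p' := by
    intro x hx
    rw [hp']
    change Ideal.Quotient.mk I x ∈ P
    rw [Ideal.Quotient.eq_zero_iff_mem.mpr hx]
    exact P.zero_mem
  have hIQm : I.map (algebraMap (MvPolynomial σ k) Q) ≤ IsLocalRing.maximalIdeal Q := by
    rw [Ideal.map_le_iff_le_comap]
    intro x hx
    rw [Ideal.mem_comap, IsLocalization.AtPrime.to_map_mem_maximal_iff Q p']
    exact hIp hx
  generalize hIQ : I.map (algebraMap (MvPolynomial σ k) Q) = IQ at hIQm ⊢
  have hJ := sq_map_mk_eq_bot IQ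
  let c : MvPolynomial σ k →ₐ[k] Q ⧸ IQ ^ 2 :=
    (Ideal.Quotient.mkₐ k (IQ ^ 2)).comp (Algebra.algHom k (MvPolynomial σ k) Q)
  have hc : ∀ x, c x = Ideal.Quotient.mk (IQ ^ 2) (algebraMap _ Q x) := fun x => rfl
  have hcI : ∀ a ∈ I, c a ∈ IQ.map (Ideal.Quotient.mk (IQ ^ 2)) := by
    intro a ha
    rw [hc, ← hIQ]
    exact Ideal.mem_map_of_mem _ (Ideal.mem_map_of_mem _ ha)
  have hunits : ∀ x, Ideal.Quotient.mk I x ∉ P →
      IsUnit (Ideal.Quotient.mk (IQ.map (Ideal.Quotient.mk (IQ ^ 2))) (c x)) := by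
    intro x hx
    have hx' : x ∈ p'.primeCompl := by
      change x ∉ p'
      rw [hp']
      exact hx
    rw [hc]
    exact ((IsLocalization.map_units Q ⟨x, hx'⟩).map (Ideal.Quotient.mk (IQ ^ 2))).map
      (Ideal.Quotient.mk _)
  obtain ⟨d, hdJ, hd⟩ := exists_deriv_relation I P _ hJ c hcI hunits
  have hsurj : ∀ v, ∃ e ∈ IQ, Ideal.Quotient.mk (IQ ^ 2) e = d v := by
    intro v
    exact (Ideal.mem_map_iff_of_surjective _ Ideal.Quotient.mk_surjective).mp (hdJ v)
  choose e heIQ he using hsurj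
  have key : ∀ F ∈ G, algebraMap (MvPolynomial σ k) Q F ∈ IsLocalRing.maximalIdeal Q * IQ := by
    intro F hFG
    have hFI : F ∈ I := by
      rw [hG]
      exact Ideal.subset_span hFG
    have h2 := hd F hFI
    have h3 : Ideal.Quotient.mk (IQ ^ 2)
        (algebraMap _ Q F - ∑ v, algebraMap _ Q (pderiv v F) * e v) = 0 := by
      rw [map_sub, map_sum, ← hc, h2, sub_eq_zero]
      refine Finset.sum_congr rfl fun v _ => ?_
      rw [map_mul, he, hc]
    rw [Ideal.Quotient.eq_zero_iff_mem] at h3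
    have h4 : ∑ v, algebraMap _ Q (pderiv v F) * e v ∈ IsLocalRing.maximalIdeal Q * IQ := by
      refine Ideal.sum_mem _ fun v _ => Ideal.mul_mem_mul ?_ (heIQ v)
      rw [IsLocalization.AtPrime.to_map_mem_maximal_iff Q p']
      exact hpd F hFG v
    have h5 : IQ ^ 2 ≤ IsLocalRing.maximalIdeal Q * IQ := by
      rw [pow_two]
      exact Ideal.mul_mono_left hIQm
    have h6 := Ideal.add_mem _ (h5 h3) h4
    rwa [sub_add_cancel] at h6
  have hle : IQ ≤ IsLocalRing.maximalIdeal Q • IQ := by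
    have h1 : I.map (algebraMap (MvPolynomial σ k) Q) ≤ IsLocalRing.maximalIdeal Q * IQ := by
      rw [hG, Ideal.map_span, Ideal.span_le]
      rintro _ ⟨F, hF, rfl⟩
      exact key F hF
    rw [hIQ] at h1
    exact h1
  haveI : IsNoetherianRing Q := IsLocalization.isNoetherianRing p'.primeCompl Q inferInstance
  have hfg : (IQ : Submodule Q Q).FG := IsNoetherian.noetherian _
  exact Submodule.eq_bot_of_le_smul_of_le_jacobson_bot (IsLocalRing.maximalIdeal Q) IQ hfg hle
      (IsLocalRing.jacobson_eq_maximalIdeal ⊥ bot_ne_top).ge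

variable {k : Type u} [Field k] {n m r : ℕ}

/-- **Non-smoothness at points where all `r`-minors vanish.** -/
theorem not_formallySmooth (hr : r + 1 ≤ min n m) (P : Ideal (B k n m r)) [P.IsPrime]
    (hP : (Ir k n m r).map (Ideal.Quotient.mk (Ir k n m (r + 1))) ≤ P) :
    ¬ Algebra.FormallySmooth k (Localization.AtPrime P) := by
  classical
  intro hsm
  let p' : Ideal (R₀ k n m) := P.comap (Ideal.Quotient.mk (Ir k n m (r + 1)))
  haveI hp'prime : p'.IsPrime := Ideal.comap_isPrime _ _
  have hIrp : Ir k n m r ≤ p' := by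
    intro x hx
    exact hP (Ideal.mem_map_of_mem _ hx)
  have hbot := map_eq_bot_of_pderiv_mem (Ir k n m (r + 1))
    (Set.range fun fg : (Fin (r + 1) → Fin n) × (Fin (r + 1) → Fin m) =>
      ((Xm k n m).submatrix fg.1 fg.2).det) rfl P p' rfl
    (by
      rintro _ ⟨⟨f', g'⟩, rfl⟩ v
      exact hIrp (pderiv_minor_mem k n m r f' g' v))
    (Localization.AtPrime p')
  obtain ⟨f', g', hne⟩ := exists_minor_ne_zero k n m (r + 1) hr
  apply hne
  have h0 : algebraMap (R₀ k n m) (Localization.AtPrime p')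
      ((Xm k n m).submatrix f' g').det = 0 := by
    have h1 : algebraMap (R₀ k n m) (Localization.AtPrime p') ((Xm k n m).submatrix f' g').det ∈
        (Ir k n m (r + 1)).map (algebraMap (R₀ k n m) (Localization.AtPrime p')) :=
      Ideal.mem_map_of_mem _ (Ideal.subset_span ⟨(f', g'), rfl⟩)
    rw [hbot] at h1
    exact h1
  exact IsLocalization.injective (Localization.AtPrime p')
    (Ideal.primeCompl_le_nonZeroDivisors p') (by rw [h0, map_zero])

end Groth.Agent.Lib.Helper52.DetD
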