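import Mathlib
import Groth.Agent.Lib.Helper59.BrauerCalc

/-!
# Regular (separable, maximal degree) elements of central simple algebras

* `finrank_centralizer_le`: an endomorphism of an `n`-dimensional space with `n` distinct
  eigenvalues has centralizer of dimension `≤ n`.
* `centralizer_eq_adjoin`: in a central simple algebra `A` of dimension `r²` over `k`, if `k[x]`
  is étale of dimension `r`, then the centralizer of `x` is `k[x]`.
-/

set_option autoImplicit false
set_option linter.style.haveILetI false

namespace Groth.Agent.Lib.Helper52.RegularCSA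

open Polynomial TensorProduct

section EndLemma

variable {K : Type*} [Field K] {V : Type*} [AddCommGroup V] [Module K V] [FiniteDimensional K V]

/-- An endomorphism with `dim V` distinct eigenvalues has centralizer of dimension `≤ dim V`. -/
theorem finrank_centralizer_le (f : Module.End K V) {ι : Type*} [Fintype ι] (μ : ι → K)
    (hμ : Function.Injective μ) (hev : ∀ i, f.HasEigenvalue (μ i))
    (hcard : Fintype.card ι = Module.finrank K V) :
    Module.finrank K (Subalgebra.centralizer K ({f} : Set (Module.End K V))) ≤
      Module.finrank K V := by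
  classical
  rcases isEmpty_or_nonempty ι with hι | hι
  · have h0 : Module.finrank K V = 0 := by rw [← hcard]; exact Fintype.card_eq_zero
    haveI : Subsingleton V := Module.finrank_zero_iff.mp h0
    haveI : Subsingleton (Module.End K V) := ⟨fun a b => LinearMap.ext fun x => Subsingleton.elim _ _⟩
    rw [Module.finrank_zero_of_subsingleton]
    exact Nat.zero_le _
  choose v hv using fun i => (hev i).exists_hasEigenvector
  have hli : LinearIndependent K v := Module.End.eigenvectors_linearIndependent' f μ hμ v hv
  let b : Module.Basis ι K V := basisOfLinearIndependentOfCardEqFinrank hli hcard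
  have hb : ∀ i, b i = v i := fun i => by
    simp [b, coe_basisOfLinearIndependentOfCardEqFinrank]
  have hfb : ∀ i, f (b i) = μ i • b i := fun i => by
    rw [hb]; exact (hv i).apply_eq_smul
  -- coordinates of `f w`
  have hcoord : ∀ (j : ι) (w : V), b.coord j (f w) = μ j * b.coord j w := by
    intro j
    have : (b.coord j) ∘ₗ f = μ j • b.coord j := by
      apply b.ext
      intro l
      simp only [LinearMap.comp_apply, LinearMap.smul_apply, hfb, map_smul, smul_eq_mul,
        Module.Basis.coord_apply, Module.Basis.repr_self]
      by_cases hjl : l = j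
      · subst hjl; simp
      · simp [Finsupp.single_eq_of_ne' hjl]
    intro w
    have := LinearMap.congr_fun this w
    simpa using this
  let Φ : Subalgebra.centralizer K ({f} : Set (Module.End K V)) →ₗ[K] (ι → K) :=
    { toFun := fun Z i => b.coord i ((Z : Module.End K V) (b i))
      map_add' := fun Z W => by ext i; simp
      map_smul' := fun c Z => by ext i; simp }
  have hΦ : Function.Injective Φ := by
    rw [← LinearMap.ker_eq_bot, LinearMap.ker_eq_bot']
    intro Z hZ
    apply Subtype.ext
    apply b.ext
    intro i
    have hZf : f * (Z : Module.End K V) = (Z : Module.End K V) * f :=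
      (Subalgebra.mem_centralizer_iff K).mp Z.2 f rfl
    set w := (Z : Module.End K V) (b i) with hw
    have hfw : f w = μ i • w := by
      have := LinearMap.congr_fun hZf (b i)
      simp only [Module.End.mul_apply] at this
      rw [hw, this, hfb, map_smul]
    show w = (0 : Module.End K V) (b i)
    rw [LinearMap.zero_apply]
    apply b.ext_elem
    intro j
    rw [map_zero, Finsupp.zero_apply]
    by_cases hji : j = i
    · subst hji
      have := congrFun hZ j
      simpa [Φ] using this
    · have h1 := hcoord j w
      rw [hfw, map_smul, smul_eq_mul] at h1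
      have h2 : (μ i - μ j) * b.coord j w = 0 := by rw [sub_mul, h1, sub_self]
      rcases mul_eq_zero.mp h2 with h3 | h3
      · exact absurd (hμ (sub_eq_zero.mp h3)) (Ne.symm hji)
      · simpa using h3
  have := LinearMap.finrank_le_finrank_of_injective hΦ
  rwa [Module.finrank_pi, hcard] at this

/-- Over an algebraically closed field, an endomorphism whose minimal polynomial is separable of
degree `dim V` has centralizer of dimension `≤ dim V`. -/
theorem finrank_centralizer_le_of_separable [IsAlgClosed K] (f : Module.End K V)
    (hsep : (minpoly K f).Separable) (hdeg : (minpoly K f).natDegree = Module.finrank K V) :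
    Module.finrank K (Subalgebra.centralizer K ({f} : Set (Module.End K V))) ≤
      Module.finrank K V := by
  classical
  refine finrank_centralizer_le f (ι := (minpoly K f).rootSet K) (fun a => (a : K))
    Subtype.val_injective ?_ ?_
  · rintro ⟨a, ha⟩
    apply Module.End.hasEigenvalue_of_isRoot
    rw [Polynomial.mem_rootSet] at ha
    simpa [IsRoot, Polynomial.coe_aeval_eq_eval] using ha.2
  · rw [Polynomial.card_rootSet_eq_natDegree hsep (IsAlgClosed.splits_domain _), hdeg]

end EndLemma

section Powers

variable {k : Type*} [Field k] {A : Type*} [Ring A] [Algebra k A]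

/-- If the first `m` powers of `y` are linearly independent then the minimal polynomial has degree
at least `m`. -/
theorem le_natDegree_minpoly_of_linearIndependent {y : A} (hy : IsIntegral k y) {m : ℕ}
    (h : LinearIndependent k (fun i : Fin m => y ^ (i : ℕ))) : m ≤ (minpoly k y).natDegree := by
  by_contra hlt
  rw [not_le] at hlt
  have h0 : Polynomial.aeval y (minpoly k y) = 0 := minpoly.aeval k y
  rw [Polynomial.aeval_eq_sum_range' hlt, ← Fin.sum_univ_eq_sum_range
    (fun i => (minpoly k y).coeff i • y ^ i) m] at h0
  have := Fintype.linearIndependent_iff.mp h (fun i => (minpoly k y).coeff i) h0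
    ⟨(minpoly k y).natDegree, hlt⟩
  have h1 : (minpoly k y).coeff (minpoly k y).natDegree = 1 := (minpoly.monic hy).coeff_natDegree
  rw [h1] at this
  exact one_ne_zero this

/-- The powers `x^i`, `i < deg minpoly`, span `k[x]`. -/
theorem span_pow_eq_adjoin {x : A} (hx : IsIntegral k x) :
    Submodule.span k (Set.range fun i : Fin (minpoly k x).natDegree => x ^ (i : ℕ)) =
      Subalgebra.toSubmodule (Algebra.adjoin k ({x} : Set A)) := by
  apply le_antisymm
  · rw [Submodule.span_le]
    rintro _ ⟨i, rfl⟩
    exact Subalgebra.pow_mem _ (Algebra.self_mem_adjoin_singleton k x) _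
  · intro y hy
    rw [Subalgebra.mem_toSubmodule, Algebra.adjoin_singleton_eq_range_aeval] at hy
    obtain ⟨p, rfl⟩ := hy
    exact hx.mem_span_pow ⟨p, rfl⟩

theorem natDegree_minpoly_eq_finrank_adjoin {x : A} (hx : IsIntegral k x) :
    (minpoly k x).natDegree = Module.finrank k (Algebra.adjoin k ({x} : Set A)) := by
  have h1 := finrank_span_eq_card (linearIndependent_pow (K := k) x)
  rw [Fintype.card_fin, span_pow_eq_adjoin hx] at h1
  exact h1.symm

/-- variant with the degree named `r` -/
theorem linearIndependent_pow_of_finrank {x : A} (hx : IsIntegral k x) {r : ℕ}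
    (hrk : Module.finrank k (Algebra.adjoin k ({x} : Set A)) = r) :
    LinearIndependent k (fun i : Fin r => x ^ (i : ℕ)) := by
  have hdeg : (minpoly k x).natDegree = r := by rw [natDegree_minpoly_eq_finrank_adjoin hx, hrk]
  subst hdeg
  exact linearIndependent_pow x

theorem span_pow_eq_adjoin_of_finrank {x : A} (hx : IsIntegral k x) {r : ℕ}
    (hrk : Module.finrank k (Algebra.adjoin k ({x} : Set A)) = r) :
    Submodule.span k (Set.range fun i : Fin r => x ^ (i : ℕ)) =
      Subalgebra.toSubmodule (Algebra.adjoin k ({x} : Set A)) := by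
  have hdeg : (minpoly k x).natDegree = r := by rw [natDegree_minpoly_eq_finrank_adjoin hx, hrk]
  subst hdeg
  exact span_pow_eq_adjoin hx

end Powers

section CSA

universe u v w

open Groth.Agent.Lib.Helper59.TPow Groth.Agent.Lib.Helper59.BrauerCalc

/-- A central simple algebra over an algebraically closed field is split. -/
theorem isSplit_of_isAlgClosed {Ω : Type u} [Field Ω] [IsAlgClosed Ω] {B : Type v} [Ring B]
    [Algebra Ω B] (hB : IsCSA Ω B) : IsSplit Ω B := by
  obtain ⟨m, hm, D, _, _, _, ⟨e⟩⟩ := exists_matrix_of_isCSA hB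
  haveI : Algebra.IsIntegral Ω D := Algebra.IsIntegral.of_finite Ω D
  have hbij : Function.Bijective (algebraMap Ω D) :=
    IsAlgClosed.algebraMap_bijective_of_isIntegral
  let g : Ω ≃ₐ[Ω] D := AlgEquiv.ofBijective (Algebra.ofId Ω D) hbij
  exact ⟨m, NeZero.ne m, ⟨e.trans (AlgEquiv.mapMatrix g.symm)⟩⟩

/-- Dimension bound for the centralizer, computed over an algebraically closed extension. -/
theorem finrank_centralizer_le_of_isAlgClosed {k : Type u} [Field k] {A : Type v} [Ring A]
    [Algebra k A] (Ω : Type w) [Field Ω] [Algebra k Ω] [IsAlgClosed Ω]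
    (hA : IsCSA k A) {r : ℕ} (hr : Module.finrank k A = r ^ 2) (x : A)
    (hsep : Algebra.IsSeparable k (Algebra.adjoin k ({x} : Set A)))
    (hrk : Module.finrank k (Algebra.adjoin k ({x} : Set A)) = r) :
    Module.finrank k (Subalgebra.centralizer k ({x} : Set A)) ≤ r := by
  classical
  haveI := hA.fd
  have hx : IsIntegral k x := IsIntegral.of_finite k x
  have hdeg : (minpoly k x).natDegree = r := by rw [natDegree_minpoly_eq_finrank_adjoin hx, hrk]
  have hpsep : (minpoly k x).Separable := by
    have h1 := Algebra.IsSeparable.isSeparable k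
      (⟨x, Algebra.self_mem_adjoin_singleton k x⟩ : Algebra.adjoin k ({x} : Set A))
    have h2 := minpoly.algHom_eq (Algebra.adjoin k ({x} : Set A)).val Subtype.val_injective
      ⟨x, Algebra.self_mem_adjoin_singleton k x⟩
    rw [IsSeparable, ← h2] at h1
    exact h1
  have hB : IsCSA Ω (Ω ⊗[k] A) := hA.baseChange Ω
  obtain ⟨n, hn, ⟨e⟩⟩ := isSplit_of_isAlgClosed hB
  have hnr : n = r := by
    have h1 : Module.finrank Ω (Ω ⊗[k] A) = r ^ 2 := by rw [Module.finrank_baseChange, hr]
    rw [e.toLinearEquiv.finrank_eq, Module.finrank_matrix, Fintype.card_fin, Module.finrank_self,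
      mul_one, ← sq] at h1
    exact Nat.pow_left_injective (by norm_num : 2 ≠ 0) h1
  have hnr' : r = n := hnr.symm
  subst hnr'
  let e' : (Ω ⊗[k] A) ≃ₐ[Ω] Module.End Ω (Fin r → Ω) := e.trans Matrix.toLinAlgEquiv'
  obtain ⟨X, hX⟩ : ∃ X : Ω ⊗[k] A, X = (1 : Ω) ⊗ₜ[k] x := ⟨_, rfl⟩
  obtain ⟨f, hf⟩ : ∃ f : Module.End Ω (Fin r → Ω), f = e' X := ⟨_, rfl⟩
  have hfint : IsIntegral Ω f := IsIntegral.of_finite Ω f
  -- independence of the powers of `f`
  have hli : LinearIndependent Ω (fun i : Fin r => f ^ (i : ℕ)) := by
    have h1 : LinearIndependent k (fun i : Fin r => x ^ (i : ℕ)) :=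
      linearIndependent_pow_of_finrank hx hrk
    have h2 := Module.Flat.linearIndependent_one_tmul (S := Ω) h1
    have hfun : (fun i : Fin r => f ^ (i : ℕ)) =
        e'.toLinearMap ∘ (fun i : Fin r => (1 : Ω) ⊗ₜ[k] (x ^ (i : ℕ))) := by
      funext i
      simp only [Function.comp_apply, AlgEquiv.toLinearMap_apply, hf, hX, ← map_pow,
        Algebra.TensorProduct.tmul_pow, one_pow]
    rw [hfun]
    exact h2.map' e'.toLinearMap (LinearMap.ker_eq_bot.mpr e'.injective)
  have hle : r ≤ (minpoly Ω f).natDegree := le_natDegree_minpoly_of_linearIndependent hfint hli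
  have haeval : Polynomial.aeval f ((minpoly k x).map (algebraMap k Ω)) = 0 := by
    have h1 : f = (e' : (Ω ⊗[k] A) →ₐ[Ω] Module.End Ω (Fin r → Ω)) X := hf
    rw [h1, Polynomial.aeval_algHom_apply, Polynomial.aeval_map_algebraMap]
    have : X = (Algebra.TensorProduct.includeRight : A →ₐ[k] Ω ⊗[k] A) x := hX
    rw [this, Polynomial.aeval_algHom_apply, minpoly.aeval, map_zero, map_zero]
  have hdvd : minpoly Ω f ∣ (minpoly k x).map (algebraMap k Ω) := minpoly.dvd Ω f haeval
  have hsepf : (minpoly Ω f).Separable := (hpsep.map).of_dvd hdvd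
  have hdegf : (minpoly Ω f).natDegree = Module.finrank Ω (Fin r → Ω) := by
    rw [Module.finrank_fin_fun]
    apply le_antisymm _ hle
    have := Polynomial.natDegree_le_of_dvd hdvd
      (Polynomial.map_ne_zero (minpoly.ne_zero hx))
    rwa [Polynomial.natDegree_map, hdeg] at this
  have hcent := finrank_centralizer_le_of_separable f hsepf hdegf
  rw [Module.finrank_fin_fun] at hcent
  -- the centralizer of `x` base changes into the centralizer of `f`
  obtain ⟨C, hC⟩ : ∃ C : Submodule k A,
    C = Subalgebra.toSubmodule (Subalgebra.centralizer k ({x} : Set A)) := ⟨_, rfl⟩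
  let g : Ω ⊗[k] C →ₗ[Ω] Module.End Ω (Fin r → Ω) :=
    e'.toLinearMap ∘ₗ (C.subtype.baseChange Ω)
  have hg : Function.Injective g := by
    refine e'.injective.comp ?_
    exact Module.Flat.lTensor_preserves_injective_linearMap C.subtype C.injective_subtype
  have hrange : LinearMap.range g ≤
      Subalgebra.toSubmodule (Subalgebra.centralizer Ω ({f} : Set (Module.End Ω (Fin r → Ω)))) := by
    rintro _ ⟨t, rfl⟩
    induction t using TensorProduct.induction_on with
    | zero => rw [map_zero]; exact Submodule.zero_mem _
    | add a b ha hb => rw [map_add]; exact Submodule.add_mem _ ha hb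
    | tmul c z =>
      rw [Subalgebra.mem_toSubmodule, Subalgebra.mem_centralizer_iff]
      intro y hy
      rw [Set.mem_singleton_iff] at hy
      rw [hy]
      have hz : x * (z : A) = (z : A) * x := by
        have hz' : (z : A) ∈ Subalgebra.centralizer k ({x} : Set A) := hC.le z.2
        exact (Subalgebra.mem_centralizer_iff k).mp hz' x rfl
      show f * e' (c ⊗ₜ[k] (z : A)) = e' (c ⊗ₜ[k] (z : A)) * f
      rw [hf, ← map_mul, ← map_mul, hX, Algebra.TensorProduct.tmul_mul_tmul,
        Algebra.TensorProduct.tmul_mul_tmul, hz, one_mul, mul_one]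
  have h1 : Module.finrank Ω (Ω ⊗[k] C) = Module.finrank k C := Module.finrank_baseChange
  show Module.finrank k (Subalgebra.toSubmodule (Subalgebra.centralizer k ({x} : Set A))) ≤ r
  rw [← hC, ← h1, ← LinearMap.finrank_range_of_inj hg]
  exact (Submodule.finrank_mono hrange).trans hcent

/-- In a central simple algebra of dimension `r²`, an element generating an étale subalgebra of
dimension `r` is self-centralizing: its centralizer is `k[x]`. -/
theorem centralizer_eq_adjoin {k : Type u} [Field k] {A : Type v} [Ring A] [Algebra k A]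
    (hA : IsCSA k A) {r : ℕ} (hr : Module.finrank k A = r ^ 2) (x : A)
    (hsep : Algebra.IsSeparable k (Algebra.adjoin k ({x} : Set A)))
    (hrk : Module.finrank k (Algebra.adjoin k ({x} : Set A)) = r) :
    Subalgebra.centralizer k ({x} : Set A) = Algebra.adjoin k {x} := by
  haveI := hA.fd
  have hCle := finrank_centralizer_le_of_isAlgClosed (AlgebraicClosure k) hA hr x hsep hrk
  have hle' : Algebra.adjoin k ({x} : Set A) ≤ Subalgebra.centralizer k ({x} : Set A) := by
    apply Algebra.adjoin_le
    rintro _ rfl
    exact (Subalgebra.mem_centralizer_iff k).mpr (fun y hy => by rw [Set.mem_singleton_iff.mp hy])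
  apply Subalgebra.toSubmodule_injective
  symm
  apply Submodule.eq_of_le_of_finrank_le hle'
  show Module.finrank k (Subalgebra.centralizer k ({x} : Set A)) ≤
    Module.finrank k (Algebra.adjoin k ({x} : Set A))
  rw [hrk]
  exact hCle

end CSA

end Groth.Agent.Lib.Helper52.RegularCSA
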