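import Mathlib
import Groth.Agent.Lib.Helper52.RegularCSA

/-!
# Existence of regular (étale, maximal degree) elements in central simple algebras
-/

set_option autoImplicit false
set_option linter.style.haveILetI false

namespace Groth.Agent.Lib.Helper52.RegularExists

open Polynomial TensorProduct Groth.Agent.Lib.Helper52.RegularCSA

section Minpoly

variable {k : Type*} [Field k] (Ω : Type*) [Field Ω] [Algebra k Ω]
  {A : Type*} [Ring A] [Algebra k A]

theorem isIntegral_one_tmul {y : A} (hy : IsIntegral k y) :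
    IsIntegral Ω ((1 : Ω) ⊗ₜ[k] y : Ω ⊗[k] A) := by
  have h1 : IsIntegral k ((Algebra.TensorProduct.includeRight : A →ₐ[k] Ω ⊗[k] A) y) :=
    hy.map _
  exact h1.tower_top

theorem aeval_one_tmul (y : A) (p : k[X]) :
    Polynomial.aeval ((1 : Ω) ⊗ₜ[k] y : Ω ⊗[k] A) (p.map (algebraMap k Ω)) =
      (1 : Ω) ⊗ₜ[k] (Polynomial.aeval y p) := by
  rw [Polynomial.aeval_map_algebraMap]
  have : ((1 : Ω) ⊗ₜ[k] y : Ω ⊗[k] A) =
    (Algebra.TensorProduct.includeRight : A →ₐ[k] Ω ⊗[k] A) y := rfl
  rw [this, Polynomial.aeval_algHom_apply]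
  rfl

/-- The minimal polynomial is compatible with extension of the base field. -/
theorem minpoly_one_tmul {y : A} (hy : IsIntegral k y) :
    minpoly Ω ((1 : Ω) ⊗ₜ[k] y : Ω ⊗[k] A) = (minpoly k y).map (algebraMap k Ω) := by
  have hY := isIntegral_one_tmul Ω hy
  have h0 : Polynomial.aeval ((1 : Ω) ⊗ₜ[k] y : Ω ⊗[k] A)
      ((minpoly k y).map (algebraMap k Ω)) = 0 := by
    rw [aeval_one_tmul, minpoly.aeval, TensorProduct.tmul_zero]
  have hdvd := minpoly.dvd Ω _ h0
  have hli : LinearIndependent Ω
      (fun i : Fin (minpoly k y).natDegree => ((1 : Ω) ⊗ₜ[k] y : Ω ⊗[k] A) ^ (i : ℕ)) := by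
    have h2 := Module.Flat.linearIndependent_one_tmul (S := Ω) (linearIndependent_pow (K := k) y)
    have hfun : (fun i : Fin (minpoly k y).natDegree => ((1 : Ω) ⊗ₜ[k] y : Ω ⊗[k] A) ^ (i : ℕ)) =
        (fun i : Fin (minpoly k y).natDegree => (1 : Ω) ⊗ₜ[k] (y ^ (i : ℕ))) := by
      funext i
      rw [Algebra.TensorProduct.tmul_pow, one_pow]
    rw [hfun]
    exact h2
  have hle := le_natDegree_minpoly_of_linearIndependent hY hli
  refine (Polynomial.eq_of_monic_of_dvd_of_natDegree_le (minpoly.monic hY)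
    ((minpoly.monic hy).map _) hdvd ?_).symm
  rw [Polynomial.natDegree_map]
  exact hle

end Minpoly

section Squarefree

variable {Ω : Type*} [Field Ω] {B : Type*} [Ring B] [Algebra Ω B]

/-- If `z` has squarefree minimal polynomial, so does every polynomial expression in `z`. -/
theorem squarefree_minpoly_aeval {z : B} (hz : Squarefree (minpoly Ω z)) (g : Polynomial Ω)
    (hw : IsIntegral Ω (Polynomial.aeval z g)) : Squarefree (minpoly Ω (Polynomial.aeval z g)) := by
  intro h hh
  obtain ⟨h', hq⟩ := hh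
  have hq0 : minpoly Ω (Polynomial.aeval z g) ≠ 0 := minpoly.ne_zero hw
  have hN2 : Polynomial.aeval z (((h * h').comp g) ^ 2) = 0 := by
    rw [← Polynomial.pow_comp, Polynomial.aeval_comp]
    have : (h * h') ^ 2 = minpoly Ω (Polynomial.aeval z g) * h' := by rw [hq]; ring
    rw [this, map_mul, minpoly.aeval, zero_mul]
  have h1 : minpoly Ω z ∣ ((h * h').comp g) ^ 2 := minpoly.dvd Ω z hN2
  have h2 : minpoly Ω z ∣ (h * h').comp g := (hz.dvd_pow_iff_dvd (by norm_num)).mp h1
  have h3 : Polynomial.aeval (Polynomial.aeval z g) (h * h') = 0 := by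
    rw [← Polynomial.aeval_comp]
    obtain ⟨c, hc⟩ := h2
    rw [hc, map_mul, minpoly.aeval, zero_mul]
  have h4 : minpoly Ω (Polynomial.aeval z g) ∣ h * h' := minpoly.dvd Ω _ h3
  have hne : h * h' ≠ 0 := by
    intro h0
    apply hq0
    rw [hq, mul_assoc, h0, mul_zero]
  rw [hq, mul_assoc] at h4
  have h5 : h * (h * h') ∣ 1 * (h * h') := by rwa [one_mul]
  exact isUnit_of_dvd_one ((mul_dvd_mul_iff_right hne).mp h5)

end Squarefree

section Criterion

universe u v w

/-- A matrix over an algebraically closed field with separable characteristic polynomial has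
minimal polynomial equal to its characteristic polynomial. -/
theorem minpoly_eq_charpoly_of_separable {Ω : Type w} [Field Ω] [IsAlgClosed Ω] {r : ℕ}
    (M : Matrix (Fin r) (Fin r) Ω) (hM : M.charpoly.Separable) : minpoly Ω M = M.charpoly := by
  have hdvd : minpoly Ω M ∣ M.charpoly := Matrix.minpoly_dvd_charpoly M
  have hint : IsIntegral Ω M := Matrix.isIntegral M
  have hdvd' : M.charpoly ∣ minpoly Ω M := by
    rw [IsAlgClosed.dvd_iff_roots_le_roots M.charpoly_monic.ne_zero (minpoly.ne_zero hint),
      Multiset.le_iff_subset (Polynomial.nodup_roots hM)]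
    intro a ha
    rw [Polynomial.mem_roots M.charpoly_monic.ne_zero] at ha
    rw [Polynomial.mem_roots (minpoly.ne_zero hint), ← Matrix.minpoly_toLin']
    apply Module.End.isRoot_of_hasEigenvalue
    rw [Module.End.hasEigenvalue_iff_isRoot_charpoly, Matrix.charpoly_toLin']
    exact ha
  exact Polynomial.eq_of_monic_of_associated (minpoly.monic hint) M.charpoly_monic
    (associated_of_dvd_dvd hdvd hdvd')

variable {k : Type u} [Field k] {A : Type v} [Ring A] [Algebra k A]
  (Ω : Type w) [Field Ω] [Algebra k Ω] [IsAlgClosed Ω]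

/-- Regularity criterion: if `1 ⊗ x` corresponds to a matrix with separable characteristic
polynomial under a splitting `Ω ⊗ A ≅ M_r(Ω)`, then `k[x]` is étale of dimension `r`. -/
theorem isSeparable_adjoin_of_charpoly_separable [FiniteDimensional k A] {r : ℕ}
    (e : (Ω ⊗[k] A) ≃ₐ[Ω] Matrix (Fin r) (Fin r) Ω) (x : A)
    (hx : (e ((1 : Ω) ⊗ₜ[k] x)).charpoly.Separable) :
    Algebra.IsSeparable k (Algebra.adjoin k ({x} : Set A)) ∧
      Module.finrank k (Algebra.adjoin k ({x} : Set A)) = r := by
  have hxint : IsIntegral k x := IsIntegral.of_finite k x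
  have h1 : minpoly Ω ((1 : Ω) ⊗ₜ[k] x : Ω ⊗[k] A) = (e ((1 : Ω) ⊗ₜ[k] x)).charpoly := by
    rw [← minpoly_eq_charpoly_of_separable _ hx, minpoly.algEquiv_eq]
  have h2 : (minpoly k x).map (algebraMap k Ω) = (e ((1 : Ω) ⊗ₜ[k] x)).charpoly := by
    rw [← minpoly_one_tmul Ω hxint, h1]
  have hsep : (minpoly k x).Separable := by
    rw [← Polynomial.separable_map (algebraMap k Ω), h2]
    exact hx
  have hdeg : (minpoly k x).natDegree = r := by
    rw [← Polynomial.natDegree_map (algebraMap k Ω), h2, Matrix.charpoly_natDegree_eq_dim,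
      Fintype.card_fin]
  refine ⟨⟨?_⟩, by rw [← natDegree_minpoly_eq_finrank_adjoin hxint, hdeg]⟩
  rintro ⟨y, hy⟩
  have hyint : IsIntegral k y := IsIntegral.of_finite k y
  have hmp : minpoly k (⟨y, hy⟩ : Algebra.adjoin k ({x} : Set A)) = minpoly k y :=
    (minpoly.algHom_eq (Algebra.adjoin k ({x} : Set A)).val Subtype.val_injective ⟨y, hy⟩).symm
  rw [IsSeparable, hmp]
  rw [Algebra.adjoin_singleton_eq_range_aeval] at hy
  obtain ⟨g, hg⟩ := hy
  have hg' : y = Polynomial.aeval x g := hg.symm
  subst hg'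
  rw [← Polynomial.separable_map (algebraMap k Ω), ← minpoly_one_tmul Ω hyint,
    PerfectField.separable_iff_squarefree]
  have h3 : ((1 : Ω) ⊗ₜ[k] (Polynomial.aeval x g) : Ω ⊗[k] A) =
      Polynomial.aeval ((1 : Ω) ⊗ₜ[k] x : Ω ⊗[k] A) (g.map (algebraMap k Ω)) :=
    (aeval_one_tmul Ω x g).symm
  have hsq : Squarefree (minpoly Ω ((1 : Ω) ⊗ₜ[k] x : Ω ⊗[k] A)) := by
    rw [h1]; exact hx.squarefree
  have hw : IsIntegral Ω ((1 : Ω) ⊗ₜ[k] (Polynomial.aeval x g) : Ω ⊗[k] A) :=
    isIntegral_one_tmul Ω hyint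
  rw [h3] at hw ⊢
  exact squarefree_minpoly_aeval hsq _ hw

end Criterion

section Generic

universe u v w

/-- Separability of a monic polynomial via a resultant with prescribed size. -/
theorem separable_iff_resultant_ne_zero {K : Type*} [Field K] {f : Polynomial K} (hf : f.Monic)
    {n : ℕ} (hn : (Polynomial.derivative f).natDegree ≤ n) :
    f.Separable ↔ Polynomial.resultant f (Polynomial.derivative f) f.natDegree n ≠ 0 := by
  obtain ⟨j, rfl⟩ := Nat.exists_eq_add_of_le hn
  rw [Polynomial.resultant_add_right_deg _ _ _ _ j le_rfl, Polynomial.coeff_natDegree,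
    hf.leadingCoeff, one_pow, one_mul, ← isUnit_iff_ne_zero,
    Polynomial.isUnit_resultant_iff_isCoprime hf]
  rfl

variable {k : Type u} [Field k] {A : Type v} [Ring A] [Algebra k A] [FiniteDimensional k A]
  (Ω : Type w) [Field Ω] [Algebra k Ω] [IsAlgClosed Ω]

/-- Over an infinite field, a split form of a matrix algebra has an element whose associated matrix
has separable characteristic polynomial. -/
theorem exists_charpoly_separable [Infinite k] {r : ℕ}
    (e : (Ω ⊗[k] A) ≃ₐ[Ω] Matrix (Fin r) (Fin r) Ω) :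
    ∃ x : A, (e ((1 : Ω) ⊗ₜ[k] x)).charpoly.Separable := by
  classical
  obtain ⟨ι, _, ⟨b⟩⟩ : ∃ (ι : Type v) (_ : Fintype ι), Nonempty (Module.Basis ι k A) := by
    obtain ⟨s, ⟨b⟩⟩ := Module.Basis.exists_basis k A
    haveI : Fintype s := FiniteDimensional.fintypeBasisIndex b
    exact ⟨s, inferInstance, ⟨b⟩⟩
  let B : ι → Matrix (Fin r) (Fin r) Ω := fun i => e ((1 : Ω) ⊗ₜ[k] b i)
  let Mt : (ι → Ω) → Matrix (Fin r) (Fin r) Ω := fun t => ∑ i, t i • B i
  let G : Matrix (Fin r) (Fin r) (MvPolynomial ι Ω) :=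
    ∑ i, (MvPolynomial.X i : MvPolynomial ι Ω) • (B i).map (MvPolynomial.C)
  let F : MvPolynomial ι Ω :=
    Polynomial.resultant G.charpoly (Polynomial.derivative G.charpoly) r (r - 1)
  have hGmap : ∀ t : ι → Ω, G.map (MvPolynomial.eval t) = Mt t := by
    intro t
    ext a c
    simp only [G, Mt, Matrix.map_apply, Matrix.sum_apply, Matrix.smul_apply, map_sum, smul_eq_mul,
      map_mul, MvPolynomial.eval_X, MvPolynomial.eval_C]
  have hF : ∀ t : ι → Ω, MvPolynomial.eval t F =
      Polynomial.resultant (Mt t).charpoly (Polynomial.derivative (Mt t).charpoly) r (r - 1) := by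
    intro t
    rw [← hGmap t, Matrix.charpoly_map, Polynomial.derivative_map, Polynomial.resultant_map_map]
  have hcrit : ∀ t : ι → Ω, (Mt t).charpoly.Separable ↔ MvPolynomial.eval t F ≠ 0 := by
    intro t
    rw [hF t]
    have h1 : (Mt t).charpoly.natDegree = r := by
      rw [Matrix.charpoly_natDegree_eq_dim, Fintype.card_fin]
    have h2 : (Polynomial.derivative (Mt t).charpoly).natDegree ≤ r - 1 := by
      have := Polynomial.natDegree_derivative_le (Mt t).charpoly
      rwa [h1] at this
    have := separable_iff_resultant_ne_zero (Mt t).charpoly_monic h2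
    rwa [h1] at this
  -- `F ≠ 0`
  have hF0 : F ≠ 0 := by
    obtain ⟨d, hd⟩ : ∃ d : Fin r → Ω, Function.Injective d :=
      ⟨fun i => (Infinite.natEmbedding Ω) i, fun i j h => Fin.ext ((Infinite.natEmbedding Ω).injective h)⟩
    let bΩ : Module.Basis ι Ω (Ω ⊗[k] A) := b.baseChange Ω
    let s : ι → Ω := fun i => bΩ.repr (e.symm (Matrix.diagonal d)) i
    have hs : Mt s = Matrix.diagonal d := by
      have h1 : e.symm (Matrix.diagonal d) = ∑ i, s i • bΩ i := (bΩ.sum_repr _).symm
      have h2 : Matrix.diagonal d = e (∑ i, s i • bΩ i) := by rw [← h1, e.apply_symm_apply]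
      rw [h2, map_sum]
      refine Finset.sum_congr rfl fun i _ => ?_
      rw [map_smul, Module.Basis.baseChange_apply]
    intro h0
    have := (hcrit s).mp (by
      rw [hs, Matrix.charpoly_diagonal]
      exact Polynomial.separable_prod_X_sub_C_iff.mpr hd)
    apply this
    rw [h0, map_zero]
  by_contra hcon
  rw [not_exists] at hcon
  apply hF0
  apply MvPolynomial.funext_set (fun _ => Set.range (algebraMap k Ω))
    (fun _ => Set.infinite_range_of_injective (algebraMap k Ω).injective)
  intro t ht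
  rw [map_zero]
  have ht' : ∀ i, ∃ c : k, algebraMap k Ω c = t i := fun i => ht i (Set.mem_univ i)
  choose c hc using ht'
  by_contra hne
  have hsep := (hcrit t).mpr hne
  apply hcon (∑ i, c i • b i)
  have : e ((1 : Ω) ⊗ₜ[k] (∑ i, c i • b i)) = Mt t := by
    rw [TensorProduct.tmul_sum, map_sum]
    refine Finset.sum_congr rfl fun i _ => ?_
    rw [TensorProduct.tmul_smul, ← algebraMap_smul Ω (c i) ((1 : Ω) ⊗ₜ[k] b i), map_smul, hc]
  rw [this]
  exact hsep

end Generic

section FiniteCase

universe u v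

open Groth.Agent.Lib.Helper59.TPow Groth.Agent.Lib.Helper59.BrauerCalc

variable {k : Type u} [Field k] {A : Type v} [Ring A] [Algebra k A]

/-- A central simple algebra over a finite field is split (Wedderburn's little theorem). -/
theorem isSplit_of_finite [Finite k] (hA : IsCSA k A) : IsSplit k A := by
  obtain ⟨m, hm, D, _, _, _, ⟨e⟩⟩ := exists_matrix_of_isCSA hA
  obtain ⟨hm0, hD⟩ := isCSA_division hA e
  haveI := hD.central
  haveI : Finite D := Module.finite_of_finite k
  have hcomm : ∀ a b : D, a * b = b * a := by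
    letI : Field D := littleWedderburn D
    exact fun a b => mul_comm a b
  have hbot : (⊥ : Subalgebra k D) = ⊤ := by
    symm
    rw [eq_bot_iff]
    refine le_trans ?_ (Algebra.IsCentral.out (K := k) (D := D))
    intro a _
    rw [Subalgebra.mem_center_iff]
    intro b
    exact hcomm b a
  let g : D ≃ₐ[k] k :=
    ((Subalgebra.topEquiv (R := k) (A := D)).symm.trans
      (Subalgebra.equivOfEq _ _ hbot.symm)).trans (Algebra.botEquiv k D)
  exact ⟨m, hm0, ⟨e.trans (AlgEquiv.mapMatrix g)⟩⟩

/-- Transport of a regular element along an injective algebra map from a separable field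
extension generated by one element. -/
theorem exists_regular_of_algHom {F : Type*} [Field F] [Algebra k F] [FiniteDimensional k F]
    [Algebra.IsSeparable k F] [Nontrivial A] (θ : F →ₐ[k] A) :
    ∃ x : A, Algebra.IsSeparable k (Algebra.adjoin k ({x} : Set A)) ∧
      Module.finrank k (Algebra.adjoin k ({x} : Set A)) = Module.finrank k F := by
  obtain ⟨α, hα⟩ := Field.exists_primitive_element k F
  have hαint : IsIntegral k α := IsIntegral.of_finite k α
  have h1 : Algebra.adjoin k {α} = ⊤ := by
    have := IntermediateField.adjoin_simple_toSubalgebra_of_isAlgebraic hαint.isAlgebraic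
    rw [← this, hα, IntermediateField.top_toSubalgebra]
  have hinj : Function.Injective θ := θ.toRingHom.injective
  have h2 : Algebra.adjoin k ({θ α} : Set A) = θ.range := by
    rw [← AlgHom.map_adjoin_singleton, h1, Algebra.map_top]
  let E' : F ≃ₐ[k] θ.range := AlgEquiv.ofInjective θ hinj
  refine ⟨θ α, ?_, ?_⟩
  · rw [h2]
    exact AlgEquiv.Algebra.isSeparable E'
  · rw [h2]
    exact E'.toLinearEquiv.finrank_eq.symm

/-- A central simple algebra of dimension `r²` over a finite field has a regular element. -/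
theorem exists_regular_of_finite [Finite k] (hA : IsCSA k A) {r : ℕ}
    (hr : Module.finrank k A = r ^ 2) :
    ∃ x : A, Algebra.IsSeparable k (Algebra.adjoin k ({x} : Set A)) ∧
      Module.finrank k (Algebra.adjoin k ({x} : Set A)) = r := by
  classical
  haveI := hA.simple
  haveI := hA.fd
  obtain ⟨n, hn, ⟨e⟩⟩ := isSplit_of_finite hA
  have hnr : r = n := by
    rw [e.toLinearEquiv.finrank_eq, Module.finrank_matrix, Fintype.card_fin, Module.finrank_self,
      mul_one, ← sq] at hr
    exact (Nat.pow_left_injective (by norm_num : 2 ≠ 0) hr).symm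
  subst hnr
  haveI : NeZero r := ⟨hn⟩
  obtain ⟨p, hp⟩ := CharP.exists k
  haveI : Fact p.Prime := ⟨CharP.char_is_prime k p⟩
  let F := FiniteField.Extension k p r
  have hF : Module.finrank k F = r := FiniteField.finrank_extension k p r
  let bF : Module.Basis (Fin r) k F := Module.finBasisOfFinrankEq k F hF
  let ψ : Module.End k F ≃ₐ[k] Matrix (Fin r) (Fin r) k := LinearMap.toMatrixAlgEquiv bF
  let θ : F →ₐ[k] A :=
    (e.symm : Matrix (Fin r) (Fin r) k →ₐ[k] A).comp
      ((ψ : Module.End k F →ₐ[k] Matrix (Fin r) (Fin r) k).comp (Algebra.lmul k F))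
  obtain ⟨x, hx1, hx2⟩ := exists_regular_of_algHom θ
  exact ⟨x, hx1, hx2.trans hF⟩

end FiniteCase

section Main

universe u v

open Groth.Agent.Lib.Helper59.TPow Groth.Agent.Lib.Helper59.BrauerCalc

/-- A central simple algebra of dimension `r²` contains an element `x` with `k[x]` étale of
dimension `r`. -/
theorem exists_regular {k : Type u} [Field k] {A : Type v} [Ring A] [Algebra k A]
    (hA : IsCSA k A) {r : ℕ} (hr : Module.finrank k A = r ^ 2) :
    ∃ x : A, Algebra.IsSeparable k (Algebra.adjoin k ({x} : Set A)) ∧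
      Module.finrank k (Algebra.adjoin k ({x} : Set A)) = r := by
  rcases finite_or_infinite k with hk | hk
  · exact exists_regular_of_finite hA hr
  · haveI := hA.fd
    have hB : IsCSA (AlgebraicClosure k) (AlgebraicClosure k ⊗[k] A) :=
      hA.baseChange (AlgebraicClosure k)
    obtain ⟨n, hn, ⟨e⟩⟩ := isSplit_of_isAlgClosed hB
    have hnr : r = n := by
      have h1 : Module.finrank (AlgebraicClosure k) (AlgebraicClosure k ⊗[k] A) = r ^ 2 := by
        rw [Module.finrank_baseChange, hr]
      rw [e.toLinearEquiv.finrank_eq, Module.finrank_matrix, Fintype.card_fin,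
        Module.finrank_self, mul_one, ← sq] at h1
      exact (Nat.pow_left_injective (by norm_num : 2 ≠ 0) h1).symm
    subst hnr
    obtain ⟨x, hx⟩ := exists_charpoly_separable (AlgebraicClosure k) e
    exact ⟨x, isSeparable_adjoin_of_charpoly_separable (AlgebraicClosure k) e x hx⟩

end Main

end Groth.Agent.Lib.Helper52.RegularExists
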