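import Mathlib
import Groth.Agent.Lib.Helper52.RegularExists

/-!
# Separable elements via semisimple multiplication operators

For a finite-dimensional algebra `A` over a field `k` and an algebraically closed extension `Ω`,
an element `y` of `A` is separable over `k` iff left multiplication by `1 ⊗ y` on `Ω ⊗ A` is a
semisimple endomorphism.  Consequently a commutative subalgebra generated by separable elements
consists of separable elements.
-/

set_option autoImplicit false
set_option linter.unusedSectionVars false

namespace Groth.Agent.Lib.Helper52.EtCentA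

open TensorProduct Polynomial Groth.Agent.Lib.Helper52.RegularExists

variable (k : Type*) [Field k] (Ω : Type*) [Field Ω] [Algebra k Ω] [IsAlgClosed Ω]
  {A : Type*} [Ring A] [Algebra k A] [FiniteDimensional k A]

/-- Left multiplication by `1 ⊗ y` on `Ω ⊗ A`. -/
noncomputable def T (y : A) : Module.End Ω (Ω ⊗[k] A) :=
  Algebra.lmul Ω (Ω ⊗[k] A) ((1 : Ω) ⊗ₜ[k] y)

theorem T_add (x y : A) : T k Ω (x + y) = T k Ω x + T k Ω y := by
  simp only [T, TensorProduct.tmul_add, map_add]

theorem T_mul (x y : A) : T k Ω (x * y) = T k Ω x * T k Ω y := by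
  simp only [T]
  rw [← map_mul, Algebra.TensorProduct.tmul_mul_tmul, one_mul]

theorem T_algebraMap (c : k) : T k Ω (algebraMap k A c) = algebraMap Ω _ (algebraMap k Ω c) := by
  simp only [T]
  have : ((1 : Ω) ⊗ₜ[k] (algebraMap k A c) : Ω ⊗[k] A) =
      algebraMap Ω (Ω ⊗[k] A) (algebraMap k Ω c) := by
    rw [Algebra.TensorProduct.algebraMap_apply, Algebra.algebraMap_eq_smul_one,
      TensorProduct.tmul_smul, TensorProduct.smul_tmul', Algebra.algebraMap_self_apply,
      Algebra.algebraMap_eq_smul_one]
  rw [this, AlgHom.commutes]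

theorem commute_T {x y : A} (h : x * y = y * x) : Commute (T k Ω x) (T k Ω y) := by
  change T k Ω x * T k Ω y = T k Ω y * T k Ω x
  rw [← T_mul, ← T_mul, h]

theorem isSemisimple_T_of_isSeparable {y : A} (hy : IsSeparable k y) :
    (T k Ω y).IsSemisimple := by
  have hsq : Squarefree ((minpoly k y).map (algebraMap k Ω)) :=
    (Polynomial.Separable.map hy).squarefree
  apply Module.End.isSemisimple_of_squarefree_aeval_eq_zero hsq
  simp only [T]
  rw [Polynomial.aeval_algHom_apply, aeval_one_tmul, minpoly.aeval, TensorProduct.tmul_zero,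
    map_zero]

theorem isSeparable_of_isSemisimple_T {y : A} (hy : (T k Ω y).IsSemisimple) :
    IsSeparable k y := by
  have hint : IsIntegral k y := IsIntegral.of_finite k y
  have h1 : Squarefree (minpoly Ω (T k Ω y)) := hy.minpoly_squarefree
  have h2 : minpoly Ω (T k Ω y) = minpoly Ω ((1 : Ω) ⊗ₜ[k] y : Ω ⊗[k] A) :=
    minpoly.algHom_eq (Algebra.lmul Ω (Ω ⊗[k] A)) Algebra.lmul_injective _
  rw [h2, minpoly_one_tmul Ω hint, ← PerfectField.separable_iff_squarefree,
    Polynomial.separable_map] at h1
  exact h1

/-- A subalgebra generated by pairwise commuting separable elements is commutative and consists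
of separable elements. -/
theorem adjoin_comm_isSeparable (S : Set A) (hcomm : ∀ x ∈ S, ∀ y ∈ S, x * y = y * x)
    (hsep : ∀ x ∈ S, IsSeparable k x) :
    (∀ x ∈ Algebra.adjoin k S, ∀ y ∈ Algebra.adjoin k S, x * y = y * x) ∧
      Algebra.IsSeparable k (Algebra.adjoin k S) := by
  have := Algebra.isMulCommutative_adjoin k hcomm
  have hc : ∀ x ∈ Algebra.adjoin k S, ∀ y ∈ Algebra.adjoin k S, x * y = y * x :=
    fun x hx y hy => setLike_mul_comm hx hy
  refine ⟨hc, ⟨?_⟩⟩
  have key : ∀ x (hx : x ∈ Algebra.adjoin k S), (T k (AlgebraicClosure k) x).IsSemisimple := by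
    intro x hx
    induction hx using Algebra.adjoin_induction with
    | mem x hx => exact isSemisimple_T_of_isSeparable k _ (hsep x hx)
    | algebraMap r =>
      rw [T_algebraMap]
      have : (algebraMap (AlgebraicClosure k) (Module.End (AlgebraicClosure k)
          (AlgebraicClosure k ⊗[k] A)) (algebraMap k (AlgebraicClosure k) r)) =
          (algebraMap k (AlgebraicClosure k) r) • (LinearMap.id) := by
        rw [Algebra.algebraMap_eq_smul_one]; rfl
      rw [this]
      exact Module.End.IsSemisimple_smul _ Module.End.isSemisimple_id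
    | add x y hx hy ihx ihy =>
      rw [T_add]
      exact Module.End.IsSemisimple.add_of_commute (commute_T k _ (hc x hx y hy)) ihx ihy
    | mul x y hx hy ihx ihy =>
      rw [T_mul]
      exact Module.End.IsSemisimple.mul_of_commute (commute_T k _ (hc x hx y hy)) ihx ihy
  rintro ⟨x, hx⟩
  have h1 : IsSeparable k x := isSeparable_of_isSemisimple_T k (AlgebraicClosure k) (key x hx)
  have hmp : minpoly k (⟨x, hx⟩ : Algebra.adjoin k S) = minpoly k x :=
    (minpoly.algHom_eq (Algebra.adjoin k S).val Subtype.val_injective ⟨x, hx⟩).symm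
  rw [IsSeparable, hmp]
  exact h1

end Groth.Agent.Lib.Helper52.EtCentA
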