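import Mathlib

/-!
# Averaging onto the centralizer of an étale commutative subalgebra

For a commutative subalgebra `L` of a finite-dimensional `k`-algebra `A` all of whose elements are
separable, the separability idempotent `t = ∑ aᵢ ⊗ bᵢ` of `L` gives a `k`-linear retraction
`π x = ∑ aᵢ x bᵢ` of `A` onto the centralizer `C` of `L`, which is `C`-bilinear.
-/

set_option autoImplicit false
set_option linter.unusedSectionVars false
set_option linter.style.haveILetI false

namespace Groth.Agent.Lib.Helper52.EtCentB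

open TensorProduct

section Abstract

variable {k : Type*} [CommRing k] {A : Type*} [Ring A] [Algebra k A]
  {L' : Type*} [CommRing L'] [Algebra k L'] (j : L' →ₐ[k] A)

/-- `a ⊗ b ↦ (x ↦ j a * (x * j b))`. -/
noncomputable def Φ : L' ⊗[k] L' →ₗ[k] Module.End k A :=
  TensorProduct.lift (LinearMap.mk₂ k
    (fun a b => LinearMap.mulLeft k (j a) ∘ₗ LinearMap.mulRight k (j b))
    (by intro a a' b; ext x; simp [add_mul])
    (by intro c a b; ext x; simp)
    (by intro a b b'; ext x; simp [mul_add])
    (by intro c a b; ext x; simp))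

theorem Φ_tmul (a b : L') (x : A) : Φ j (a ⊗ₜ[k] b) x = j a * (x * j b) := by
  simp [Φ]

theorem Φ_left (l : L') (u : L' ⊗[k] L') (x : A) :
    Φ j ((l ⊗ₜ[k] (1 : L')) * u) x = j l * Φ j u x := by
  induction u using TensorProduct.induction_on with
  | zero => simp
  | tmul a b =>
    rw [Algebra.TensorProduct.tmul_mul_tmul, Φ_tmul, Φ_tmul, one_mul, map_mul, mul_assoc]
  | add u v hu hv =>
    rw [mul_add, map_add, LinearMap.add_apply, hu, hv, map_add, LinearMap.add_apply, mul_add]

theorem Φ_right (l : L') (u : L' ⊗[k] L') (x : A) :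
    Φ j (((1 : L') ⊗ₜ[k] l) * u) x = Φ j u x * j l := by
  induction u using TensorProduct.induction_on with
  | zero => simp
  | tmul a b =>
    rw [Algebra.TensorProduct.tmul_mul_tmul, Φ_tmul, Φ_tmul, one_mul, mul_comm l b, map_mul]
    simp only [mul_assoc]
  | add u v hu hv =>
    rw [mul_add, map_add, LinearMap.add_apply, hu, hv, map_add, LinearMap.add_apply, add_mul]

theorem Φ_central (c : A) (hc : ∀ l, j l * c = c * j l) (u : L' ⊗[k] L') :
    Φ j u c = c * j (Algebra.TensorProduct.lmul' k u) := by
  induction u using TensorProduct.induction_on with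
  | zero => simp
  | tmul a b =>
    rw [Φ_tmul, Algebra.TensorProduct.lmul'_apply_tmul, map_mul, ← mul_assoc, hc a, mul_assoc]
  | add u v hu hv =>
    rw [map_add, LinearMap.add_apply, hu, hv, map_add, map_add, mul_add]

theorem Φ_mul_left (c : A) (hc : ∀ l, j l * c = c * j l) (u : L' ⊗[k] L') (x : A) :
    Φ j u (c * x) = c * Φ j u x := by
  induction u using TensorProduct.induction_on with
  | zero => simp
  | tmul a b =>
    rw [Φ_tmul, Φ_tmul, mul_assoc c x, ← mul_assoc (j a) c, hc a, mul_assoc]
  | add u v hu hv =>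
    rw [map_add, LinearMap.add_apply, hu, hv, LinearMap.add_apply, mul_add]

theorem Φ_mul_right (c : A) (hc : ∀ l, j l * c = c * j l) (u : L' ⊗[k] L') (x : A) :
    Φ j u (x * c) = Φ j u x * c := by
  induction u using TensorProduct.induction_on with
  | zero => simp
  | tmul a b =>
    rw [Φ_tmul, Φ_tmul, mul_assoc x c, ← hc b]
    simp only [mul_assoc]
  | add u v hu hv =>
    rw [map_add, LinearMap.add_apply, hu, hv, LinearMap.add_apply, add_mul]

theorem exists_retraction_of_idempotent (t : L' ⊗[k] L')
    (ht1 : ∀ s, ((1 : L') ⊗ₜ[k] s - s ⊗ₜ[k] (1 : L')) * t = 0)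
    (ht2 : Algebra.TensorProduct.lmul' k t = 1) :
    ∃ π : A →ₗ[k] A, (∀ x l, j l * π x = π x * j l) ∧
      (∀ c, (∀ l, j l * c = c * j l) → π c = c) ∧
      (∀ c, (∀ l, j l * c = c * j l) → ∀ x, π (c * x) = c * π x ∧ π (x * c) = π x * c) := by
  refine ⟨Φ j t, ?_, ?_, ?_⟩
  · intro x l
    have h := ht1 l
    rw [sub_mul, sub_eq_zero] at h
    rw [← Φ_left, ← Φ_right, h]
  · intro c hc
    rw [Φ_central j c hc, ht2, map_one, mul_one]
  · intro c hc x
    exact ⟨Φ_mul_left j c hc t x, Φ_mul_right j c hc t x⟩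

end Abstract

section Concrete

open scoped IsMulCommutative

variable {k : Type*} [Field k] {A : Type*} [Ring A] [Algebra k A] [FiniteDimensional k A]

theorem exists_retraction (L : Subalgebra k A) (hcomm : ∀ x ∈ L, ∀ y ∈ L, x * y = y * x)
    (hsep : Algebra.IsSeparable k L) :
    ∃ π : A →ₗ[k] A, (∀ x, π x ∈ Subalgebra.centralizer k (L : Set A)) ∧
      (∀ c ∈ Subalgebra.centralizer k (L : Set A), π c = c) ∧
      (∀ c ∈ Subalgebra.centralizer k (L : Set A), ∀ x,
        π (c * x) = c * π x ∧ π (x * c) = π x * c) := by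
  haveI : IsMulCommutative L := .of_setLike_mul_comm (fun _ hx _ hy => hcomm _ hx _ hy)
  haveI : IsArtinianRing L := IsArtinianRing.of_finite k L
  haveI : IsReduced L := by
    refine ⟨fun x hx => ?_⟩
    obtain ⟨n, hn⟩ := hx
    have hs : IsSeparable k x := Algebra.IsSeparable.isSeparable k x
    have h1 : minpoly k x ∣ (Polynomial.X : Polynomial k) ^ n := by
      apply minpoly.dvd
      rw [map_pow, Polynomial.aeval_X, hn]
    have h2 : minpoly k x ∣ Polynomial.X := hs.squarefree.isRadical n _ h1
    have h3 := (minpoly.dvd_iff).mp h2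
    rwa [Polynomial.aeval_X] at h3
  have hunr : Algebra.FormallyUnramified k L := by
    let e : L ≃ₐ[k] (∀ I : MaximalSpectrum L, L ⧸ I.asIdeal) :=
      (IsArtinianRing.equivPi L).restrictScalars k
    have hI : ∀ I : MaximalSpectrum L, Algebra.FormallyUnramified k (L ⧸ I.asIdeal) := by
      intro I
      letI := Ideal.Quotient.field I.asIdeal
      haveI : Algebra.IsSeparable k (L ⧸ I.asIdeal) := by
        refine ⟨fun y => ?_⟩
        obtain ⟨l, rfl⟩ := Ideal.Quotient.mk_surjective y
        have hs : IsSeparable k l := Algebra.IsSeparable.isSeparable k l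
        refine hs.of_dvd ?_
        apply minpoly.dvd
        have : Polynomial.aeval (Ideal.Quotient.mk I.asIdeal l) (minpoly k l) =
            Ideal.Quotient.mk I.asIdeal (Polynomial.aeval l (minpoly k l)) :=
          (Polynomial.aeval_algHom_apply (Ideal.Quotient.mkₐ k I.asIdeal) l _)
        rw [this, minpoly.aeval, map_zero]
      exact Algebra.FormallyUnramified.of_isSeparable k (L ⧸ I.asIdeal)
    haveI := hI
    exact Algebra.FormallyUnramified.of_equiv e.symm
  obtain ⟨t, ht1, ht2⟩ := (Algebra.FormallyUnramified.iff_exists_tensorProduct).mp hunr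
  obtain ⟨π, h1, h2, h3⟩ := exists_retraction_of_idempotent (L.val) t ht1 ht2
  refine ⟨π, ?_, ?_, ?_⟩
  · intro x
    rw [Subalgebra.mem_centralizer_iff]
    intro g hg
    exact h1 x ⟨g, hg⟩
  · intro c hc
    rw [Subalgebra.mem_centralizer_iff] at hc
    exact h2 c (fun l => hc l l.2)
  · intro c hc x
    rw [Subalgebra.mem_centralizer_iff] at hc
    exact h3 c (fun l => hc l l.2) x

end Concrete

end Groth.Agent.Lib.Helper52.EtCentB
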