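import Mathlib

/-!
# Von Neumann regularity: semisimple rings, retracts, descent, reducedness
-/

set_option autoImplicit false
set_option linter.unusedSectionVars false
set_option linter.style.haveILetI false

namespace Groth.Agent.Lib.Helper52.EtCentC

open TensorProduct

/-- A semisimple ring is von Neumann regular. -/
theorem regular_of_isSemisimpleRing {R : Type*} [Ring R] [IsSemisimpleRing R] (a : R) :
    ∃ y : R, a * y * a = a := by
  obtain ⟨J, hJ⟩ := exists_isCompl (Ideal.span ({a} : Set R))
  have h1 : (1 : R) ∈ Ideal.span ({a} : Set R) ⊔ J := by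
    rw [hJ.sup_eq_top]; exact Submodule.mem_top
  obtain ⟨i, hi, j, hj, hij⟩ := Submodule.mem_sup.mp h1
  obtain ⟨r, rfl⟩ := Ideal.mem_span_singleton'.mp hi
  refine ⟨r, ?_⟩
  have h2 : a * j ∈ J := J.mul_mem_left a hj
  have h3 : a * j = a - a * r * a := by
    have : a * (r * a + j) = a * 1 := by rw [hij]
    rw [mul_add, mul_one, ← mul_assoc] at this
    exact eq_sub_of_add_eq' this
  have h4 : a * j ∈ Ideal.span ({a} : Set R) := by
    rw [h3]
    have : a - a * r * a = (1 - a * r) * a := by rw [sub_mul, one_mul]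
    rw [this]
    exact Ideal.mem_span_singleton'.mpr ⟨_, rfl⟩
  have h5 : a * j = 0 := by
    have : a * j ∈ Ideal.span ({a} : Set R) ⊓ J := ⟨h4, h2⟩
    rw [hJ.inf_eq_bot] at this
    exact (Submodule.mem_bot R).mp this
  rw [h5] at h3
  exact (sub_eq_zero.mp h3.symm).symm

/-- A retract (with bimodule retraction) of a regular ring is regular. -/
theorem regular_of_retract {C A : Type*} [Ring C] [Ring A] (ι : C →+* A) (π : A →+ C)
    (h1 : ∀ c, π (ι c) = c) (h2 : ∀ c a, π (ι c * a) = c * π a)
    (h3 : ∀ c a, π (a * ι c) = π a * c) (hA : ∀ a : A, ∃ y, a * y * a = a) (c : C) :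
    ∃ y : C, c * y * c = c := by
  obtain ⟨y, hy⟩ := hA (ι c)
  refine ⟨π y, ?_⟩
  have := congrArg π hy
  rw [h3, h2, h1] at this
  exact this

/-- A retract (with bimodule retraction) of a semisimple ring is semisimple. -/
theorem isSemisimpleRing_of_retract {C A : Type*} [Ring C] [Ring A] [IsSemisimpleRing A]
    (ι : C →+* A) (π : A →+ C)
    (h1 : ∀ c, π (ι c) = c) (h2 : ∀ c a, π (ι c * a) = c * π a)
    (h3 : ∀ c a, π (a * ι c) = π a * c) :
    IsSemisimpleRing C := by
  refine (isSemisimpleModule_iff C C).mpr ⟨fun I => ?_⟩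
  let IA : Submodule A A := Submodule.span A (ι '' (I : Set C))
  obtain ⟨K, hK⟩ := exists_isCompl IA
  let p : A →ₗ[A] A := IA.subtype ∘ₗ (Submodule.projectionOnto IA K hK)
  have hp_mem : ∀ a, p a ∈ IA := fun a => (Submodule.projectionOnto IA K hK a).2
  have hp_id : ∀ a ∈ IA, p a = a := by
    intro a ha
    have := Submodule.projectionOnto_apply_left hK ⟨a, ha⟩
    simp only [p, LinearMap.comp_apply, Submodule.subtype_apply]
    rw [this]
  have claim : ∀ a ∈ IA, ∀ r : A, π (r * a) ∈ I := by
    intro a ha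
    induction ha using Submodule.span_induction with
    | mem x hx =>
      obtain ⟨i, hi, rfl⟩ := hx
      intro r
      rw [h3]
      exact I.smul_mem (π r) hi
    | zero => intro r; rw [mul_zero, map_zero]; exact I.zero_mem
    | add x y _ _ hx hy => intro r; rw [mul_add, map_add]; exact I.add_mem (hx r) (hy r)
    | smul s x _ hx => intro r; rw [smul_eq_mul, ← mul_assoc]; exact hx (r * s)
  have hq_mem : ∀ c : C, π (p (ι c)) ∈ I := by
    intro c
    have := claim (p (ι c)) (hp_mem _) 1
    rwa [one_mul] at this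
  let q : C →ₗ[C] I :=
    { toFun := fun c => ⟨π (p (ι c)), hq_mem c⟩
      map_add' := by
        intro x y
        apply Subtype.ext
        simp only [map_add, Submodule.coe_add]
      map_smul' := by
        intro c x
        apply Subtype.ext
        simp only [smul_eq_mul, map_mul, RingHom.id_apply, Submodule.coe_smul]
        have : p (ι c * ι x) = ι c * p (ι x) := by
          have := p.map_smul (ι c) (ι x)
          simpa only [smul_eq_mul] using this
        rw [this, h2] }
  have hq : ∀ x : I, q x = x := by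
    intro x
    apply Subtype.ext
    change π (p (ι x)) = x
    rw [hp_id _ (Submodule.subset_span ⟨x, x.2, rfl⟩), h1]
  exact ⟨LinearMap.ker q, LinearMap.isCompl_of_proj hq⟩

/-- Descent of von Neumann regularity along a field extension. -/
theorem regular_descent {k : Type*} [Field k] (Ω : Type*) [Field Ω] [Algebra k Ω]
    {A : Type*} [Ring A] [Algebra k A]
    (hreg : ∀ z : Ω ⊗[k] A, ∃ y, z * y * z = z) (a : A) : ∃ y : A, a * y * a = a := by
  let φ : A →ₗ[k] A := LinearMap.mulLeft k a ∘ₗ LinearMap.mulRight k a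
  by_contra hcon
  have hnot : a ∉ LinearMap.range φ := by
    rintro ⟨y, hy⟩
    apply hcon
    refine ⟨y, ?_⟩
    rw [mul_assoc]
    exact hy
  obtain ⟨f, hf1, hf2⟩ := Submodule.exists_dual_map_eq_bot_of_notMem hnot inferInstance
  have hf3 : ∀ v : A, f (a * (v * a)) = 0 := by
    intro v
    have : f (φ v) ∈ (LinearMap.range φ).map f := ⟨φ v, ⟨v, rfl⟩, rfl⟩
    rw [hf2] at this
    exact (Submodule.mem_bot k).mp this
  let G : Ω ⊗[k] A →ₗ[k] Ω := (TensorProduct.rid k Ω).toLinearMap ∘ₗ (LinearMap.lTensor Ω f)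
  have hG : ∀ (w : Ω) (v : A), G (w ⊗ₜ[k] v) = f v • w := by
    intro w v
    simp [G]
  obtain ⟨y, hy⟩ := hreg ((1 : Ω) ⊗ₜ[k] a)
  have hzero : ∀ y : Ω ⊗[k] A, G (((1 : Ω) ⊗ₜ[k] a) * y * ((1 : Ω) ⊗ₜ[k] a)) = 0 := by
    intro y
    induction y using TensorProduct.induction_on with
    | zero => simp
    | tmul w v =>
      rw [Algebra.TensorProduct.tmul_mul_tmul, Algebra.TensorProduct.tmul_mul_tmul, hG, one_mul,
        mul_one, mul_assoc, hf3, zero_smul]
    | add x y hx hy => rw [mul_add, add_mul, map_add, hx, hy, add_zero]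
  have := hzero y
  rw [hy, hG] at this
  apply hf1
  have h1 : f a • (1 : Ω) = 0 := this
  rw [Algebra.smul_def, mul_one] at h1
  exact (algebraMap k Ω).injective (by rw [h1, map_zero])

/-- A von Neumann regular ring all of whose idempotents are central is reduced. -/
theorem eq_zero_of_isNilpotent_of_regular {R : Type*} [Ring R]
    (hreg : ∀ a : R, ∃ y, a * y * a = a)
    (hidem : ∀ e : R, IsIdempotentElem e → ∀ r, e * r = r * e) {n : R} (hn : IsNilpotent n) :
    n = 0 := by
  obtain ⟨y, hy⟩ := hreg n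
  set e := n * y with he
  have hidem_e : IsIdempotentElem e := by
    change e * e = e
    rw [he, ← mul_assoc, hy]
  have hc := hidem e hidem_e
  have hen : e * n = n := hy
  have hpow : ∀ m : ℕ, e = n ^ (m + 1) * y ^ (m + 1) := by
    intro m
    induction m with
    | zero => simp [he]
    | succ m ih =>
      have h1 : e = e * (n ^ (m + 1) * y ^ (m + 1)) := by
        conv_lhs => rw [← hidem_e.eq]
        rw [← ih]
      have h2 : e * n ^ (m + 1) = n ^ (m + 1 + 1) * y := by
        rw [hc, he, ← mul_assoc, ← pow_succ]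
      rw [h1, ← mul_assoc, h2, mul_assoc, ← pow_succ']
  obtain ⟨m, hm⟩ := hn
  have he0 : e = 0 := by
    rw [hpow m, pow_succ, hm, zero_mul, zero_mul]
  rw [← hen, he0, zero_mul]

end Groth.Agent.Lib.Helper52.EtCentC
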