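import Mathlib
import Groth.Agent.Lib.Helper52.RegularExists

/-!
# Generic elements: separable characteristic polynomial and a nonvanishing linear form

Over an infinite field `k`, given a linear map `ρ : Ω ⊗ V → M_N(Ω)` which takes some point to a
matrix with separable characteristic polynomial, and a nonzero linear form `ℓ` on `V`, there is a
`k`-rational point `x` of `V` with `ρ (1 ⊗ x)` of separable characteristic polynomial and
`ℓ x ≠ 0`.
-/

set_option autoImplicit false
set_option linter.unusedSectionVars false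
set_option linter.style.haveILetI false

namespace Groth.Agent.Lib.Helper52.EtCentD

open TensorProduct Polynomial Groth.Agent.Lib.Helper52.RegularExists

universe u v w

theorem exists_generic {k : Type u} [Field k] [Infinite k] {V : Type v} [AddCommGroup V]
    [Module k V] [FiniteDimensional k V] (Ω : Type w) [Field Ω] [Algebra k Ω]
    {N : Type*} [Fintype N] [DecidableEq N]
    (ρ : (Ω ⊗[k] V) →ₗ[Ω] Matrix N N Ω) (z₀ : Ω ⊗[k] V) (hz₀ : (ρ z₀).charpoly.Separable)
    (ℓ : V →ₗ[k] k) (hℓ : ℓ ≠ 0) :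
    ∃ x : V, (ρ ((1 : Ω) ⊗ₜ[k] x)).charpoly.Separable ∧ ℓ x ≠ 0 := by
  classical
  obtain ⟨ι, _, ⟨b⟩⟩ : ∃ (ι : Type v) (_ : Fintype ι), Nonempty (Module.Basis ι k V) := by
    obtain ⟨s, ⟨b⟩⟩ := Module.Basis.exists_basis k V
    haveI : Fintype s := FiniteDimensional.fintypeBasisIndex b
    exact ⟨s, inferInstance, ⟨b⟩⟩
  set r := Fintype.card N with hr
  let B : ι → Matrix N N Ω := fun i => ρ ((1 : Ω) ⊗ₜ[k] b i)
  let Mt : (ι → Ω) → Matrix N N Ω := fun t => ∑ i, t i • B i
  let G : Matrix N N (MvPolynomial ι Ω) :=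
    ∑ i, (MvPolynomial.X i : MvPolynomial ι Ω) • (B i).map (MvPolynomial.C)
  let F : MvPolynomial ι Ω :=
    Polynomial.resultant G.charpoly (Polynomial.derivative G.charpoly) r (r - 1)
  have hGmap : ∀ t : ι → Ω, G.map (MvPolynomial.eval t) = Mt t := by
    intro t
    ext a c
    simp only [G, Mt, Matrix.map_apply, Matrix.sum_apply, Matrix.smul_apply, map_sum, smul_eq_mul,
      map_mul, MvPolynomial.eval_X, MvPolynomial.eval_C]
  have hF : ∀ t : ι → Ω, MvPolynomial.eval t F =
      Polynomial.resultant (Mt t).charpoly (Polynomial.derivative (Mt t).charpoly) r (r - 1) := by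
    intro t
    rw [← hGmap t, Matrix.charpoly_map, Polynomial.derivative_map, Polynomial.resultant_map_map]
  have hcrit : ∀ t : ι → Ω, (Mt t).charpoly.Separable ↔ MvPolynomial.eval t F ≠ 0 := by
    intro t
    rw [hF t]
    have h1 : (Mt t).charpoly.natDegree = r := by
      rw [Matrix.charpoly_natDegree_eq_dim]
    have h2 : (Polynomial.derivative (Mt t).charpoly).natDegree ≤ r - 1 := by
      have := Polynomial.natDegree_derivative_le (Mt t).charpoly
      rwa [h1] at this
    have := separable_iff_resultant_ne_zero (Mt t).charpoly_monic h2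
    rwa [h1] at this
  let bΩ : Module.Basis ι Ω (Ω ⊗[k] V) := b.baseChange Ω
  have hF0 : F ≠ 0 := by
    let s : ι → Ω := fun i => bΩ.repr z₀ i
    have hs : Mt s = ρ z₀ := by
      have h1 : z₀ = ∑ i, s i • bΩ i := (bΩ.sum_repr _).symm
      conv_rhs => rw [h1]
      rw [map_sum]
      refine Finset.sum_congr rfl fun i _ => ?_
      rw [map_smul, Module.Basis.baseChange_apply]
    intro h0
    have := (hcrit s).mp (by rw [hs]; exact hz₀)
    apply this
    rw [h0, map_zero]
  -- the linear form as a polynomial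
  let Lp : MvPolynomial ι Ω :=
    ∑ i, MvPolynomial.C (algebraMap k Ω (ℓ (b i))) * MvPolynomial.X i
  have hLp : ∀ t : ι → Ω, MvPolynomial.eval t Lp = ∑ i, algebraMap k Ω (ℓ (b i)) * t i := by
    intro t
    simp only [Lp, map_sum, map_mul, MvPolynomial.eval_C, MvPolynomial.eval_X]
  have hLp0 : Lp ≠ 0 := by
    obtain ⟨i₀, hi₀⟩ : ∃ i₀, ℓ (b i₀) ≠ 0 := by
      by_contra hcon
      push_neg at hcon
      apply hℓ
      apply b.ext
      intro i
      rw [hcon i, LinearMap.zero_apply]
    intro h0
    have h1 := hLp (Pi.single i₀ 1)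
    rw [h0, map_zero] at h1
    rw [Finset.sum_eq_single i₀ (fun j _ hj => by rw [Pi.single_eq_of_ne hj, mul_zero])
      (fun h => absurd (Finset.mem_univ _) h), Pi.single_eq_same, mul_one] at h1
    exact hi₀ ((algebraMap k Ω).injective (by rw [← h1, map_zero]))
  have hprod : F * Lp ≠ 0 := mul_ne_zero hF0 hLp0
  by_contra hcon
  rw [not_exists] at hcon
  apply hprod
  apply MvPolynomial.funext_set (fun _ => Set.range (algebraMap k Ω))
    (fun _ => Set.infinite_range_of_injective (algebraMap k Ω).injective)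
  intro t ht
  rw [map_zero, map_mul]
  have ht' : ∀ i, ∃ c : k, algebraMap k Ω c = t i := fun i => ht i (Set.mem_univ i)
  choose c hc using ht'
  by_contra hne
  have hne' := mul_ne_zero_iff.mp hne
  have hsep := (hcrit t).mpr hne'.1
  apply hcon (∑ i, c i • b i)
  have hρ : ρ ((1 : Ω) ⊗ₜ[k] (∑ i, c i • b i)) = Mt t := by
    rw [TensorProduct.tmul_sum, map_sum]
    refine Finset.sum_congr rfl fun i _ => ?_
    rw [TensorProduct.tmul_smul, ← algebraMap_smul Ω (c i) ((1 : Ω) ⊗ₜ[k] b i), map_smul, hc]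
  refine ⟨by rw [hρ]; exact hsep, ?_⟩
  intro h0
  apply hne'.2
  rw [hLp]
  have : ∑ i, algebraMap k Ω (ℓ (b i)) * t i = algebraMap k Ω (ℓ (∑ i, c i • b i)) := by
    rw [map_sum, map_sum]
    refine Finset.sum_congr rfl fun i _ => ?_
    rw [map_smul, smul_eq_mul, map_mul, hc, mul_comm]
  rw [this, h0, map_zero]

end Groth.Agent.Lib.Helper52.EtCentD
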