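import Mathlib
import Groth.Agent.Lib.Helper52.EtCentA
import Groth.Agent.Lib.Helper52.EtCentB
import Groth.Agent.Lib.Helper52.EtCentC

/-!
# Maximal étale subalgebras are self-centralizing: common part and the perfect-field case
-/

set_option autoImplicit false
set_option linter.unusedSectionVars false
set_option linter.style.haveILetI false

namespace Groth.Agent.Lib.Helper52.EtCentE

open TensorProduct Polynomial

universe u v

variable {k : Type u} [Field k] {A : Type v} [Ring A] [Algebra k A] [FiniteDimensional k A]

theorem isSeparable_val {S : Subalgebra k A} (x : S) : IsSeparable k (x : A) ↔ IsSeparable k x := by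
  have hmp : minpoly k x = minpoly k (x : A) :=
    (minpoly.algHom_eq S.val Subtype.val_injective x).symm
  rw [IsSeparable, IsSeparable, hmp]

/-- Under maximality, separable elements of the centralizer lie in `L`. -/
theorem mem_of_isSeparable (L : Subalgebra k A) (hcomm : ∀ x ∈ L, ∀ y ∈ L, x * y = y * x)
    (hsep : Algebra.IsSeparable k L)
    (hmax : ∀ L' : Subalgebra k A, (∀ x ∈ L', ∀ y ∈ L', x * y = y * x) →
      Algebra.IsSeparable k L' → L ≤ L' → L' = L)
    {s : A} (hs : s ∈ Subalgebra.centralizer k (L : Set A)) (hss : IsSeparable k s) : s ∈ L := by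
  rw [Subalgebra.mem_centralizer_iff] at hs
  let S : Set A := (L : Set A) ∪ {s}
  have hScomm : ∀ x ∈ S, ∀ y ∈ S, x * y = y * x := by
    rintro x (hx | hx) y (hy | hy)
    · exact hcomm x hx y hy
    · rw [Set.mem_singleton_iff] at hy; subst hy; exact (hs x hx)
    · rw [Set.mem_singleton_iff] at hx; subst hx; exact (hs y hy).symm
    · rw [Set.mem_singleton_iff] at hx hy; subst hx; subst hy; rfl
  have hSsep : ∀ x ∈ S, IsSeparable k x := by
    rintro x (hx | hx)
    · exact (isSeparable_val (⟨x, hx⟩ : L)).mpr (Algebra.IsSeparable.isSeparable k _)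
    · rw [Set.mem_singleton_iff] at hx; subst hx; exact hss
  obtain ⟨h1, h2⟩ := EtCentA.adjoin_comm_isSeparable k S hScomm hSsep
  have hle : L ≤ Algebra.adjoin k S := fun x hx => Algebra.subset_adjoin (Or.inl hx)
  have heq := hmax _ h1 h2 hle
  rw [← heq]
  exact Algebra.subset_adjoin (Or.inr rfl)

theorem isSeparable_of_isIdempotentElem {e : A} (he : IsIdempotentElem e) : IsSeparable k e := by
  have h1 : (X * (X - C (1 : k)) : k[X]).Separable := by
    refine separable_X.mul separable_X_sub_C ?_
    exact ⟨1, -1, by simp⟩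
  refine h1.of_dvd (minpoly.dvd k e ?_)
  rw [map_mul, map_sub, aeval_X, aeval_C, map_one, mul_sub, mul_one, he.eq, sub_self]

/-- The centralizer is von Neumann regular when `Ω ⊗ A` is semisimple. -/
theorem regular_centralizer (hss : IsSemisimpleRing (AlgebraicClosure k ⊗[k] A))
    (L : Subalgebra k A) (hcomm : ∀ x ∈ L, ∀ y ∈ L, x * y = y * x)
    (hsep : Algebra.IsSeparable k L) (c : Subalgebra.centralizer k (L : Set A)) :
    ∃ y : Subalgebra.centralizer k (L : Set A), c * y * c = c := by
  have hregA : ∀ a : A, ∃ y : A, a * y * a = a :=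
    EtCentC.regular_descent (k := k) (AlgebraicClosure k) (A := A)
      (fun z => EtCentC.regular_of_isSemisimpleRing z)
  obtain ⟨π, h1, h2, h3⟩ := EtCentB.exists_retraction L hcomm hsep
  let πC : A →+ Subalgebra.centralizer k (L : Set A) :=
    { toFun := fun x => ⟨π x, h1 x⟩
      map_zero' := by apply Subtype.ext; simp
      map_add' := by intro x y; apply Subtype.ext; simp }
  exact EtCentC.regular_of_retract (Subalgebra.centralizer k (L : Set A)).val.toRingHom πC
    (fun c => Subtype.ext (h2 c c.2))
    (fun c a => Subtype.ext (h3 c c.2 a).1)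
    (fun c a => Subtype.ext (h3 c c.2 a).2) hregA c

/-- The perfect-field case. -/
theorem centralizer_le_of_perfect [PerfectField k]
    (hss : IsSemisimpleRing (AlgebraicClosure k ⊗[k] A))
    (L : Subalgebra k A) (hcomm : ∀ x ∈ L, ∀ y ∈ L, x * y = y * x)
    (hsep : Algebra.IsSeparable k L)
    (hmax : ∀ L' : Subalgebra k A, (∀ x ∈ L', ∀ y ∈ L', x * y = y * x) →
      Algebra.IsSeparable k L' → L ≤ L' → L' = L) :
    Subalgebra.centralizer k (L : Set A) ≤ L := by
  intro x hx
  have hreg := regular_centralizer hss L hcomm hsep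
  have hidem : ∀ e : Subalgebra.centralizer k (L : Set A), IsIdempotentElem e →
      ∀ r, e * r = r * e := by
    intro e he r
    have he' : IsIdempotentElem (e : A) := by
      have := congrArg Subtype.val he.eq
      exact this
    have heL : (e : A) ∈ L :=
      mem_of_isSeparable L hcomm hsep hmax e.2 (isSeparable_of_isIdempotentElem he')
    apply Subtype.ext
    have hr := r.2
    rw [Subalgebra.mem_centralizer_iff] at hr
    exact hr e heL
  let f : Module.End k A := Algebra.lmul k A x
  obtain ⟨n, hn, s, hs, hnil, hsemi, hf⟩ := Module.End.exists_isNilpotent_isSemisimple (f := f)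
  rw [Algebra.adjoin_singleton_eq_range_aeval] at hn hs
  obtain ⟨p, hp⟩ := hn
  obtain ⟨q, hq⟩ := hs
  have hp' : n = Algebra.lmul k A (aeval x p) := by
    rw [← hp]; exact Polynomial.aeval_algHom_apply (Algebra.lmul k A) x p
  have hq' : s = Algebra.lmul k A (aeval x q) := by
    rw [← hq]; exact Polynomial.aeval_algHom_apply (Algebra.lmul k A) x q
  have hmemC : ∀ g : k[X], aeval x g ∈ Subalgebra.centralizer k (L : Set A) := by
    intro g
    have h1 : aeval x g ∈ Algebra.adjoin k ({x} : Set A) := Polynomial.aeval_mem_adjoin_singleton k x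
    exact Algebra.adjoin_le (Set.singleton_subset_iff.mpr hx) h1
  have hsum : x = aeval x p + aeval x q := by
    apply Algebra.lmul_injective (R := k) (A := A)
    rw [map_add, ← hp', ← hq']
    exact hf
  -- nilpotent part vanishes
  have hxn : aeval x p = 0 := by
    obtain ⟨m, hm⟩ := hnil
    have h1 : (aeval x p) ^ m = 0 := by
      apply Algebra.lmul_injective (R := k) (A := A)
      rw [map_pow, ← hp', hm, map_zero]
    have h2 : IsNilpotent (⟨aeval x p, hmemC p⟩ : Subalgebra.centralizer k (L : Set A)) :=
      ⟨m, Subtype.ext h1⟩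
    have h3 := EtCentC.eq_zero_of_isNilpotent_of_regular hreg hidem h2
    exact congrArg Subtype.val h3
  -- semisimple part is separable
  have hxs : IsSeparable k (aeval x q) := by
    have h1 : Squarefree (minpoly k s) := hsemi.minpoly_squarefree
    have h2 : minpoly k s = minpoly k (aeval x q) := by
      rw [hq']
      exact minpoly.algHom_eq (Algebra.lmul k A) Algebra.lmul_injective _
    rw [h2, ← PerfectField.separable_iff_squarefree] at h1
    exact h1
  have hxsL : aeval x q ∈ L := mem_of_isSeparable L hcomm hsep hmax (hmemC q) hxs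
  rw [hsum, hxn, zero_add]
  exact hxsL

end Groth.Agent.Lib.Helper52.EtCentE
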