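import Mathlib
import Groth.Agent.Lib.Helper52.EtCentD
import Groth.Agent.Lib.Helper52.EtCentE

/-!
# Maximal étale subalgebras are self-centralizing: the infinite-field case and the theorem
-/

set_option autoImplicit false
set_option linter.unusedSectionVars false
set_option linter.style.haveILetI false

namespace Groth.Agent.Lib.Helper52.EtCentF

open TensorProduct Polynomial Groth.Agent.Lib.Helper52.RegularExists

universe u v

variable {k : Type u} [Field k] {A : Type v} [Ring A] [Algebra k A] [FiniteDimensional k A]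

/-- `Ω ⊗ C` is semisimple for the centralizer `C` of an étale commutative subalgebra. -/
theorem isSemisimpleRing_tensor_centralizer
    (hss : IsSemisimpleRing (AlgebraicClosure k ⊗[k] A))
    (L : Subalgebra k A) (hcomm : ∀ x ∈ L, ∀ y ∈ L, x * y = y * x)
    (hsep : Algebra.IsSeparable k L) :
    IsSemisimpleRing (AlgebraicClosure k ⊗[k] Subalgebra.centralizer k (L : Set A)) := by
  obtain ⟨π, h1, h2, h3⟩ := EtCentB.exists_retraction L hcomm hsep
  let C := Subalgebra.centralizer k (L : Set A)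
  let πC : A →ₗ[k] C :=
    { toFun := fun x => ⟨π x, h1 x⟩
      map_add' := by intro x y; apply Subtype.ext; simp
      map_smul' := by intro c x; apply Subtype.ext; simp }
  have hπ1 : ∀ c : C, πC (c : A) = c := fun c => Subtype.ext (h2 c c.2)
  have hπ2 : ∀ (c : C) (a : A), πC ((c : A) * a) = c * πC a :=
    fun c a => Subtype.ext (h3 c c.2 a).1
  have hπ3 : ∀ (c : C) (a : A), πC (a * (c : A)) = πC a * c :=
    fun c a => Subtype.ext (h3 c c.2 a).2
  let Ω := AlgebraicClosure k
  let ι' : Ω ⊗[k] C →ₐ[Ω] Ω ⊗[k] A := Algebra.TensorProduct.map (AlgHom.id Ω Ω) C.val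
  let π' : Ω ⊗[k] A →ₗ[Ω] Ω ⊗[k] C := LinearMap.baseChange Ω πC
  have hι' : ∀ (w : Ω) (c : C), ι' (w ⊗ₜ[k] c) = w ⊗ₜ[k] (c : A) := fun w c => rfl
  have hπ' : ∀ (w : Ω) (a : A), π' (w ⊗ₜ[k] a) = w ⊗ₜ[k] πC a := fun w a => rfl
  have H1 : ∀ c' : Ω ⊗[k] C, π' (ι' c') = c' := by
    intro c'
    induction c' using TensorProduct.induction_on with
    | zero => simp
    | tmul w c => rw [hι', hπ', hπ1]
    | add x y hx hy => rw [map_add, map_add, hx, hy]
  have H2 : ∀ (c' : Ω ⊗[k] C) (a' : Ω ⊗[k] A), π' (ι' c' * a') = c' * π' a' := by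
    intro c' a'
    induction c' using TensorProduct.induction_on with
    | zero => simp
    | tmul w c =>
      induction a' using TensorProduct.induction_on with
      | zero => simp
      | tmul w' a =>
        rw [hι', Algebra.TensorProduct.tmul_mul_tmul, hπ', hπ', hπ2,
          Algebra.TensorProduct.tmul_mul_tmul]
      | add x y hx hy => rw [mul_add, map_add, hx, hy, map_add, mul_add]
    | add x y hx hy => rw [map_add, add_mul, map_add, hx, hy, add_mul]
  have H3 : ∀ (c' : Ω ⊗[k] C) (a' : Ω ⊗[k] A), π' (a' * ι' c') = π' a' * c' := by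
    intro c' a'
    induction c' using TensorProduct.induction_on with
    | zero => simp
    | tmul w c =>
      induction a' using TensorProduct.induction_on with
      | zero => simp
      | tmul w' a =>
        rw [hι', Algebra.TensorProduct.tmul_mul_tmul, hπ', hπ', hπ3,
          Algebra.TensorProduct.tmul_mul_tmul]
      | add x y hx hy => rw [add_mul, map_add, hx, hy, map_add, add_mul]
    | add x y hx hy => rw [map_add, mul_add, map_add, hx, hy, mul_add]
  exact EtCentC.isSemisimpleRing_of_retract (ι' : Ω ⊗[k] C →+* Ω ⊗[k] A) π'.toAddMonoidHom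
    H1 H2 H3

/-- The infinite-field case. -/
theorem centralizer_le_of_infinite [Infinite k]
    (hss : IsSemisimpleRing (AlgebraicClosure k ⊗[k] A))
    (L : Subalgebra k A) (hcomm : ∀ x ∈ L, ∀ y ∈ L, x * y = y * x)
    (hsep : Algebra.IsSeparable k L)
    (hmax : ∀ L' : Subalgebra k A, (∀ x ∈ L', ∀ y ∈ L', x * y = y * x) →
      Algebra.IsSeparable k L' → L ≤ L' → L' = L) :
    Subalgebra.centralizer k (L : Set A) ≤ L := by
  classical
  by_contra hnot
  obtain ⟨x₀, hx₀C, hx₀L⟩ := SetLike.not_le_iff_exists.mp hnot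
  let C := Subalgebra.centralizer k (L : Set A)
  let Ω := AlgebraicClosure k
  haveI : IsSemisimpleRing (Ω ⊗[k] C) := isSemisimpleRing_tensor_centralizer hss L hcomm hsep
  obtain ⟨n, d, hd, ⟨e⟩⟩ :=
    IsSemisimpleRing.exists_algEquiv_pi_matrix_of_isAlgClosed Ω (Ω ⊗[k] C)
  let N := Σ i : Fin n, Fin (d i)
  let bd : (∀ i : Fin n, Matrix (Fin (d i)) (Fin (d i)) Ω) →+* Matrix N N Ω :=
    Matrix.blockDiagonal'RingHom (fun i : Fin n => Fin (d i)) Ω
  let ρ : Ω ⊗[k] C →ₐ[Ω] Matrix N N Ω :=
    { bd.comp (e : Ω ⊗[k] C →+* _) with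
      commutes' := by
        intro w
        change Matrix.blockDiagonal' (e (algebraMap Ω (Ω ⊗[k] C) w)) = _
        rw [e.commutes]
        have : (algebraMap Ω (∀ i : Fin n, Matrix (Fin (d i)) (Fin (d i)) Ω) w) =
            fun i => Matrix.diagonal (fun _ : Fin (d i) => w) := by
          funext i
          rfl
        rw [this, Matrix.blockDiagonal'_diagonal]
        rfl }
  have hρ_apply : ∀ z, ρ z = Matrix.blockDiagonal' (e z) := fun z => rfl
  have hρ_inj : Function.Injective ρ := by
    intro z z' h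
    rw [hρ_apply, hρ_apply] at h
    exact e.injective (Matrix.blockDiagonal'_injective h)
  -- witness
  let dd : N → Ω := fun x => (Infinite.natEmbedding Ω) (Fintype.equivFin N x)
  have hdd : Function.Injective dd := fun x y h =>
    (Fintype.equivFin N).injective (Fin.ext ((Infinite.natEmbedding Ω).injective h))
  let z₀ : Ω ⊗[k] C := e.symm (fun i => Matrix.diagonal (fun j : Fin (d i) => dd ⟨i, j⟩))
  have hz₀ : (ρ z₀).charpoly.Separable := by
    rw [hρ_apply]
    simp only [z₀, AlgEquiv.apply_symm_apply]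
    rw [Matrix.blockDiagonal'_diagonal, Matrix.charpoly_diagonal]
    exact Polynomial.separable_prod_X_sub_C_iff.mpr (fun x y h => hdd (by
      cases x; cases y; exact h))
  -- the linear form
  let LC : Submodule k C := Submodule.comap C.val.toLinearMap (Subalgebra.toSubmodule L)
  have hx₀ : (⟨x₀, hx₀C⟩ : C) ∉ LC := fun h => hx₀L h
  obtain ⟨ℓ, hℓ1, hℓ2⟩ := Submodule.exists_dual_map_eq_bot_of_notMem hx₀ inferInstance
  have hℓ : ℓ ≠ 0 := by
    intro h0
    apply hℓ1
    rw [h0]; rfl
  obtain ⟨x, hxsep, hxℓ⟩ := EtCentD.exists_generic Ω ρ.toLinearMap z₀ hz₀ ℓ hℓ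
  -- x is separable over k
  have hxint : IsIntegral k x := IsIntegral.of_finite k x
  have h1 : minpoly Ω (ρ ((1 : Ω) ⊗ₜ[k] x)) = minpoly Ω ((1 : Ω) ⊗ₜ[k] x : Ω ⊗[k] C) :=
    minpoly.algHom_eq ρ hρ_inj _
  have h2 : (minpoly Ω (ρ ((1 : Ω) ⊗ₜ[k] x))).Separable :=
    Polynomial.Separable.of_dvd hxsep (Matrix.minpoly_dvd_charpoly _)
  rw [h1, minpoly_one_tmul Ω hxint, Polynomial.separable_map] at h2
  have hxA : IsSeparable k (x : A) := (EtCentE.isSeparable_val x).mpr h2
  have hxL : (x : A) ∈ L := EtCentE.mem_of_isSeparable L hcomm hsep hmax x.2 hxA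
  apply hxℓ
  have : ℓ x ∈ LC.map ℓ := ⟨x, hxL, rfl⟩
  rw [hℓ2] at this
  exact (Submodule.mem_bot k).mp this

/-- Maximal étale subalgebras of an absolutely semisimple algebra are self-centralizing. -/
theorem centralizer_le
    (hss : IsSemisimpleRing (AlgebraicClosure k ⊗[k] A))
    (L : Subalgebra k A) (hcomm : ∀ x ∈ L, ∀ y ∈ L, x * y = y * x)
    (hsep : Algebra.IsSeparable k L)
    (hmax : ∀ L' : Subalgebra k A, (∀ x ∈ L', ∀ y ∈ L', x * y = y * x) →
      Algebra.IsSeparable k L' → L ≤ L' → L' = L) :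
    Subalgebra.centralizer k (L : Set A) ≤ L := by
  by_cases hinf : Infinite k
  · exact centralizer_le_of_infinite hss L hcomm hsep hmax
  · haveI : Finite k := not_infinite_iff_finite.mp hinf
    exact EtCentE.centralizer_le_of_perfect hss L hcomm hsep hmax

end Groth.Agent.Lib.Helper52.EtCentF
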