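import Mathlib.RingTheory.Artinian.Module
import Mathlib.RingTheory.Artinian.Ring
import Mathlib.RingTheory.Ideal.Quotient.Operations
import Mathlib.LinearAlgebra.Dimension.Constructions
import Mathlib.LinearAlgebra.Dimension.StrongRankCondition
import Mathlib.RingTheory.Spectrum.Prime.Basic
import Mathlib.LinearAlgebra.Basis.VectorSpace
import Mathlib.LinearAlgebra.Dimension.Finite

/-!
A finite algebra over a field has at most `finrank` primes. (helper52)
-/

set_option autoImplicit false

namespace Groth.Agent.Lib.Helper52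

open Module

theorem card_primeSpectrum_le_finrank (K A : Type*) [Field K] [CommRing A] [Algebra K A]
    [Module.Finite K A] :
    Finite (PrimeSpectrum A) ∧ Nat.card (PrimeSpectrum A) ≤ Module.finrank K A := by
  classical
  have hart : IsArtinianRing A := IsArtinianRing.of_finite K A
  have hfin : Finite (PrimeSpectrum A) := inferInstance
  refine ⟨hfin, ?_⟩
  have := Fintype.ofFinite (PrimeSpectrum A)
  let I : PrimeSpectrum A → Ideal A := fun p => p.asIdeal
  have hcop : Pairwise (Function.onFun IsCoprime I) := by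
    intro p q hpq
    have hp : p.asIdeal.IsMaximal := IsArtinianRing.isMaximal_of_isPrime p.asIdeal
    have hq : q.asIdeal.IsMaximal := IsArtinianRing.isMaximal_of_isPrime q.asIdeal
    rw [Function.onFun, Ideal.isCoprime_iff_sup_eq]
    exact Ideal.IsMaximal.coprime_of_ne hp hq (fun h => hpq (PrimeSpectrum.ext h))
  let f : A →ₗ[K] (∀ p : PrimeSpectrum A, A ⧸ I p) :=
    LinearMap.pi (fun p => (Ideal.Quotient.mkₐ K (I p)).toLinearMap)
  have hf : Function.Surjective f := by
    intro y
    obtain ⟨x, hx⟩ := Ideal.quotientInfToPiQuotient_surj hcop y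
    obtain ⟨a, rfl⟩ := Ideal.Quotient.mk_surjective x
    refine ⟨a, ?_⟩
    rw [← hx]
    funext p
    rfl
  have h1 : Module.finrank K (∀ p : PrimeSpectrum A, A ⧸ I p) ≤ Module.finrank K A :=
    LinearMap.finrank_le_finrank_of_surjective hf
  have hfree : ∀ p : PrimeSpectrum A, Module.Free K (A ⧸ I p) := fun p => Module.Free.of_divisionRing K _
  rw [Module.finrank_pi_fintype] at h1
  have h2 : ∀ p : PrimeSpectrum A, 1 ≤ Module.finrank K (A ⧸ I p) := by
    intro p
    have : Nontrivial (A ⧸ I p) := Ideal.Quotient.nontrivial_iff.mpr p.isPrime.ne_top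
    exact Module.finrank_pos
  calc Nat.card (PrimeSpectrum A) = Fintype.card (PrimeSpectrum A) := Nat.card_eq_fintype_card
    _ = ∑ _p : PrimeSpectrum A, 1 := by simp
    _ ≤ ∑ p : PrimeSpectrum A, Module.finrank K (A ⧸ I p) := Finset.sum_le_sum (fun p _ => h2 p)
    _ ≤ Module.finrank K A := h1

end Groth.Agent.Lib.Helper52
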