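import Groth.Agent.Lib.Helper52.FiniteAlgPoints
import Mathlib.AlgebraicGeometry.Morphisms.FlatRank

/-!
A scheme finite over the spectrum of a field, of rank at most `n`, has at most `n` points. (helper52)
-/

set_option autoImplicit false
universe u

open CategoryTheory AlgebraicGeometry

namespace Groth.Agent.Lib.Helper52

theorem encard_le_of_finite_over_field {T : Scheme.{u}} {K : Type u} [Field K]
    (c : T ⟶ Spec (CommRingCat.of K)) [IsFinite c] (n : ℕ) (h : ∀ s, c.finrank s ≤ n) :
    Finite T ∧ Nat.card T ≤ n := by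
  have : IsAffine T := isAffine_of_isAffineHom c
  let ψ : CommRingCat.of K ⟶ Γ(T, ⊤) := (Scheme.ΓSpecIso (CommRingCat.of K)).inv ≫ c.appTop
  have hc : c = T.isoSpec.hom ≫ Spec.map ψ := by
    have h1 := Scheme.isoSpec_hom_naturality c
    rw [Scheme.isoSpec_Spec_hom] at h1
    change c = T.isoSpec.hom ≫ Spec.map ((Scheme.ΓSpecIso (CommRingCat.of K)).inv ≫ c.appTop)
    rw [Spec.map_comp, reassoc_of% h1, ← Spec.map_comp, Iso.inv_hom_id, Spec.map_id, Category.comp_id]
  have hfin' : IsFinite (Spec.map ψ) := by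
    have : Spec.map ψ = T.isoSpec.inv ≫ c := by rw [hc, Iso.inv_hom_id_assoc]
    rw [this]
    infer_instance
  have hfin : ψ.hom.Finite := (IsFinite.SpecMap_iff ψ).mp hfin'
  have hflat : ψ.hom.Flat := by
    algebraize [ψ.hom]
    have : Module.Flat K Γ(T, ⊤) := inferInstance
    exact this
  have hflat' : Flat (Spec.map ψ) := Flat.SpecMap_iff.mpr hflat
  let s : Spec (CommRingCat.of K) := IsLocalRing.closedPoint K
  have h2 : c.finrank s = ψ.hom.finrank s := by
    rw [hc, Scheme.Hom.finrank_comp_left_of_isIso, Scheme.Hom.finrank_SpecMap_eq_finrank hfin hflat]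
  algebraize [ψ.hom]
  have hmf : Module.Finite K Γ(T, ⊤) := hfin
  have h3 : ψ.hom.finrank s = Module.finrank K Γ(T, ⊤) := by
    change Module.rankAtStalk _ s = _
    rw [Module.rankAtStalk_eq_finrank_of_free]
    rfl
  obtain ⟨hF, hcard⟩ := card_primeSpectrum_le_finrank K Γ(T, ⊤)
  let e : T ≃ PrimeSpectrum Γ(T, ⊤) := (Scheme.homeoOfIso T.isoSpec).toEquiv
  refine ⟨Finite.of_equiv _ e.symm, ?_⟩
  rw [Nat.card_congr e]
  exact hcard.trans ((h3.symm.trans h2.symm).le.trans (h s))

end Groth.Agent.Lib.Helper52
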