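import Mathlib

/-!
# Hilbert 90 for cyclic extensions (universe polymorphic)

Mathlib's `groupCohomology.exists_div_of_norm_eq_one` is stated for fields in `Type`.
Here is the classical proof via Dedekind's independence of characters, for arbitrary universes.
-/

namespace Groth.Agent.Lib.Helper52.H90Cyc

variable {K : Type*} {F : Type*} [Field K] [Field F] [Algebra K F]
  [FiniteDimensional K F] [IsGalois K F]

theorem exists_div_of_norm_eq_one (g : F ≃ₐ[K] F) (hg : ∀ σ, σ ∈ Subgroup.zpowers g) {x : F}
    (hx : Algebra.norm K x = 1) : ∃ y : Fˣ, (y : F) / g y = x := by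
  classical
  set n := orderOf g with hn
  have hnpos : 0 < n := orderOf_pos g
  have hprod : ∏ j ∈ Finset.range n, (g ^ j) x = 1 := by
    have h1 := Algebra.norm_eq_prod_automorphisms K x
    rw [hx, map_one] at h1
    rw [h1, ← IsCyclic.image_range_orderOf hg, Finset.prod_image]
    intro i hi j hj hij
    exact pow_injOn_Iio_orderOf (by simpa using hi) (by simpa using hj) hij
  let a : ℕ → F := fun j => ∏ i ∈ Finset.range j, (g ^ i) x
  have ha0 : a 0 = 1 := by simp [a]
  have han : a n = 1 := hprod
  have hstep : ∀ j, x * g (a j) = a (j + 1) := by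
    intro j
    simp only [a]
    rw [Finset.prod_range_succ', map_prod, pow_zero, AlgEquiv.one_apply, mul_comm]
    congr 1
    refine Finset.prod_congr rfl fun i _ => ?_
    rw [pow_succ', AlgEquiv.mul_apply]
  have hindep : ∃ c : F, ∑ j ∈ Finset.range n, a j * (g ^ j) c ≠ 0 := by
    by_contra hcon
    push_neg at hcon
    have hli := linearIndependent_monoidHom F F
    let v : Fin n → (F →* F) := fun j => MonoidHomClass.toMonoidHom (g ^ (j : ℕ))
    have hv : Function.Injective v := by
      intro i j hij
      have : g ^ (i : ℕ) = g ^ (j : ℕ) := by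
        ext z
        exact DFunLike.congr_fun hij z
      exact Fin.ext (pow_injOn_Iio_orderOf (Set.mem_Iio.mpr i.2) (Set.mem_Iio.mpr j.2) this)
    have hli' := hli.comp v hv
    rw [Fintype.linearIndependent_iff] at hli'
    have h0 := hli' (fun j => a j) (by
      funext c
      simp only [Function.comp, Finset.sum_apply, Pi.smul_apply, smul_eq_mul, Pi.zero_apply]
      rw [← hcon c, Finset.sum_range]
      rfl) ⟨0, hnpos⟩
    simp only [ha0] at h0
    exact one_ne_zero h0
  obtain ⟨c, hc⟩ := hindep
  set y : F := ∑ j ∈ Finset.range n, a j * (g ^ j) c with hy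
  have hgn : (g ^ n) c = c := by
    rw [hn, pow_orderOf_eq_one, AlgEquiv.one_apply]
  have hxy : x * g y = y := by
    rw [hy, map_sum, Finset.mul_sum]
    have h1 : ∀ j ∈ Finset.range n, x * g (a j * (g ^ j) c) = a (j + 1) * (g ^ (j + 1)) c := by
      intro j _
      rw [map_mul, ← mul_assoc, hstep, pow_succ', AlgEquiv.mul_apply]
    rw [Finset.sum_congr rfl h1]
    have h2 := Finset.sum_range_succ' (fun j => a j * (g ^ j) c) n
    have h3 := Finset.sum_range_succ (fun j => a j * (g ^ j) c) n
    beta_reduce at h2 h3
    rw [h3, han, hgn, ha0, pow_zero, AlgEquiv.one_apply] at h2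
    exact (add_right_cancel h2).symm
  have hgy : g y ≠ 0 := by
    intro h
    apply hc
    rw [← hxy, h, mul_zero]
  refine ⟨Units.mk0 y hc, ?_⟩
  rw [Units.val_mk0, div_eq_iff hgy]
  exact hxy.symm

end Groth.Agent.Lib.Helper52.H90Cyc
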