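import Mathlib
import Groth.Prelude.Def_Curves
import Groth.Agent.Lib.Helper87.TsenLangNorm

/-!
# Norm surjectivity over a `C₁` field

For a finite extension `L/K` of a `C₁` field `K`, the norm `L → K` is surjective
(the norm form `N(x) - a t^n` has `n + 1` variables and degree `n`).
-/

open MvPolynomial

namespace Groth.Agent.Lib.Helper52.NormC1

open Groth.Agent.Lib.Helper87.TsenLang

theorem isCr_of_isCi {K : Type*} [Field K] {i : ℕ} (h : Curves.IsCi K i) : Curves.IsCr K i := by
  intro n d f hf hd hlt
  obtain ⟨a, ha, hz⟩ := h 1 n (fun _ => f) (fun _ => d) (fun _ => hf) (fun _ => hd)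
    (by simpa using hlt)
  exact ⟨a, ha, hz 0⟩

variable {K : Type*} [Field K] {L : Type*} [Field L] [Algebra K L]

theorem norm_surjective [FiniteDimensional K L] (hK : Curves.IsCr K 1) :
    Function.Surjective (Algebra.norm K : L → K) := by
  classical
  intro a
  by_cases ha : a = 0
  · exact ⟨0, by rw [ha]; exact Algebra.norm_zero⟩
  let τ := Fin (Module.finrank K L)
  let b : Module.Basis τ K L := Module.finBasis K L
  -- the generic matrix of left multiplication
  let M : Matrix τ τ (MvPolynomial (Option τ) K) :=
    Matrix.of fun l l' => ∑ m, C (Algebra.leftMulMatrix b (b m) l l') * X (some m)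
  have hM : ∀ l l', (M l l').IsHomogeneous 1 := by
    intro l l'
    change (∑ m, C (Algebra.leftMulMatrix b (b m) l l') * X (some m) :
      MvPolynomial (Option τ) K).IsHomogeneous 1
    apply IsHomogeneous.sum
    intro m _
    have := (isHomogeneous_C (Option τ) (Algebra.leftMulMatrix b (b m) l l')).mul
      (isHomogeneous_X K (some m))
    simpa using this
  have hdet : M.det.IsHomogeneous (Fintype.card τ * 1) := isHomogeneous_det M 1 hM
  have hcard : Fintype.card τ = Module.finrank K L := Fintype.card_fin _
  have hpos : 0 < Module.finrank K L := Module.finrank_pos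
  let P : MvPolynomial (Option τ) K := M.det - C a * X none ^ (Fintype.card τ * 1)
  have hP : P.IsHomogeneous (Fintype.card τ * 1) := by
    apply IsHomogeneous.sub hdet
    have := (isHomogeneous_C (Option τ) a).mul
      ((isHomogeneous_X K (none : Option τ)).pow (Fintype.card τ * 1))
    simpa using this
  have hlt : (Fintype.card τ * 1) ^ 1 < Fintype.card (Option τ) := by
    rw [Fintype.card_option]; simp
  obtain ⟨y, hy, hz⟩ := isCr_general hK P (Fintype.card τ * 1) hP
    (by rw [mul_one, hcard]; exact hpos) hlt
  set c : L := ∑ m, y (some m) • b m with hc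
  have hev : eval y M.det = Algebra.norm K c := by
    rw [Algebra.norm_eq_matrix_det b c, RingHom.map_det]
    congr 1
    ext l l'
    rw [RingHom.mapMatrix_apply, Matrix.map_apply]
    change eval y (∑ m, C (Algebra.leftMulMatrix b (b m) l l') * X (some m)) = _
    rw [map_sum, hc, map_sum, Matrix.sum_apply]
    refine Finset.sum_congr rfl fun m _ => ?_
    rw [map_mul, eval_C, eval_X, map_smul, Matrix.smul_apply, smul_eq_mul, mul_comm]
  have hz' : Algebra.norm K c = a * y none ^ (Fintype.card τ * 1) := by
    have : eval y P = 0 := hz
    simp only [P, map_sub, map_mul, map_pow, eval_C, eval_X] at this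
    rw [hev] at this
    exact sub_eq_zero.mp this
  have hy0 : y none ≠ 0 := by
    intro h0
    rw [h0, zero_pow (by rw [mul_one, hcard]; exact hpos.ne'), mul_zero,
      Algebra.norm_eq_zero_iff] at hz'
    apply hy
    funext o
    cases o with
    | none => exact h0
    | some m =>
      have h1 := Fintype.linearIndependent_iff.mp b.linearIndependent (fun m => y (some m)) hz' m
      simpa using h1
  refine ⟨algebraMap K L (y none)⁻¹ * c, ?_⟩
  rw [map_mul, Algebra.norm_algebraMap, hz', mul_one, hcard, inv_pow]
  field_simp

end Groth.Agent.Lib.Helper52.NormC1
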