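import Mathlib
import Groth.Prelude.Def_Curves
import Groth.Agent.Lib.Helper87.TsenLangNorm
import Groth.Agent.Lib.Helper52.NormC1
import Groth.Agent.Lib.Helper52.H90Cyc

/-!
# Vanishing of `Ĥ⁻¹(G, Lˣ)` for Galois extensions of `C₁` fields

For a finite Galois extension `L/K` of a `C₁` field `K`, every unit of norm one lies in the
subgroup generated by the `w / g w`.  Proof: Sylow transfer reduces to `p`-groups; for a
`p`-group pick a normal subgroup `H` of index `p`, use cyclic Hilbert 90 on `L^H/K`, norm
surjectivity for `L/L^H` (as `L^H` is `C₁`), and induction on `L/L^H`.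
-/

namespace Groth.Agent.Lib.Helper52.HMinusOne

open Groth.Agent.Lib.Helper52 IntermediateField

universe u

section Defs

variable (K L : Type*) [Field K] [Field L] [Algebra K L]

/-- The subgroup `I_G Lˣ` generated by the `w / g w`. -/
def aug : Subgroup Lˣ :=
  Subgroup.closure {v : Lˣ | ∃ (w : Lˣ) (g : L ≃ₐ[K] L), (v : L) = (w : L) / g (w : L)}

variable {K L}

theorem div_mem_aug (w : Lˣ) (g : L ≃ₐ[K] L) (v : Lˣ) (hv : (v : L) = (w : L) / g (w : L)) :
    v ∈ aug K L :=
  Subgroup.subset_closure ⟨w, g, hv⟩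

theorem div_mem_aug' (w : Lˣ) (g : L ≃ₐ[K] L) (v : Lˣ) (hv : (v : L) = g (w : L) / (w : L)) :
    v ∈ aug K L := by
  have h : v⁻¹ ∈ aug K L :=
    div_mem_aug w g v⁻¹ (by rw [Units.val_inv_eq_inv_val, hv, inv_div])
  simpa using (aug K L).inv_mem h

theorem aug_tower (F : IntermediateField K L) : aug F L ≤ aug K L := by
  unfold aug
  apply (Subgroup.closure_le _).mpr
  rintro v ⟨w, g, hv⟩
  exact div_mem_aug w (g.restrictScalars K) v hv

theorem norm_eq_one_of_mem_aug [FiniteDimensional K L] (u : Lˣ) (hu : u ∈ aug K L) :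
    Algebra.norm K (u : L) = 1 := by
  unfold aug at hu
  induction hu using Subgroup.closure_induction with
  | mem v hv =>
    obtain ⟨w, g, hv⟩ := hv
    rw [hv, div_eq_mul_inv, map_mul, Algebra.norm_inv, Algebra.norm_eq_of_algEquiv g (w : L)]
    exact mul_inv_cancel₀ (Algebra.norm_ne_zero_iff.mpr w.ne_zero)
  | one => simp
  | mul a b _ _ ha hb => rw [Units.val_mul, map_mul, ha, hb, one_mul]
  | inv a _ ha => rw [Units.val_inv_eq_inv_val, Algebra.norm_inv, ha, inv_one]

end Defs

section FixedNorm

variable {K L : Type*} [Field K] [Field L] [Algebra K L] [FiniteDimensional K L] [IsGalois K L]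

theorem algebraMap_norm_fixedField (H : Subgroup (L ≃ₐ[K] L)) [Fintype H] (x : L) :
    algebraMap (fixedField H) L (Algebra.norm (fixedField H) x) =
      ∏ h : H, (h : L ≃ₐ[K] L) x := by
  classical
  rw [Algebra.norm_eq_prod_automorphisms (fixedField H) x]
  refine Fintype.prod_equiv
    ((fixingSubgroupEquiv (fixedField H)).symm.toEquiv.trans
      (MulEquiv.subgroupCongr (fixingSubgroup_fixedField H)).toEquiv) _ _ (fun σ => ?_)
  rfl

end FixedNorm

section PGroup

open Groth.Agent.Lib.Helper87.TsenLang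

theorem mem_aug_of_isPGroup (p : ℕ) [hp : Fact p.Prime] :
    ∀ (n : ℕ) (K L : Type u) [Field K] [Field L] [Algebra K L] [FiniteDimensional K L]
      [IsGalois K L], Curves.IsCr K 1 → IsPGroup p (L ≃ₐ[K] L) → Module.finrank K L = n →
      ∀ u : Lˣ, Algebra.norm K (u : L) = 1 → u ∈ aug K L := by
  intro n
  induction n using Nat.strong_induction_on with
  | _ n ih =>
    intro K L _ _ _ _ _ hK hP hn u hu
    classical
    obtain ⟨k, hk⟩ := IsPGroup.iff_card.mp hP
    have hcard : Nat.card (L ≃ₐ[K] L) = n := by rw [IsGalois.card_aut_eq_finrank, hn]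
    cases k with
    | zero =>
      have h1 : Nat.card (L ≃ₐ[K] L) = 1 := by simpa using hk
      have : Subsingleton (L ≃ₐ[K] L) := (Nat.card_eq_one_iff_unique.mp h1).1
      have h2 := Algebra.norm_eq_prod_automorphisms K (u : L)
      rw [hu, map_one] at h2
      have h3 : ∏ σ : (L ≃ₐ[K] L), σ (u : L) = (u : L) := by
        rw [Fintype.prod_subsingleton _ (1 : L ≃ₐ[K] L)]; rfl
      have h4 : u = 1 := Units.ext (by rw [← h3, ← h2]; rfl)
      rw [h4]; exact (aug K L).one_mem
    | succ k =>
      obtain ⟨H, hH⟩ := Sylow.exists_subgroup_card_pow_prime (G := L ≃ₐ[K] L) p (n := k)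
        (by rw [hk]; exact pow_dvd_pow p (Nat.le_succ k))
      have hidx : H.index = p := by
        have h1 := H.card_mul_index
        rw [hH, hk, pow_succ] at h1
        exact Nat.eq_of_mul_eq_mul_left (pow_pos hp.out.pos k) h1
      have : H.Normal := Subgroup.normal_of_index_eq_minFac_card (by
        rw [hidx, hk, Nat.pow_minFac (Nat.succ_ne_zero k), hp.out.minFac_eq])
      -- the fixed field
      let F : IntermediateField K L := fixedField H
      have : IsGalois K F := IsGalois.of_fixedField_normal_subgroup H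
      have hFcard : Nat.card (F ≃ₐ[K] F) = p := by
        rw [← Nat.card_congr (IsGalois.normalAutEquivQuotient H).toEquiv, ← hidx]
        rfl
      have : IsCyclic (F ≃ₐ[K] F) := isCyclic_of_prime_card hFcard
      obtain ⟨gbar, hgbar⟩ := IsCyclic.exists_generator (α := F ≃ₐ[K] F)
      have hFC1 : Curves.IsCr F 1 := isCr_one_of_finiteDimensional hK
      -- v = N_{L/F}(u) has norm one over K
      have hv : Algebra.norm K (Algebra.norm F (u : L)) = 1 := by
        rw [Algebra.norm_norm, hu]
      obtain ⟨y, hy⟩ := H90Cyc.exists_div_of_norm_eq_one gbar hgbar hv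
      obtain ⟨t, ht⟩ := NormC1.norm_surjective (K := F) (L := L) hFC1 (y : F)
      have ht0 : t ≠ 0 := by
        intro h0
        rw [h0, Algebra.norm_zero] at ht
        exact y.ne_zero ht.symm
      obtain ⟨g, hg⟩ := AlgEquiv.restrictNormalHom_surjective (F := K) (K₁ := F) L gbar
      have hcomm : ∀ x : F, algebraMap F L (gbar x) = g (algebraMap F L x) := by
        intro x
        rw [← hg]
        exact AlgEquiv.restrictNormal_commutes g F x
      have hequiv : Algebra.norm F (g t) = gbar (Algebra.norm F t) := by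
        have h1 := Algebra.norm_eq_of_equiv_equiv (A₁ := F) (B₁ := L) (A₂ := F) (B₂ := L)
          (gbar : F ≃+* F) (g : L ≃+* L) (by
            ext x
            exact hcomm x) t
        rw [h1]
        exact ((gbar : F ≃+* F).apply_symm_apply _).symm
      let t' : Lˣ := Units.mk0 t ht0
      let gt' : Lˣ := Units.map ((g : L ≃ₐ[K] L) : L →* L) t'
      have hgt' : (gt' : L) = g t := rfl
      let z : Lˣ := u * gt' / t'
      have hz : Algebra.norm F (z : L) = 1 := by
        have hzval : (z : L) = (u : L) * g t / t := by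
          simp only [z, Units.val_div_eq_div_val, Units.val_mul, hgt', t', Units.val_mk0]
        rw [hzval, div_eq_mul_inv, map_mul, map_mul, Algebra.norm_inv, hequiv, ht, ← hy]
        have hy0 : (y : F) ≠ 0 := y.ne_zero
        have hgy0 : gbar (y : F) ≠ 0 := gbar.map_ne_zero_iff.mpr hy0
        field_simp
      -- induction hypothesis for L / F
      have hFL : Module.finrank F L = p ^ k := by
        rw [IntermediateField.finrank_fixedField_eq_card, hH]
      have hlt : Module.finrank F L < n := by
        rw [hFL, ← hcard, hk]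
        exact Nat.pow_lt_pow_right hp.out.one_lt (Nat.lt_succ_self k)
      have hPF : IsPGroup p (L ≃ₐ[F] L) :=
        (hP.to_subgroup F.fixingSubgroup).of_equiv (fixingSubgroupEquiv F)
      have hzI : z ∈ aug F L := ih _ hlt F L hFC1 hPF rfl z hz
      have hzK : z ∈ aug K L := aug_tower F hzI
      have hd : t' / gt' ∈ aug K L :=
        div_mem_aug t' g (t' / gt') (by rw [Units.val_div_eq_div_val]; rfl)
      have hfin : u = z * (t' / gt') := by
        have key : ∀ a b c : Lˣ, a = a * b / c * (c / b) := by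
          intro a b c
          rw [div_mul_div_cancel, mul_div_cancel_right]
        exact key u gt' t'
      rw [hfin]
      exact (aug K L).mul_mem hzK hd

end PGroup

section SylowStep

open Groth.Agent.Lib.Helper87.TsenLang

theorem pow_mem_aug_of_sylow {K L : Type u} [Field K] [Field L] [Algebra K L]
    [FiniteDimensional K L] [IsGalois K L] (hK : Curves.IsCr K 1) (u : Lˣ)
    (hu : Algebra.norm K (u : L) = 1) (q : ℕ) [hq : Fact q.Prime] :
    ∃ m : ℕ, ¬ q ∣ m ∧ u ^ m ∈ aug K L := by
  classical
  let P : Sylow q (L ≃ₐ[K] L) := default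
  obtain ⟨T, hT, -⟩ := Subgroup.exists_isComplement_right (P : Subgroup (L ≃ₐ[K] L)) 1
  haveI : Fintype T := Fintype.ofFinite T
  refine ⟨Nat.card T, ?_, ?_⟩
  · have h1 := hT.card_mul_card
    have h2 := (P : Subgroup (L ≃ₐ[K] L)).card_mul_index
    have h3 : (P : Subgroup (L ≃ₐ[K] L)).index = Nat.card T := by
      apply Nat.eq_of_mul_eq_mul_left (Nat.card_pos (α := (P : Subgroup (L ≃ₐ[K] L))))
      rw [h2, ← h1]
      rfl
    rw [← h3]
    exact P.not_dvd_index
  · let F : IntermediateField K L := fixedField (P : Subgroup (L ≃ₐ[K] L))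
    let w : Lˣ := ∏ c : T, Units.map (((c : L ≃ₐ[K] L)) : L →* L) u
    have hwval : (w : L) = ∏ c : T, (c : L ≃ₐ[K] L) (u : L) := by
      simp only [w, Units.coe_prod]
      rfl
    have hw : Algebra.norm F (w : L) = 1 := by
      apply (algebraMap F L).injective
      rw [algebraMap_norm_fixedField, map_one, hwval]
      have h1 := Algebra.norm_eq_prod_automorphisms K (u : L)
      rw [hu, map_one] at h1
      rw [h1]
      have hbij : Function.Bijective
          (fun x : ((P : Subgroup (L ≃ₐ[K] L)) : Set (L ≃ₐ[K] L)) × T =>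
            (x.1 : L ≃ₐ[K] L) * (x.2 : L ≃ₐ[K] L)) := hT
      rw [← Fintype.prod_bijective _ hbij
        (fun x => ((x.1 : L ≃ₐ[K] L) * (x.2 : L ≃ₐ[K] L)) (u : L)) _ (fun _ => rfl)]
      rw [Fintype.prod_prod_type]
      refine Fintype.prod_equiv (Equiv.refl _) _ _ (fun h => ?_)
      rw [map_prod]
      rfl
    have hFC1 : Curves.IsCr F 1 := isCr_one_of_finiteDimensional hK
    have hPF : IsPGroup q (L ≃ₐ[F] L) := by
      have h0 : IsPGroup q (P : Subgroup (L ≃ₐ[K] L)) := P.isPGroup'
      have h1 : F.fixingSubgroup = (P : Subgroup (L ≃ₐ[K] L)) := fixingSubgroup_fixedField _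
      have h2 : IsPGroup q F.fixingSubgroup := by rw [h1]; exact h0
      exact h2.of_equiv (fixingSubgroupEquiv F)
    have hwI : w ∈ aug F L := mem_aug_of_isPGroup q _ F L hFC1 hPF rfl w hw
    have hwK : w ∈ aug K L := aug_tower F hwI
    let d : T → Lˣ := fun c => Units.map ((c : L ≃ₐ[K] L) : L →* L) u / u
    have hd : ∀ c, d c ∈ aug K L := fun c =>
      div_mem_aug' u c (d c) (by simp only [d, Units.val_div_eq_div_val]; rfl)
    have hwd : w = u ^ Nat.card T * ∏ c : T, d c := by
      simp only [w, d]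
      rw [Nat.card_eq_fintype_card, ← Finset.card_univ, ← Finset.prod_const,
        ← Finset.prod_mul_distrib]
      refine Finset.prod_congr rfl (fun c _ => ?_)
      rw [mul_comm, div_mul_cancel]
    have hfin : u ^ Nat.card T = w * (∏ c : T, d c)⁻¹ := by
      rw [hwd, mul_inv_cancel_right]
    rw [hfin]
    exact (aug K L).mul_mem hwK ((aug K L).inv_mem ((aug K L).prod_mem (fun c _ => hd c)))

theorem mem_aug_of_norm_eq_one {K L : Type u} [Field K] [Field L] [Algebra K L]
    [FiniteDimensional K L] [IsGalois K L] (hK : Curves.IsCr K 1) (u : Lˣ)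
    (hu : Algebra.norm K (u : L) = 1) : u ∈ aug K L := by
  classical
  let ubar : Lˣ ⧸ aug K L := QuotientGroup.mk u
  have hfin : ∀ (q : ℕ) [Fact q.Prime], ∃ m : ℕ, ¬ q ∣ m ∧ ubar ^ m = 1 := by
    intro q hq
    obtain ⟨m, hm, hmem⟩ := pow_mem_aug_of_sylow hK u hu q
    refine ⟨m, hm, ?_⟩
    change (QuotientGroup.mk u : Lˣ ⧸ aug K L) ^ m = 1
    rw [← QuotientGroup.mk_pow]
    exact (QuotientGroup.eq_one_iff _).mpr hmem
  have hord : orderOf ubar = 1 := by
    by_contra hne
    obtain ⟨q, hq, hdvd⟩ := Nat.exists_prime_and_dvd hne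
    haveI := Fact.mk hq
    obtain ⟨m, hm, h1⟩ := hfin q
    exact hm (hdvd.trans (orderOf_dvd_of_pow_eq_one h1))
  have h1 : ubar = 1 := orderOf_eq_one_iff.mp hord
  exact (QuotientGroup.eq_one_iff u).mp h1

end SylowStep

end Groth.Agent.Lib.Helper52.HMinusOne
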