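import Mathlib

/-!
# Spreading out a hermitian diagonalisation from a localisation

`K` a commutative ring with an endomorphism `φ`, `M` a submonoid fixed by `φ`, `L = M⁻¹ K`.
A congruence diagonalisation of (the image of) a matrix `h` over `L` comes from numerators over
`K` satisfying the relevant identities after multiplication by an element of `M`; these can be
pushed to any `K`-algebra in which the relevant elements of `M` become units.
-/

set_option autoImplicit false
set_option linter.style.haveILetI false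
set_option linter.unusedSectionVars false
set_option linter.unusedVariables false

namespace Groth.Agent.Lib.Helper52.HermSpread

open Matrix

section Loc

variable {K : Type*} [CommRing K] (M : Submonoid K) {L : Type*} [CommRing L] [Algebra K L]
  [IsLocalization M L]

/-- a finite family of elements dying in the localisation has a common annihilator in `M` -/
lemma exists_common_annihilator {ι : Type*} [Finite ι] (f : ι → K)
    (hf : ∀ i, algebraMap K L (f i) = 0) : ∃ m : M, ∀ i, (m : K) * f i = 0 := by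
  classical
  cases nonempty_fintype ι
  have h : ∀ i, ∃ m : M, (m : K) * f i = 0 := fun i =>
    (IsLocalization.map_eq_zero_iff M L (f i)).mp (hf i)
  choose m hm using h
  refine ⟨∏ i, m i, fun i => ?_⟩
  rw [Submonoid.coe_finsetProd, ← Finset.mul_prod_erase _ _ (Finset.mem_univ i),
    mul_right_comm, hm, zero_mul]

/-- numerators of a matrix over the localisation -/
lemma exists_lift_matrix {m n : Type*} [Finite m] [Finite n] (v : Matrix m n L) :
    ∃ (s : M) (v₀ : Matrix m n K), v₀.map (algebraMap K L) = ((s : K)) • v := by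
  obtain ⟨s, hs⟩ := IsLocalization.exist_integer_multiples_of_finite M
    (fun p : m × n => v p.1 p.2)
  choose w hw using hs
  refine ⟨s, Matrix.of fun i j => w (i, j), ?_⟩
  ext i j
  simp only [Matrix.map_apply, Matrix.of_apply, Matrix.smul_apply]
  exact hw (i, j)

/-- spreading out: numerators and the identities they satisfy -/
theorem spread {n : Type*} [Fintype n] [DecidableEq n] (φ : K →+* K) (φL : L →+* L)
    (hφ : ∀ k, φL (algebraMap K L k) = algebraMap K L (φ k))
    (hM : ∀ m ∈ M, φ m = m) (h : Matrix n n K) (v : Matrix n n L) (hv : IsUnit v)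
    (hd : ∀ i j, i ≠ j → ((v.map φL)ᵀ * h.map (algebraMap K L) * v) i j = 0) :
    ∃ (m s : M) (v₀ v₀' : Matrix n n K),
      (m : K) • (v₀ * v₀') = ((m : K) * (s : K)) • (1 : Matrix n n K) ∧
      ∀ i j, i ≠ j → (m : K) * ((v₀.map φ)ᵀ * h * v₀) i j = 0 := by
  obtain ⟨v', hvv'⟩ := hv.exists_right_inv
  obtain ⟨s₁, v₀, hv₀⟩ := exists_lift_matrix M v
  obtain ⟨s₂, v₀', hv₀'⟩ := exists_lift_matrix M v'
  have e1 : (v₀ * v₀').map (algebraMap K L) =
      (((s₁ : K) * (s₂ : K)) • (1 : Matrix n n K)).map (algebraMap K L) := by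
    rw [Matrix.map_mul, hv₀, hv₀', Matrix.smul_mul, Matrix.mul_smul, hvv', smul_smul]
    ext i j
    simp only [Matrix.smul_apply, Matrix.map_apply, Matrix.one_apply]
    rw [Algebra.smul_def]
    split_ifs <;> simp
  have e2 : (v₀.map φ).map (algebraMap K L) = (v₀.map (algebraMap K L)).map φL := by
    ext i j
    simp only [Matrix.map_apply]
    rw [hφ]
  have hs₁ : φL (algebraMap K L (s₁ : K)) = algebraMap K L (s₁ : K) := by
    rw [hφ, hM _ s₁.2]
  have e3 : ((v₀.map φ)ᵀ * h * v₀).map (algebraMap K L) =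
      (algebraMap K L (s₁ : K) * algebraMap K L (s₁ : K)) •
        ((v.map φL)ᵀ * h.map (algebraMap K L) * v) := by
    rw [Matrix.map_mul, Matrix.map_mul, Matrix.transpose_map, e2, hv₀]
    have : (((s₁ : K)) • v).map φL = algebraMap K L (s₁ : K) • v.map φL := by
      ext i j
      simp only [Matrix.map_apply, Matrix.smul_apply]
      rw [Algebra.smul_def, map_mul, hs₁, smul_eq_mul]
    rw [this, Matrix.transpose_smul, Matrix.smul_mul, Matrix.smul_mul, Matrix.mul_smul]
    ext i j
    simp only [Matrix.smul_apply]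
    rw [Algebra.smul_def (s₁ : K), smul_eq_mul, smul_eq_mul]
    ring
  obtain ⟨m₁, hm₁⟩ := exists_common_annihilator M (L := L)
    (fun p : n × n => (v₀ * v₀' - ((s₁ : K) * (s₂ : K)) • (1 : Matrix n n K)) p.1 p.2) (by
      intro p
      have := congrFun (congrFun e1 p.1) p.2
      simp only [Matrix.map_apply] at this
      simp only [Matrix.sub_apply, map_sub]
      rw [this, sub_self])
  obtain ⟨m₂, hm₂⟩ := exists_common_annihilator M (L := L)
    (fun p : {p : n × n // p.1 ≠ p.2} => ((v₀.map φ)ᵀ * h * v₀) p.1.1 p.1.2) (by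
      intro p
      have := congrFun (congrFun e3 p.1.1) p.1.2
      simp only [Matrix.map_apply] at this
      rw [this, Matrix.smul_apply, hd _ _ p.2, smul_zero])
  refine ⟨m₁ * m₂, s₁ * s₂, v₀, v₀', ?_, ?_⟩
  · ext i j
    have := hm₁ (i, j)
    simp only [Matrix.sub_apply, Matrix.smul_apply, smul_eq_mul] at this ⊢
    rw [Submonoid.coe_mul, Submonoid.coe_mul]
    linear_combination (m₂ : K) * this
  · intro i j hij
    have := hm₂ ⟨(i, j), hij⟩
    simp only at this
    rw [Submonoid.coe_mul]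
    linear_combination (m₁ : K) * this

/-- spreading out a congruence with a prescribed target -/
theorem spread_to {n : Type*} [Fintype n] [DecidableEq n] (φ : K →+* K) (φL : L →+* L)
    (hφ : ∀ k, φL (algebraMap K L k) = algebraMap K L (φ k))
    (hM : ∀ m ∈ M, φ m = m) (h h' : Matrix n n K) (v : Matrix n n L) (hv : IsUnit v)
    (hd : (v.map φL)ᵀ * h.map (algebraMap K L) * v = h'.map (algebraMap K L)) :
    ∃ (m s₁ s₂ : M) (v₀ v₀' : Matrix n n K),
      (m : K) • (v₀ * v₀') = ((m : K) * ((s₁ : K) * (s₂ : K))) • (1 : Matrix n n K) ∧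
      (m : K) • ((v₀.map φ)ᵀ * h * v₀) = ((m : K) * ((s₁ : K) * (s₁ : K))) • h' := by
  obtain ⟨v', hvv'⟩ := hv.exists_right_inv
  obtain ⟨s₁, v₀, hv₀⟩ := exists_lift_matrix M v
  obtain ⟨s₂, v₀', hv₀'⟩ := exists_lift_matrix M v'
  have e1 : (v₀ * v₀').map (algebraMap K L) =
      (((s₁ : K) * (s₂ : K)) • (1 : Matrix n n K)).map (algebraMap K L) := by
    rw [Matrix.map_mul, hv₀, hv₀', Matrix.smul_mul, Matrix.mul_smul, hvv', smul_smul]
    ext i j
    simp only [Matrix.smul_apply, Matrix.map_apply, Matrix.one_apply]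
    rw [Algebra.smul_def]
    split_ifs <;> simp
  have e2 : (v₀.map φ).map (algebraMap K L) = (v₀.map (algebraMap K L)).map φL := by
    ext i j
    simp only [Matrix.map_apply]
    rw [hφ]
  have hs₁ : φL (algebraMap K L (s₁ : K)) = algebraMap K L (s₁ : K) := by
    rw [hφ, hM _ s₁.2]
  have e3 : ((v₀.map φ)ᵀ * h * v₀).map (algebraMap K L) =
      (((s₁ : K) * (s₁ : K)) • h').map (algebraMap K L) := by
    rw [Matrix.map_mul, Matrix.map_mul, Matrix.transpose_map, e2, hv₀]
    have : (((s₁ : K)) • v).map φL = algebraMap K L (s₁ : K) • v.map φL := by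
      ext i j
      simp only [Matrix.map_apply, Matrix.smul_apply]
      rw [Algebra.smul_def, map_mul, hs₁, smul_eq_mul]
    rw [this, Matrix.transpose_smul, Matrix.smul_mul, Matrix.smul_mul, Matrix.mul_smul, hd]
    ext i j
    simp only [Matrix.smul_apply, Matrix.map_apply]
    rw [Algebra.smul_def (s₁ : K), smul_eq_mul, smul_eq_mul, map_mul, map_mul]
    ring
  obtain ⟨m₁, hm₁⟩ := exists_common_annihilator M (L := L)
    (fun p : n × n => (v₀ * v₀' - ((s₁ : K) * (s₂ : K)) • (1 : Matrix n n K)) p.1 p.2) (by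
      intro p
      have := congrFun (congrFun e1 p.1) p.2
      simp only [Matrix.map_apply] at this
      simp only [Matrix.sub_apply, map_sub]
      rw [this, sub_self])
  obtain ⟨m₂, hm₂⟩ := exists_common_annihilator M (L := L)
    (fun p : n × n => ((v₀.map φ)ᵀ * h * v₀ - ((s₁ : K) * (s₁ : K)) • h') p.1 p.2) (by
      intro p
      have := congrFun (congrFun e3 p.1) p.2
      simp only [Matrix.map_apply] at this
      simp only [Matrix.sub_apply, map_sub]
      rw [this, sub_self])
  refine ⟨m₁ * m₂, s₁, s₂, v₀, v₀', ?_, ?_⟩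
  · ext i j
    have := hm₁ (i, j)
    simp only [Matrix.sub_apply, Matrix.smul_apply, smul_eq_mul] at this ⊢
    rw [Submonoid.coe_mul]
    linear_combination (m₂ : K) * this
  · ext i j
    have := hm₂ (i, j)
    simp only [Matrix.sub_apply, Matrix.smul_apply, smul_eq_mul] at this ⊢
    rw [Submonoid.coe_mul]
    linear_combination (m₁ : K) * this

end Loc

section Use

variable {K : Type*} [CommRing K] {K' : Type*} [CommRing K']

/-- using the spread-out identities in an algebra where the denominators are units -/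
theorem spread_use {n : Type*} [Fintype n] [DecidableEq n] (φ : K →+* K) (ρ : K →+* K')
    (φ' : K' →+* K') (hρ : ∀ k, ρ (φ k) = φ' (ρ k)) (m s : K) (hm : IsUnit (ρ m))
    (hs : IsUnit (ρ s)) (h v₀ v₀' : Matrix n n K)
    (h1 : m • (v₀ * v₀') = (m * s) • (1 : Matrix n n K))
    (h2 : ∀ i j, i ≠ j → m * ((v₀.map φ)ᵀ * h * v₀) i j = 0) :
    IsUnit (v₀.map ρ) ∧
      ((v₀.map ρ).map φ')ᵀ * h.map ρ * v₀.map ρ = ((v₀.map φ)ᵀ * h * v₀).map ρ ∧
      ∀ i j, i ≠ j → (((v₀.map ρ).map φ')ᵀ * h.map ρ * v₀.map ρ) i j = 0 := by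
  obtain ⟨mi, hmi⟩ := hm.exists_left_inv
  obtain ⟨si, hsi⟩ := hs.exists_left_inv
  have e2 : (v₀.map φ).map ρ = (v₀.map ρ).map φ' := by
    ext i j
    simp only [Matrix.map_apply]
    rw [hρ]
  have e3 : ((v₀.map ρ).map φ')ᵀ * h.map ρ * v₀.map ρ = ((v₀.map φ)ᵀ * h * v₀).map ρ := by
    rw [Matrix.map_mul, Matrix.map_mul, Matrix.transpose_map, e2]
  refine ⟨?_, e3, ?_⟩
  · have h3 : (m • (v₀ * v₀')).map ρ = ((m * s) • (1 : Matrix n n K)).map ρ := by rw [h1]
    have h4 : ρ m • (v₀.map ρ * v₀'.map ρ) = (ρ m * ρ s) • (1 : Matrix n n K') := by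
      have l : (m • (v₀ * v₀')).map ρ = ρ m • (v₀.map ρ * v₀'.map ρ) := by
        rw [← Matrix.map_mul]
        ext i j
        simp only [Matrix.map_apply, Matrix.smul_apply, smul_eq_mul, map_mul]
      have r : ((m * s) • (1 : Matrix n n K)).map ρ = (ρ m * ρ s) • (1 : Matrix n n K') := by
        ext i j
        simp only [Matrix.map_apply, Matrix.smul_apply, Matrix.one_apply, smul_eq_mul]
        split_ifs <;> simp
      rw [← l, ← r]
      exact h3
    have h5 : v₀.map ρ * ((si) • v₀'.map ρ) = 1 := by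
      have h6 := congrArg (fun X : Matrix n n K' => (si * mi) • X) h4
      simp only [smul_smul] at h6
      rw [Matrix.mul_smul]
      have e : si * mi * ρ m = si := by rw [mul_assoc, hmi, mul_one]
      have e' : si * mi * (ρ m * ρ s) = 1 := by
        calc si * mi * (ρ m * ρ s) = (mi * ρ m) * (si * ρ s) := by ring
          _ = 1 := by rw [hmi, hsi, one_mul]
      rw [e, e', one_smul] at h6
      exact h6
    exact (Matrix.isUnit_iff_isUnit_det _).mpr (Matrix.isUnit_det_of_right_inverse h5)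
  · intro i j hij
    rw [e3, Matrix.map_apply]
    have := congrArg ρ (h2 i j hij)
    rw [map_mul, map_zero] at this
    calc ρ (((v₀.map φ)ᵀ * h * v₀) i j) = (mi * ρ m) * ρ (((v₀.map φ)ᵀ * h * v₀) i j) := by
          rw [hmi, one_mul]
      _ = 0 := by rw [mul_assoc, this, mul_zero]

/-- using a spread-out congruence with prescribed target -/
theorem spread_to_use {n : Type*} [Fintype n] [DecidableEq n] (φ : K →+* K) (ρ : K →+* K')
    (φ' : K' →+* K') (hρ : ∀ k, ρ (φ k) = φ' (ρ k)) (m s₁ s₂ : K) (hm : IsUnit (ρ m))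
    (hs₁ : IsUnit (ρ s₁)) (hs₂ : IsUnit (ρ s₂)) (hφs₁ : φ s₁ = s₁)
    (h h' v₀ v₀' : Matrix n n K)
    (h1 : m • (v₀ * v₀') = (m * (s₁ * s₂)) • (1 : Matrix n n K))
    (h2 : m • ((v₀.map φ)ᵀ * h * v₀) = (m * (s₁ * s₁)) • h') :
    ∃ Q : Matrix n n K', IsUnit Q ∧ (Q.map φ')ᵀ * h.map ρ * Q = h'.map ρ := by
  obtain ⟨mi, hmi⟩ := hm.exists_left_inv
  obtain ⟨si₁, hsi₁⟩ := hs₁.exists_left_inv
  obtain ⟨si₂, hsi₂⟩ := hs₂.exists_left_inv
  have e2 : (v₀.map φ).map ρ = (v₀.map ρ).map φ' := by
    ext i j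
    simp only [Matrix.map_apply]
    rw [hρ]
  have e3 : ((v₀.map ρ).map φ')ᵀ * h.map ρ * v₀.map ρ = ((v₀.map φ)ᵀ * h * v₀).map ρ := by
    rw [Matrix.map_mul, Matrix.map_mul, Matrix.transpose_map, e2]
  have hφsi : φ' si₁ = si₁ := by
    have h3 : φ' si₁ * ρ s₁ = 1 := by
      have := congrArg φ' hsi₁
      rwa [map_mul, ← hρ, hφs₁, map_one] at this
    calc φ' si₁ = φ' si₁ * (ρ s₁ * si₁) := by rw [mul_comm (ρ s₁), hsi₁, mul_one]
      _ = si₁ := by rw [← mul_assoc, h3, one_mul]
  have hmap_smul : ∀ (c : K) (X : Matrix n n K), (c • X).map ρ = ρ c • X.map ρ := by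
    intro c X
    ext i j
    simp only [Matrix.map_apply, Matrix.smul_apply, smul_eq_mul, map_mul]
  have h4 : v₀.map ρ * v₀'.map ρ = (ρ s₁ * ρ s₂) • (1 : Matrix n n K') := by
    have h3 := congrArg (fun X : Matrix n n K => X.map ρ) h1
    simp only [hmap_smul, Matrix.map_mul] at h3
    have h5 := congrArg (fun X : Matrix n n K' => mi • X) h3
    simp only [smul_smul, hmi, one_smul] at h5
    rw [h5]
    have : (1 : Matrix n n K).map ρ = 1 := by
      ext i j
      simp [Matrix.one_apply, apply_ite ρ]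
    rw [this, map_mul, map_mul, ← mul_assoc, hmi, one_mul]
  have h6 : ((v₀.map φ)ᵀ * h * v₀).map ρ = (ρ s₁ * ρ s₁) • h'.map ρ := by
    have h3 := congrArg (fun X : Matrix n n K => X.map ρ) h2
    simp only [hmap_smul] at h3
    have h5 := congrArg (fun X : Matrix n n K' => mi • X) h3
    simp only [smul_smul, hmi, one_smul] at h5
    rw [h5, map_mul, map_mul, ← mul_assoc, hmi, one_mul]
  refine ⟨si₁ • v₀.map ρ, ?_, ?_⟩
  · have h5 : (si₁ • v₀.map ρ) * (si₂ • v₀'.map ρ) = 1 := by
      rw [Matrix.smul_mul, Matrix.mul_smul, h4, smul_smul, smul_smul]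
      have : si₁ * si₂ * (ρ s₁ * ρ s₂) = 1 := by
        calc si₁ * si₂ * (ρ s₁ * ρ s₂) = (si₁ * ρ s₁) * (si₂ * ρ s₂) := by ring
          _ = 1 := by rw [hsi₁, hsi₂, one_mul]
      rw [this, one_smul]
    exact (Matrix.isUnit_iff_isUnit_det _).mpr (Matrix.isUnit_det_of_right_inverse h5)
  · have : ((si₁ • v₀.map ρ).map φ')ᵀ = si₁ • ((v₀.map ρ).map φ')ᵀ := by
      ext i j
      simp only [Matrix.transpose_apply, Matrix.map_apply, Matrix.smul_apply, smul_eq_mul,
        map_mul, hφsi]
    rw [this, Matrix.smul_mul, Matrix.smul_mul, Matrix.mul_smul, e3, h6, smul_smul, smul_smul]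
    have : si₁ * si₁ * (ρ s₁ * ρ s₁) = 1 := by
      calc si₁ * si₁ * (ρ s₁ * ρ s₁) = (si₁ * ρ s₁) * (si₁ * ρ s₁) := by ring
        _ = 1 := by rw [hsi₁, one_mul]
    rw [this, one_smul]

end Use

end Groth.Agent.Lib.Helper52.HermSpread
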