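import Mathlib

/-!
# Fixed submodules of linear involutions

* `fix τ` : the fixed submodule of an endomorphism.
* `fixCongr` : transport along an intertwining linear equivalence.
* `fixBaseChange` : if `2` is a unit and `τ ∘ τ = id`, the fixed submodule commutes with base change.
* `matInv σ` : the "`σ`-transpose" `M ↦ (σ (M j i))` on square matrices with entries in a module.
* `fixMatInvEquiv` : the fixed submodule of `matInv σ` is `(m → fix σ) × ({i < j} → B)`.
-/

set_option autoImplicit false
set_option linter.style.haveILetI false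

namespace Groth.Agent.Lib.Helper52.InvFix

open scoped TensorProduct

section Fix

variable {R : Type*} [CommRing R] {V : Type*} [AddCommGroup V] [Module R V]
  {V' : Type*} [AddCommGroup V'] [Module R V']

/-- fixed submodule of an endomorphism -/
def fix (τ : V →ₗ[R] V) : Submodule R V := LinearMap.ker (τ - LinearMap.id)

lemma mem_fix {τ : V →ₗ[R] V} {x : V} : x ∈ fix τ ↔ τ x = x := by
  simp [fix, sub_eq_zero]

/-- an intertwining linear equivalence identifies the fixed submodules -/
def fixCongr (τ : V →ₗ[R] V) (τ' : V' →ₗ[R] V') (f : V ≃ₗ[R] V')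
    (h : ∀ x, f (τ x) = τ' (f x)) : fix τ ≃ₗ[R] fix τ' :=
  LinearEquiv.ofLinearMap
    ((f.toLinearMap.comp (fix τ).subtype).codRestrict (fix τ') (fun x => by
      rw [mem_fix]
      have hx := mem_fix.mp x.2
      simp only [LinearMap.coe_comp, LinearEquiv.coe_coe, Submodule.coe_subtype, Function.comp_apply]
      rw [← h, hx]))
    ((f.symm.toLinearMap.comp (fix τ').subtype).codRestrict (fix τ) (fun x => by
      rw [mem_fix]
      have hx := mem_fix.mp x.2
      simp only [LinearMap.coe_comp, LinearEquiv.coe_coe, Submodule.coe_subtype, Function.comp_apply]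
      apply f.injective
      rw [h, f.apply_symm_apply, hx]))
    (by ext x; simp)
    (by ext x; simp)

variable (C : Type*) [CommRing C] [Algebra R C]

/-- the retraction onto the fixed submodule -/
noncomputable def fixProj (τ : V →ₗ[R] V) (hτ : ∀ x, τ (τ x) = x) (c : R) : V →ₗ[R] fix τ :=
  (c • (LinearMap.id + τ)).codRestrict (fix τ) (fun x => by
    rw [mem_fix]
    simp only [LinearMap.smul_apply, LinearMap.add_apply, LinearMap.id_coe, id_eq, map_smul, map_add,
      hτ]
    rw [add_comm])

lemma fixProj_coe (τ : V →ₗ[R] V) (hτ : ∀ x, τ (τ x) = x) (c : R) (x : V) :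
    (fixProj τ hτ c x : V) = c • (x + τ x) := rfl

lemma fixProj_subtype (τ : V →ₗ[R] V) (hτ : ∀ x, τ (τ x) = x) (c : R) (hc : c * 2 = 1) :
    (fixProj τ hτ c).comp (fix τ).subtype = LinearMap.id := by
  ext x
  have hx := mem_fix.mp x.2
  simp only [LinearMap.coe_comp, Submodule.coe_subtype, Function.comp_apply, LinearMap.id_coe, id_eq]
  rw [fixProj_coe, hx, ← two_smul R (x : V), smul_smul, hc, one_smul]

/-- the fixed submodule of an involution commutes with base change, when `2` is invertible -/
noncomputable def fixBaseChange (τ : V →ₗ[R] V) (hτ : ∀ x, τ (τ x) = x) (c : R) (hc : c * 2 = 1) :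
    C ⊗[R] fix τ ≃ₗ[C] fix (τ.baseChange C) := by
  have hinj : Function.Injective ((fix τ).subtype.baseChange C) := by
    have h1 : ((fixProj τ hτ c).baseChange C).comp ((fix τ).subtype.baseChange C) =
        LinearMap.id := by
      rw [← LinearMap.baseChange_comp, fixProj_subtype τ hτ c hc, LinearMap.baseChange_id]
    intro x y hxy
    have := congrArg ((fixProj τ hτ c).baseChange C) hxy
    rw [← LinearMap.comp_apply, ← LinearMap.comp_apply, h1] at this
    exact this
  have hmem : ∀ x, (fix τ).subtype.baseChange C x ∈ fix (τ.baseChange C) := by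
    intro x
    rw [mem_fix]
    induction x using TensorProduct.induction_on with
    | zero => simp
    | tmul a v =>
      rw [LinearMap.baseChange_tmul, LinearMap.baseChange_tmul, Submodule.subtype_apply,
        mem_fix.mp v.2]
    | add x y hx hy => rw [map_add, map_add, hx, hy]
  have hkey : ∀ y : C ⊗[R] V, (fix τ).subtype.baseChange C ((fixProj τ hτ c).baseChange C y) =
      algebraMap R C c • (y + τ.baseChange C y) := by
    intro y
    induction y using TensorProduct.induction_on with
    | zero => simp
    | tmul a v =>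
      rw [LinearMap.baseChange_tmul, LinearMap.baseChange_tmul, Submodule.subtype_apply,
        fixProj_coe, LinearMap.baseChange_tmul, ← TensorProduct.tmul_add, TensorProduct.tmul_smul,
        algebraMap_smul]
    | add x y hx hy =>
      rw [map_add, map_add, hx, hy, map_add]
      simp only [smul_add]
      abel
  have hsurj : ∀ y ∈ fix (τ.baseChange C), ∃ x, (fix τ).subtype.baseChange C x = y := by
    intro y hy
    refine ⟨(fixProj τ hτ c).baseChange C y, ?_⟩
    rw [hkey, mem_fix.mp hy, ← two_smul C y, smul_smul]
    have : algebraMap R C c * 2 = 1 := by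
      have := congrArg (algebraMap R C) hc
      rwa [map_mul, map_ofNat, map_one] at this
    rw [this, one_smul]
  exact LinearEquiv.ofBijective (((fix τ).subtype.baseChange C).codRestrict _ hmem)
    ⟨fun x y hxy => hinj (by
      have := congrArg Subtype.val hxy
      simpa using this),
     fun y => by
      obtain ⟨x, hx⟩ := hsurj y.1 y.2
      exact ⟨x, Subtype.ext (by simpa using hx)⟩⟩

lemma fixBaseChange_apply (τ : V →ₗ[R] V) (hτ : ∀ x, τ (τ x) = x) (c : R) (hc : c * 2 = 1)
    (x : C ⊗[R] fix τ) :
    (fixBaseChange C τ hτ c hc x : C ⊗[R] V) = (fix τ).subtype.baseChange C x := rfl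

end Fix

section MatInv

variable {R : Type*} [CommRing R] {B : Type*} [AddCommGroup B] [Module R B]
  (σ : B →ₗ[R] B) (m : Type*)

/-- the `σ`-transpose on square matrices -/
def matInv : Matrix m m B →ₗ[R] Matrix m m B where
  toFun M := Matrix.of fun i j => σ (M j i)
  map_add' M N := by ext i j; simp
  map_smul' r M := by ext i j; simp

@[simp] lemma matInv_apply (M : Matrix m m B) (i j : m) : matInv σ m M i j = σ (M j i) := rfl

lemma mem_fix_matInv {M : Matrix m m B} :
    M ∈ fix (matInv σ m) ↔ ∀ i j, σ (M j i) = M i j := by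
  rw [mem_fix]
  constructor
  · intro h i j
    have := congrArg (fun N : Matrix m m B => N i j) h
    simpa using this
  · intro h
    ext i j
    rw [matInv_apply, h]

variable [LinearOrder m]

/-- the fixed matrices of the `σ`-transpose: diagonal entries fixed by `σ`, entries above the
diagonal arbitrary -/
noncomputable def fixMatInvEquiv (hσ : ∀ b, σ (σ b) = b) :
    fix (matInv σ m) ≃ₗ[R] (m → fix σ) × ({p : m × m // p.1 < p.2} → B) where
  toFun M := (fun i => ⟨M.1 i i, mem_fix.mpr ((mem_fix_matInv σ m).mp M.2 i i)⟩,
    fun p => M.1 p.1.1 p.1.2)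
  map_add' M N := by
    ext <;> simp
  map_smul' r M := by
    ext <;> simp
  invFun du := ⟨Matrix.of fun i j =>
      if h : i < j then du.2 ⟨(i, j), h⟩ else if h' : j < i then σ (du.2 ⟨(j, i), h'⟩)
        else (du.1 i : B), (mem_fix_matInv σ m).mpr (by
      intro i j
      rcases lt_trichotomy i j with h | h | h
      · have h' : ¬ j < i := not_lt.mpr h.le
        simp only [Matrix.of_apply, dif_pos h, dif_neg h', hσ]
      · subst h
        simp only [Matrix.of_apply, lt_self_iff_false, dite_false]
        exact mem_fix.mp (du.1 i).2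
      · have h' : ¬ i < j := not_lt.mpr h.le
        simp only [Matrix.of_apply, dif_pos h, dif_neg h'])⟩
  left_inv M := by
    apply Subtype.ext
    ext i j
    have hM : ∀ i j, σ (M.1 j i) = M.1 i j := (mem_fix_matInv σ m).mp M.2
    rcases lt_trichotomy i j with h | h | h
    · simp only [Matrix.of_apply, dif_pos h]
    · subst h
      simp only [Matrix.of_apply, lt_self_iff_false, dite_false]
    · have h' : ¬ i < j := not_lt.mpr h.le
      simp only [Matrix.of_apply, dif_pos h, dif_neg h', hM]
  right_inv du := by
    apply Prod.ext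
    · ext i
      simp only [Matrix.of_apply, lt_self_iff_false, dite_false]
    · ext ⟨⟨i, j⟩, h⟩
      simp only at h
      simp only [Matrix.of_apply, dif_pos h]

end MatInv

section Count

/-- the number of pairs `i < j` -/
lemma card_lt_pairs (m : Type*) [Fintype m] [LinearOrder m] :
    2 * Fintype.card {p : m × m // p.1 < p.2} + Fintype.card m =
      Fintype.card m * Fintype.card m := by
  classical
  have e1 : {p : m × m // p.2 < p.1} ≃ {p : m × m // p.1 < p.2} :=
    ⟨fun p => ⟨p.1.swap, p.2⟩, fun p => ⟨p.1.swap, p.2⟩, fun p => by simp, fun p => by simp⟩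
  have e2 : {p : m × m // p.1 = p.2} ≃ m :=
    ⟨fun p => p.1.1, fun i => ⟨(i, i), rfl⟩, fun p => by
      apply Subtype.ext
      apply Prod.ext
      · rfl
      · exact p.2, fun i => rfl⟩
  have h1 := Fintype.card_congr e1
  have h2 := Fintype.card_congr e2
  have hsum : ∀ p : m × m, (if p.1 < p.2 then 1 else 0) + (if p.2 < p.1 then 1 else 0) +
      (if p.1 = p.2 then 1 else 0) = 1 := by
    intro p
    rcases lt_trichotomy p.1 p.2 with h | h | h
    · simp [h, h.not_gt, h.ne]
    · simp [h]
    · simp [h, h.not_gt, h.ne']
  have h3 : Fintype.card (m × m) = ∑ p : m × m, ((if p.1 < p.2 then 1 else 0) +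
      (if p.2 < p.1 then 1 else 0) + (if p.1 = p.2 then 1 else 0)) := by
    rw [Finset.sum_congr rfl fun p _ => hsum p]
    simp
  rw [Finset.sum_add_distrib, Finset.sum_add_distrib, Finset.sum_boole, Finset.sum_boole,
    Finset.sum_boole, Fintype.card_prod] at h3
  simp only [Nat.cast_id] at h3
  rw [← Fintype.card_subtype, ← Fintype.card_subtype, ← Fintype.card_subtype, h1, h2] at h3
  omega

end Count

section Finrank

variable {R : Type*} [CommRing R] {V : Type*} [AddCommGroup V] [Module R V]

/-- the rank of the fixed submodule is stable under base change to a nontrivial ring -/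
lemma finrank_fix_baseChange (C : Type*) [CommRing C] [Algebra R C] [Nontrivial C]
    (τ : V →ₗ[R] V) (hτ : ∀ x, τ (τ x) = x) (c : R) (hc : c * 2 = 1)
    [Module.Free R (fix τ)] :
    Module.finrank C (fix (τ.baseChange C)) = Module.finrank R (fix τ) := by
  haveI : Nontrivial R := (algebraMap R C).domain_nontrivial
  rw [← (fixBaseChange C τ hτ c hc).finrank_eq]
  exact Module.finrank_baseChange

variable {B : Type*} [AddCommGroup B] [Module R B]

/-- the rank of the fixed matrices of a `σ`-transpose, when `fix σ` is free of rank `k` -/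
lemma finrank_fix_matInv [Nontrivial R] (σ : B →ₗ[R] B) (hσ : ∀ b, σ (σ b) = b)
    (m : Type*) [Fintype m] [LinearOrder m]
    [Module.Free R B] [Module.Finite R B] (k : Type*) [Fintype k] (e : fix σ ≃ₗ[R] (k → R)) :
    Module.Free R (fix (matInv σ m)) ∧
    Module.finrank R (fix (matInv σ m)) = Fintype.card m * Fintype.card k +
      Fintype.card {p : m × m // p.1 < p.2} * Module.finrank R B := by
  classical
  let E : fix (matInv σ m) ≃ₗ[R] (m → k → R) × ({p : m × m // p.1 < p.2} → B) :=
    (fixMatInvEquiv σ m hσ).trans
      (LinearEquiv.prodCongr (LinearEquiv.piCongrRight fun _ => e) (LinearEquiv.refl R _))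
  refine ⟨Module.Free.of_equiv E.symm, ?_⟩
  rw [E.finrank_eq, Module.finrank_prod]
  simp only [Module.finrank_pi_fintype, Module.finrank_self, Finset.sum_const, Finset.card_univ,
    smul_eq_mul, mul_one]

end Finrank

end Groth.Agent.Lib.Helper52.InvFix
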