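import Mathlib
import Groth.Agent.Lib.Helper52.InvFix

/-!
# Isomorphisms of algebras with a linear "involution"

`InvIso C T T'` : there is a `C`-algebra isomorphism `E ≃ₐ[C] E'` intertwining the `C`-linear maps
`T` and `T'`.  Tools: matrices (`InvIso.matrix`), base change of matrix algebras (`invIso_matTensor`),
conjugation (`invIso_conj`).
-/

set_option autoImplicit false
set_option linter.style.haveILetI false
set_option linter.dupNamespace false

namespace Groth.Agent.Lib.Helper52.InvIso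

open scoped TensorProduct
open Groth.Agent.Lib.Helper52.InvFix

section Basic

variable (C : Type*) [CommRing C] {E E' E'' : Type*} [Ring E] [Ring E'] [Ring E'']
  [Algebra C E] [Algebra C E'] [Algebra C E'']

/-- isomorphic as algebras with a linear self-map -/
def InvIso (T : E →ₗ[C] E) (T' : E' →ₗ[C] E') : Prop :=
  ∃ f : E ≃ₐ[C] E', ∀ x, f (T x) = T' (f x)

variable {C}

lemma InvIso.refl (T : E →ₗ[C] E) : InvIso C T T := ⟨AlgEquiv.refl, fun _ => rfl⟩

lemma InvIso.of_eq {T T' : E →ₗ[C] E} (h : ∀ x, T x = T' x) : InvIso C T T' :=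
  ⟨AlgEquiv.refl, fun x => h x⟩

lemma InvIso.symm {T : E →ₗ[C] E} {T' : E' →ₗ[C] E'} (h : InvIso C T T') : InvIso C T' T := by
  obtain ⟨f, hf⟩ := h
  refine ⟨f.symm, fun x => ?_⟩
  apply f.injective
  rw [hf, f.apply_symm_apply, f.apply_symm_apply]

lemma InvIso.trans {T : E →ₗ[C] E} {T' : E' →ₗ[C] E'} {T'' : E'' →ₗ[C] E''}
    (h : InvIso C T T') (h' : InvIso C T' T'') : InvIso C T T'' := by
  obtain ⟨f, hf⟩ := h
  obtain ⟨g, hg⟩ := h'
  exact ⟨f.trans g, fun x => by rw [AlgEquiv.trans_apply, AlgEquiv.trans_apply, hf, hg]⟩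

/-- passing to matrices -/
lemma InvIso.matrix {T : E →ₗ[C] E} {T' : E' →ₗ[C] E'} (h : InvIso C T T')
    (m : Type*) [Fintype m] [DecidableEq m] : InvIso C (matInv T m) (matInv T' m) := by
  obtain ⟨f, hf⟩ := h
  refine ⟨f.mapMatrix, fun M => ?_⟩
  ext i j
  simp [hf]

/-- inner automorphism as an algebra equivalence -/
def innerAlgEquiv (W : Eˣ) : E ≃ₐ[C] E where
  toFun x := ↑W * x * ↑W⁻¹
  invFun x := ↑W⁻¹ * x * ↑W
  left_inv x := by simp [mul_assoc]
  right_inv x := by simp [mul_assoc]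
  map_mul' x y := by simp [mul_assoc]
  map_add' x y := by simp [mul_add, add_mul]
  commutes' c := by
    rw [← Algebra.commutes, mul_assoc, Units.mul_inv, mul_one]

@[simp] lemma innerAlgEquiv_apply (W : Eˣ) (x : E) :
    innerAlgEquiv (C := C) W x = ↑W * x * ↑W⁻¹ := rfl

/-- `x ↦ D θ(x) D⁻¹` -/
def conjLin (D : Eˣ) (θ : E →ₗ[C] E) : E →ₗ[C] E where
  toFun x := ↑D * θ x * ↑D⁻¹
  map_add' x y := by rw [map_add, mul_add, add_mul]
  map_smul' c x := by
    rw [map_smul, mul_smul_comm, smul_mul_assoc, RingHom.id_apply]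

@[simp] lemma conjLin_apply (D : Eˣ) (θ : E →ₗ[C] E) (x : E) :
    conjLin D θ x = ↑D * θ x * ↑D⁻¹ := rfl

/-- congruent "hermitian" units give isomorphic involutions -/
lemma invIso_conj (θ : E →ₗ[C] E) (hmul : ∀ x y, θ (x * y) = θ y * θ x) (hone : θ 1 = 1)
    (W D V : Eˣ) (s s' : C) (hs : s * s' = 1)
    (h : (↑W : E) * ↑D * θ ↑W = s • (↑V : E)) : InvIso C (conjLin D θ) (conjLin V θ) := by
  refine ⟨innerAlgEquiv W, fun x => ?_⟩
  rw [innerAlgEquiv_apply, innerAlgEquiv_apply, conjLin_apply, conjLin_apply]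
  have h1 : θ (↑W : E) * θ (↑W⁻¹ : E) = 1 := by rw [← hmul, Units.inv_mul, hone]
  have h2 : θ (↑W⁻¹ : E) * θ (↑W : E) = 1 := by rw [← hmul, Units.mul_inv, hone]
  -- a = W D
  have ha : (↑W : E) * ↑D = s • ((↑V : E) * θ (↑W⁻¹ : E)) := by
    calc (↑W : E) * ↑D = (↑W : E) * ↑D * (θ (↑W : E) * θ (↑W⁻¹ : E)) := by rw [h1, mul_one]
      _ = ((↑W : E) * ↑D * θ (↑W : E)) * θ (↑W⁻¹ : E) := by rw [mul_assoc, mul_assoc, mul_assoc]
      _ = s • ((↑V : E) * θ (↑W⁻¹ : E)) := by rw [h, smul_mul_assoc]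
  have hb : (↑D⁻¹ : E) * (↑W⁻¹ : E) = s' • (θ (↑W : E) * (↑V⁻¹ : E)) := by
    have hl : (s' • (θ (↑W : E) * (↑V⁻¹ : E))) * ((↑W : E) * ↑D) = 1 := by
      rw [ha, smul_mul_smul_comm, mul_comm s' s, hs, one_smul]
      calc θ (↑W : E) * (↑V⁻¹ : E) * ((↑V : E) * θ (↑W⁻¹ : E))
          = θ (↑W : E) * ((↑V⁻¹ : E) * (↑V : E)) * θ (↑W⁻¹ : E) := by
            simp only [mul_assoc]
        _ = 1 := by rw [Units.inv_mul, mul_one, h1]
    have hr : ((↑W : E) * ↑D) * ((↑D⁻¹ : E) * (↑W⁻¹ : E)) = 1 := by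
      simp [mul_assoc]
    calc (↑D⁻¹ : E) * (↑W⁻¹ : E)
        = ((s' • (θ (↑W : E) * (↑V⁻¹ : E))) * ((↑W : E) * ↑D)) * ((↑D⁻¹ : E) * (↑W⁻¹ : E)) := by
          rw [hl, one_mul]
      _ = s' • (θ (↑W : E) * (↑V⁻¹ : E)) := by rw [mul_assoc, hr, mul_one]
  calc (↑W : E) * (↑D * θ x * ↑D⁻¹) * ↑W⁻¹
      = ((↑W : E) * ↑D) * θ x * ((↑D⁻¹ : E) * (↑W⁻¹ : E)) := by simp only [mul_assoc]
    _ = (s • ((↑V : E) * θ (↑W⁻¹ : E))) * θ x * (s' • (θ (↑W : E) * (↑V⁻¹ : E))) := by
        rw [ha, hb]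
    _ = (s * s') • ((↑V : E) * θ (↑W⁻¹ : E) * θ x * (θ (↑W : E) * (↑V⁻¹ : E))) := by
        rw [smul_mul_assoc, smul_mul_smul_comm]
    _ = ↑V * θ (↑W * x * ↑W⁻¹) * ↑V⁻¹ := by
        rw [hs, one_smul, hmul, hmul]
        simp only [mul_assoc]

end Basic

section MatTensor

variable {R : Type*} [CommRing R] (C : Type*) [CommRing C] [Algebra R C]
  {A : Type*} [Ring A] [Algebra R A] (m : Type*) [Fintype m] [DecidableEq m]

/-- the comparison map `C ⊗ M_m(A) → M_m(C ⊗ A)` -/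
noncomputable def matTensorHom :
    C ⊗[R] Matrix m m A →ₐ[C] Matrix m m (C ⊗[R] A) :=
  Algebra.TensorProduct.lift (Algebra.ofId C (Matrix m m (C ⊗[R] A)))
    ((Algebra.TensorProduct.includeRight : A →ₐ[R] C ⊗[R] A).mapMatrix)
    (fun c M => by
      rw [Algebra.ofId_apply]
      exact Algebra.commute_algebraMap_left c _)

lemma matTensorHom_tmul (c : C) (M : Matrix m m A) (i j : m) :
    matTensorHom C m (c ⊗ₜ[R] M) i j = c ⊗ₜ[R] M i j := by
  unfold matTensorHom
  rw [Algebra.TensorProduct.lift_tmul, Algebra.ofId_apply, ← Algebra.smul_def]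
  simp [Algebra.TensorProduct.includeRight_apply, TensorProduct.smul_tmul']

/-- the linear equivalence underlying `matTensorHom` -/
noncomputable def matTensorLin :
    C ⊗[R] (m → m → A) ≃ₗ[C] (m → m → C ⊗[R] A) :=
  (TensorProduct.piRight R C C (fun _ : m => m → A)).trans
    (LinearEquiv.piCongrRight fun _ => TensorProduct.piRight R C C (fun _ : m => A))

lemma matTensorLin_tmul (c : C) (M : m → m → A) (i j : m) :
    matTensorLin (R := R) C m (c ⊗ₜ[R] M) i j = c ⊗ₜ[R] M i j := by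
  simp [matTensorLin]

lemma matTensorHom_bijective : Function.Bijective (matTensorHom (R := R) (A := A) C m) := by
  have h : ∀ x : C ⊗[R] Matrix m m A,
      matTensorHom C m x = (matTensorLin (R := R) (A := A) C m x : m → m → C ⊗[R] A) := by
    intro x
    induction x using TensorProduct.induction_on with
    | zero => rw [map_zero]; exact (map_zero (matTensorLin (R := R) (A := A) C m)).symm
    | tmul c M =>
      funext i j
      exact (matTensorHom_tmul C m c M i j).trans (matTensorLin_tmul C m c M i j).symm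
    | add x y hx hy =>
      rw [map_add, hx, hy]
      exact (map_add (matTensorLin (R := R) (A := A) C m) x y).symm
  have h2 : ⇑(matTensorHom (R := R) (A := A) C m) = ⇑(matTensorLin (R := R) (A := A) C m) :=
    funext h
  rw [h2]
  exact LinearEquiv.bijective _

/-- `C ⊗ M_m(A) ≃ₐ[C] M_m(C ⊗ A)` -/
noncomputable def matTensor : C ⊗[R] Matrix m m A ≃ₐ[C] Matrix m m (C ⊗[R] A) :=
  AlgEquiv.ofBijective (matTensorHom C m) (matTensorHom_bijective C m)

lemma matTensor_tmul (c : C) (M : Matrix m m A) (i j : m) :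
    matTensor C m (c ⊗ₜ[R] M) i j = c ⊗ₜ[R] M i j := matTensorHom_tmul C m c M i j

/-- base change of matrix algebras is compatible with the `σ`-transposes -/
lemma invIso_matTensor (σ : A →ₗ[R] A) :
    InvIso C ((matInv σ m).baseChange C) (matInv (σ.baseChange C) m) := by
  refine ⟨matTensor C m, fun x => ?_⟩
  induction x using TensorProduct.induction_on with
  | zero => simp
  | tmul c M =>
    ext i j
    rw [LinearMap.baseChange_tmul, matTensor_tmul, matInv_apply, matInv_apply, matTensor_tmul,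
      LinearMap.baseChange_tmul]
  | add x y hx hy => simp only [map_add, hx, hy]

end MatTensor

end Groth.Agent.Lib.Helper52.InvIso
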