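import Mathlib
import Groth.Agent.Lib.Helper52.InvIso

/-!
# The hyperbolic trick

For a `C`-algebra `B` with a `C`-linear anti-automorphism `θ₀`, a unit `u` with `θ₀ u = c • u`
(`c * c = 1`), and `i, h : C` with `i * i = -1`, `h * 2 = 1`:
the involution `(x_ab) ↦ (u θ₀(x_ba) u⁻¹)` of `M_2(B)` is isomorphic to `X ↦ D₂ θ(X) D₂⁻¹` with
`D₂ = !![0, c; 1, 0]`, and for `c = 1` to `θ = (x_ab) ↦ (θ₀ x_ba)` itself.
-/

set_option autoImplicit false
set_option linter.style.haveILetI false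
set_option linter.dupNamespace false
set_option linter.unusedSimpArgs false
set_option linter.unusedVariables false
set_option linter.unusedTactic false
set_option linter.unnecessarySeqFocus false
set_option linter.unreachableTactic false

namespace Groth.Agent.Lib.Helper52.InvHyper

open Groth.Agent.Lib.Helper52.InvFix Groth.Agent.Lib.Helper52.InvIso

section Cong

variable {C : Type*} [CommRing C] {E : Type*} [Ring E] [Algebra C E]

/-- congruence of units with respect to an anti-automorphism, up to an invertible scalar -/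
def Cong (θ : E →ₗ[C] E) (D D' : Eˣ) : Prop :=
  ∃ (W : Eˣ) (s s' : C), s * s' = 1 ∧ (↑W : E) * ↑D * θ ↑W = s • (↑D' : E)

lemma Cong.trans {θ : E →ₗ[C] E} (hmul : ∀ x y, θ (x * y) = θ y * θ x) {D D' D'' : Eˣ}
    (h : Cong θ D D') (h' : Cong θ D' D'') : Cong θ D D'' := by
  obtain ⟨W₁, s₁, s₁', hs₁, h₁⟩ := h
  obtain ⟨W₂, s₂, s₂', hs₂, h₂⟩ := h'
  refine ⟨W₂ * W₁, s₁ * s₂, s₁' * s₂', by rw [mul_mul_mul_comm, hs₁, hs₂, one_mul], ?_⟩
  rw [Units.val_mul, hmul]
  calc (↑W₂ : E) * ↑W₁ * ↑D * (θ ↑W₁ * θ ↑W₂)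
      = (↑W₂ : E) * ((↑W₁ : E) * ↑D * θ ↑W₁) * θ ↑W₂ := by simp only [mul_assoc]
    _ = s₁ • ((↑W₂ : E) * ↑D' * θ ↑W₂) := by
        rw [h₁, mul_smul_comm, smul_mul_assoc]
    _ = (s₁ * s₂) • (↑D'' : E) := by rw [h₂, smul_smul]

lemma Cong.invIso {θ : E →ₗ[C] E} (hmul : ∀ x y, θ (x * y) = θ y * θ x) (hone : θ 1 = 1)
    {D D' : Eˣ} (h : Cong θ D D') : InvIso C (conjLin D θ) (conjLin D' θ) := by
  obtain ⟨W, s, s', hs, hW⟩ := h
  exact invIso_conj θ hmul hone W D D' s s' hs hW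

end Cong

section MatInvMul

variable {C : Type*} [CommRing C] {B : Type*} [Ring B] [Algebra C B] (θ₀ : B →ₗ[C] B)
  (m : Type*) [Fintype m] [DecidableEq m]

lemma matInv_mul (hmul : ∀ x y, θ₀ (x * y) = θ₀ y * θ₀ x) (M N : Matrix m m B) :
    matInv θ₀ m (M * N) = matInv θ₀ m N * matInv θ₀ m M := by
  ext i j
  simp [Matrix.mul_apply, map_sum, hmul]

lemma matInv_one (hone : θ₀ 1 = 1) : matInv θ₀ m (1 : Matrix m m B) = 1 := by
  ext i j
  rw [matInv_apply]
  by_cases h : i = j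
  · subst h; simp [hone]
  · rw [Matrix.one_apply_ne h, Matrix.one_apply_ne (Ne.symm h), map_zero]

end MatInvMul

section TwoByTwo

variable {C : Type*} [CommRing C] {B : Type*} [Ring B] [Algebra C B]

/-- a two by two matrix -/
def mk2 (a b c d : B) : Matrix (Fin 2) (Fin 2) B := !![a, b; c, d]

lemma mk2_mul (a b c d a' b' c' d' : B) :
    mk2 a b c d * mk2 a' b' c' d' =
      mk2 (a * a' + b * c') (a * b' + b * d') (c * a' + d * c') (c * b' + d * d') :=
  Matrix.mul_fin_two ..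

lemma one_eq_mk2 : (1 : Matrix (Fin 2) (Fin 2) B) = mk2 1 0 0 1 := Matrix.one_fin_two

lemma smul_mk2 (r : C) (a b c d : B) : r • mk2 a b c d = mk2 (r • a) (r • b) (r • c) (r • d) := by
  ext i j
  fin_cases i <;> fin_cases j <;> rfl

lemma matInv_mk2 (θ₀ : B →ₗ[C] B) (a b c d : B) :
    matInv θ₀ (Fin 2) (mk2 a b c d) = mk2 (θ₀ a) (θ₀ c) (θ₀ b) (θ₀ d) := by
  ext i j
  fin_cases i <;> fin_cases j <;> rfl

lemma mk2_congr {a b c d a' b' c' d' : B} (h1 : a = a') (h2 : b = b') (h3 : c = c')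
    (h4 : d = d') : mk2 a b c d = mk2 a' b' c' d' := by
  rw [h1, h2, h3, h4]

lemma mk2_apply (a b c d : B) (M : Matrix (Fin 2) (Fin 2) B) (h00 : M 0 0 = a) (h01 : M 0 1 = b)
    (h10 : M 1 0 = c) (h11 : M 1 1 = d) : M = mk2 a b c d := by
  ext i j
  fin_cases i <;> fin_cases j
  · exact h00
  · exact h01
  · exact h10
  · exact h11

end TwoByTwo

section Hyper

variable {C : Type*} [CommRing C] {B : Type*} [Ring B] [Algebra C B] (θ₀ : B →ₗ[C] B)
  (hmul : ∀ x y, θ₀ (x * y) = θ₀ y * θ₀ x) (hone : θ₀ 1 = 1)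
  (u : Bˣ) (c : C) (hc : c * c = 1) (hu : θ₀ ↑u = c • (↑u : B))
  (i h : C) (hi : i * i = -1) (hh : h * 2 = 1)

local macro "nrm" : tactic => `(tactic| simp only [smul_mul_assoc, mul_smul_comm, one_mul, mul_one,
  smul_smul, mul_neg, neg_mul, smul_neg, neg_smul, mul_zero, zero_mul, add_zero, zero_add,
  smul_zero, neg_zero, neg_neg, map_smul, map_neg, map_one, map_zero, Units.mul_inv, Units.inv_mul,
  one_smul])

/-- the diagonal unit `diag(u, u)` -/
def diagU : (Matrix (Fin 2) (Fin 2) B)ˣ :=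
  ⟨mk2 (↑u : B) 0 0 (↑u : B), mk2 (↑u⁻¹ : B) 0 0 (↑u⁻¹ : B), by rw [mk2_mul, one_eq_mk2]; simp,
    by rw [mk2_mul, one_eq_mk2]; simp⟩

/-- the involution induced on `M_2(B)` by `x ↦ u θ₀(x) u⁻¹` is conjugation by `diag(u,u)` -/
lemma matInv_conjLin_eq (M : Matrix (Fin 2) (Fin 2) B) :
    matInv (conjLin u θ₀) (Fin 2) M = conjLin (diagU u) (matInv θ₀ (Fin 2)) M := by
  rw [conjLin_apply]
  obtain ⟨a, b, c', d, rfl⟩ : ∃ a b c' d, M = mk2 a b c' d :=
    ⟨M 0 0, M 0 1, M 1 0, M 1 1, mk2_apply _ _ _ _ M rfl rfl rfl rfl⟩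
  rw [matInv_mk2, matInv_mk2]
  show _ = mk2 (↑u : B) 0 0 (↑u : B) * _ * mk2 (↑u⁻¹ : B) 0 0 (↑u⁻¹ : B)
  rw [mk2_mul, mk2_mul]
  apply mk2_congr <;> simp

include hc in
/-- `D₂ = !![0, c; 1, 0]` -/
def D₂ : (Matrix (Fin 2) (Fin 2) B)ˣ :=
  ⟨mk2 0 (c • (1 : B)) 1 0, mk2 0 1 (c • (1 : B)) 0, by
    rw [mk2_mul, one_eq_mk2]
    apply mk2_congr <;> nrm
    rw [hc, one_smul], by
    rw [mk2_mul, one_eq_mk2]
    apply mk2_congr <;> nrm
    rw [hc, one_smul]⟩

include hmul hone hu hc in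
lemma theta_inv : θ₀ (↑u⁻¹ : B) = c • (↑u⁻¹ : B) := by
  have h1 : θ₀ (↑u⁻¹ : B) * θ₀ (↑u : B) = 1 := by rw [← hmul, Units.mul_inv, hone]
  have h2 : (c • (↑u : B)) * (c • (↑u⁻¹ : B)) = 1 := by
    rw [smul_mul_smul_comm, hc, one_smul, Units.mul_inv]
  calc θ₀ (↑u⁻¹ : B) = θ₀ (↑u⁻¹ : B) * ((c • (↑u : B)) * (c • (↑u⁻¹ : B))) := by rw [h2, mul_one]
    _ = c • (↑u⁻¹ : B) := by rw [← mul_assoc, ← hu, h1, one_mul]

include hi hh in
/-- the unit `!![1, ι; 1, -ι]` -/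
def W₁ : (Matrix (Fin 2) (Fin 2) B)ˣ :=
  ⟨mk2 1 (i • (1 : B)) 1 (-(i • (1 : B))),
    mk2 (h • (1 : B)) (h • (1 : B)) (-((h * i) • (1 : B))) ((h * i) • (1 : B)),
    by
      rw [mk2_mul, one_eq_mk2]
      apply mk2_congr <;> nrm <;> match_scalars <;>
        first
          | linear_combination hh - h * hi
          | linear_combination h * hi
          | linear_combination (-h) * hi,
    by
      rw [mk2_mul, one_eq_mk2]
      apply mk2_congr <;> nrm <;> match_scalars <;>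
        first
          | ring1
          | linear_combination hh
          | linear_combination hh - 2 * h * hi⟩

include hh in
/-- the unit `!![0, 2u; 2u, 0]` -/
def D₁ : (Matrix (Fin 2) (Fin 2) B)ˣ :=
  ⟨mk2 0 ((2 : C) • (↑u : B)) ((2 : C) • (↑u : B)) 0,
    mk2 0 (h • (↑u⁻¹ : B)) (h • (↑u⁻¹ : B)) 0,
    by
      rw [mk2_mul, one_eq_mk2]
      apply mk2_congr <;> nrm <;> match_scalars <;> linear_combination hh,
    by
      rw [mk2_mul, one_eq_mk2]
      apply mk2_congr <;> nrm <;> match_scalars <;> linear_combination hh⟩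

include hone hi in
lemma step1 : Cong (matInv θ₀ (Fin 2)) (diagU u) (D₁ u h hh) := by
  refine ⟨W₁ i h hi hh, 1, 1, one_mul 1, ?_⟩
  show mk2 1 (i • (1 : B)) 1 (-(i • (1 : B))) * mk2 (↑u : B) 0 0 (↑u : B) *
    matInv θ₀ (Fin 2) (mk2 1 (i • (1 : B)) 1 (-(i • (1 : B)))) =
      (1 : C) • mk2 0 ((2 : C) • (↑u : B)) ((2 : C) • (↑u : B)) 0
  rw [matInv_mk2, mk2_mul, mk2_mul, smul_mk2]
  apply mk2_congr <;> (try nrm) <;> (try rw [hone]) <;> (try nrm) <;> match_scalars <;>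
    first
      | linear_combination hi
      | linear_combination (-1 : C) * hi

/-- the unit `!![1, 0; 0, h u⁻¹]` -/
def E₂ : (Matrix (Fin 2) (Fin 2) B)ˣ :=
  ⟨mk2 1 0 0 (h • (↑u⁻¹ : B)), mk2 1 0 0 ((2 : C) • (↑u : B)),
    by
      rw [mk2_mul, one_eq_mk2]
      apply mk2_congr <;> nrm <;> match_scalars <;> linear_combination hh,
    by
      rw [mk2_mul, one_eq_mk2]
      apply mk2_congr <;> nrm <;> match_scalars <;> linear_combination hh⟩

include hmul hone hu in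
lemma step2 : Cong (matInv θ₀ (Fin 2)) (D₁ u h hh) (D₂ (B := B) c hc) := by
  refine ⟨E₂ u h hh, 1, 1, one_mul 1, ?_⟩
  show mk2 1 0 0 (h • (↑u⁻¹ : B)) * mk2 0 ((2 : C) • (↑u : B)) ((2 : C) • (↑u : B)) 0 *
    matInv θ₀ (Fin 2) (mk2 1 0 0 (h • (↑u⁻¹ : B))) = (1 : C) • mk2 0 (c • (1 : B)) 1 0
  rw [matInv_mk2, mk2_mul, mk2_mul, smul_mk2]
  have hti := theta_inv θ₀ hmul hone u c hc hu
  apply mk2_congr <;> (try nrm) <;> (try simp only [hti, hone]) <;> (try nrm) <;> (try match_scalars) <;>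
    first
      | linear_combination c * hh
      | linear_combination hh

include hone hi hh in
/-- for `c = 1` one can go on to the identity -/
lemma step3 : Cong (matInv θ₀ (Fin 2)) (D₂ (B := B) (1 : C) (one_mul 1)) 1 := by
  refine ⟨⟨mk2 1 1 (i • (1 : B)) (-(i • (1 : B))),
    mk2 (h • (1 : B)) (-((h * i) • (1 : B))) (h • (1 : B)) ((h * i) • (1 : B)), ?_, ?_⟩,
    2, h, by rw [mul_comm]; exact hh, ?_⟩
  · rw [mk2_mul, one_eq_mk2]
    apply mk2_congr <;> nrm <;> match_scalars <;>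
      first
        | ring1
        | linear_combination hh
        | linear_combination hh - 2 * h * hi
  · rw [mk2_mul, one_eq_mk2]
    apply mk2_congr <;> nrm <;> match_scalars <;>
      first
        | linear_combination hh - h * hi
        | linear_combination h * hi
        | linear_combination (-h) * hi
  · show mk2 1 1 (i • (1 : B)) (-(i • (1 : B))) * mk2 0 ((1 : C) • (1 : B)) 1 0 *
      matInv θ₀ (Fin 2) (mk2 1 1 (i • (1 : B)) (-(i • (1 : B)))) =
        (2 : C) • (1 : Matrix (Fin 2) (Fin 2) B)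
    rw [matInv_mk2, mk2_mul, mk2_mul, one_eq_mk2, smul_mk2]
    apply mk2_congr <;> (try nrm) <;> (try rw [hone]) <;> (try nrm) <;> match_scalars <;>
      first
        | ring1
        | linear_combination (-2 : C) * hi

include hmul hone hu hi hh in
/-- the hyperbolic trick, general sign -/
theorem hyper : InvIso C (matInv (conjLin u θ₀) (Fin 2))
    (conjLin (D₂ (B := B) c hc) (matInv θ₀ (Fin 2))) := by
  have hm := matInv_mul θ₀ (Fin 2) hmul
  have ho := matInv_one θ₀ (Fin 2) hone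
  refine (InvIso.of_eq (matInv_conjLin_eq θ₀ u)).trans ?_
  exact ((step1 θ₀ hone u i h hi hh).trans hm (step2 θ₀ hmul hone u c hc hu h hh)).invIso hm ho

include hmul hone hi hh in
/-- the hyperbolic trick, symmetric case -/
theorem hyper_pos (hu1 : θ₀ ↑u = (↑u : B)) :
    InvIso C (matInv (conjLin u θ₀) (Fin 2)) (matInv θ₀ (Fin 2)) := by
  have hm := matInv_mul θ₀ (Fin 2) hmul
  have ho := matInv_one θ₀ (Fin 2) hone
  have hu' : θ₀ ↑u = (1 : C) • (↑u : B) := by rw [one_smul, hu1]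
  refine (InvIso.of_eq (matInv_conjLin_eq θ₀ u)).trans ?_
  refine ((((step1 θ₀ hone u i h hi hh).trans hm
    (step2 θ₀ hmul hone u 1 (one_mul 1) hu' h hh)).trans hm
    (step3 θ₀ hone i h hi hh)).invIso hm ho).trans ?_
  exact InvIso.of_eq (fun x => by simp)

end Hyper

end Groth.Agent.Lib.Helper52.InvHyper
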