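import Mathlib
import Groth.Agent.Lib.Helper52.InvHyper
import Groth.Agent.Lib.Helper52.AzuCharpoly

/-!
# Standard models and the assembly of the hyperbolic trick

* transposition on `M_n(C)` is `matInv id (Fin n)`;
* `adjLin C` : the symplectic involution `x ↦ !![x 1 1, -x 0 1; -x 1 0, x 0 0]` of `M_2(C)`;
* `typeE_pos`, `typeE_neg` : from split data `C ⊗ A ≃ M_n(C)`, `σ ↔ u xᵀ u⁻¹` with `uᵀ = ± u`,
  the algebra with involution `M_2(A)` becomes isomorphic over `C` to `M_{2n}(R)` with transposition
  (resp. to `M_n(M_2(R))` with the involution induced by `adjLin`).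
-/

set_option autoImplicit false
set_option linter.style.haveILetI false
set_option linter.dupNamespace false
set_option linter.unusedSimpArgs false
set_option linter.unusedVariables false
set_option linter.unusedSectionVars false

namespace Groth.Agent.Lib.Helper52.InvStd

open scoped TensorProduct
open Groth.Agent.Lib.Helper52.InvFix Groth.Agent.Lib.Helper52.InvIso
  Groth.Agent.Lib.Helper52.InvHyper Groth.Agent.Lib.Helper52.AzuCharpoly

section Adj

variable (C : Type*) [CommRing C]

/-- the standard symplectic involution of `M_2(C)` -/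
def adjLin : Matrix (Fin 2) (Fin 2) C →ₗ[C] Matrix (Fin 2) (Fin 2) C where
  toFun x := mk2 (x 1 1) (-x 0 1) (-x 1 0) (x 0 0)
  map_add' x y := by
    ext i j
    fin_cases i <;> fin_cases j <;> simp [mk2, add_comm]
  map_smul' r x := by
    ext i j
    fin_cases i <;> fin_cases j <;> simp [mk2]

@[simp] lemma adjLin_apply (x : Matrix (Fin 2) (Fin 2) C) :
    adjLin C x = mk2 (x 1 1) (-x 0 1) (-x 1 0) (x 0 0) := rfl

/-- transposition -/
abbrev trLin (n : Type*) : Matrix n n C →ₗ[C] Matrix n n C := matInv (LinearMap.id : C →ₗ[C] C) n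

lemma trLin_apply (n : Type*) (M : Matrix n n C) : trLin C n M = M.transpose := rfl

lemma trLin_mul (n : Type*) [Fintype n] [DecidableEq n] (M N : Matrix n n C) :
    trLin C n (M * N) = trLin C n N * trLin C n M :=
  matInv_mul _ n (fun x y => mul_comm x y) M N

lemma trLin_one (n : Type*) [Fintype n] [DecidableEq n] : trLin C n 1 = 1 :=
  matInv_one _ n rfl

end Adj

section Shuffle

variable (C : Type*) [CommRing C] (n : ℕ)

/-- `M_{2n}(C) ≃ M_2(M_n(C))`, compatible with transposition -/
theorem invIso_two_mul :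
    InvIso C (trLin C (Fin (2 * n))) (matInv (trLin C (Fin n)) (Fin 2)) := by
  refine ⟨(Matrix.reindexAlgEquiv C C finProdFinEquiv.symm).trans
    (Matrix.compAlgEquiv (Fin 2) (Fin n) C C).symm, fun x => ?_⟩
  ext a b i j
  rfl

/-- `M_n(M_2(C)) ≃ M_2(M_n(C))`, exchanging the two levels -/
noncomputable def swapLevels :
    Matrix (Fin n) (Fin n) (Matrix (Fin 2) (Fin 2) C) ≃ₐ[C]
      Matrix (Fin 2) (Fin 2) (Matrix (Fin n) (Fin n) C) :=
  (Matrix.compAlgEquiv (Fin n) (Fin 2) C C).trans
    ((Matrix.reindexAlgEquiv C C (Equiv.prodComm (Fin n) (Fin 2))).trans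
      (Matrix.compAlgEquiv (Fin 2) (Fin n) C C).symm)

lemma swapLevels_apply (X : Matrix (Fin n) (Fin n) (Matrix (Fin 2) (Fin 2) C)) (a b : Fin 2)
    (i j : Fin n) : swapLevels C n X a b i j = X i j a b := rfl

lemma sympl_conj_mk2 (a b c d : Matrix (Fin n) (Fin n) C) :
    (D₂ (B := Matrix (Fin n) (Fin n) C) (-1 : C) (by ring)).val *
      matInv (trLin C (Fin n)) (Fin 2) (mk2 a b c d) *
      (D₂ (B := Matrix (Fin n) (Fin n) C) (-1 : C) (by ring))⁻¹.val =
      mk2 (trLin C (Fin n) d) (-trLin C (Fin n) b) (-trLin C (Fin n) c) (trLin C (Fin n) a) := by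
  show mk2 0 ((-1 : C) • (1 : Matrix (Fin n) (Fin n) C)) 1 0 * _ *
    mk2 0 1 ((-1 : C) • (1 : Matrix (Fin n) (Fin n) C)) 0 = _
  rw [matInv_mk2, mk2_mul, mk2_mul]
  apply mk2_congr <;> simp

/-- the symplectic model: `M_n(M_2(C))` with `adjLin` entrywise-transposed is `M_2(M_n(C))` with
the transposition twisted by `!![0, -1; 1, 0]` -/
theorem invIso_sympl :
    InvIso C (matInv (adjLin C) (Fin n))
      (conjLin (D₂ (B := Matrix (Fin n) (Fin n) C) (-1 : C) (by ring))
        (matInv (trLin C (Fin n)) (Fin 2))) := by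
  refine ⟨swapLevels C n, fun X => ?_⟩
  rw [conjLin_apply]
  have hYeq : swapLevels C n X = mk2 (swapLevels C n X 0 0) (swapLevels C n X 0 1)
      (swapLevels C n X 1 0) (swapLevels C n X 1 1) := mk2_apply _ _ _ _ _ rfl rfl rfl rfl
  rw [hYeq, sympl_conj_mk2]
  apply mk2_apply
  all_goals
    ext i j
    first
      | rfl
      | simp [swapLevels_apply, mk2]

end Shuffle

section BaseChangeModels

variable (R : Type*) [CommRing R] (C : Type*) [CommRing C] [Algebra R C]

/-- base change of the identity of `R` -/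
theorem invIso_id : InvIso C ((LinearMap.id : R →ₗ[R] R).baseChange C) (LinearMap.id : C →ₗ[C] C) :=
  ⟨Algebra.TensorProduct.rid R C C, fun x => by rw [LinearMap.baseChange_id]; rfl⟩

/-- base change of the standard symplectic involution of `M_2(R)` -/
theorem invIso_adj : InvIso C ((adjLin R).baseChange C) (adjLin C) := by
  refine ⟨matrixBaseChange R C (Fin 2), fun x => ?_⟩
  induction x using TensorProduct.induction_on with
  | zero => simp only [map_zero]
  | tmul c x =>
    rw [LinearMap.baseChange_tmul, matrixBaseChange_tmul, matrixBaseChange_tmul, adjLin_apply,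
      adjLin_apply]
    apply mk2_apply <;> simp [mk2]
  | add x y hx hy => simp only [map_add, hx, hy]

end BaseChangeModels

section Assembly

variable {R : Type*} [CommRing R] {C : Type*} [CommRing C] [Algebra R C]
  {A : Type*} [Ring A] [Algebra R A] (σ : A →ₗ[R] A) (n : ℕ)
  (φ : C ⊗[R] A ≃ₐ[C] Matrix (Fin n) (Fin n) C) (u : (Matrix (Fin n) (Fin n) C)ˣ)
  (hφ : ∀ x, φ (σ.baseChange C x) = u.val * (φ x).transpose * u⁻¹.val)
  (i h : C) (hi : i * i = -1) (hh : h * 2 = 1)

include hφ in
lemma invIso_split : InvIso C (σ.baseChange C) (conjLin u (trLin C (Fin n))) :=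
  ⟨φ, fun x => by rw [hφ]; rfl⟩

include hφ hi hh in
/-- orthogonal case -/
theorem typeE_pos (hu : (↑u : Matrix (Fin n) (Fin n) C).transpose = ↑u) :
    InvIso C ((matInv σ (Fin 2)).baseChange C)
      ((matInv (LinearMap.id : R →ₗ[R] R) (Fin (2 * n))).baseChange C) := by
  have h1 := invIso_matTensor C (Fin 2) σ
  have h2 := (invIso_split σ n φ u hφ).matrix (Fin 2)
  have h3 := hyper_pos (trLin C (Fin n)) (trLin_mul C (Fin n)) (trLin_one C (Fin n)) u i h hi hh hu
  have h4 := (invIso_two_mul C n).symm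
  have h5 := ((invIso_id R C).matrix (Fin (2 * n))).symm
  have h6 := (invIso_matTensor C (Fin (2 * n)) (LinearMap.id : R →ₗ[R] R)).symm
  exact h1.trans (h2.trans (h3.trans (h4.trans (h5.trans h6))))

include hφ hi hh in
/-- symplectic case -/
theorem typeE_neg (hu : (↑u : Matrix (Fin n) (Fin n) C).transpose = -↑u) :
    InvIso C ((matInv σ (Fin 2)).baseChange C)
      ((matInv (adjLin R) (Fin n)).baseChange C) := by
  have h1 := invIso_matTensor C (Fin 2) σ
  have h2 := (invIso_split σ n φ u hφ).matrix (Fin 2)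
  have hu' : trLin C (Fin n) ↑u = (-1 : C) • (↑u : Matrix (Fin n) (Fin n) C) := by
    rw [trLin_apply, hu, neg_smul, one_smul]
  have h3 := hyper (trLin C (Fin n)) (trLin_mul C (Fin n)) (trLin_one C (Fin n)) u (-1 : C)
    (by ring) hu' i h hi hh
  have h4 := (invIso_sympl C n).symm
  have h5 := ((invIso_adj R C).matrix (Fin n)).symm
  have h6 := (invIso_matTensor C (Fin n) (adjLin R)).symm
  exact h1.trans (h2.trans (h3.trans (h4.trans (h5.trans h6))))

end Assembly

end Groth.Agent.Lib.Helper52.InvStd
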