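import Mathlib
import Groth.Agent.Lib.Helper52.InvStd

/-!
# Split data for an algebra with involution and the sign of the involution

`IsSplit σ C n φ u` : under `φ : C ⊗ A ≃ M_n(C)` the base change of `σ` is `x ↦ u xᵀ u⁻¹`.
Then `uᵀ = ε u` with `ε² = 1` (`IsSplit.exists_eps`), and when the rank of the module of symmetric
elements is a constant `r`, the sign `ε` is determined by `r` (`IsSplit.sign`).
-/

set_option autoImplicit false
set_option linter.style.haveILetI false
set_option linter.dupNamespace false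
set_option linter.unusedSimpArgs false
set_option linter.unusedVariables false
set_option linter.unusedSectionVars false

namespace Groth.Agent.Lib.Helper52.InvSign

open scoped TensorProduct
open Groth.Agent.Lib.Helper52.InvFix Groth.Agent.Lib.Helper52.InvIso
  Groth.Agent.Lib.Helper52.InvHyper Groth.Agent.Lib.Helper52.InvStd
  Groth.Agent.Lib.Helper52.AzuCharpoly

section Split

variable {R : Type*} [CommRing R] {A : Type*} [Ring A] [Algebra R A] (σ : A →ₗ[R] A)

/-- split data -/
def IsSplit (C : Type*) [CommRing C] [Algebra R C] (n : ℕ)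
    (φ : C ⊗[R] A ≃ₐ[C] Matrix (Fin n) (Fin n) C) (u : (Matrix (Fin n) (Fin n) C)ˣ) : Prop :=
  ∀ x, φ (σ.baseChange C x) = u.val * (φ x).transpose * u⁻¹.val

variable {σ} {C : Type*} [CommRing C] [Algebra R C] {n : ℕ}
  {φ : C ⊗[R] A ≃ₐ[C] Matrix (Fin n) (Fin n) C} {u : (Matrix (Fin n) (Fin n) C)ˣ}

lemma isSplit_of_gen
    (hgen : ∀ a : A, φ ((1 : C) ⊗ₜ[R] σ a) * u.val = u.val * (φ ((1 : C) ⊗ₜ[R] a)).transpose) :
    IsSplit σ C n φ u := by
  intro x
  induction x using TensorProduct.induction_on with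
  | zero => simp
  | tmul c a =>
    have h1 : ∀ b : A, (c ⊗ₜ[R] b : C ⊗[R] A) = c • ((1 : C) ⊗ₜ[R] b) := fun b => by
      rw [TensorProduct.smul_tmul', smul_eq_mul, mul_one]
    rw [LinearMap.baseChange_tmul, h1, h1, map_smul, map_smul, Matrix.transpose_smul,
      Matrix.mul_smul, Matrix.smul_mul]
    congr 1
    rw [← hgen, mul_assoc, Units.mul_inv, mul_one]
  | add x y hx hy =>
    rw [map_add, map_add, hx, hy, map_add, Matrix.transpose_add, mul_add, add_mul]

lemma IsSplit.gen (h : IsSplit σ C n φ u) (a : A) :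
    φ ((1 : C) ⊗ₜ[R] σ a) * u.val = u.val * (φ ((1 : C) ⊗ₜ[R] a)).transpose := by
  have := h ((1 : C) ⊗ₜ[R] a)
  rw [LinearMap.baseChange_tmul] at this
  rw [this, mul_assoc, Units.inv_mul, mul_one]

/-- base change of split data -/
lemma IsSplit.baseChange (h : IsSplit σ C n φ u) (C' : Type*) [CommRing C'] [Algebra R C']
    [Algebra C C'] [IsScalarTower R C C'] :
    IsSplit σ C' n (splitBaseChange φ C')
      (Units.map (algebraMap C C').mapMatrix.toMonoidHom u) := by
  apply isSplit_of_gen
  intro a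
  rw [splitBaseChange_one_tmul, splitBaseChange_one_tmul]
  show (φ ((1 : C) ⊗ₜ[R] σ a)).map (algebraMap C C') * u.val.map (algebraMap C C') =
    u.val.map (algebraMap C C') * ((φ ((1 : C) ⊗ₜ[R] a)).map (algebraMap C C')).transpose
  rw [← Matrix.map_mul, h.gen a, Matrix.map_mul, Matrix.transpose_map]

lemma baseChange_invol (hσ : ∀ a, σ (σ a) = a) (x : C ⊗[R] A) :
    σ.baseChange C (σ.baseChange C x) = x := by
  induction x using TensorProduct.induction_on with
  | zero => simp
  | tmul c a => rw [LinearMap.baseChange_tmul, LinearMap.baseChange_tmul, hσ]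
  | add x y hx hy => rw [map_add, map_add, hx, hy]

/-- the sign: `uᵀ = ε u`, `ε² = 1` -/
lemma IsSplit.exists_eps (h : IsSplit σ C n φ u) (hσ : ∀ a, σ (σ a) = a) (hn : 0 < n) :
    ∃ ε : C, u.val.transpose = ε • u.val ∧ ε * ε = 1 := by
  obtain ⟨U, hU⟩ : ∃ U, U = u.val := ⟨_, rfl⟩
  obtain ⟨V, hV⟩ : ∃ V, V = u⁻¹.val := ⟨_, rfl⟩
  have h' : ∀ x, φ (σ.baseChange C x) = U * (φ x).transpose * V := by
    intro x
    rw [hU, hV]
    exact h x
  have hUV : U * V = 1 := by rw [hU, hV]; exact u.mul_inv
  have hVU : V * U = 1 := by rw [hU, hV]; exact u.inv_mul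
  rw [← hU]
  have hUVt : V.transpose * U.transpose = 1 := by rw [← Matrix.transpose_mul, hUV, Matrix.transpose_one]
  have hVUt : U.transpose * V.transpose = 1 := by rw [← Matrix.transpose_mul, hVU, Matrix.transpose_one]
  have hTT : ∀ y : Matrix (Fin n) (Fin n) C, U * V.transpose * y * (U.transpose * V) = y := by
    intro y
    obtain ⟨x, rfl⟩ := φ.surjective y
    have h1 := h' (σ.baseChange C x)
    rw [baseChange_invol hσ, h' x] at h1
    rw [Matrix.transpose_mul, Matrix.transpose_mul, Matrix.transpose_transpose] at h1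
    conv_rhs => rw [h1]
    simp only [Matrix.mul_assoc]
  set z := U * V.transpose with hz
  have hzz' : z * (U.transpose * V) = 1 := by
    rw [hz, Matrix.mul_assoc, ← Matrix.mul_assoc V.transpose, hUVt, Matrix.one_mul, hUV]
  have hz'z : (U.transpose * V) * z = 1 := by
    rw [hz, Matrix.mul_assoc, ← Matrix.mul_assoc V, hVU, Matrix.one_mul, hVUt]
  have hcomm : ∀ y, z * y = y * z := by
    intro y
    calc z * y = z * y * ((U.transpose * V) * z) := by rw [hz'z, Matrix.mul_one]
      _ = (z * y * (U.transpose * V)) * z := by simp only [Matrix.mul_assoc]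
      _ = y * z := by rw [hTT y]
  obtain ⟨ε, hε⟩ := Matrix.mem_range_scalar_iff_commute_single'.mpr
    (fun i j => (hcomm (Matrix.single i j 1)).symm)
  have hzε : z = ε • (1 : Matrix (Fin n) (Fin n) C) := by
    rw [← hε]
    ext i j
    simp [Matrix.scalar_apply, Matrix.diagonal_apply, Matrix.one_apply]
  have hU1 : U = ε • U.transpose := by
    calc U = U * (V.transpose * U.transpose) := by rw [hUVt, Matrix.mul_one]
      _ = z * U.transpose := by rw [hz, Matrix.mul_assoc]
      _ = ε • U.transpose := by rw [hzε, Matrix.smul_mul, Matrix.one_mul]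
  have hU2 : U.transpose = ε • U := by
    have := congrArg Matrix.transpose hU1
    rwa [Matrix.transpose_smul, Matrix.transpose_transpose] at this
  refine ⟨ε, hU2, ?_⟩
  have h3 : U = (ε * ε) • U := by
    nth_rewrite 1 [hU1]
    rw [hU2, smul_smul]
  have h4 : (1 : Matrix (Fin n) (Fin n) C) = (ε * ε) • (1 : Matrix (Fin n) (Fin n) C) := by
    calc (1 : Matrix (Fin n) (Fin n) C) = U * V := hUV.symm
      _ = ((ε * ε) • U) * V := by rw [← h3]
      _ = (ε * ε) • (1 : Matrix (Fin n) (Fin n) C) := by rw [Matrix.smul_mul, hUV]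
  have h5 := congrFun (congrFun h4 ⟨0, hn⟩) ⟨0, hn⟩
  simpa using h5.symm

end Split

section Rank

variable {R : Type*} [CommRing R] {A : Type*} [Ring A] [Algebra R A] (σ : A →ₗ[R] A)
  (hσ : ∀ a, σ (σ a) = a) (c₂ : R) (hc₂ : c₂ * 2 = 1)

include hσ hc₂ in
lemma fixProj_surjective : Function.Surjective (fixProj σ hσ c₂) := by
  intro x
  refine ⟨x.1, ?_⟩
  have := congrArg (fun f => f x) (fixProj_subtype σ hσ c₂ hc₂)
  simpa using this

include hσ hc₂ in
lemma fix_finite [Module.Finite R A] : Module.Finite R (fix σ) :=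
  Module.Finite.of_surjective (fixProj σ hσ c₂) (fixProj_surjective σ hσ c₂ hc₂)

include hσ hc₂ in
lemma fix_projective [Module.Projective R A] : Module.Projective R (fix σ) :=
  Module.Projective.of_split (fix σ).subtype (fixProj σ hσ c₂) (fixProj_subtype σ hσ c₂ hc₂)

variable {C : Type*} [CommRing C] [Algebra R C] {n : ℕ}
  {φ : C ⊗[R] A ≃ₐ[C] Matrix (Fin n) (Fin n) C} {u : (Matrix (Fin n) (Fin n) C)ˣ}

/-- right multiplication by a unit -/
def mulRightEquiv (u : (Matrix (Fin n) (Fin n) C)ˣ) :
    Matrix (Fin n) (Fin n) C ≃ₗ[C] Matrix (Fin n) (Fin n) C where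
  toFun x := x * u.val
  invFun x := x * u⁻¹.val
  map_add' x y := add_mul x y _
  map_smul' r x := by simp
  left_inv x := by simp [Matrix.mul_assoc]
  right_inv x := by simp [Matrix.mul_assoc]

/-- the identity of `C` has everything fixed -/
def fixIdEquiv : fix (LinearMap.id : C →ₗ[C] C) ≃ₗ[C] (Fin 1 → C) where
  toFun x := fun _ => x.1
  map_add' x y := rfl
  map_smul' r x := rfl
  invFun f := ⟨f 0, mem_fix.mpr rfl⟩
  left_inv x := rfl
  right_inv f := by
    ext i
    fin_cases i
    rfl

/-- minus the identity of `C` has nothing fixed, when `2` is invertible -/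
def fixNegEquiv (h2 : C) (hh : h2 * 2 = 1) :
    fix (-(LinearMap.id : C →ₗ[C] C)) ≃ₗ[C] (Fin 0 → C) where
  toFun x := fun i => i.elim0
  map_add' x y := by ext i; exact i.elim0
  map_smul' r x := by ext i; exact i.elim0
  invFun f := 0
  left_inv x := by
    apply Subtype.ext
    have hx := mem_fix.mp x.2
    simp only [LinearMap.neg_apply, LinearMap.id_coe, id_eq] at hx
    have h2x : 2 * x.1 = 0 := by
      rw [two_mul]
      nth_rewrite 1 [← hx]
      ring
    show (0 : C) = x.1
    calc (0 : C) = h2 * (2 * x.1) := by rw [h2x, mul_zero]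
      _ = x.1 := by rw [← mul_assoc, hh, one_mul]
  right_inv f := by ext i; exact i.elim0

lemma finrank_fix_pos [Nontrivial C] (h : IsSplit σ C n φ u)
    (hu : u.val.transpose = u.val) :
    Module.Free C (fix (σ.baseChange C)) ∧ Module.finrank C (fix (σ.baseChange C)) =
      n + Fintype.card {p : Fin n × Fin n // p.1 < p.2} := by
  have e₁ := fixCongr (σ.baseChange C) (conjLin u (trLin C (Fin n))) φ.toLinearEquiv
    (fun x => by
      show φ (σ.baseChange C x) = _
      rw [h x]
      rfl)
  have e₂ := fixCongr (conjLin u (trLin C (Fin n))) (trLin C (Fin n)) (mulRightEquiv u)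
    (fun x => by
      show u.val * (trLin C (Fin n) x) * u⁻¹.val * u.val = trLin C (Fin n) (x * u.val)
      rw [trLin_apply, trLin_apply, Matrix.transpose_mul, hu, Matrix.mul_assoc, Units.inv_mul,
        Matrix.mul_one])
  obtain ⟨hfree, hrank⟩ := finrank_fix_matInv (LinearMap.id : C →ₗ[C] C) (fun _ => rfl) (Fin n)
    (Fin 1) fixIdEquiv
  refine ⟨Module.Free.of_equiv (e₁.trans e₂).symm, ?_⟩
  rw [(e₁.trans e₂).finrank_eq, hrank]
  simp

lemma finrank_fix_neg [Nontrivial C] (h2 : C) (hh : h2 * 2 = 1) (h : IsSplit σ C n φ u)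
    (hu : u.val.transpose = -u.val) :
    Module.Free C (fix (σ.baseChange C)) ∧ Module.finrank C (fix (σ.baseChange C)) =
      Fintype.card {p : Fin n × Fin n // p.1 < p.2} := by
  have e₁ := fixCongr (σ.baseChange C) (conjLin u (trLin C (Fin n))) φ.toLinearEquiv
    (fun x => by
      show φ (σ.baseChange C x) = _
      rw [h x]
      rfl)
  have e₂ := fixCongr (conjLin u (trLin C (Fin n)))
    (matInv (-(LinearMap.id : C →ₗ[C] C)) (Fin n)) (mulRightEquiv u)
    (fun x => by
      show u.val * (trLin C (Fin n) x) * u⁻¹.val * u.val =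
        matInv (-(LinearMap.id : C →ₗ[C] C)) (Fin n) (x * u.val)
      have h3 : matInv (-(LinearMap.id : C →ₗ[C] C)) (Fin n) (x * u.val) =
          -(x * u.val).transpose := by
        ext i j
        rfl
      rw [h3, trLin_apply, Matrix.transpose_mul, hu, Matrix.mul_assoc, Units.inv_mul,
        Matrix.mul_one, Matrix.neg_mul, neg_neg])
  obtain ⟨hfree, hrank⟩ := finrank_fix_matInv (-(LinearMap.id : C →ₗ[C] C))
    (fun b => by simp) (Fin n) (Fin 0) (fixNegEquiv h2 hh)
  refine ⟨Module.Free.of_equiv (e₁.trans e₂).symm, ?_⟩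
  rw [(e₁.trans e₂).finrank_eq, hrank]
  simp

include hσ hc₂ in
/-- the rank of the symmetric elements after base change to a nontrivial ring where they are
free -/
lemma finrank_fix_eq_rank [Module.Finite R A] [Module.Projective R A] [Nontrivial C] (r : ℕ)
    (hr : ∀ p : PrimeSpectrum R, Module.rankAtStalk (R := R) (fix σ) p = r)
    (hfree : Module.Free C (fix (σ.baseChange C))) :
    Module.finrank C (fix (σ.baseChange C)) = r := by
  haveI := fix_finite σ hσ c₂ hc₂
  haveI := fix_projective σ hσ c₂ hc₂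
  have e := fixBaseChange C σ hσ c₂ hc₂
  haveI : Module.Free C (C ⊗[R] fix σ) := Module.Free.of_equiv e.symm
  obtain ⟨q⟩ := (inferInstance : Nonempty (PrimeSpectrum C))
  have h1 := Module.rankAtStalk_baseChange (R := R) (M := fix σ) (S := C) q
  rw [hr, Module.rankAtStalk_eq_finrank_of_free] at h1
  rw [← e.finrank_eq]
  exact h1

end Rank

section Sign

variable {R : Type*} [CommRing R] {A : Type*} [Ring A] [Algebra R A] [Module.Finite R A]
  [Module.Projective R A] (σ : A →ₗ[R] A)
  (hσ : ∀ a, σ (σ a) = a) (c₂ : R) (hc₂ : c₂ * 2 = 1)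
  (r : ℕ) (hr : ∀ p : PrimeSpectrum R, Module.rankAtStalk (R := R) (fix σ) p = r)
  {C : Type*} [CommRing C] [Algebra R C] {n : ℕ} (hn : 0 < n)
  {φ : C ⊗[R] A ≃ₐ[C] Matrix (Fin n) (Fin n) C} {u : (Matrix (Fin n) (Fin n) C)ˣ}

include hσ hc₂ hr hn in
/-- at every point the residual sign is determined by the rank `r` -/
lemma IsSplit.sign_at (h : IsSplit σ C n φ u) (ε : C) (hε : u.val.transpose = ε • u.val)
    (hεε : ε * ε = 1) (𝔓 : Ideal C) [𝔓.IsPrime] :
    (ε - 1 ∈ 𝔓 ∧ r = n + Fintype.card {p : Fin n × Fin n // p.1 < p.2}) ∨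
      (ε + 1 ∈ 𝔓 ∧ r = Fintype.card {p : Fin n × Fin n // p.1 < p.2}) := by
  set k := 𝔓.ResidueField with hk
  have hsk := h.baseChange k
  set uk := Units.map (algebraMap C k).mapMatrix.toMonoidHom u with huk
  have hukv : uk.val = u.val.map (algebraMap C k) := rfl
  set e := algebraMap C k ε with he
  have hukt : uk.val.transpose = e • uk.val := by
    rw [hukv, ← Matrix.transpose_map, hε]
    ext i j
    simp [Matrix.map_apply, he]
  have hee : e * e = 1 := by rw [he, ← map_mul, hεε, map_one]
  have hh : algebraMap R k c₂ * 2 = 1 := by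
    have := congrArg (algebraMap R k) hc₂
    rwa [map_mul, map_ofNat, map_one] at this
  have hcases : e = 1 ∨ e = -1 := by
    have : (e - 1) * (e + 1) = 0 := by linear_combination hee
    rcases mul_eq_zero.mp this with h1 | h1
    · left; exact sub_eq_zero.mp h1
    · right; exact eq_neg_of_add_eq_zero_left h1
  rcases hcases with h1 | h1
  · left
    constructor
    · rw [← Ideal.algebraMap_residueField_eq_zero, map_sub, map_one, ← he, h1, sub_self]
    · rw [h1, one_smul] at hukt
      obtain ⟨hfree, hrank⟩ := finrank_fix_pos σ hsk hukt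
      rw [← finrank_fix_eq_rank σ hσ c₂ hc₂ r hr hfree, hrank]
  · right
    constructor
    · rw [← Ideal.algebraMap_residueField_eq_zero, map_add, map_one, ← he, h1, neg_add_cancel]
    · rw [h1, neg_smul, one_smul] at hukt
      obtain ⟨hfree, hrank⟩ := finrank_fix_neg σ (algebraMap R k c₂) hh hsk hukt
      rw [← finrank_fix_eq_rank σ hσ c₂ hc₂ r hr hfree, hrank]

include hσ hc₂ hr hn in
/-- the sign of split data is determined by the rank of the symmetric elements -/
theorem IsSplit.sign (h : IsSplit σ C n φ u) :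
    (r = n + Fintype.card {p : Fin n × Fin n // p.1 < p.2} → u.val.transpose = u.val) ∧
      (r ≠ n + Fintype.card {p : Fin n × Fin n // p.1 < p.2} → u.val.transpose = -u.val) := by
  obtain ⟨ε, hε, hεε⟩ := h.exists_eps hσ hn
  have h2C : IsUnit (2 : C) := by
    refine IsUnit.of_mul_eq_one (algebraMap R C c₂) ?_
    have := congrArg (algebraMap R C) hc₂
    rw [map_mul, map_ofNat, map_one] at this
    rw [mul_comm]
    exact this
  have hprod : (ε - 1) * (ε + 1) = 0 := by linear_combination hεε
  constructor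
  · intro hrn
    have hnil : IsNilpotent (ε - 1) := by
      rw [nilpotent_iff_mem_prime]
      intro J hJ
      rcases h.sign_at σ hσ c₂ hc₂ r hr hn ε hε hεε J with ⟨h1, -⟩ | ⟨-, h1⟩
      · exact h1
      · omega
    have hunit : IsUnit (ε + 1) := by
      have : ε + 1 = 2 + (ε - 1) := by ring
      rw [this]
      exact hnil.isUnit_add_left_of_commute h2C (Commute.all _ _)
    have : ε - 1 = 0 := by
      have := congrArg (· * ((hunit.unit⁻¹ : Cˣ) : C)) hprod
      simpa [mul_assoc] using this
    rw [hε, sub_eq_zero.mp this, one_smul]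
  · intro hrn
    have hnil : IsNilpotent (ε + 1) := by
      rw [nilpotent_iff_mem_prime]
      intro J hJ
      rcases h.sign_at σ hσ c₂ hc₂ r hr hn ε hε hεε J with ⟨-, h1⟩ | ⟨h1, -⟩
      · exact absurd h1 hrn
      · exact h1
    have hunit : IsUnit (ε - 1) := by
      have : ε - 1 = -2 + (ε + 1) := by ring
      rw [this]
      exact hnil.isUnit_add_left_of_commute h2C.neg (Commute.all _ _)
    have : ε + 1 = 0 := by
      have := congrArg (((hunit.unit⁻¹ : Cˣ) : C) * ·) hprod
      simpa [← mul_assoc] using this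
    rw [hε, eq_neg_of_add_eq_zero_left this, neg_smul, one_smul]

end Sign

end Groth.Agent.Lib.Helper52.InvSign
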