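import Mathlib
import Groth.Agent.Lib.Helper52.AzuCharpoly
import Groth.Agent.Lib.Helper46.Azumaya

/-!
# From `E ⊗ A ≃ End_E(M)` to a matrix splitting over an extension where `M` becomes free
-/

set_option autoImplicit false
set_option linter.style.haveILetI false

namespace Groth.Agent.Lib.Helper52.SplitChain

open TensorProduct

universe u

section EndBC

variable (E : Type*) [CommRing E] (S : Type*) [CommRing S] [Algebra E S]
  (M : Type*) [AddCommGroup M] [Module E M]

theorem tensorProductEnd_eq_endBC :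
    ⇑(LinearMap.tensorProductEnd E S M) = ⇑(Groth.Agent.Lib.Helper46.Azumaya.endBC E S M) := by
  funext z
  induction z using TensorProduct.induction_on with
  | zero => simp
  | add a b ha hb => rw [map_add, map_add, ha, hb]
  | tmul s f =>
    rw [Groth.Agent.Lib.Helper46.Azumaya.endBC_tmul]
    apply LinearMap.ext
    intro w
    simp [LinearMap.tensorProductEnd, LinearMap.tensorProduct]

theorem tensorProductEnd_bijective [Module.Finite E M] [Module.Projective E M] :
    Function.Bijective (LinearMap.tensorProductEnd E S M) := by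
  rw [tensorProductEnd_eq_endBC]
  exact Groth.Agent.Lib.Helper46.Azumaya.endBC_bijective E S M

end EndBC

section Chain

variable (R : Type u) [CommRing R] (A : Type u) [Ring A] [Algebra R A]
  (E : Type u) [CommRing E] [Algebra R E]
  (M : Type u) [AddCommGroup M] [Module E M] [Module.Finite E M] [Module.Projective E M]

theorem nonempty_matrix_equiv (Φ : (E ⊗[R] A) ≃ₐ[E] Module.End E M)
    (S : Type u) [CommRing S] [Algebra R S] [Algebra E S] [IsScalarTower R E S] {r : ℕ}
    (b : Module.Basis (Fin r) S (S ⊗[E] M)) :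
    Nonempty ((S ⊗[R] A) ≃ₐ[S] Matrix (Fin r) (Fin r) S) := by
  classical
  let e1 : (S ⊗[R] A) ≃ₐ[S] S ⊗[E] (E ⊗[R] A) :=
    Groth.Agent.Lib.Helper52.AzuCharpoly.cancelEquiv R A E S
  let e2 : S ⊗[E] (E ⊗[R] A) ≃ₐ[S] S ⊗[E] Module.End E M :=
    Algebra.TensorProduct.congr (AlgEquiv.refl : S ≃ₐ[S] S) Φ
  let e3 : S ⊗[E] Module.End E M ≃ₐ[S] Module.End S (S ⊗[E] M) :=
    AlgEquiv.ofBijective (LinearMap.tensorProductEnd E S M) (tensorProductEnd_bijective E S M)
  let e4 : Module.End S (S ⊗[E] M) ≃ₐ[S] Matrix (Fin r) (Fin r) S :=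
    LinearMap.toMatrixAlgEquiv b
  exact ⟨((e1.trans e2).trans e3).trans e4⟩

end Chain

end Groth.Agent.Lib.Helper52.SplitChain
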