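import Mathlib

/-!
# Spreading out freeness over a finite algebra

Let `E` be a finite `T`-algebra, `p` a prime of `T` and `M` a finite projective `E`-module of
constant rank `r`.  Then there is `g ∉ p` such that `E' ⊗[E] M` has a basis indexed by `Fin r` for
every `E`-algebra `E'` in which `g` is invertible.
-/

set_option autoImplicit false
set_option linter.style.haveILetI false

namespace Groth.Agent.Lib.Helper52.SplitFree

open TensorProduct

universe u v

section Semilocal

/-- a finite algebra over a local ring is semilocal -/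
theorem finite_maximalSpectrum (L : Type*) [CommRing L] [IsLocalRing L] (E' : Type*) [CommRing E']
    [Algebra L E'] [Module.Finite L E'] : Finite (MaximalSpectrum E') := by
  haveI : Algebra.IsIntegral L E' := Algebra.IsIntegral.of_finite L E'
  have hfin := Algebra.QuasiFinite.finite_primesOver (S := E') (IsLocalRing.maximalIdeal L)
  have hmem : ∀ P : MaximalSpectrum E', P.asIdeal ∈ (IsLocalRing.maximalIdeal L).primesOver E' := by
    intro P
    haveI := P.isMaximal
    refine ⟨P.isMaximal.isPrime, ⟨?_⟩⟩
    have h1 : (P.asIdeal.under L).IsMaximal := inferInstance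
    exact (IsLocalRing.eq_maximalIdeal h1).symm
  haveI := hfin.to_subtype
  exact Finite.of_injective (fun P : MaximalSpectrum E' =>
    (⟨P.asIdeal, hmem P⟩ : (IsLocalRing.maximalIdeal L).primesOver E'))
    (fun P Q h => MaximalSpectrum.ext (congrArg Subtype.val h))

end Semilocal

section Spread

open Module

variable {T : Type*} [CommRing T] (p : Ideal T) [p.IsPrime] (E : Type u) [CommRing E] [Algebra T E]
  [Module.Finite T E] (M : Type v) [AddCommGroup M] [Module E M] [Module.Finite E M]
  [Module.Projective E M] (r : ℕ)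

omit [Module.Finite E M] [Module.Projective E M] in
/-- a basis of the localization spreads out to a basis over every algebra inverting some `s ∈ S` -/
theorem exists_basis_of_basis_localization (S : Submonoid E) [Module.FinitePresentation E M]
    {n : ℕ} (b : Basis (Fin n) (Localization S) (Localization S ⊗[E] M)) :
    ∃ s ∈ S, ∀ (E' : Type u) [CommRing E'] [Algebra E E'],
      IsUnit (algebraMap E E' s) → Nonempty (Basis (Fin n) E' (E' ⊗[E] M)) := by
  classical
  obtain ⟨s, hs, b', -⟩ := Module.FinitePresentation.exists_basis_localizedModule_powers S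
    (TensorProduct.mk E (Localization S) M 1) (Localization S) b
  refine ⟨s, hs, ?_⟩
  intro E' _ _ hunit
  let Es := Localization (Submonoid.powers s)
  letI : Algebra Es E' := (IsLocalization.Away.lift s hunit).toAlgebra
  haveI : IsScalarTower E Es E' := IsScalarTower.of_algebraMap_eq (fun x => by
    show algebraMap E E' x = (IsLocalization.Away.lift s hunit) (algebraMap E Es x)
    rw [IsLocalization.Away.lift_eq])
  let e1 : LocalizedModule.Away s M ≃ₗ[Es] Es ⊗[E] M :=
    LocalizedModule.equivTensorProduct (Submonoid.powers s) M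
  let e2 : E' ⊗[Es] (LocalizedModule.Away s M) ≃ₗ[E'] E' ⊗[Es] (Es ⊗[E] M) :=
    AlgebraTensorModule.congr (LinearEquiv.refl E' E') e1
  let e3 : E' ⊗[Es] (Es ⊗[E] M) ≃ₗ[E'] E' ⊗[E] M :=
    AlgebraTensorModule.cancelBaseChange E Es E' E' M
  exact ⟨((b'.baseChange E').map e2).map e3⟩

theorem exists_basis_away (hrank : ∀ q : PrimeSpectrum E, Module.rankAtStalk M q = r) :
    ∃ g : T, g ∉ p ∧ ∀ (E' : Type u) [CommRing E'] [Algebra E E'],
      IsUnit (algebraMap E E' (algebraMap T E g)) → Nonempty (Basis (Fin r) E' (E' ⊗[E] M)) := by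
  classical
  let S : Submonoid E := Algebra.algebraMapSubmonoid E p.primeCompl
  let ES := Localization S
  haveI : Finite (MaximalSpectrum ES) := finite_maximalSpectrum (Localization.AtPrime p) ES
  have rk : ∀ P : MaximalSpectrum ES,
      finrank (ES ⧸ P.1) ((ES ⧸ P.1) ⊗[ES] (ES ⊗[E] M)) = r := by
    intro P
    haveI := P.isMaximal
    let q : PrimeSpectrum ES := ⟨P.1, P.isMaximal.isPrime⟩
    have h1 : rankAtStalk (ES ⊗[E] M) q = r := by rw [rankAtStalk_baseChange, hrank]
    rw [rankAtStalk_eq] at h1
    rw [← h1]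
    have e : q.asIdeal.ResidueField ⊗[ES ⧸ P.1] ((ES ⧸ P.1) ⊗[ES] (ES ⊗[E] M))
        ≃ₗ[q.asIdeal.ResidueField] q.asIdeal.ResidueField ⊗[ES] (ES ⊗[E] M) :=
      AlgebraTensorModule.cancelBaseChange ES (ES ⧸ P.1) q.asIdeal.ResidueField
        q.asIdeal.ResidueField (ES ⊗[E] M)
    letI : Field (ES ⧸ P.1) := Ideal.Quotient.field P.1
    have h2 : finrank q.asIdeal.ResidueField
        (q.asIdeal.ResidueField ⊗[ES ⧸ P.1] ((ES ⧸ P.1) ⊗[ES] (ES ⊗[E] M))) =
        finrank (ES ⧸ P.1) ((ES ⧸ P.1) ⊗[ES] (ES ⊗[E] M)) := finrank_baseChange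
    exact h2.symm.trans e.finrank_eq
  obtain ⟨b⟩ := Module.nonempty_basis_of_flat_of_finrank_eq ES (ES ⊗[E] M) r rk
  haveI : Module.FinitePresentation E M := Module.finitePresentation_of_projective E M
  obtain ⟨s, hs, hb⟩ := exists_basis_of_basis_localization E M S b
  obtain ⟨g, hg, rfl⟩ := hs
  exact ⟨g, hg, hb⟩

end Spread

end Groth.Agent.Lib.Helper52.SplitFree
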