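import Mathlib
import Groth.Agent.Lib.Helper52.RegularExists

/-!
# The eigen-idempotent attached to a simple root

Let `x` be an element of an `E`-algebra `B` killed by `(X - θ) * Q` where `Q(θ)` is a unit.
Then `e = Q(θ)⁻¹ Q(x)` is an idempotent with `x e = θ e`.  Over a field, if `B` is central simple
of dimension `r²` and `x` is regular separable (minimal polynomial separable of degree `r`),
then `e B e = κ e`.
-/

set_option autoImplicit false
set_option linter.style.haveILetI false

namespace Groth.Agent.Lib.Helper52.SplitIdem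

open Polynomial TensorProduct

section Ring

variable {E : Type*} [CommRing E] {B : Type*} [Ring B] [Algebra E B]

/-- polynomials in `x` commute -/
theorem aeval_comm (x : B) (p q : E[X]) : aeval x p * aeval x q = aeval x q * aeval x p := by
  rw [← map_mul, ← map_mul, mul_comm]

variable {x : B} {Q : E[X]} {θ : E} (h : aeval x ((X - C θ) * Q) = 0)

include h in
theorem x_mul_aeval : x * aeval x Q = θ • aeval x Q := by
  have h1 : (x - algebraMap E B θ) * aeval x Q = 0 := by
    rw [← h, map_mul, map_sub, aeval_X, aeval_C]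
  rw [sub_mul, sub_eq_zero] at h1
  rw [h1, Algebra.smul_def]

include h in
theorem aeval_mul_aeval (g : E[X]) : aeval x g * aeval x Q = g.eval θ • aeval x Q := by
  induction g using Polynomial.induction_on' with
  | add p q hp hq => rw [map_add, add_mul, hp, hq, eval_add, add_smul]
  | monomial n a =>
    rw [aeval_monomial, eval_monomial]
    induction n with
    | zero => rw [pow_zero, pow_zero, mul_one, mul_one, Algebra.smul_def]
    | succ n ih =>
      rw [pow_succ, ← mul_assoc, mul_assoc _ x, x_mul_aeval h, mul_smul_comm, ih, smul_smul,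
        pow_succ]
      congr 1
      ring

variable {u : E} (hu : u * Q.eval θ = 1)

include h hu in
theorem isIdempotentElem : IsIdempotentElem (u • aeval x Q) := by
  show (u • aeval x Q) * (u • aeval x Q) = u • aeval x Q
  rw [smul_mul_smul_comm, aeval_mul_aeval h, smul_smul]
  congr 1
  rw [mul_assoc, hu, mul_one]

include h in
theorem x_mul_e : x * (u • aeval x Q) = θ • (u • aeval x Q) := by
  rw [mul_smul_comm, x_mul_aeval h, smul_comm]

include h in
theorem e_mul_x : (u • aeval x Q) * x = θ • (u • aeval x Q) := by
  rw [← x_mul_e h (u := u), smul_mul_assoc, mul_smul_comm]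
  congr 1
  have := aeval_comm x Q X
  rwa [aeval_X] at this

include h in
theorem aeval_mul_e (g : E[X]) : aeval x g * (u • aeval x Q) = g.eval θ • (u • aeval x Q) := by
  rw [mul_smul_comm, aeval_mul_aeval h, smul_comm]

include h in
/-- corner elements commute with `x` -/
theorem commute_corner (b : B) :
    x * ((u • aeval x Q) * b * (u • aeval x Q)) = ((u • aeval x Q) * b * (u • aeval x Q)) * x := by
  have h1 := x_mul_e h (u := u)
  have h2 := e_mul_x h (u := u)
  generalize u • aeval x Q = e at h1 h2
  rw [mul_assoc _ _ x, h2, ← mul_assoc, ← mul_assoc, h1, mul_smul_comm, smul_mul_assoc,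
    smul_mul_assoc]

end Ring

section Field

open Groth.Agent.Lib.Helper52.RegularCSA Groth.Agent.Lib.Helper52.RegularExists
  Groth.Agent.Lib.Helper59.TPow

universe u v

/-- An integral element with separable minimal polynomial generates a separable subalgebra. -/
theorem isSeparable_adjoin_of_minpoly_separable {k : Type u} [Field k] {A : Type v} [Ring A]
    [Algebra k A] [FiniteDimensional k A] (x : A) (hsep : (minpoly k x).Separable) :
    Algebra.IsSeparable k (Algebra.adjoin k ({x} : Set A)) := by
  have hxint : IsIntegral k x := IsIntegral.of_finite k x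
  refine ⟨?_⟩
  rintro ⟨y, hy⟩
  have hyint : IsIntegral k y := IsIntegral.of_finite k y
  have hmp : minpoly k (⟨y, hy⟩ : Algebra.adjoin k ({x} : Set A)) = minpoly k y :=
    (minpoly.algHom_eq (Algebra.adjoin k ({x} : Set A)).val Subtype.val_injective ⟨y, hy⟩).symm
  rw [IsSeparable, hmp]
  rw [Algebra.adjoin_singleton_eq_range_aeval] at hy
  obtain ⟨g, hg⟩ := hy
  have hg' : y = Polynomial.aeval x g := hg.symm
  subst hg'
  rw [← Polynomial.separable_map (algebraMap k (AlgebraicClosure k)),
    ← minpoly_one_tmul (AlgebraicClosure k) hyint, PerfectField.separable_iff_squarefree]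
  have h3 : ((1 : AlgebraicClosure k) ⊗ₜ[k] (Polynomial.aeval x g) : AlgebraicClosure k ⊗[k] A) =
      Polynomial.aeval ((1 : AlgebraicClosure k) ⊗ₜ[k] x : AlgebraicClosure k ⊗[k] A)
        (g.map (algebraMap k (AlgebraicClosure k))) :=
    (aeval_one_tmul (AlgebraicClosure k) x g).symm
  have hsq : Squarefree (minpoly (AlgebraicClosure k)
      ((1 : AlgebraicClosure k) ⊗ₜ[k] x : AlgebraicClosure k ⊗[k] A)) := by
    rw [minpoly_one_tmul (AlgebraicClosure k) hxint]
    exact (hsep.map).squarefree
  have hw : IsIntegral (AlgebraicClosure k)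
      ((1 : AlgebraicClosure k) ⊗ₜ[k] (Polynomial.aeval x g) : AlgebraicClosure k ⊗[k] A) :=
    isIntegral_one_tmul (AlgebraicClosure k) hyint
  rw [h3] at hw ⊢
  exact squarefree_minpoly_aeval hsq _ hw

variable {κ : Type u} [Field κ] {B : Type v} [Ring B] [Algebra κ B]

/-- a monic annihilating polynomial of degree `r` is the minimal polynomial when the first `r`
powers are independent -/
theorem minpoly_eq_of_linearIndependent [FiniteDimensional κ B] {x : B} {P : κ[X]} (hP : P.Monic)
    {r : ℕ} (hdeg : P.natDegree = r) (hPx : aeval x P = 0)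
    (hli : LinearIndependent κ (fun i : Fin r => x ^ (i : ℕ))) : minpoly κ x = P := by
  have hint : IsIntegral κ x := IsIntegral.of_finite κ x
  refine (Polynomial.eq_of_monic_of_dvd_of_natDegree_le (minpoly.monic hint) hP
    (minpoly.dvd κ x hPx) ?_).symm
  rw [hdeg]
  exact le_natDegree_minpoly_of_linearIndependent hint hli

/-- **Field-level corner computation.** -/
theorem corner_field (hB : IsCSA κ B) {r : ℕ} (hr : Module.finrank κ B = r ^ 2) {x : B}
    {P Q : κ[X]} (hP : P.Monic) (hdeg : P.natDegree = r) (hPx : aeval x P = 0)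
    (hsep : P.Separable) (hli : LinearIndependent κ (fun i : Fin r => x ^ (i : ℕ)))
    {θ : κ} (hPQ : P = (X - C θ) * Q) {u : κ} (hu : u * Q.eval θ = 1) :
    u • aeval x Q ≠ 0 ∧ ∀ b : B, ∃ c : κ,
      (u • aeval x Q) * b * (u • aeval x Q) = c • (u • aeval x Q) := by
  haveI := hB.fd
  have hint : IsIntegral κ x := IsIntegral.of_finite κ x
  have hmin : minpoly κ x = P := minpoly_eq_of_linearIndependent hP hdeg hPx hli
  have h : aeval x ((X - C θ) * Q) = 0 := by rw [← hPQ, hPx]
  have hu0 : u ≠ 0 := by
    rintro rfl
    rw [zero_mul] at hu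
    exact zero_ne_one hu
  have hQm : Q.Monic := by
    have h1 : ((X - C θ) * Q).Monic := hPQ ▸ hP
    exact (Polynomial.monic_X_sub_C θ).of_mul_monic_left h1
  have hQdeg : Q.natDegree < r := by
    have h1 : P.natDegree = (X - C θ).natDegree + Q.natDegree := by
      rw [hPQ]
      exact ((Polynomial.monic_X_sub_C θ).natDegree_mul hQm)
    rw [Polynomial.natDegree_X_sub_C, hdeg] at h1
    omega
  have hne : u • aeval x Q ≠ 0 := by
    intro h0
    have h1 : aeval x Q = 0 := by
      rcases smul_eq_zero.mp h0 with h2 | h2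
      · exact absurd h2 hu0
      · exact h2
    have h2 := Polynomial.natDegree_le_of_dvd (minpoly.dvd κ x h1) hQm.ne_zero
    rw [hmin, hdeg] at h2
    omega
  refine ⟨hne, fun b => ?_⟩
  have hsepA : Algebra.IsSeparable κ (Algebra.adjoin κ ({x} : Set B)) :=
    isSeparable_adjoin_of_minpoly_separable x (hmin ▸ hsep)
  have hrk : Module.finrank κ (Algebra.adjoin κ ({x} : Set B)) = r := by
    rw [← natDegree_minpoly_eq_finrank_adjoin hint, hmin, hdeg]
  have hcent := centralizer_eq_adjoin hB hr x hsepA hrk
  have hmem : (u • aeval x Q) * b * (u • aeval x Q) ∈ Subalgebra.centralizer κ ({x} : Set B) := by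
    rw [Subalgebra.mem_centralizer_iff]
    intro y hy
    rw [Set.mem_singleton_iff.mp hy]
    exact commute_corner h b
  rw [hcent, Algebra.adjoin_singleton_eq_range_aeval] at hmem
  obtain ⟨g, hg⟩ := hmem
  refine ⟨g.eval θ, ?_⟩
  have hid := isIdempotentElem h hu
  calc (u • aeval x Q) * b * (u • aeval x Q)
      = ((u • aeval x Q) * b * (u • aeval x Q)) * (u • aeval x Q) := by
        rw [mul_assoc _ (u • aeval x Q) (u • aeval x Q), hid.eq]
    _ = aeval x g * (u • aeval x Q) := by rw [← hg]; rfl
    _ = g.eval θ • (u • aeval x Q) := aeval_mul_e h g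

end Field

end Groth.Agent.Lib.Helper52.SplitIdem
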