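import Mathlib
import Groth.Agent.Lib.Helper52.SplitIdem
import Groth.Agent.Lib.Helper98.CornerLid
import Groth.Agent.Lib.Helper98.AzuBrauer
import Groth.Agent.Lib.Helper65.FibreBij
import Groth.Agent.Lib.Helper46.Azumaya
import Groth.Agent.Lib.Helper59.CSA

/-!
# Splitting an Azumaya algebra with a regular separable element at a root

Let `B` be an Azumaya algebra over `E`, free of rank `r²`, and `x ∈ B` killed by a separable monic
polynomial `P` of degree `r`, whose first `r` powers are part of a dual pair (regularity on all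
fibres).  If `θ ∈ E` is a root of `P`, `P = (X - θ) Q`, then `e = Q(θ)⁻¹ Q(x)` is an idempotent
with `e B e = E e`, and `B ≃ End_E(B e)` with `B e` projective of rank `r`.
-/

set_option autoImplicit false
set_option linter.style.haveILetI false

namespace Groth.Agent.Lib.Helper52.SplitCorner

open Polynomial TensorProduct Groth.Agent.Lib.Helper98.CornerRing
  Groth.Agent.Lib.Helper52.SplitIdem Groth.Agent.Lib.Helper59.TPow

universe u v

section Aux

variable {R : Type*} [CommRing R] (k : Type*) [CommRing k] [Algebra R k]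
  {A : Type*} [Ring A] [Algebra R A]

theorem aeval_one_tmul' (y : A) (p : R[X]) :
    Polynomial.aeval ((1 : k) ⊗ₜ[R] y : k ⊗[R] A) (p.map (algebraMap R k)) =
      (1 : k) ⊗ₜ[R] (Polynomial.aeval y p) := by
  rw [Polynomial.aeval_map_algebraMap]
  have : ((1 : k) ⊗ₜ[R] y : k ⊗[R] A) =
    (Algebra.TensorProduct.includeRight : A →ₐ[R] k ⊗[R] A) y := rfl
  rw [this, Polynomial.aeval_algHom_apply]
  rfl

theorem algebraMap_smul_one_tmul (c : R) (y : A) :
    (algebraMap R k c) • ((1 : k) ⊗ₜ[R] y : k ⊗[R] A) = (1 : k) ⊗ₜ[R] (c • y) := by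
  rw [TensorProduct.smul_tmul', smul_eq_mul, mul_one, Algebra.algebraMap_eq_smul_one,
    TensorProduct.smul_tmul]

end Aux

section Fibre

variable {E : Type u} [CommRing E] {B : Type v} [Ring B] [Algebra E B] [IsAzumaya E B]
  [Module.Free E B] {r : ℕ} (hrk : Module.finrank E B = r ^ 2)
  {x : B} {P Q : E[X]} (hP : P.Monic) (hdeg : P.natDegree = r) (hPx : aeval x P = 0)
  (hsep : P.Separable) (φ : Fin r → (B →ₗ[E] E))
  (hφ : ∀ i j : Fin r, φ j (x ^ (i : ℕ)) = if i = j then 1 else 0)
  {θ : E} (hPQ : P = (X - C θ) * Q) {u : E} (hu : u * Q.eval θ = 1)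
  (κ : Type u) [Field κ] [Algebra E κ]

include hrk hP hdeg hPx hsep hφ hPQ hu in
theorem fibre :
    ((1 : κ) ⊗ₜ[E] (u • aeval x Q) : κ ⊗[E] B) ≠ 0 ∧ ∀ b : κ ⊗[E] B, ∃ c : κ,
      ((1 : κ) ⊗ₜ[E] (u • aeval x Q)) * b * ((1 : κ) ⊗ₜ[E] (u • aeval x Q)) =
        c • ((1 : κ) ⊗ₜ[E] (u • aeval x Q)) := by
  classical
  haveI : Nontrivial E := (algebraMap E κ).domain_nontrivial
  haveI : IsAzumaya κ (κ ⊗[E] B) := Groth.Agent.Lib.Helper46.Azumaya.isAzumaya_baseChange E κ B
  have hCSA : IsCSA κ (κ ⊗[E] B) :=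
    ⟨Groth.Agent.Lib.Helper59.CSA.isCentral_of_isAzumaya (K := κ),
      Groth.Agent.Lib.Helper59.CSA.isSimpleRing_of_isAzumaya (K := κ),
      Groth.Agent.Lib.Helper59.CSA.finiteDimensional_of_isAzumaya (K := κ)⟩
  have hfr : Module.finrank κ (κ ⊗[E] B) = r ^ 2 := by rw [Module.finrank_baseChange, hrk]
  have hPx' : aeval ((1 : κ) ⊗ₜ[E] x : κ ⊗[E] B) (P.map (algebraMap E κ)) = 0 := by
    rw [aeval_one_tmul', hPx, TensorProduct.tmul_zero]
  have hli : LinearIndependent κ (fun i : Fin r => ((1 : κ) ⊗ₜ[E] x : κ ⊗[E] B) ^ (i : ℕ)) := by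
    rw [Fintype.linearIndependent_iff]
    intro c hc j
    have h1 := congrArg (fun z => TensorProduct.AlgebraTensorModule.rid E κ κ
      ((φ j).baseChange κ z)) hc
    simp only [map_sum, map_smul, map_zero] at h1
    rw [Finset.sum_eq_single j] at h1
    · simpa [Algebra.TensorProduct.tmul_pow, hφ] using h1
    · intro i _ hij
      simp [Algebra.TensorProduct.tmul_pow, hφ, hij]
    · intro h; exact absurd (Finset.mem_univ j) h
  have hPQ' : P.map (algebraMap E κ) = (X - C (algebraMap E κ θ)) * Q.map (algebraMap E κ) := by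
    rw [hPQ, Polynomial.map_mul, Polynomial.map_sub, Polynomial.map_X, Polynomial.map_C]
  have hu' : algebraMap E κ u * (Q.map (algebraMap E κ)).eval (algebraMap E κ θ) = 1 := by
    rw [Polynomial.eval_map, Polynomial.eval₂_at_apply, ← map_mul, hu, map_one]
  have key := corner_field hCSA hfr (hP.map (algebraMap E κ))
    (by rw [hP.natDegree_map, hdeg]) hPx' hsep.map hli hPQ' hu'
  have he : algebraMap E κ u • aeval ((1 : κ) ⊗ₜ[E] x : κ ⊗[E] B) (Q.map (algebraMap E κ)) =
      (1 : κ) ⊗ₜ[E] (u • aeval x Q) := by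
    rw [aeval_one_tmul', algebraMap_smul_one_tmul]
  rw [he] at key
  exact key

end Fibre

section Global

variable {E : Type u} [CommRing E] {B : Type v} [Ring B] [Algebra E B] [IsAzumaya E B]
  [Module.Free E B] {r : ℕ} (hrk : Module.finrank E B = r ^ 2)
  {x : B} {P Q : E[X]} (hP : P.Monic) (hdeg : P.natDegree = r) (hPx : aeval x P = 0)
  (hsep : P.Separable) (φ : Fin r → (B →ₗ[E] E))
  (hφ : ∀ i j : Fin r, φ j (x ^ (i : ℕ)) = if i = j then 1 else 0)
  {θ : E} (hPQ : P = (X - C θ) * Q) {u : E} (hu : u * Q.eval θ = 1)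

omit [IsAzumaya E B] [Module.Free E B] in
include hPx hPQ hu in
theorem idem : IsIdempotentElem (u • aeval x Q) :=
  isIdempotentElem (by rw [← hPQ, hPx]) hu

include hrk hP hdeg hPx hsep hφ hPQ hu in
/-- the corner of the eigen-idempotent is `E` -/
theorem bijective_linearMap_cor (he : IsIdempotentElem (u • aeval x Q)) :
    Function.Bijective (Algebra.linearMap E (Cor E he)) := by
  haveI : Module.Finite E B := inferInstance
  haveI : Module.Projective E B := inferInstance
  apply Groth.Agent.Lib.Helper65.FibreBij.bijective_of_forall_lTensor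
  intro q _
  obtain ⟨hne, hcor⟩ := fibre hrk hP hdeg hPx hsep φ hφ hPQ hu q.ResidueField
  have hPV : ((proj (R := E) he).lTensor q.ResidueField) ∘ₗ ((val he).lTensor q.ResidueField) =
      LinearMap.id := by
    rw [← LinearMap.lTensor_comp, proj_comp_val, LinearMap.lTensor_id]
  have hVinj : Function.Injective ((val (R := E) he).lTensor q.ResidueField) := by
    intro a b hab
    have := congrArg ((proj (R := E) he).lTensor q.ResidueField) hab
    rwa [← LinearMap.comp_apply, ← LinearMap.comp_apply, hPV] at this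
  have hval1 : val he (Algebra.linearMap E (Cor E he) 1) = u • aeval x Q := by
    rw [Algebra.linearMap_apply, map_one, val_one]
  have hV1 : ∀ c : q.ResidueField, ((val (R := E) he).lTensor q.ResidueField)
      ((Algebra.linearMap E (Cor E he)).lTensor q.ResidueField (c ⊗ₜ[E] (1 : E))) =
      c • ((1 : q.ResidueField) ⊗ₜ[E] (u • aeval x Q)) := by
    intro c
    rw [LinearMap.lTensor_tmul, LinearMap.lTensor_tmul, hval1, TensorProduct.smul_tmul',
      smul_eq_mul, mul_one]
  constructor
  · intro z₁ z₂ hz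
    have hz1 : ∀ z : q.ResidueField ⊗[E] E, z = (TensorProduct.rid E q.ResidueField z) ⊗ₜ[E] 1 :=
      fun z => by rw [← TensorProduct.rid_symm_apply, LinearEquiv.symm_apply_apply]
    have h1 := congrArg ((val (R := E) he).lTensor q.ResidueField) hz
    rw [hz1 z₁, hz1 z₂, hV1, hV1] at h1
    have h2 : (TensorProduct.rid E q.ResidueField z₁ - TensorProduct.rid E q.ResidueField z₂) •
        ((1 : q.ResidueField) ⊗ₜ[E] (u • aeval x Q) : q.ResidueField ⊗[E] B) = 0 := by
      rw [sub_smul, h1, sub_self]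
    rcases smul_eq_zero.mp h2 with h3 | h3
    · exact (TensorProduct.rid E q.ResidueField).injective (sub_eq_zero.mp h3)
    · exact absurd h3 hne
  · intro w
    induction w using TensorProduct.induction_on with
    | zero => exact ⟨0, map_zero _⟩
    | add a b ha hb =>
      obtain ⟨a', rfl⟩ := ha
      obtain ⟨b', rfl⟩ := hb
      exact ⟨a' + b', map_add _ _ _⟩
    | tmul c y =>
      obtain ⟨c', hc'⟩ := hcor ((1 : q.ResidueField) ⊗ₜ[E] val he y)
      refine ⟨(c * c') ⊗ₜ[E] 1, hVinj ?_⟩
      rw [hV1, LinearMap.lTensor_tmul, mul_smul, ← hc', Algebra.TensorProduct.tmul_mul_tmul,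
        Algebra.TensorProduct.tmul_mul_tmul, mul_one, mul_one, left_mul, mul_right,
        TensorProduct.smul_tmul', smul_eq_mul, mul_one]

omit [Module.Free E B] in
/-- if the corner is `E`, left multiplication `B → End_E(Be)` is bijective -/
theorem bijective_LA {e : B} (he : IsIdempotentElem e)
    (hcor : Function.Bijective (Algebra.linearMap E (Cor E he))) :
    Function.Bijective (LA (R := E) he) := by
  let eq : E ≃ₗ[E] (Cor E he)ᵐᵒᵖ :=
    (LinearEquiv.ofBijective (Algebra.linearMap E (Cor E he)) hcor).trans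
      (MulOpposite.opLinearEquiv E)
  let ψ : B ≃ₗ[E] B ⊗[E] (Cor E he)ᵐᵒᵖ :=
    (TensorProduct.rid E B).symm.trans (LinearEquiv.lTensor B eq)
  have hψ : ∀ b : B, ψ b = b ⊗ₜ[E] (1 : (Cor E he)ᵐᵒᵖ) := by
    intro b
    simp only [ψ, eq, LinearEquiv.trans_apply, TensorProduct.rid_symm_apply,
      LinearEquiv.lTensor_tmul, LinearEquiv.ofBijective_apply, Algebra.linearMap_apply, map_one,
      MulOpposite.coe_opLinearEquiv, MulOpposite.op_one]
  have hLA : ⇑(LA (R := E) he) = ⇑(PhiQ (R := E) he) ∘ ⇑ψ := by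
    funext b
    apply LinearMap.ext
    intro q
    apply Subtype.ext
    rw [Function.comp_apply, hψ, PhiQ_tmul, LA_apply, MulOpposite.unop_one, val_one, mul_assoc,
      lid_mul]
  rw [hLA]
  exact (PhiQ_bijective he).comp ψ.bijective

include hrk in
/-- rank of `Be` -/
theorem rankAtStalk_lidS {e : B} (he : IsIdempotentElem e)
    (hLA : Function.Bijective (LA (R := E) he)) (p : PrimeSpectrum E) :
    Module.rankAtStalk (lidS E e) p = r := by
  haveI : Module.Finite E B := inferInstance
  haveI : Module.Projective E B := inferInstance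
  haveI := finite_lidS (R := E) he
  haveI := projective_lidS (R := E) he
  haveI : Nontrivial E := p.nontrivial
  let eqv : B ≃ₗ[E] Module.End E (lidS E e) :=
    LinearEquiv.ofBijective (LA (R := E) he).toLinearMap hLA
  have h1 := congrFun (Module.rankAtStalk_eq_of_equiv (M := B) (N := Module.End E (lidS E e))
    eqv) p
  rw [Module.rankAtStalk_eq_finrank_of_free, Groth.Agent.Lib.Helper98.AzuBrauer.rankAtStalk_end,
    Pi.natCast_def, Nat.cast_id, hrk, sq] at h1
  exact (Nat.mul_self_inj.mp h1).symm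

end Global

end Groth.Agent.Lib.Helper52.SplitCorner
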