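import Mathlib
import Groth.Agent.S5713
import Groth.Agent.Lib.Helper52.RegularExists
import Groth.Agent.Lib.Helper59.PeriodIndex
import Groth.Agent.Lib.Helper35.EtaleMonogenic
import Groth.Agent.Lib.Helper46.Azumaya
import Groth.Agent.Lib.Helper59.CSA
import Groth.Agent.Lib.Helper52.SplitFree

/-!
# Local data for splitting an Azumaya algebra near a prime

For an Azumaya algebra `A` over `R` and a prime `p`, we produce an element `ξ ∈ A` which is regular
separable at `p` and spread out all the relevant data with denominators outside `p`.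
-/

set_option autoImplicit false
set_option linter.style.haveILetI false

namespace Groth.Agent.Lib.Helper52.SplitLocal

open Polynomial TensorProduct Groth.Agent.Lib.Helper52.RegularCSA
  Groth.Agent.Lib.Helper52.RegularExists Groth.Agent.Lib.Helper59.TPow

universe u

section Adjoin

variable {k : Type*} [Field k] {B : Type*} [Ring B] [Algebra k B]

theorem adjoin_smul_eq {c : k} (hc : c ≠ 0) (x : B) :
    Algebra.adjoin k ({c • x} : Set B) = Algebra.adjoin k ({x} : Set B) := by
  apply le_antisymm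
  · apply Algebra.adjoin_le
    intro y hy
    rw [Set.mem_singleton_iff] at hy
    rw [SetLike.mem_coe, hy]
    exact Subalgebra.smul_mem _ (Algebra.self_mem_adjoin_singleton k x) c
  · apply Algebra.adjoin_le
    intro y hy
    rw [Set.mem_singleton_iff] at hy
    have h : c⁻¹ • (c • x) = x := by rw [smul_smul, inv_mul_cancel₀ hc, one_smul]
    rw [SetLike.mem_coe, hy]
    have := Subalgebra.smul_mem _ (Algebra.self_mem_adjoin_singleton k (c • x)) c⁻¹
    rwa [h] at this

end Adjoin

/-- the (non-monic) polynomial `s X^r - Σ a_i X^i` -/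
noncomputable def poly {R : Type*} [CommRing R] {r : ℕ} (s : R) (a : Fin r → R) : R[X] :=
  C s * X ^ r - ∑ i : Fin r, C (a i) * X ^ (i : ℕ)

/-- Local data at a prime, spread out. -/
structure Data (R : Type u) [CommRing R] (A : Type u) [Ring A] [Algebra R A] (p : Ideal R) where
  r : ℕ
  hr : r ≠ 0
  ξ : A
  s : R
  a : Fin r → R
  U : R[X]
  V : R[X]
  d : R
  φ : A →ₗ[R] (Fin r → R)
  d' : R
  g : R
  hs : s ∉ p
  hd : d ∉ p
  hd' : d' ∉ p
  hg : g ∉ p
  rel : s • ξ ^ r = ∑ i : Fin r, a i • ξ ^ (i : ℕ)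
  bez : U * poly s a + V * derivative (poly s a) = C d
  dual : ∀ i : Fin r, φ (ξ ^ (i : ℕ)) = d' • Pi.single i 1
  basis : ∀ (T : Type u) [CommRing T] [Algebra R T], IsUnit (algebraMap R T g) →
    Nonempty (Module.Basis (Fin (r ^ 2)) T (T ⊗[R] A))

section LocalA

variable (R : Type u) [CommRing R] (A : Type u) [Ring A] [Algebra R A] [IsAzumaya R A]
  (p : Ideal R) [p.IsPrime] (L : Type u) [CommRing L] [Algebra R L] [IsLocalization.AtPrime L p]
  [IsLocalRing L]

include p in
/-- **Lemma A.** a global element which is regular separable at `p` -/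
theorem exists_regular_at :
    ∃ (r : ℕ) (_ : r ≠ 0) (ξ : A),
      Module.finrank L (L ⊗[R] A) = r ^ 2 ∧
      Algebra.IsSeparable (IsLocalRing.ResidueField L)
        (Algebra.adjoin (IsLocalRing.ResidueField L)
          ({(1 : IsLocalRing.ResidueField L) ⊗ₜ[L] ((1 : L) ⊗ₜ[R] ξ)} :
            Set (IsLocalRing.ResidueField L ⊗[L] (L ⊗[R] A)))) ∧
      Module.finrank (IsLocalRing.ResidueField L)
        (Algebra.adjoin (IsLocalRing.ResidueField L)
          ({(1 : IsLocalRing.ResidueField L) ⊗ₜ[L] ((1 : L) ⊗ₜ[R] ξ)} :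
            Set (IsLocalRing.ResidueField L ⊗[L] (L ⊗[R] A)))) = r := by
  classical
  haveI : IsAzumaya L (L ⊗[R] A) :=
    Groth.Agent.Lib.Helper46.Azumaya.isAzumaya_baseChange R L A
  haveI : Module.Free L (L ⊗[R] A) := Module.free_of_flat_of_isLocalRing
  haveI : IsAzumaya (IsLocalRing.ResidueField L) (IsLocalRing.ResidueField L ⊗[L] (L ⊗[R] A)) :=
    Groth.Agent.Lib.Helper46.Azumaya.isAzumaya_baseChange L (IsLocalRing.ResidueField L)
      (L ⊗[R] A)
  have hCSA : IsCSA (IsLocalRing.ResidueField L)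
      (IsLocalRing.ResidueField L ⊗[L] (L ⊗[R] A)) :=
    ⟨Groth.Agent.Lib.Helper59.CSA.isCentral_of_isAzumaya (K := IsLocalRing.ResidueField L),
      Groth.Agent.Lib.Helper59.CSA.isSimpleRing_of_isAzumaya (K := IsLocalRing.ResidueField L),
      Groth.Agent.Lib.Helper59.CSA.finiteDimensional_of_isAzumaya
        (K := IsLocalRing.ResidueField L)⟩
  obtain ⟨r, hr0, hfrk⟩ := Groth.Agent.Lib.Helper59.PeriodIndex.exists_finrank_eq_sq hCSA
  have hA : Module.finrank L (L ⊗[R] A) = r ^ 2 := by
    have h := Module.finrank_baseChange (R := IsLocalRing.ResidueField L) (S := L)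
      (M' := L ⊗[R] A)
    exact h.symm.trans hfrk
  obtain ⟨xb, hsep, hrk⟩ := exists_regular hCSA hfrk
  obtain ⟨y, rfl⟩ := TensorProduct.mk_surjective L (L ⊗[R] A) (IsLocalRing.ResidueField L)
    IsLocalRing.residue_surjective xb
  rw [TensorProduct.mk_apply] at hsep hrk
  obtain ⟨⟨ξ, s₀⟩, hξ⟩ := IsLocalizedModule.surj p.primeCompl (TensorProduct.mk R L A 1) y
  simp only [TensorProduct.mk_apply] at hξ
  refine ⟨r, hr0, ξ, hA, ?_⟩
  have hc : algebraMap R (IsLocalRing.ResidueField L) (s₀ : R) ≠ 0 := by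
    rw [IsScalarTower.algebraMap_apply R L (IsLocalRing.ResidueField L)]
    have hu : IsUnit (algebraMap R L (s₀ : R)) := IsLocalization.map_units L s₀
    exact (hu.map (algebraMap L (IsLocalRing.ResidueField L))).ne_zero
  have hxy : ((1 : IsLocalRing.ResidueField L) ⊗ₜ[L] ((1 : L) ⊗ₜ[R] ξ) :
      IsLocalRing.ResidueField L ⊗[L] (L ⊗[R] A)) =
      algebraMap R (IsLocalRing.ResidueField L) (s₀ : R) •
        ((1 : IsLocalRing.ResidueField L) ⊗ₜ[L] y) := by
    rw [← hξ, algebraMap_smul, Submonoid.smul_def, TensorProduct.tmul_smul]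
  rw [hxy, adjoin_smul_eq hc]
  exact ⟨hsep, hrk⟩

end LocalA

section LocalB

variable (R : Type u) [CommRing R] [IsLocalRing R] (A : Type u) [Ring A] [Algebra R A]
  [IsAzumaya R A]

/-- **Lemma B.** over a local ring: the monic separable polynomial of a regular element and a
retraction of its powers -/
theorem exists_poly_retraction (r : ℕ) (hA : Module.finrank R A = r ^ 2) (ξ : A)
    (hsep : Algebra.IsSeparable (IsLocalRing.ResidueField R)
      (Algebra.adjoin (IsLocalRing.ResidueField R)
        ({(1 : IsLocalRing.ResidueField R) ⊗ₜ[R] ξ} : Set (IsLocalRing.ResidueField R ⊗[R] A))))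
    (hrk : Module.finrank (IsLocalRing.ResidueField R)
      (Algebra.adjoin (IsLocalRing.ResidueField R)
        ({(1 : IsLocalRing.ResidueField R) ⊗ₜ[R] ξ} :
          Set (IsLocalRing.ResidueField R ⊗[R] A))) = r) :
    ∃ c : Fin r → R, ξ ^ r = ∑ i : Fin r, c i • ξ ^ (i : ℕ) ∧
      (X ^ r - ∑ i : Fin r, C (c i) * X ^ (i : ℕ) : R[X]).Separable ∧
      ∃ ρ : A →ₗ[R] (Fin r → R), ∀ i : Fin r, ρ (ξ ^ (i : ℕ)) = Pi.single i 1 := by
  classical
  haveI : Module.Free R A := Module.free_of_flat_of_isLocalRing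
  haveI : IsAzumaya (IsLocalRing.ResidueField R) (IsLocalRing.ResidueField R ⊗[R] A) :=
    Groth.Agent.Lib.Helper46.Azumaya.isAzumaya_baseChange R (IsLocalRing.ResidueField R) A
  have hCSA : IsCSA (IsLocalRing.ResidueField R) (IsLocalRing.ResidueField R ⊗[R] A) :=
    ⟨Groth.Agent.Lib.Helper59.CSA.isCentral_of_isAzumaya (K := IsLocalRing.ResidueField R),
      Groth.Agent.Lib.Helper59.CSA.isSimpleRing_of_isAzumaya (K := IsLocalRing.ResidueField R),
      Groth.Agent.Lib.Helper59.CSA.finiteDimensional_of_isAzumaya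
        (K := IsLocalRing.ResidueField R)⟩
  haveI := hCSA.fd
  obtain ⟨hli, hmem⟩ := Groth.Agent.S5713.result R A r hA ξ hsep hrk
  rw [← Fintype.range_linearCombination] at hmem
  obtain ⟨c, hc⟩ := hmem
  rw [Fintype.linearCombination_apply] at hc
  refine ⟨c, hc.symm, ?_, ?_⟩
  · -- separability
    obtain ⟨q, hq⟩ : ∃ q : R[X], q = ∑ i : Fin r, C (c i) * X ^ (i : ℕ) := ⟨_, rfl⟩
    have hqdeg : q.degree < r := by rw [hq]; exact Polynomial.degree_sum_fin_lt c
    obtain ⟨P, hP⟩ : ∃ P : R[X], P = X ^ r - q := ⟨_, rfl⟩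
    have hPm : P.Monic := by rw [hP]; exact Polynomial.monic_X_pow_sub hqdeg
    have hPdeg : P.natDegree = r := by
      apply Polynomial.natDegree_eq_of_degree_eq_some
      rw [hP, Polynomial.degree_sub_eq_left_of_degree_lt, Polynomial.degree_X_pow]
      rwa [Polynomial.degree_X_pow]
    have hPξ : Polynomial.aeval ξ P = 0 := by
      rw [hP, map_sub, map_pow, Polynomial.aeval_X, hq, map_sum, ← hc, sub_eq_zero]
      refine Finset.sum_congr rfl fun i _ => ?_
      rw [map_mul, Polynomial.aeval_C, map_pow, Polynomial.aeval_X, Algebra.smul_def]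
    have hint : IsIntegral (IsLocalRing.ResidueField R)
        ((1 : IsLocalRing.ResidueField R) ⊗ₜ[R] ξ : IsLocalRing.ResidueField R ⊗[R] A) :=
      IsIntegral.of_finite _ _
    have hmin : P.map (IsLocalRing.residue R) = minpoly (IsLocalRing.ResidueField R)
        ((1 : IsLocalRing.ResidueField R) ⊗ₜ[R] ξ : IsLocalRing.ResidueField R ⊗[R] A) := by
      have h0 : Polynomial.aeval ((1 : IsLocalRing.ResidueField R) ⊗ₜ[R] ξ :
          IsLocalRing.ResidueField R ⊗[R] A) (P.map (algebraMap R (IsLocalRing.ResidueField R))) =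
          0 := by
        rw [Polynomial.aeval_map_algebraMap]
        have : ((1 : IsLocalRing.ResidueField R) ⊗ₜ[R] ξ : IsLocalRing.ResidueField R ⊗[R] A) =
          (Algebra.TensorProduct.includeRight : A →ₐ[R] IsLocalRing.ResidueField R ⊗[R] A) ξ :=
          rfl
        rw [this, Polynomial.aeval_algHom_apply, hPξ, map_zero]
      have hdvd := minpoly.dvd (IsLocalRing.ResidueField R) _ h0
      refine Polynomial.eq_of_monic_of_dvd_of_natDegree_le (minpoly.monic hint) (hPm.map _) hdvd ?_
      rw [natDegree_minpoly_eq_finrank_adjoin hint, hrk]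
      exact (Polynomial.natDegree_map_le).trans hPdeg.le
    have hsepP : (P.map (IsLocalRing.residue R)).Separable := by
      rw [hmin]
      have h1 := Algebra.IsSeparable.isSeparable (IsLocalRing.ResidueField R)
        (⟨_, Algebra.self_mem_adjoin_singleton (IsLocalRing.ResidueField R)
          ((1 : IsLocalRing.ResidueField R) ⊗ₜ[R] ξ : IsLocalRing.ResidueField R ⊗[R] A)⟩ :
          Algebra.adjoin (IsLocalRing.ResidueField R)
            ({(1 : IsLocalRing.ResidueField R) ⊗ₜ[R] ξ} :
              Set (IsLocalRing.ResidueField R ⊗[R] A)))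
      have h2 := minpoly.algHom_eq (Algebra.adjoin (IsLocalRing.ResidueField R)
        ({(1 : IsLocalRing.ResidueField R) ⊗ₜ[R] ξ} :
          Set (IsLocalRing.ResidueField R ⊗[R] A))).val
        Subtype.val_injective ⟨_, Algebra.self_mem_adjoin_singleton (IsLocalRing.ResidueField R)
          ((1 : IsLocalRing.ResidueField R) ⊗ₜ[R] ξ : IsLocalRing.ResidueField R ⊗[R] A)⟩
      rw [IsSeparable, ← h2] at h1
      exact h1
    have hPs : P.Separable :=
      Groth.Agent.Lib.Helper35.EtaleMonogenic.separable_of_map_residue R P hPm hsepP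
    rw [hP, hq] at hPs
    exact hPs
  · -- retraction
    have hint : IsIntegral (IsLocalRing.ResidueField R)
        ((1 : IsLocalRing.ResidueField R) ⊗ₜ[R] ξ : IsLocalRing.ResidueField R ⊗[R] A) :=
      IsIntegral.of_finite _ _
    have hl₁ : Function.Injective ((Fintype.linearCombination R
        (fun i : Fin r => ξ ^ (i : ℕ))).lTensor (IsLocalRing.ResidueField R)) := by
      have hli' := linearIndependent_pow_of_finrank hint hrk
      have hinj : Function.Injective (Fintype.linearCombination (IsLocalRing.ResidueField R)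
          (fun i : Fin r => ((1 : IsLocalRing.ResidueField R) ⊗ₜ[R] ξ :
            IsLocalRing.ResidueField R ⊗[R] A) ^ (i : ℕ))) :=
        linearIndependent_iff_injective_fintypeLinearCombination.mp hli'
      intro z w hzw
      obtain ⟨c, rfl⟩ := (TensorProduct.piScalarRight R (IsLocalRing.ResidueField R)
        (IsLocalRing.ResidueField R) (Fin r)).symm.surjective z
      obtain ⟨d, rfl⟩ := (TensorProduct.piScalarRight R (IsLocalRing.ResidueField R)
        (IsLocalRing.ResidueField R) (Fin r)).symm.surjective w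
      rw [Groth.Agent.S5713.lTensor_linearCombination_pow,
        Groth.Agent.S5713.lTensor_linearCombination_pow] at hzw
      rw [hinj hzw]
    obtain ⟨ρ, hρ⟩ := (IsLocalRing.split_injective_iff_lTensor_residueField_injective
      (Fintype.linearCombination R (fun i : Fin r => ξ ^ (i : ℕ)))).mpr hl₁
    refine ⟨ρ, fun i => ?_⟩
    have := LinearMap.congr_fun hρ (Pi.single i 1)
    rwa [LinearMap.comp_apply, Fintype.linearCombination_apply_single, one_smul,
      LinearMap.id_apply] at this

end LocalB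

section Spread

variable (R : Type u) [CommRing R] (A : Type u) [Ring A] [Algebra R A]
  (p : Ideal R) [p.IsPrime] (L : Type u) [CommRing L] [Algebra R L] [IsLocalization.AtPrime L p]

omit [p.IsPrime] in
theorem one_tmul_pow (ξ : A) (n : ℕ) :
    ((1 : L) ⊗ₜ[R] ξ : L ⊗[R] A) ^ n = (1 : L) ⊗ₜ[R] (ξ ^ n) := by
  rw [Algebra.TensorProduct.tmul_pow, one_pow]

omit [p.IsPrime] [IsLocalization.AtPrime L p] in
theorem one_tmul_smul (a : R) (m : A) :
    ((1 : L) ⊗ₜ[R] (a • m) : L ⊗[R] A) = algebraMap R L a • ((1 : L) ⊗ₜ[R] m) := by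
  rw [TensorProduct.tmul_smul, algebraMap_smul]

/-- **C1.** spreading out the polynomial relation -/
theorem spread_relation (ξ : A) (r : ℕ) (c : Fin r → L)
    (hc : ((1 : L) ⊗ₜ[R] ξ : L ⊗[R] A) ^ r =
      ∑ i : Fin r, c i • ((1 : L) ⊗ₜ[R] ξ : L ⊗[R] A) ^ (i : ℕ)) :
    ∃ s ∈ p.primeCompl, ∃ a : Fin r → R, s • ξ ^ r = ∑ i : Fin r, a i • ξ ^ (i : ℕ) ∧
      ∀ i, algebraMap R L s * c i = algebraMap R L (a i) := by
  classical
  obtain ⟨b, hb⟩ := IsLocalization.exist_integer_multiples_of_finite p.primeCompl c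
  choose a₀ ha₀ using hb
  have hz : (TensorProduct.mk R L A 1) ((b : R) • ξ ^ r - ∑ i : Fin r, a₀ i • ξ ^ (i : ℕ)) = 0 := by
    rw [TensorProduct.mk_apply, TensorProduct.tmul_sub, TensorProduct.tmul_sum, one_tmul_smul,
      ← one_tmul_pow, hc, Finset.smul_sum, sub_eq_zero]
    refine Finset.sum_congr rfl fun i _ => ?_
    rw [one_tmul_smul, ha₀, ← one_tmul_pow, smul_smul, Algebra.smul_def (b : R) (c i)]
  obtain ⟨t, ht⟩ := (IsLocalizedModule.eq_zero_iff p.primeCompl
    (TensorProduct.mk R L A 1)).mp hz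
  refine ⟨t * b, (t * b).2, fun i => (t : R) * a₀ i, ?_, fun i => ?_⟩
  · rw [Submonoid.smul_def, smul_sub, sub_eq_zero, Finset.smul_sum] at ht
    rw [mul_smul, ht]
    refine Finset.sum_congr rfl fun i _ => ?_
    rw [mul_smul]
  · show algebraMap R L ((t : R) * (b : R)) * c i = algebraMap R L ((t : R) * a₀ i)
    rw [map_mul, map_mul, ha₀, Algebra.smul_def, mul_assoc]

attribute [local instance] Polynomial.algebra in
/-- **C2.** spreading out a Bezout relation -/
theorem spread_bezout (P₀ : R[X])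
    (h : ∃ U' V' : L[X], U' * P₀.map (algebraMap R L) +
      V' * (derivative P₀).map (algebraMap R L) = 1) :
    ∃ d ∈ p.primeCompl, ∃ U V : R[X], U * P₀ + V * derivative P₀ = C d := by
  classical
  haveI := Polynomial.isLocalization p.primeCompl L
  obtain ⟨U', V', h⟩ := h
  obtain ⟨b₁, hb₁, hU⟩ := IsLocalization.integerNormalization_spec p.primeCompl U'
  obtain ⟨b₂, hb₂, hV⟩ := IsLocalization.integerNormalization_spec p.primeCompl V'
  obtain ⟨U₁, hU₁⟩ : ∃ U₁ : R[X], U₁ = IsLocalization.integerNormalization p.primeCompl U' :=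
    ⟨_, rfl⟩
  obtain ⟨V₁, hV₁⟩ : ∃ V₁ : R[X], V₁ = IsLocalization.integerNormalization p.primeCompl V' :=
    ⟨_, rfl⟩
  rw [← hU₁] at hU
  rw [← hV₁] at hV
  have hq : algebraMap R[X] L[X]
      (C b₂ * U₁ * P₀ + C b₁ * V₁ * derivative P₀ - C (b₁ * b₂)) = 0 := by
    rw [Polynomial.algebraMap_def, coe_mapRingHom, Polynomial.map_sub, Polynomial.map_add,
      Polynomial.map_mul, Polynomial.map_mul, Polynomial.map_mul, Polynomial.map_mul, hU, hV,
      Polynomial.map_C, Polynomial.map_C, Polynomial.map_C, ← algebraMap_smul L b₁ U',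
      ← algebraMap_smul L b₂ V', Polynomial.smul_eq_C_mul, Polynomial.smul_eq_C_mul, map_mul,
      C_mul]
    have : C (algebraMap R L b₂) * (C (algebraMap R L b₁) * U') * P₀.map (algebraMap R L) +
        C (algebraMap R L b₁) * (C (algebraMap R L b₂) * V') *
          (derivative P₀).map (algebraMap R L) =
        C (algebraMap R L b₁) * C (algebraMap R L b₂) *
          (U' * P₀.map (algebraMap R L) + V' * (derivative P₀).map (algebraMap R L)) := by ring
    rw [this, h, mul_one, sub_self]
  obtain ⟨⟨m, t, ht, rfl⟩, hm⟩ := (IsLocalization.map_eq_zero_iff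
    (Submonoid.map (C : R →+* R[X]) p.primeCompl) L[X] _).mp hq
  refine ⟨t * (b₁ * b₂), p.primeCompl.mul_mem ht (p.primeCompl.mul_mem hb₁ hb₂),
    C t * C b₂ * U₁, C t * C b₁ * V₁, ?_⟩
  simp only at hm
  rw [mul_sub, sub_eq_zero] at hm
  rw [C_mul (a := t)]
  rw [← hm]
  ring

/-- **C3.** spreading out a retraction of the powers -/
theorem spread_retraction [Module.FinitePresentation R A] (ξ : A) (r : ℕ)
    (ρ : (L ⊗[R] A) →ₗ[L] (Fin r → L))
    (hρ : ∀ i : Fin r, ρ (((1 : L) ⊗ₜ[R] ξ : L ⊗[R] A) ^ (i : ℕ)) = Pi.single i 1) :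
    ∃ d' ∈ p.primeCompl, ∃ φ : A →ₗ[R] (Fin r → R),
      ∀ i : Fin r, φ (ξ ^ (i : ℕ)) = d' • Pi.single i 1 := by
  classical
  let f : (Fin r → R) →ₗ[R] (Fin r → L) :=
    LinearMap.pi fun i => (Algebra.linearMap R L) ∘ₗ LinearMap.proj i
  haveI : IsLocalizedModule p.primeCompl f := IsLocalizedModule.pi p.primeCompl
    (fun _ : Fin r => Algebra.linearMap R L)
  obtain ⟨φ₀, s, hφ₀⟩ := Module.FinitePresentation.exists_lift_of_isLocalizedModule p.primeCompl f
    ((ρ.restrictScalars R) ∘ₗ (TensorProduct.mk R L A 1))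
  have hf1 : ∀ i : Fin r, f (Pi.single i 1) = Pi.single i 1 := by
    intro i
    ext j
    simp only [f, LinearMap.pi_apply, LinearMap.comp_apply, LinearMap.proj_apply,
      Algebra.linearMap_apply, Pi.single_apply]
    split_ifs <;> simp
  have h1 : ∀ i : Fin r, ∃ t : p.primeCompl,
      t • φ₀ (ξ ^ (i : ℕ)) = t • ((s : R) • (Pi.single i 1 : Fin r → R)) := by
    intro i
    apply IsLocalizedModule.exists_of_eq (S := p.primeCompl) (f := f)
    have := LinearMap.congr_fun hφ₀ (ξ ^ (i : ℕ))
    rw [LinearMap.comp_apply] at this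
    rw [this, LinearMap.smul_apply, LinearMap.comp_apply, LinearMap.restrictScalars_apply,
      TensorProduct.mk_apply, ← one_tmul_pow, hρ, map_smul, hf1, Submonoid.smul_def]
  choose t ht using h1
  refine ⟨(∏ i, (t i : R)) * s, p.primeCompl.mul_mem (Submonoid.prod_mem _ fun i _ => (t i).2) s.2,
    (∏ i, (t i : R)) • φ₀, fun i => ?_⟩
  rw [LinearMap.smul_apply, ← Finset.mul_prod_erase Finset.univ _ (Finset.mem_univ i), mul_comm,
    mul_smul, ← Submonoid.smul_def, ht i, Submonoid.smul_def, smul_smul, smul_smul, mul_smul]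

end Spread

section Main

variable (R : Type u) [CommRing R] (A : Type u) [Ring A] [Algebra R A] [IsAzumaya R A]
  (p : Ideal R) [p.IsPrime]

theorem poly_map {R : Type*} [CommRing R] {S : Type*} [CommRing S] (f : R →+* S) {r : ℕ} (s : R)
    (a : Fin r → R) : (poly s a).map f = poly (f s) (fun i => f (a i)) := by
  simp only [poly, Polynomial.map_sub, Polynomial.map_mul, Polynomial.map_C, Polynomial.map_pow,
    Polynomial.map_X, Polynomial.map_sum]

theorem exists_data : Nonempty (Data R A p) := by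
  classical
  haveI : Module.Finite R A := inferInstance
  haveI : Module.Projective R A := inferInstance
  haveI : Module.FinitePresentation R A := Module.finitePresentation_of_projective R A
  obtain ⟨r, hr0, ξ, hA, hsep, hrk⟩ := exists_regular_at R A p (Localization.AtPrime p)
  haveI : IsAzumaya (Localization.AtPrime p) (Localization.AtPrime p ⊗[R] A) :=
    Groth.Agent.Lib.Helper46.Azumaya.isAzumaya_baseChange R (Localization.AtPrime p) A
  obtain ⟨c, hc, hPsep, ρ, hρ⟩ := exists_poly_retraction (Localization.AtPrime p)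
    (Localization.AtPrime p ⊗[R] A) r hA ((1 : Localization.AtPrime p) ⊗ₜ[R] ξ) hsep hrk
  obtain ⟨s, hs, a, hrel, hsa⟩ := spread_relation R A p (Localization.AtPrime p) ξ r c hc
  -- Bezout
  have hu : IsUnit (algebraMap R (Localization.AtPrime p) s) :=
    IsLocalization.map_units (Localization.AtPrime p) (⟨s, hs⟩ : p.primeCompl)
  obtain ⟨v, hv⟩ := hu.exists_left_inv
  have hPL : (poly s a).map (algebraMap R (Localization.AtPrime p)) =
      C (algebraMap R (Localization.AtPrime p) s) *
        (X ^ r - ∑ i : Fin r, C (c i) * X ^ (i : ℕ)) := by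
    rw [poly_map, poly, mul_sub, Finset.mul_sum]
    congr 1
    refine Finset.sum_congr rfl fun i _ => ?_
    rw [← hsa i, C_mul, mul_assoc]
  obtain ⟨d, hd, U, V, hbez⟩ := spread_bezout R p (Localization.AtPrime p) (poly s a) (by
    obtain ⟨a', b', hab⟩ := hPsep
    refine ⟨a' * C v, b' * C v, ?_⟩
    rw [← Polynomial.derivative_map, hPL, Polynomial.derivative_C_mul]
    have : a' * C v * (C (algebraMap R (Localization.AtPrime p) s) *
        (X ^ r - ∑ i : Fin r, C (c i) * X ^ (i : ℕ))) +
        b' * C v * (C (algebraMap R (Localization.AtPrime p) s) *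
          derivative (X ^ r - ∑ i : Fin r, C (c i) * X ^ (i : ℕ))) =
        C (v * algebraMap R (Localization.AtPrime p) s) *
          (a' * (X ^ r - ∑ i : Fin r, C (c i) * X ^ (i : ℕ)) +
            b' * derivative (X ^ r - ∑ i : Fin r, C (c i) * X ^ (i : ℕ))) := by
      rw [C_mul]; ring
    rw [this, hv, hab, C_1, mul_one])
  obtain ⟨d', hd', φ, hφ⟩ := spread_retraction R A p (Localization.AtPrime p) ξ r ρ hρ
  -- basis
  haveI : Module.Free (Localization.AtPrime p) (Localization.AtPrime p ⊗[R] A) :=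
    Module.free_of_flat_of_isLocalRing
  have b : Module.Basis (Fin (r ^ 2)) (Localization p.primeCompl)
      (Localization p.primeCompl ⊗[R] A) := Module.finBasisOfFinrankEq _ _ hA
  obtain ⟨g, hg, hbasis⟩ :=
    Groth.Agent.Lib.Helper52.SplitFree.exists_basis_of_basis_localization R A p.primeCompl b
  exact ⟨⟨r, hr0, ξ, s, a, U, V, d, φ, d', g, hs, hd, hd', hg, hrel, hbez, hφ, hbasis⟩⟩

end Main

section Generic

variable {R : Type u} [CommRing R] {A : Type u} [Ring A] [Algebra R A] {p : Ideal R}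
  (D : Data R A p) (T : Type u) [CommRing T] [Algebra R T]

/-- the monic polynomial over an algebra in which `s` is inverted by `sT` -/
noncomputable def monicPoly (sT : T) : T[X] :=
  X ^ D.r - ∑ i : Fin D.r, C (sT * algebraMap R T (D.a i)) * X ^ (i : ℕ)

variable {T}

theorem monicPoly_eq {sT : T} (hsT : sT * algebraMap R T D.s = 1) :
    monicPoly D T sT = C sT * (poly D.s D.a).map (algebraMap R T) := by
  rw [poly_map, poly, monicPoly, mul_sub, ← mul_assoc, ← C_mul, hsT, C_1, one_mul, Finset.mul_sum]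
  congr 1
  refine Finset.sum_congr rfl fun i _ => ?_
  rw [C_mul, mul_assoc]

theorem monicPoly_monic (sT : T) : (monicPoly D T sT).Monic := by
  apply Polynomial.monic_X_pow_sub
  exact Polynomial.degree_sum_fin_lt _

theorem monicPoly_natDegree [Nontrivial T] (sT : T) : (monicPoly D T sT).natDegree = D.r := by
  apply Polynomial.natDegree_eq_of_degree_eq_some
  rw [monicPoly, Polynomial.degree_sub_eq_left_of_degree_lt, Polynomial.degree_X_pow]
  rw [Polynomial.degree_X_pow]
  exact Polynomial.degree_sum_fin_lt _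

theorem aeval_poly : aeval D.ξ (poly D.s D.a) = 0 := by
  rw [poly, map_sub, map_mul, aeval_C, map_pow, aeval_X, map_sum, ← Algebra.smul_def, D.rel,
    sub_eq_zero]
  refine Finset.sum_congr rfl fun i _ => ?_
  rw [map_mul, aeval_C, map_pow, aeval_X, Algebra.smul_def]

theorem aeval_monicPoly {sT : T} (hsT : sT * algebraMap R T D.s = 1) :
    aeval ((1 : T) ⊗ₜ[R] D.ξ : T ⊗[R] A) (monicPoly D T sT) = 0 := by
  have h1 : aeval ((1 : T) ⊗ₜ[R] D.ξ : T ⊗[R] A) ((poly D.s D.a).map (algebraMap R T)) = 0 := by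
    rw [Polynomial.aeval_map_algebraMap]
    have : ((1 : T) ⊗ₜ[R] D.ξ : T ⊗[R] A) =
      (Algebra.TensorProduct.includeRight : A →ₐ[R] T ⊗[R] A) D.ξ := rfl
    rw [this, Polynomial.aeval_algHom_apply, aeval_poly, map_zero]
  rw [monicPoly_eq D hsT, map_mul, h1, mul_zero]

theorem monicPoly_separable {sT : T} (hsT : sT * algebraMap R T D.s = 1) {dT : T}
    (hdT : dT * algebraMap R T D.d = 1) : (monicPoly D T sT).Separable := by
  have hbez := congrArg (Polynomial.map (algebraMap R T)) D.bez
  rw [Polynomial.map_add, Polynomial.map_mul, Polynomial.map_mul, Polynomial.map_C,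
    ← Polynomial.derivative_map] at hbez
  have hPm : (poly D.s D.a).map (algebraMap R T) = C (algebraMap R T D.s) * monicPoly D T sT := by
    rw [monicPoly_eq D hsT, ← mul_assoc, ← C_mul, mul_comm (algebraMap R T D.s), hsT, C_1, one_mul]
  rw [hPm, Polynomial.derivative_C_mul] at hbez
  refine ⟨C dT * D.U.map (algebraMap R T) * C (algebraMap R T D.s),
    C dT * D.V.map (algebraMap R T) * C (algebraMap R T D.s), ?_⟩
  have : C dT * D.U.map (algebraMap R T) * C (algebraMap R T D.s) * monicPoly D T sT +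
      C dT * D.V.map (algebraMap R T) * C (algebraMap R T D.s) *
        derivative (monicPoly D T sT) =
      C dT * (D.U.map (algebraMap R T) * (C (algebraMap R T D.s) * monicPoly D T sT) +
        D.V.map (algebraMap R T) * (C (algebraMap R T D.s) * derivative (monicPoly D T sT))) := by
    ring
  rw [this, hbez, ← C_mul, hdT, C_1]

/-- the dual functionals over `T` -/
noncomputable def dualT (d'T : T) (j : Fin D.r) : (T ⊗[R] A) →ₗ[T] T :=
  d'T • ((TensorProduct.AlgebraTensorModule.rid R T T).toLinearMap ∘ₗ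
    ((LinearMap.proj j ∘ₗ D.φ).baseChange T))

theorem dualT_apply {d'T : T} (hd'T : d'T * algebraMap R T D.d' = 1) (i j : Fin D.r) :
    dualT D d'T j (((1 : T) ⊗ₜ[R] D.ξ : T ⊗[R] A) ^ (i : ℕ)) = if i = j then 1 else 0 := by
  rw [Algebra.TensorProduct.tmul_pow, one_pow, dualT, LinearMap.smul_apply, LinearMap.comp_apply,
    LinearMap.baseChange_tmul, LinearMap.comp_apply, D.dual, LinearEquiv.coe_coe,
    TensorProduct.AlgebraTensorModule.rid_tmul, LinearMap.proj_apply, Pi.smul_apply,
    Pi.single_apply, smul_eq_mul]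
  split_ifs with h1 h2 h2
  · rw [smul_eq_mul, mul_one, Algebra.smul_def, mul_one, hd'T]
  · exact absurd h1.symm h2
  · exact absurd h2.symm h1
  · rw [smul_zero, zero_smul, mul_zero]

theorem monicPoly_map {E : Type u} [CommRing E] [Algebra R E] [Algebra T E] [IsScalarTower R T E]
    (sT : T) : (monicPoly D T sT).map (algebraMap T E) = monicPoly D E (algebraMap T E sT) := by
  simp only [monicPoly, Polynomial.map_sub, Polynomial.map_pow, Polynomial.map_X,
    Polynomial.map_sum, Polynomial.map_mul, Polynomial.map_C, map_mul,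
    ← IsScalarTower.algebraMap_apply]

end Generic

end Groth.Agent.Lib.Helper52.SplitLocal
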