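import Mathlib
import Groth.Agent.Lib.Helper52.SplitLocal
import Groth.Agent.Lib.Helper52.SplitCorner

/-!
# The splitting module over the monogenic étale cover
-/

set_option autoImplicit false
set_option linter.style.haveILetI false

namespace Groth.Agent.Lib.Helper52.SplitMid

open Polynomial TensorProduct Groth.Agent.Lib.Helper52.SplitLocal
  Groth.Agent.Lib.Helper52.SplitCorner Groth.Agent.Lib.Helper98.CornerRing

universe u

variable {R : Type u} [CommRing R] {A : Type u} [Ring A] [Algebra R A] [IsAzumaya R A]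
  {p : Ideal R} (D : Data R A p) (T : Type u) [CommRing T] [Nontrivial T] [Algebra R T]

theorem exists_module {sT dT d'T : T} (hsT : sT * algebraMap R T D.s = 1)
    (hdT : dT * algebraMap R T D.d = 1) (hd'T : d'T * algebraMap R T D.d' = 1)
    (hgT : IsUnit (algebraMap R T D.g)) :
    ∃ (M : Type u) (_ : AddCommGroup M) (_ : Module (AdjoinRoot (monicPoly D T sT)) M),
      Module.Finite (AdjoinRoot (monicPoly D T sT)) M ∧
      Module.Projective (AdjoinRoot (monicPoly D T sT)) M ∧
      (∀ q : PrimeSpectrum (AdjoinRoot (monicPoly D T sT)), Module.rankAtStalk M q = D.r) ∧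
      Nonempty ((AdjoinRoot (monicPoly D T sT) ⊗[R] A) ≃ₐ[AdjoinRoot (monicPoly D T sT)]
        Module.End (AdjoinRoot (monicPoly D T sT)) M) := by
  classical
  have hPm := monicPoly_monic D sT
  have hPdeg := monicPoly_natDegree D sT
  have hPsep := monicPoly_separable D hsT hdT
  obtain ⟨P, hP⟩ : ∃ P : T[X], P = monicPoly D T sT := ⟨_, rfl⟩
  rw [← hP] at hPm hPdeg hPsep ⊢
  -- the base change to `E`
  have hsE : algebraMap T (AdjoinRoot P) sT * algebraMap R (AdjoinRoot P) D.s = 1 := by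
    rw [IsScalarTower.algebraMap_apply R T (AdjoinRoot P), ← map_mul, hsT, map_one]
  have hd'E : algebraMap T (AdjoinRoot P) d'T * algebraMap R (AdjoinRoot P) D.d' = 1 := by
    rw [IsScalarTower.algebraMap_apply R T (AdjoinRoot P), ← map_mul, hd'T, map_one]
  have hgE : IsUnit (algebraMap R (AdjoinRoot P) D.g) := by
    rw [IsScalarTower.algebraMap_apply R T (AdjoinRoot P)]
    exact hgT.map _
  have hPE : P.map (algebraMap T (AdjoinRoot P)) =
      monicPoly D (AdjoinRoot P) (algebraMap T (AdjoinRoot P) sT) := by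
    rw [hP]; exact monicPoly_map D sT
  haveI : Module.Free T (AdjoinRoot P) := hPm.free_adjoinRoot
  haveI : Module.Finite T (AdjoinRoot P) := hPm.finite_adjoinRoot
  haveI : Nontrivial (AdjoinRoot P) := by
    apply Module.nontrivial_of_finrank_pos (R := T)
    rw [(AdjoinRoot.powerBasis' hPm).finrank, AdjoinRoot.powerBasis'_dim, hPdeg]
    exact Nat.pos_of_ne_zero D.hr
  haveI : IsAzumaya (AdjoinRoot P) (AdjoinRoot P ⊗[R] A) :=
    Groth.Agent.Lib.Helper46.Azumaya.isAzumaya_baseChange R (AdjoinRoot P) A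
  obtain ⟨bB⟩ := D.basis (AdjoinRoot P) hgE
  haveI : Module.Free (AdjoinRoot P) (AdjoinRoot P ⊗[R] A) := Module.Free.of_basis bB
  have hrk : Module.finrank (AdjoinRoot P) (AdjoinRoot P ⊗[R] A) = D.r ^ 2 := by
    rw [Module.finrank_eq_card_basis bB, Fintype.card_fin]
  have hPx : aeval ((1 : AdjoinRoot P) ⊗ₜ[R] D.ξ : AdjoinRoot P ⊗[R] A)
      (P.map (algebraMap T (AdjoinRoot P))) = 0 := by
    rw [hPE]; exact aeval_monicPoly D hsE
  have hroot : (P.map (algebraMap T (AdjoinRoot P))).IsRoot (AdjoinRoot.root P) := by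
    rw [Polynomial.IsRoot, Polynomial.eval_map, AdjoinRoot.algebraMap_eq]
    exact AdjoinRoot.eval₂_root P
  have hPQ : P.map (algebraMap T (AdjoinRoot P)) = (X - C (AdjoinRoot.root P)) *
      (P.map (algebraMap T (AdjoinRoot P)) /ₘ (X - C (AdjoinRoot.root P))) :=
    (Polynomial.mul_divByMonic_eq_iff_isRoot.mpr hroot).symm
  obtain ⟨Q, hQ⟩ : ∃ Q : (AdjoinRoot P)[X],
    Q = P.map (algebraMap T (AdjoinRoot P)) /ₘ (X - C (AdjoinRoot.root P)) := ⟨_, rfl⟩
  rw [← hQ] at hPQ
  have hsepE : (P.map (algebraMap T (AdjoinRoot P))).Separable := hPsep.map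
  obtain ⟨u, hu⟩ : ∃ u : AdjoinRoot P, u * Q.eval (AdjoinRoot.root P) = 1 := by
    obtain ⟨a, b, hab⟩ := hsepE
    refine ⟨b.eval (AdjoinRoot.root P), ?_⟩
    have h1 := congrArg (Polynomial.eval (AdjoinRoot.root P)) hab
    rw [Polynomial.eval_add, Polynomial.eval_mul, Polynomial.eval_mul, hroot.eq_zero, mul_zero,
      zero_add, Polynomial.eval_one] at h1
    have hder : (derivative (P.map (algebraMap T (AdjoinRoot P)))).eval (AdjoinRoot.root P) =
        Q.eval (AdjoinRoot.root P) := by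
      conv_lhs => rw [hPQ]
      rw [Polynomial.derivative_mul, Polynomial.eval_add, Polynomial.eval_mul,
        Polynomial.eval_mul, Polynomial.eval_sub, Polynomial.eval_X, Polynomial.eval_C, sub_self,
        zero_mul, add_zero, Polynomial.derivative_sub, Polynomial.derivative_X,
        Polynomial.derivative_C, sub_zero, Polynomial.eval_one, one_mul]
    rw [← hder, h1]
  have hdegE : (P.map (algebraMap T (AdjoinRoot P))).natDegree = D.r := by
    rw [hPm.natDegree_map, hPdeg]
  have hφ : ∀ i j : Fin D.r, dualT D (algebraMap T (AdjoinRoot P) d'T) j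
      (((1 : AdjoinRoot P) ⊗ₜ[R] D.ξ : AdjoinRoot P ⊗[R] A) ^ (i : ℕ)) = if i = j then 1 else 0 :=
    fun i j => dualT_apply D hd'E i j
  have he := idem hPx hPQ hu
  have hcor := bijective_linearMap_cor hrk (hPm.map _) hdegE hPx hsepE _ hφ hPQ hu he
  have hLA := bijective_LA he hcor
  have hrank := rankAtStalk_lidS hrk he hLA
  haveI : Module.Finite (AdjoinRoot P) (AdjoinRoot P ⊗[R] A) := inferInstance
  haveI : Module.Projective (AdjoinRoot P) (AdjoinRoot P ⊗[R] A) := inferInstance
  exact ⟨lidS (AdjoinRoot P) (u • aeval ((1 : AdjoinRoot P) ⊗ₜ[R] D.ξ : AdjoinRoot P ⊗[R] A) Q),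
    inferInstance, inferInstance, finite_lidS he, projective_lidS he, hrank,
    ⟨AlgEquiv.ofBijective (LA he) hLA⟩⟩

end Groth.Agent.Lib.Helper52.SplitMid
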