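import Mathlib
import Groth.Agent.Lib.Helper52.InvSign
import Groth.Agent.S5720
import Groth.Agent.S17357
import Groth.Agent.Lib.Helper35.EtaleMonogenic

/-!
# Existence of split data, étale locally

For an Azumaya algebra `A` of degree `n` over `R` with an `R`-linear anti-automorphism `σ` of order
two and a prime `p` of `R`, there is an étale `R`-algebra `C` with a prime over `p`, an isomorphism
`φ : C ⊗ A ≃ M_n(C)` and a unit `u` with `φ ∘ σ_C ∘ φ⁻¹ = (x ↦ u xᵀ u⁻¹)`.
-/

set_option autoImplicit false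
set_option linter.style.haveILetI false
set_option linter.dupNamespace false
set_option linter.unusedSimpArgs false
set_option linter.unusedVariables false
set_option linter.unusedSectionVars false

namespace Groth.Agent.Lib.Helper52.InvSplitExists

open scoped TensorProduct
open Groth.Agent.Lib.Helper52.InvFix Groth.Agent.Lib.Helper52.InvIso
  Groth.Agent.Lib.Helper52.InvSign Groth.Agent.Lib.Helper52.AzuCharpoly

universe u w

/-- étale-local splitting with the right degree, for `A` in an arbitrary universe -/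
theorem exists_splitting (R : Type u) [CommRing R] (A : Type w) [Ring A] [Algebra R A]
    [IsAzumaya R A] (n : ℕ)
    (hrank : ∀ p : PrimeSpectrum R, Module.rankAtStalk (R := R) A p = n ^ 2)
    (p : Ideal R) [p.IsPrime] :
    ∃ (C : Type u) (_ : CommRing C) (_ : Algebra R C) (_ : Algebra.Etale R C) (𝔓 : Ideal C)
      (_ : 𝔓.IsPrime), 𝔓.comap (algebraMap R C) = p ∧
        Nonempty (C ⊗[R] A ≃ₐ[C] Matrix (Fin n) (Fin n) C) := by
  classical
  haveI : Small.{u} A := Module.Finite.small R A
  haveI : IsAzumaya R (Shrink.{u} A) := IsAzumaya.of_AlgEquiv R A _ (Shrink.algEquiv R A).symm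
  obtain ⟨f, hf, R', _, _, _, _, hfin, het, hff, r, hr, ⟨φ₀⟩⟩ :=
    Groth.Agent.S5720.result R (Shrink.{u} A) p
  haveI := het
  haveI := hff
  haveI : Algebra.Etale R R' := Algebra.Etale.comp R (Localization.Away f) R'
  -- a prime of `R'` over `p`
  have hdisj : Disjoint (Submonoid.powers f : Set R) (p : Set R) :=
    (Ideal.disjoint_powers_iff_notMem _ (Ideal.IsPrime.isRadical inferInstance)).mpr hf
  have hP : (Ideal.map (algebraMap R (Localization.Away f)) p).IsPrime :=
    IsLocalization.isPrime_of_isPrime_disjoint (Submonoid.powers f) _ p inferInstance hdisj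
  have hcomap : (Ideal.map (algebraMap R (Localization.Away f)) p).comap
      (algebraMap R (Localization.Away f)) = p :=
    IsLocalization.under_map_of_isPrime_disjoint (Submonoid.powers f) _ inferInstance hdisj
  obtain ⟨𝔓, h𝔓⟩ := PrimeSpectrum.comap_surjective_of_faithfullyFlat
    (A := Localization.Away f) (B := R') ⟨_, hP⟩
  have h𝔓p : 𝔓.asIdeal.comap (algebraMap R R') = p := by
    have h1 : 𝔓.asIdeal.comap (algebraMap (Localization.Away f) R') =
        Ideal.map (algebraMap R (Localization.Away f)) p := congrArg PrimeSpectrum.asIdeal h𝔓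
    rw [IsScalarTower.algebraMap_eq R (Localization.Away f) R', ← Ideal.comap_comap, h1, hcomap]
  -- the splitting over `R'`
  let φ₁ : R' ⊗[R] A ≃ₐ[R'] Matrix (Fin r) (Fin r) R' :=
    (Algebra.TensorProduct.congr (AlgEquiv.refl : R' ≃ₐ[R'] R') (Shrink.algEquiv R A).symm).trans φ₀
  -- the degree
  have hrn : r = n := by
    haveI : Nontrivial R' := ⟨⟨0, 1, fun h01 => 𝔓.2.ne_top (by
      rw [Ideal.eq_top_iff_one, ← h01]; exact Ideal.zero_mem _)⟩⟩
    have h1 := Module.rankAtStalk_baseChange (R := R) (M := A) (S := R') 𝔓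
    rw [hrank] at h1
    have h2 := Module.rankAtStalk_eq_of_equiv (R := R') φ₁.toLinearEquiv
    have h3 := congrFun h2 𝔓
    rw [h1, Module.rankAtStalk_eq_finrank_of_free] at h3
    simp only [Module.finrank_matrix, Fintype.card_fin, Module.finrank_self, mul_one,
      Pi.natCast_apply, Nat.cast_id] at h3
    have : n * n = r * r := by rw [← h3]; ring
    exact (Nat.mul_self_inj.mp this).symm
  subst hrn
  exact ⟨R', inferInstance, inferInstance, inferInstance, 𝔓.asIdeal, 𝔓.2, h𝔓p, ⟨φ₁⟩⟩

section Twist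

variable {R : Type*} [CommRing R] {A : Type*} [Ring A] [Algebra R A] (σ : A →ₗ[R] A)
  (hmul : ∀ a b, σ (a * b) = σ b * σ a) (hσ : ∀ a, σ (σ a) = a)

include hmul hσ in
lemma sigma_one : σ 1 = 1 := by
  have h : ∀ a : A, σ 1 * a = a := fun a => by
    rw [← hσ a, ← hmul, mul_one]
  simpa using h 1

variable (C : Type*) [CommRing C] [Algebra R C]

include hmul in
lemma baseChange_mul_rev (x y : C ⊗[R] A) :
    σ.baseChange C (x * y) = σ.baseChange C y * σ.baseChange C x := by
  induction x using TensorProduct.induction_on with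
  | zero => simp
  | tmul c a =>
    induction y using TensorProduct.induction_on with
    | zero => simp
    | tmul c' a' =>
      rw [Algebra.TensorProduct.tmul_mul_tmul, LinearMap.baseChange_tmul, LinearMap.baseChange_tmul,
        LinearMap.baseChange_tmul, Algebra.TensorProduct.tmul_mul_tmul, hmul, mul_comm]
    | add y y' hy hy' => rw [mul_add, map_add, map_add, hy, hy', add_mul]
  | add x x' hx hx' => rw [add_mul, map_add, map_add, hx, hx', mul_add]

include hmul hσ in
lemma baseChange_algebraMap (c : C) :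
    σ.baseChange C (algebraMap C (C ⊗[R] A) c) = algebraMap C (C ⊗[R] A) c := by
  rw [Algebra.TensorProduct.algebraMap_apply, LinearMap.baseChange_tmul, sigma_one σ hmul hσ]

variable {C} {n : ℕ} (φ : C ⊗[R] A ≃ₐ[C] Matrix (Fin n) (Fin n) C)

/-- the automorphism `y ↦ φ σ φ⁻¹ (yᵀ)` of the matrix algebra -/
noncomputable def twistAut : Matrix (Fin n) (Fin n) C ≃ₐ[C] Matrix (Fin n) (Fin n) C where
  toFun y := φ (σ.baseChange C (φ.symm y.transpose))
  invFun y := (φ (σ.baseChange C (φ.symm y))).transpose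
  left_inv y := by
    simp only [AlgEquiv.symm_apply_apply]
    rw [baseChange_invol hσ, AlgEquiv.apply_symm_apply, Matrix.transpose_transpose]
  right_inv y := by
    simp only [Matrix.transpose_transpose, AlgEquiv.symm_apply_apply]
    rw [baseChange_invol hσ, AlgEquiv.apply_symm_apply]
  map_mul' y y' := by
    rw [Matrix.transpose_mul, map_mul, baseChange_mul_rev σ hmul, map_mul]
  map_add' y y' := by
    rw [Matrix.transpose_add, map_add, map_add, map_add]
  commutes' c := by
    have h1 : (algebraMap C (Matrix (Fin n) (Fin n) C) c).transpose =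
        algebraMap C (Matrix (Fin n) (Fin n) C) c := by
      ext i j
      simp [Matrix.algebraMap_matrix_apply, eq_comm]
    rw [h1, AlgEquiv.commutes, baseChange_algebraMap σ hmul hσ, AlgEquiv.commutes]

lemma twistAut_apply (y : Matrix (Fin n) (Fin n) C) :
    twistAut σ hmul hσ φ y = φ (σ.baseChange C (φ.symm y.transpose)) := rfl

end Twist

/-- Zariski-locally the transported involution is `x ↦ u xᵀ u⁻¹` -/
theorem exists_split_of_splitting {R : Type u} [CommRing R] {A : Type w} [Ring A] [Algebra R A]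
    (σ : A →ₗ[R] A) (hmul : ∀ a b, σ (a * b) = σ b * σ a) (hσ : ∀ a, σ (σ a) = a)
    (n : ℕ) (hn : 0 < n) (C₀ : Type u) [CommRing C₀] [Algebra R C₀]
    (φ₀ : C₀ ⊗[R] A ≃ₐ[C₀] Matrix (Fin n) (Fin n) C₀) (𝔓₀ : Ideal C₀) [𝔓₀.IsPrime] :
    ∃ f : C₀, f ∉ 𝔓₀ ∧ ∃ u : (Matrix (Fin n) (Fin n) (Localization.Away f))ˣ,
      IsSplit σ (Localization.Away f) n (splitBaseChange φ₀ (Localization.Away f)) u := by
  classical
  haveI : Nonempty (Fin n) := ⟨⟨0, hn⟩⟩
  haveI : IsAzumaya C₀ (Matrix (Fin n) (Fin n) C₀) := IsAzumaya.matrix _ (Fin n)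
  set α := twistAut σ hmul hσ φ₀ with hα
  obtain ⟨u₀, w₀, T, f, hf, hu, -, hwu, huw, hfT⟩ :=
    Groth.Agent.S17357.exists_local_data (AlgEquiv.refl : C₀ ≃ₐ[C₀] C₀) (fun _ => rfl)
      ⟨fun _ _ h => h, fun r => ⟨fun _ => ⟨r, rfl⟩, fun _ => rfl⟩⟩ α 𝔓₀
  refine ⟨f, hf, ?_⟩
  set C := Localization.Away f with hC
  set g : C := IsLocalization.Away.invSelf f with hg
  have hfg : algebraMap C₀ C f * g = 1 := IsLocalization.Away.mul_invSelf f
  set T' : C := algebraMap C₀ C T with hT'
  have hTT : T' * T' = algebraMap C₀ C f := by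
    have : algebraMap C₀ C₀ f = T * T := hfT
    rw [hT', ← map_mul, ← this]
    rfl
  have hTinv : T' * (T' * g) = 1 := by rw [← mul_assoc, hTT, hfg]
  have hmapT : (algebraMap C₀ (Matrix (Fin n) (Fin n) C₀) T).map (algebraMap C₀ C) =
      T' • (1 : Matrix (Fin n) (Fin n) C) := by
    ext i j
    by_cases hij : i = j
    · subst hij
      simp [Matrix.algebraMap_matrix_apply, hT']
    · simp [Matrix.algebraMap_matrix_apply, hij]
  have h1 : u₀.map (algebraMap C₀ C) * ((T' * g) • w₀.map (algebraMap C₀ C)) = 1 := by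
    rw [Matrix.mul_smul, ← Matrix.map_mul, huw, hmapT, smul_smul, mul_comm, hTinv, one_smul]
  have h2 : ((T' * g) • w₀.map (algebraMap C₀ C)) * u₀.map (algebraMap C₀ C) = 1 := by
    rw [Matrix.smul_mul, ← Matrix.map_mul, hwu, hmapT, smul_smul, mul_comm, hTinv, one_smul]
  refine ⟨⟨u₀.map (algebraMap C₀ C), (T' * g) • w₀.map (algebraMap C₀ C), h1, h2⟩, ?_⟩
  apply isSplit_of_gen
  intro a
  show splitBaseChange φ₀ C ((1 : C) ⊗ₜ[R] σ a) * u₀.map (algebraMap C₀ C) =
    u₀.map (algebraMap C₀ C) * (splitBaseChange φ₀ C ((1 : C) ⊗ₜ[R] a)).transpose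
  rw [splitBaseChange_one_tmul, splitBaseChange_one_tmul, ← Matrix.transpose_map, ← Matrix.map_mul,
    ← Matrix.map_mul]
  congr 1
  have := hu (φ₀ ((1 : C₀) ⊗ₜ[R] a)).transpose
  rw [hα, twistAut_apply, Matrix.transpose_transpose, AlgEquiv.symm_apply_apply,
    LinearMap.baseChange_tmul] at this
  exact this

section AdjoinI

open Polynomial

variable (C₁ : Type u) [CommRing C₁]

/-- the polynomial `X² + 1` -/
noncomputable def polyI : C₁[X] := X ^ 2 + C 1

lemma polyI_monic : (polyI C₁).Monic :=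
  monic_X_pow_add_C 1 (by norm_num)

lemma polyI_separable (c : C₁) (hc : c * 2 = 1) : (polyI C₁).Separable := by
  have hcc : (C c : C₁[X]) * 2 = 1 := by
    have : (2 : C₁[X]) = C 2 := (map_ofNat C 2).symm
    rw [this, ← C_mul, hc, C_1]
  refine ⟨1, -(C c * X), ?_⟩
  unfold polyI
  simp only [derivative_add, derivative_X_pow, derivative_C, add_zero, Nat.cast_ofNat,
    Nat.add_one_sub_one, pow_one, map_ofNat, one_mul, C_1, derivative_one]
  linear_combination (-X ^ 2) * hcc

lemma polyI_root : (Ideal.Quotient.mk (Ideal.span {polyI C₁}) X) *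
    (Ideal.Quotient.mk (Ideal.span {polyI C₁}) X) = -1 := by
  have h : Ideal.Quotient.mk (Ideal.span {polyI C₁}) (polyI C₁) = 0 :=
    Ideal.Quotient.eq_zero_iff_mem.mpr (Ideal.mem_span_singleton_self _)
  have h2 : polyI C₁ = X ^ 2 + 1 := by unfold polyI; rw [C_1]
  have h3 : Ideal.Quotient.mk (Ideal.span {polyI C₁}) (X ^ 2 + 1) = 0 := by
    rw [← h2]; exact h
  rw [map_add, map_pow, map_one] at h3
  linear_combination h3

lemma polyI_nontrivial [Nontrivial C₁] : Nontrivial (C₁[X] ⧸ Ideal.span {polyI C₁}) := by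
  apply Ideal.Quotient.nontrivial_iff.mpr
  rw [Ne, Ideal.span_singleton_eq_top, (polyI_monic C₁).isUnit_iff]
  exact X_pow_add_C_ne_one (by norm_num) 1

end AdjoinI

/-- étale-local split data with a square root of `-1` -/
theorem exists_split (R : Type u) [CommRing R] (A : Type w) [Ring A] [Algebra R A] [IsAzumaya R A]
    (n : ℕ) (hn : 0 < n) (hrank : ∀ p : PrimeSpectrum R, Module.rankAtStalk (R := R) A p = n ^ 2)
    (σ : A →ₗ[R] A) (hmul : ∀ a b, σ (a * b) = σ b * σ a) (hσ : ∀ a, σ (σ a) = a)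
    (c₂ : R) (hc₂ : c₂ * 2 = 1) (p : Ideal R) [p.IsPrime] :
    ∃ (C : Type u) (_ : CommRing C) (_ : Algebra R C) (_ : Algebra.Etale R C)
      (φ : C ⊗[R] A ≃ₐ[C] Matrix (Fin n) (Fin n) C) (u : (Matrix (Fin n) (Fin n) C)ˣ) (i : C),
      IsSplit σ C n φ u ∧ i * i = -1 ∧
        ∃ 𝔓 : Ideal C, 𝔓.IsPrime ∧ 𝔓.comap (algebraMap R C) = p := by
  classical
  obtain ⟨C₀, _, _, _, 𝔓₀, h𝔓₀, h𝔓₀p, ⟨φ₀⟩⟩ := exists_splitting R A n hrank p
  haveI := h𝔓₀
  obtain ⟨f, hf, u₁, hsplit₁⟩ := exists_split_of_splitting σ hmul hσ n hn C₀ φ₀ 𝔓₀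
  -- the prime of `C₁` over `𝔓₀`
  have hdisj : Disjoint (Submonoid.powers f : Set C₀) (𝔓₀ : Set C₀) :=
    (Ideal.disjoint_powers_iff_notMem _ (Ideal.IsPrime.isRadical inferInstance)).mpr hf
  have hP₁ : (Ideal.map (algebraMap C₀ (Localization.Away f)) 𝔓₀).IsPrime :=
    IsLocalization.isPrime_of_isPrime_disjoint (Submonoid.powers f) _ 𝔓₀ inferInstance hdisj
  have hcomap₁ : (Ideal.map (algebraMap C₀ (Localization.Away f)) 𝔓₀).comap
      (algebraMap C₀ (Localization.Away f)) = 𝔓₀ :=
    IsLocalization.under_map_of_isPrime_disjoint (Submonoid.powers f) _ inferInstance hdisj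
  haveI : Nontrivial (Localization.Away f) := ⟨⟨0, 1, fun h01 => hP₁.ne_top (by
    rw [Ideal.eq_top_iff_one, ← h01]; exact Ideal.zero_mem _)⟩⟩
  -- adjoin a square root of `-1`
  have hmonic := polyI_monic (Localization.Away f)
  have hc₁ : algebraMap R (Localization.Away f) c₂ * 2 = 1 := by
    have := congrArg (algebraMap R (Localization.Away f)) hc₂
    rwa [map_mul, map_ofNat, map_one] at this
  haveI : Algebra.Etale (Localization.Away f)
      (Polynomial (Localization.Away f) ⧸ Ideal.span {polyI (Localization.Away f)}) :=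
    Groth.Agent.Lib.Helper35.EtaleMonogenic.etale_quotient_of_separable _ hmonic
      (polyI_separable _ _ hc₁)
  haveI : Algebra.Etale R
      (Polynomial (Localization.Away f) ⧸ Ideal.span {polyI (Localization.Away f)}) :=
    Algebra.Etale.comp R (Localization.Away f) _
  haveI := hmonic.free_quotient
  haveI := hmonic.finite_quotient
  haveI := polyI_nontrivial (Localization.Away f)
  obtain ⟨𝔓, h𝔓⟩ := PrimeSpectrum.comap_surjective_of_faithfullyFlat
    (A := Localization.Away f)
    (B := Polynomial (Localization.Away f) ⧸ Ideal.span {polyI (Localization.Away f)}) ⟨_, hP₁⟩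
  refine ⟨Polynomial (Localization.Away f) ⧸ Ideal.span {polyI (Localization.Away f)},
    inferInstance, inferInstance, inferInstance, splitBaseChange _ _, _,
    Ideal.Quotient.mk _ Polynomial.X, hsplit₁.baseChange _, polyI_root _, 𝔓.asIdeal, 𝔓.2, ?_⟩
  have h1 : 𝔓.asIdeal.comap (algebraMap (Localization.Away f) _) =
      Ideal.map (algebraMap C₀ (Localization.Away f)) 𝔓₀ := congrArg PrimeSpectrum.asIdeal h𝔓
  rw [IsScalarTower.algebraMap_eq R (Localization.Away f) _, ← Ideal.comap_comap, h1,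
    IsScalarTower.algebraMap_eq R C₀ (Localization.Away f), ← Ideal.comap_comap, hcomap₁, h𝔓₀p]

end Groth.Agent.Lib.Helper52.InvSplitExists
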