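import Mathlib
import Groth.Agent.S17362
import Groth.Agent.Lib.Helper52.InvFix
import Groth.Agent.Lib.Helper52.InvIso

/-!
# The sign rank of a `lam`-involution at a ramified prime

* `sgnRank t q` : the dimension of the span of the images of the `t`-symmetric elements in the fibre
  at `q`.
* `sgnRank_eq_of_rho` : computation of the sign rank through any "realisation" `ρ : A → W` of the
  fibre over a field.
-/

set_option autoImplicit false
set_option linter.style.haveILetI false
set_option linter.unusedSectionVars false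
set_option linter.unusedVariables false

namespace Groth.Agent.Lib.Helper52.RamSign

open scoped TensorProduct
open Groth.Agent.S17362 Groth.Agent.Lib.Helper52.InvFix AzInv

section SI

variable {R : Type*} [CommRing R] {A : Type*} [Ring A] [Algebra R A] {lam : R → R}
  (t : AzInv.LamInv R A lam) (q : Ideal R) [q.IsPrime]

/-- the sign rank of `t` at `q` -/
noncomputable def sgnRank : ℕ := Module.finrank q.ResidueField (spanEps t q (fun a => a))

lemma sgnRank_def : sgnRank t q = Module.finrank q.ResidueField
    (Submodule.span q.ResidueField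
      (Set.range fun a : {a : A // t a = a} => (1 : q.ResidueField) ⊗ₜ[R] (a : A))) := rfl

variable {t q}

theorem sgnRank_eq_of_rho [Module.Finite R A] (hq : ∀ r, lam r - r ∈ q) (c₂ : R)
    (hc₂ : c₂ * 2 = 1) (hlc : lam c₂ = c₂)
    {κ : Type*} [Field κ] [Algebra R κ] (hker : ∀ f : R, f ∉ q → algebraMap R κ f ≠ 0)
    {W : Type*} [AddCommGroup W] [Module κ W] [Module R W] [IsScalarTower R κ W]
    [Module.Finite κ W] (θ : W →ₗ[κ] W) (ρ : A →ₗ[R] W)
    (hspan : Submodule.span κ (Set.range ρ) = ⊤) (hρ : ∀ a, ρ (t a) = θ (ρ a))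
    (hdim : Module.finrank κ W = Module.finrank q.ResidueField (q.ResidueField ⊗[R] A)) :
    sgnRank t q = Module.finrank κ (fix θ) := by
  classical
  have hsum := finrank_add t q hq c₂ hc₂ hlc
  obtain ⟨fP, hfP, hfPs, hfPl⟩ := Submodule.exists_fun_fin_finrank_span_eq q.ResidueField
    (Set.range fun a : {a : A // t a = (fun a => a) a} => (1 : q.ResidueField) ⊗ₜ[R] (a : A))
  obtain ⟨fN, hfN, hfNs, hfNl⟩ := Submodule.exists_fun_fin_finrank_span_eq q.ResidueField
    (Set.range fun a : {a : A // t a = (fun a => -a) a} => (1 : q.ResidueField) ⊗ₜ[R] (a : A))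
  choose aP haP using hfP
  choose aN haN using hfN
  set s := Module.finrank q.ResidueField (spanEps t q (fun a => a)) with hs
  set s' := Module.finrank q.ResidueField (spanEps t q (fun a => -a)) with hs'
  let g : Fin s ⊕ Fin s' → A := Sum.elim (fun i => (aP i : A)) (fun j => (aN j : A))
  have hgspan : Submodule.span q.ResidueField
      (Set.range fun i => (1 : q.ResidueField) ⊗ₜ[R] g i) = ⊤ := by
    have hrange : (Set.range fun i => (1 : q.ResidueField) ⊗ₜ[R] g i) =
        Set.range fP ∪ Set.range fN := by
      ext x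
      simp only [Set.mem_range, Set.mem_union, Sum.exists, g, Sum.elim_inl, Sum.elim_inr]
      constructor
      · rintro (⟨i, rfl⟩ | ⟨j, rfl⟩)
        · exact Or.inl ⟨i, (haP i).symm⟩
        · exact Or.inr ⟨j, (haN j).symm⟩
      · rintro (⟨i, rfl⟩ | ⟨j, rfl⟩)
        · exact Or.inl ⟨i, haP i⟩
        · exact Or.inr ⟨j, haN j⟩
    rw [hrange, Submodule.span_union, hfPs, hfNs]
    exact sup_eq_top t q c₂ hc₂ hlc
  obtain ⟨f, hfq, hfa⟩ := exists_spread q g hgspan
  have hfu : algebraMap R κ f ≠ 0 := hker f hfq
  -- the images of `g` span `W`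
  have hmem : ∀ x : A, x ∈ Submodule.span R (Set.range g) →
      ρ x ∈ Submodule.span κ (Set.range fun i => ρ (g i)) := by
    intro x hx
    refine Submodule.span_induction ?_ ?_ ?_ ?_ hx
    · rintro _ ⟨i, rfl⟩
      exact Submodule.subset_span ⟨i, rfl⟩
    · rw [map_zero]; exact Submodule.zero_mem _
    · intro x y _ _ hx hy
      rw [map_add]; exact Submodule.add_mem _ hx hy
    · intro r x _ hx
      rw [map_smul, ← algebraMap_smul κ r (ρ x)]
      exact Submodule.smul_mem _ _ hx
  have hspanW : Submodule.span κ (Set.range fun i => ρ (g i)) = ⊤ := by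
    rw [eq_top_iff, ← hspan, Submodule.span_le]
    rintro _ ⟨a, rfl⟩
    have h1 := hmem _ (hfa a)
    rw [map_smul, ← algebraMap_smul κ f (ρ a)] at h1
    have h2 := Submodule.smul_mem _ (algebraMap R κ f)⁻¹ h1
    rwa [smul_smul, inv_mul_cancel₀ hfu, one_smul] at h2
  have hcard : Fintype.card (Fin s ⊕ Fin s') = Module.finrank κ W := by
    rw [hdim, Fintype.card_sum, Fintype.card_fin, Fintype.card_fin, ← hsum]
  have hli : LinearIndependent κ (fun i => ρ (g i)) :=
    linearIndependent_of_top_le_span_of_card_eq_finrank hspanW.ge hcard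
  have hliP : LinearIndependent κ (fun i : Fin s => ρ (aP i : A)) :=
    hli.comp Sum.inl Sum.inl_injective
  have hliN : LinearIndependent κ (fun j : Fin s' => ρ (aN j : A)) :=
    hli.comp Sum.inr Sum.inr_injective
  have hleP : s ≤ Module.finrank κ (fix θ) := by
    have h1 := finrank_span_eq_card hliP
    rw [Fintype.card_fin] at h1
    rw [← h1]
    apply Submodule.finrank_mono
    rw [Submodule.span_le]
    rintro _ ⟨i, rfl⟩
    rw [SetLike.mem_coe, mem_fix, ← hρ, (aP i).2]
  have hleN : s' ≤ Module.finrank κ (fix (-θ)) := by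
    have h1 := finrank_span_eq_card hliN
    rw [Fintype.card_fin] at h1
    rw [← h1]
    apply Submodule.finrank_mono
    rw [Submodule.span_le]
    rintro _ ⟨j, rfl⟩
    rw [SetLike.mem_coe, mem_fix, LinearMap.neg_apply, ← hρ, (aN j).2, map_neg, neg_neg]
  have hdisj : fix θ ⊓ fix (-θ) = ⊥ := by
    rw [eq_bot_iff]
    rintro x ⟨h1, h2⟩
    rw [SetLike.mem_coe, mem_fix] at h1 h2
    rw [LinearMap.neg_apply, h1] at h2
    have h4 : (2 : κ) • x = 0 := by
      rw [two_smul]
      nth_rewrite 1 [← h2]
      exact neg_add_cancel x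
    have hc : algebraMap R κ c₂ * 2 = 1 := by
      rw [← map_ofNat (algebraMap R κ) 2, ← map_mul, hc₂, map_one]
    have h5 : x = 0 := by
      have := congrArg (fun y => algebraMap R κ c₂ • y) h4
      simpa [smul_smul, hc] using this
    simpa using h5
  have hle : Module.finrank κ (fix θ) + Module.finrank κ (fix (-θ)) ≤ Module.finrank κ W := by
    have h := Submodule.finrank_sup_add_finrank_inf_eq (fix θ) (fix (-θ))
    rw [hdisj, finrank_bot, add_zero] at h
    rw [← h]
    exact Submodule.finrank_le _
  show s = _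
  rw [hdim, ← hsum] at hle
  omega

end SI

section TK

variable {R : Type*} [CommRing R] {A : Type*} [Ring A] [Algebra R A] {lam : R → R}
  (t : AzInv.LamInv R A lam) (κ : Type*) [CommRing κ] [Algebra R κ]
  (hκ : ∀ r, algebraMap R κ (lam r) = algebraMap R κ r)

/-- the involution induced by `t` on `κ ⊗ A` when `lam` becomes trivial in `κ` -/
noncomputable def tK : κ ⊗[R] A →ₗ[κ] κ ⊗[R] A :=
  TensorProduct.AlgebraTensorModule.lift
    { toFun := fun c =>
        { toFun := fun a => c ⊗ₜ[R] t a
          map_add' := fun a b => by rw [t.map_add, TensorProduct.tmul_add]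
          map_smul' := fun r a => by
            rw [t.map_smul, RingHom.id_apply, TensorProduct.tmul_smul, TensorProduct.smul_tmul',
              TensorProduct.smul_tmul', Algebra.smul_def, Algebra.smul_def, hκ] }
      map_add' := fun c d => by
        ext a
        simp [TensorProduct.add_tmul]
      map_smul' := fun c d => by
        ext a
        simp [TensorProduct.smul_tmul'] }

lemma tK_tmul (c : κ) (a : A) : tK t κ hκ (c ⊗ₜ[R] a) = c ⊗ₜ[R] t a := by
  simp [tK]

lemma tK_tK (x : κ ⊗[R] A) : tK t κ hκ (tK t κ hκ x) = x := by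
  induction x using TensorProduct.induction_on with
  | zero => simp
  | tmul c a => rw [tK_tmul, tK_tmul, t.invol]
  | add x y hx hy => rw [map_add, map_add, hx, hy]

end TK

section AtPrime

variable {R : Type*} [CommRing R] {A : Type*} [Ring A] [Algebra R A] {lam : R → R}
  (t : AzInv.LamInv R A lam) (q : Ideal R) [q.IsPrime] (hq : ∀ r, lam r - r ∈ q)

include hq in
lemma hκ_of_ramified (r : R) :
    algebraMap R q.ResidueField (lam r) = algebraMap R q.ResidueField r := by
  have h0 : algebraMap R q.ResidueField (lam r - r) = 0 :=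
    (Ideal.algebraMap_residueField_eq_zero).mpr (hq r)
  rwa [map_sub, sub_eq_zero] at h0

lemma span_one_tmul (κ : Type*) [CommRing κ] [Algebra R κ] :
    Submodule.span κ (Set.range (TensorProduct.mk R κ A 1)) = ⊤ := by
  rw [eq_top_iff]
  rintro x -
  induction x using TensorProduct.induction_on with
  | zero => exact Submodule.zero_mem _
  | add x y hx hy => exact Submodule.add_mem _ hx hy
  | tmul c a =>
    have : c ⊗ₜ[R] a = c • ((1 : κ) ⊗ₜ[R] a) := by
      rw [TensorProduct.smul_tmul', smul_eq_mul, mul_one]
    rw [this]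
    exact Submodule.smul_mem _ _ (Submodule.subset_span ⟨a, rfl⟩)

include hq in
theorem sgnRank_eq_finrank_fix [Module.Finite R A] (c₂ : R) (hc₂ : c₂ * 2 = 1)
    (hlc : lam c₂ = c₂) :
    sgnRank t q = Module.finrank q.ResidueField
      (fix (tK t q.ResidueField (hκ_of_ramified q hq))) := by
  refine sgnRank_eq_of_rho hq c₂ hc₂ hlc (κ := q.ResidueField) (fun f hf => ?_)
    (tK t q.ResidueField (hκ_of_ramified q hq)) (TensorProduct.mk R q.ResidueField A 1)
    (span_one_tmul q.ResidueField) (fun a => ?_) rfl
  · rw [Ne, Ideal.algebraMap_residueField_eq_zero]; exact hf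
  · rw [TensorProduct.mk_apply, TensorProduct.mk_apply, tK_tmul]

instance finite_matrix [Module.Finite R A] (m : ℕ) :
    Module.Finite R (Matrix (Fin m) (Fin m) A) :=
  inferInstanceAs (Module.Finite R (Fin m → Fin m → A))

include hq in
theorem sgnRank_matrix [Module.Finite R A] (c₂ : R) (hc₂ : c₂ * 2 = 1)
    (hlc : lam c₂ = c₂) (m : ℕ) :
    sgnRank (t.matrix (Fin m)) q = m * sgnRank t q +
      Fintype.card {p : Fin m × Fin m // p.1 < p.2} *
        Module.finrank q.ResidueField (q.ResidueField ⊗[R] A) := by
  classical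
  set κ := q.ResidueField with hκdef
  set V := κ ⊗[R] A with hV
  set τ := tK t κ (hκ_of_ramified q hq) with hτ
  have hdimM : Module.finrank κ (κ ⊗[R] Matrix (Fin m) (Fin m) A) =
      Module.finrank κ (Matrix (Fin m) (Fin m) V) :=
    LinearEquiv.finrank_eq
      (Groth.Agent.Lib.Helper52.InvIso.matTensorLin (R := R) (A := A) κ (Fin m))
  have h1 := sgnRank_eq_of_rho (t := t.matrix (Fin m)) hq c₂ hc₂ hlc (κ := κ)
    (fun f hf => by rw [Ne, Ideal.algebraMap_residueField_eq_zero]; exact hf)
    (W := Matrix (Fin m) (Fin m) V) (matInv τ (Fin m))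
    ((TensorProduct.mk R κ A 1).mapMatrix) ?_ ?_ hdimM.symm
  · rw [h1]
    have hs := sgnRank_eq_finrank_fix t q hq c₂ hc₂ hlc
    let e : fix τ ≃ₗ[κ] (Fin (Module.finrank κ (fix τ)) → κ) :=
      (Module.finBasis κ (fix τ)).equivFun
    obtain ⟨-, h2⟩ := finrank_fix_matInv τ (tK_tK t κ _) (Fin m) (Fin (Module.finrank κ (fix τ))) e
    rw [h2, Fintype.card_fin, Fintype.card_fin, hs]
  · -- spanning
    rw [eq_top_iff]
    rintro X -
    have key : ∀ (i j : Fin m) (z : V), Matrix.single i j z ∈
        Submodule.span κ (Set.range ((TensorProduct.mk R κ A 1).mapMatrix (m := Fin m)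
          (n := Fin m))) := by
      intro i j z
      induction z using TensorProduct.induction_on with
      | zero =>
        rw [Matrix.single_zero]
        exact Submodule.zero_mem _
      | add x y hx hy =>
        rw [Matrix.single_add]
        exact Submodule.add_mem _ hx hy
      | tmul c a =>
        have : Matrix.single i j (c ⊗ₜ[R] a) =
            c • (TensorProduct.mk R κ A 1).mapMatrix (Matrix.single i j a) := by
          ext k l
          simp only [Matrix.smul_apply, LinearMap.mapMatrix_apply, Matrix.map_apply,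
            Matrix.single_apply]
          split_ifs
          · rw [TensorProduct.mk_apply, TensorProduct.smul_tmul', smul_eq_mul, mul_one]
          · simp
        rw [this]
        exact Submodule.smul_mem _ _ (Submodule.subset_span ⟨_, rfl⟩)
    rw [Matrix.matrix_eq_sum_single X]
    exact Submodule.sum_mem _ fun i _ => Submodule.sum_mem _ fun j _ => key i j _
  · intro X
    ext i j
    simp only [LinearMap.mapMatrix_apply, Matrix.map_apply, matInv_apply,
      AzInv.LamInv.matrix_apply, TensorProduct.mk_apply]
    rw [hτ, tK_tmul]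

end AtPrime

end Groth.Agent.Lib.Helper52.RamSign
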