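import Mathlib
import Groth.Agent.Lib.Helper52.RamSign
import Groth.Agent.Lib.Helper52.AzSplitBC

/-!
# Invariance of the sign rank under étale-local isomorphisms
-/

set_option autoImplicit false
set_option linter.style.haveILetI false
set_option linter.unusedSectionVars false
set_option linter.unusedVariables false

namespace Groth.Agent.Lib.Helper52.RamFwd

open scoped TensorProduct
open Groth.Agent.Lib.Helper52.InvFix Groth.Agent.Lib.Helper52.RamSign AzInv

universe u v w w'

section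

variable {S : Type u} {R : Type v} [CommRing S] [CommRing R] [Algebra S R] (lam : R ≃ₐ[S] R)
  {E : Type w} [Ring E] [Algebra S E] [Algebra R E] [IsScalarTower S R E]
  {E' : Type w'} [Ring E'] [Algebra S E'] [Algebra R E'] [IsScalarTower S R E']

/-- the sign rank at a ramified prime is invariant under isomorphisms after a faithfully flat base
change -/
theorem sgnRank_eq_of_locIso [Module.Finite R E] [Module.Flat R E] [Module.Finite R E']
    [Module.Flat R E']
    (τ : LamInv R E lam) (τ' : LamInv R E' lam)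
    (S₁ : Type u) [CommRing S₁] [Algebra S S₁] [Module.FaithfullyFlat S S₁]
    (f : S₁ ⊗[S] E ≃ₐ[S₁] S₁ ⊗[S] E')
    (hf₁ : ∀ (r : R) (x : S₁ ⊗[S] E),
        f (((1 : S₁) ⊗ₜ[S] algebraMap R E r) * x) = ((1 : S₁) ⊗ₜ[S] algebraMap R E' r) * f x)
    (hf₂ : ∀ x : S₁ ⊗[S] E, f (τ.bc S lam S₁ x) = τ'.bc S lam S₁ (f x))
    (q : Ideal R) [q.IsPrime] (hq : ∀ r, lam r - r ∈ q) (c₂ : R) (hc₂ : c₂ * 2 = 1)
    (hlc : lam c₂ = c₂) (N : ℕ)
    (hN : ∀ p : PrimeSpectrum R, Module.rankAtStalk (R := R) E p = N)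
    (hN' : ∀ p : PrimeSpectrum R, Module.rankAtStalk (R := R) E' p = N) :
    sgnRank τ q = sgnRank τ' q := by
  classical
  -- a point of `R ⊗ S₁` above `q`
  obtain ⟨q₁, hq₁⟩ := PrimeSpectrum.comap_surjective_of_faithfullyFlat (A := R)
    (B := R ⊗[S] S₁) ⟨q, inferInstance⟩
  set κ₁ := q₁.asIdeal.ResidueField with hκ₁def
  have hcomap : q₁.asIdeal.comap (algebraMap R (R ⊗[S] S₁)) = q :=
    congrArg PrimeSpectrum.asIdeal hq₁
  have hzero : ∀ r : R, algebraMap R κ₁ r = 0 ↔ r ∈ q := by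
    intro r
    rw [IsScalarTower.algebraMap_apply R (R ⊗[S] S₁) κ₁, Ideal.algebraMap_residueField_eq_zero,
      ← Ideal.mem_comap, hcomap]
  have hker : ∀ f : R, f ∉ q → algebraMap R κ₁ f ≠ 0 := fun f hf h => hf ((hzero f).mp h)
  have hκ : ∀ r, algebraMap R κ₁ (lam r) = algebraMap R κ₁ r := by
    intro r
    have h0 : algebraMap R κ₁ (lam r - r) = 0 := (hzero _).mpr (hq r)
    rwa [map_sub, sub_eq_zero] at h0
  let σ : S₁ →+* κ₁ := (algebraMap (R ⊗[S] S₁) κ₁).comp
    (Algebra.TensorProduct.includeRight : S₁ →ₐ[S] R ⊗[S] S₁).toRingHom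
  have hσ : ∀ s : S, σ (algebraMap S S₁ s) = algebraMap R κ₁ (algebraMap S R s) := by
    intro s
    show algebraMap (R ⊗[S] S₁) κ₁ ((1 : R) ⊗ₜ[S] algebraMap S S₁ s) = _
    rw [IsScalarTower.algebraMap_apply R (R ⊗[S] S₁) κ₁, Algebra.TensorProduct.algebraMap_apply,
      Algebra.algebraMap_eq_smul_one s, Algebra.algebraMap_eq_smul_one (A := R) s,
      TensorProduct.tmul_smul, TensorProduct.smul_tmul']
    rfl
  set θ' := tK τ' κ₁ hκ with hθ'
  -- the projection `S₁ ⊗ E' → κ₁ ⊗ E'`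
  let π : S₁ ⊗[S] E' →+ κ₁ ⊗[R] E' :=
    TensorProduct.liftAddHom
      { toFun := fun s₁ =>
          { toFun := fun e' => σ s₁ ⊗ₜ[R] e'
            map_zero' := TensorProduct.tmul_zero _ _
            map_add' := fun a b => TensorProduct.tmul_add _ _ _ }
        map_zero' := by
          ext e'
          simp
        map_add' := fun a b => by
          ext e'
          simp [TensorProduct.add_tmul] }
      (fun s s₁ e' => by
        show σ (s • s₁) ⊗ₜ[R] e' = σ s₁ ⊗ₜ[R] (s • e')
        rw [Algebra.smul_def, map_mul, hσ, ← algebraMap_smul R s e', TensorProduct.tmul_smul,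
          TensorProduct.smul_tmul', Algebra.smul_def])
  have hπ1 : ∀ (s₁ : S₁) (e' : E'), π (s₁ ⊗ₜ[S] e') = σ s₁ ⊗ₜ[R] e' := fun _ _ => rfl
  have hπ2 : ∀ (r : R) (y : S₁ ⊗[S] E'),
      π (((1 : S₁) ⊗ₜ[S] algebraMap R E' r) * y) = r • π y := by
    intro r y
    induction y using TensorProduct.induction_on with
    | zero => simp
    | tmul s₁ e' =>
      rw [Algebra.TensorProduct.tmul_mul_tmul, one_mul, hπ1, hπ1, ← Algebra.smul_def,
        TensorProduct.tmul_smul]
    | add x y hx hy => rw [mul_add, map_add, hx, hy, map_add, smul_add]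
  have hπ3 : ∀ (s₁ : S₁) (y : S₁ ⊗[S] E'), π (s₁ • y) = σ s₁ • π y := by
    intro s₁ y
    induction y using TensorProduct.induction_on with
    | zero => simp
    | tmul a e' =>
      rw [TensorProduct.smul_tmul', hπ1, hπ1, smul_eq_mul, map_mul, TensorProduct.smul_tmul',
        smul_eq_mul]
    | add x y hx hy => rw [smul_add, map_add, hx, hy, map_add, smul_add]
  have hπ4 : ∀ y : S₁ ⊗[S] E', π (τ'.bc S lam S₁ y) = θ' (π y) := by
    intro y
    induction y using TensorProduct.induction_on with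
    | zero => simp
    | tmul a e' => rw [LamInv.bc_tmul, hπ1, hπ1, hθ', tK_tmul]
    | add x y hx hy => rw [map_add, map_add, hx, hy, map_add, map_add]
  -- the realisation of `E`
  let ρ : E →ₗ[R] κ₁ ⊗[R] E' :=
    { toFun := fun e => π (f ((1 : S₁) ⊗ₜ[S] e))
      map_add' := fun a b => by rw [TensorProduct.tmul_add, map_add, map_add]
      map_smul' := fun r e => by
        have h1 : (1 : S₁) ⊗ₜ[S] (r • e) = ((1 : S₁) ⊗ₜ[S] algebraMap R E r) * ((1 : S₁) ⊗ₜ[S] e) := by
          rw [Algebra.TensorProduct.tmul_mul_tmul, one_mul, ← Algebra.smul_def]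
        rw [h1, hf₁, hπ2]
        rfl }
  have hρdef : ∀ e, ρ e = π (f ((1 : S₁) ⊗ₜ[S] e)) := fun _ => rfl
  have hspan : Submodule.span κ₁ (Set.range ρ) = ⊤ := by
    have h1 : ∀ y : S₁ ⊗[S] E, π (f y) ∈ Submodule.span κ₁ (Set.range ρ) := by
      intro y
      induction y using TensorProduct.induction_on with
      | zero => simp
      | tmul s₁ e =>
        have : s₁ ⊗ₜ[S] e = s₁ • ((1 : S₁) ⊗ₜ[S] e) := by
          rw [TensorProduct.smul_tmul', smul_eq_mul, mul_one]
        rw [this, map_smul, hπ3]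
        exact Submodule.smul_mem _ _ (Submodule.subset_span ⟨e, rfl⟩)
      | add x y hx hy =>
        rw [map_add, map_add]
        exact Submodule.add_mem _ hx hy
    rw [eq_top_iff, ← span_one_tmul (R := R) (A := E') κ₁, Submodule.span_le]
    rintro _ ⟨e', rfl⟩
    have h2 := h1 (f.symm ((1 : S₁) ⊗ₜ[S] e'))
    rw [AlgEquiv.apply_symm_apply, hπ1] at h2
    have h3 : σ 1 = 1 := map_one σ
    rw [h3] at h2
    exact h2
  have hρ : ∀ e, ρ (τ e) = θ' (ρ e) := by
    intro e
    rw [hρdef, hρdef, ← hπ4, ← hf₂, LamInv.bc_tmul]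
  -- dimensions
  have hdimE' : Module.finrank κ₁ (κ₁ ⊗[R] E') = N := by
    have h1 := Module.rankAtStalk_baseChange (R := R) (M := E') (S := κ₁) ⟨⊥, Ideal.isPrime_bot⟩
    rw [Module.rankAtStalk_eq_finrank_of_free, hN'] at h1
    exact h1
  have hdimq : Module.finrank q.ResidueField (q.ResidueField ⊗[R] E) = N := by
    have h1 := Module.rankAtStalk_eq (R := R) (M := E) ⟨q, inferInstance⟩
    rw [hN] at h1
    exact h1.symm
  have hdimq' : Module.finrank q.ResidueField (q.ResidueField ⊗[R] E') = N := by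
    have h1 := Module.rankAtStalk_eq (R := R) (M := E') ⟨q, inferInstance⟩
    rw [hN'] at h1
    exact h1.symm
  have h1 := sgnRank_eq_of_rho (t := τ) hq c₂ hc₂ hlc (κ := κ₁) hker θ' ρ hspan hρ
    (hdimE'.trans hdimq.symm)
  have h2 := sgnRank_eq_of_rho (t := τ') hq c₂ hc₂ hlc (κ := κ₁) hker θ'
    (TensorProduct.mk R κ₁ E' 1) (span_one_tmul κ₁)
    (fun a => by rw [TensorProduct.mk_apply, TensorProduct.mk_apply, hθ', tK_tmul])
    (hdimE'.trans hdimq'.symm)
  exact h1.trans h2.symm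

end

section Rank

open Groth.Agent.Lib.Helper52.AzSplitBC

variable {S : Type u} {R : Type v} [CommRing S] [CommRing R] [Algebra S R]
  {E : Type w} [Ring E] [Algebra S E] [Algebra R E] [IsScalarTower S R E]
  {E' : Type w'} [Ring E'] [Algebra S E'] [Algebra R E'] [IsScalarTower S R E']

/-- the ranks of two locally isomorphic algebras agree -/
theorem rank_eq_of_locIso [Module.Finite R E] [Module.Flat R E] [Module.Finite R E']
    [Module.Flat R E']
    (S₁ : Type u) [CommRing S₁] [Algebra S S₁] [Module.FaithfullyFlat S S₁]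
    (f : S₁ ⊗[S] E ≃ₐ[S₁] S₁ ⊗[S] E')
    (hf₁ : ∀ (r : R) (x : S₁ ⊗[S] E),
        f (((1 : S₁) ⊗ₜ[S] algebraMap R E r) * x) = ((1 : S₁) ⊗ₜ[S] algebraMap R E' r) * f x)
    (N N' : ℕ)
    (hN : ∀ p : PrimeSpectrum R, Module.rankAtStalk (R := R) E p = N)
    (hN' : ∀ p : PrimeSpectrum R, Module.rankAtStalk (R := R) E' p = N')
    (q : PrimeSpectrum R) : N = N' := by
  classical
  obtain ⟨q₁, hq₁⟩ := PrimeSpectrum.comap_surjective_of_faithfullyFlat (A := R)
    (B := R ⊗[S] S₁) q
  have hfj : ∀ (k : R ⊗[S] S₁) (x : S₁ ⊗[S] E), f (jL E S₁ k * x) = jL E' S₁ k * f x := by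
    intro k x
    induction k using TensorProduct.induction_on with
    | zero => simp
    | tmul r s =>
      have h1 : jL E S₁ (r ⊗ₜ[S] s) = s • ((1 : S₁) ⊗ₜ[S] algebraMap R E r) := by
        rw [jL_tmul, TensorProduct.smul_tmul', smul_eq_mul, mul_one]
      have h1' : jL E' S₁ (r ⊗ₜ[S] s) = s • ((1 : S₁) ⊗ₜ[S] algebraMap R E' r) := by
        rw [jL_tmul, TensorProduct.smul_tmul', smul_eq_mul, mul_one]
      rw [h1, h1', smul_mul_assoc, map_smul, hf₁, smul_mul_assoc]
    | add k k' hk hk' => rw [map_add, add_mul, map_add, hk, hk', map_add, add_mul]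
  let g : (R ⊗[S] S₁) ⊗[R] E ≃ₗ[R ⊗[S] S₁] (R ⊗[S] S₁) ⊗[R] E' :=
    { toFun := fun y => cEquiv (S := S) (R := R) E' S₁ (f ((cEquiv (S := S) (R := R) E S₁).symm y))
      invFun := fun y => cEquiv (S := S) (R := R) E S₁ (f.symm ((cEquiv (S := S) (R := R) E' S₁).symm y))
      map_add' := fun x y => by simp only [map_add]
      map_smul' := fun k y => by
        have h2 : (cEquiv (S := S) (R := R) E S₁).symm (k • y) =
            jL E S₁ k * (cEquiv (S := S) (R := R) E S₁).symm y := by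
          rw [AlgEquiv.symm_apply_eq, cEquiv_jL_mul, AlgEquiv.apply_symm_apply, ← Algebra.smul_def]
        show cEquiv (S := S) (R := R) E' S₁ (f ((cEquiv (S := S) (R := R) E S₁).symm (k • y))) = _
        rw [h2, hfj, cEquiv_jL_mul, ← Algebra.smul_def]
        rfl
      left_inv := fun y => by simp
      right_inv := fun y => by simp }
  have h1 := congrFun (Module.rankAtStalk_eq_of_equiv g) q₁
  rw [Module.rankAtStalk_baseChange, Module.rankAtStalk_baseChange, hN, hN'] at h1
  exact h1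

end Rank

end Groth.Agent.Lib.Helper52.RamFwd
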