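import Mathlib
import Groth.Agent.Lib.Helper52.InvIso
import Groth.Agent.S17357

/-!
# Gluing étale-local isomorphisms of algebras with involution

If for every prime `p` of `R` there is an étale `R`-algebra `C` with a prime over `p` such that
`(E, T)` and `(E', T')` become isomorphic over `C`, then they become isomorphic over one étale
faithfully flat `R`-algebra (a finite product of such `C`).
-/

set_option autoImplicit false
set_option linter.style.haveILetI false
set_option linter.dupNamespace false
set_option linter.unusedSimpArgs false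
set_option linter.unusedVariables false
set_option linter.unusedSectionVars false

namespace Groth.Agent.Lib.Helper52.InvGlue

open scoped TensorProduct
open Groth.Agent.Lib.Helper52.InvIso Groth.Agent.S17357

universe u w w'

section Pi

variable {R : Type u} [CommRing R] {ι : Type u} [Fintype ι] [DecidableEq ι]
  (B : ι → Type u) [∀ i, CommRing (B i)] [∀ i, Algebra R (B i)]
  {E : Type w} [Ring E] [Algebra R E] {E' : Type w'} [Ring E'] [Algebra R E']
  (T : E →ₗ[R] E) (T' : E' →ₗ[R] E')

lemma piLeftAlg_baseChange (x : (∀ i, B i) ⊗[R] E) (i : ι) :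
    piLeftAlg B E (T.baseChange (∀ i, B i) x) i = T.baseChange (B i) (piLeftAlg B E x i) := by
  induction x using TensorProduct.induction_on with
  | zero => simp
  | tmul b e =>
    rw [LinearMap.baseChange_tmul, piLeftAlg_tmul, piLeftAlg_tmul, LinearMap.baseChange_tmul]
  | add x y hx hy => simp only [map_add, Pi.add_apply, hx, hy]

/-- gluing over a finite product -/
theorem invIso_pi (h : ∀ i, InvIso (B i) (T.baseChange (B i)) (T'.baseChange (B i))) :
    InvIso (∀ i, B i) (T.baseChange (∀ i, B i)) (T'.baseChange (∀ i, B i)) := by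
  classical
  choose f hf using h
  let f₀ : ((∀ i, B i) ⊗[R] E) ≃ₐ[R] ((∀ i, B i) ⊗[R] E') :=
    (piLeftAlg B E).trans ((AlgEquiv.piCongrRight fun i => (f i).restrictScalars R).trans
      (piLeftAlg B E').symm)
  have hf₀ : ∀ x i, piLeftAlg B E' (f₀ x) i = f i (piLeftAlg B E x i) := by
    intro x i
    simp only [f₀, AlgEquiv.trans_apply, AlgEquiv.apply_symm_apply]
    rfl
  have hcomm : ∀ c : (∀ i, B i), f₀ (algebraMap (∀ i, B i) ((∀ i, B i) ⊗[R] E) c) =
      algebraMap (∀ i, B i) ((∀ i, B i) ⊗[R] E') c := by
    intro c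
    apply (piLeftAlg B E').injective
    funext i
    rw [hf₀, Algebra.TensorProduct.algebraMap_apply, Algebra.TensorProduct.algebraMap_apply,
      piLeftAlg_tmul, piLeftAlg_tmul]
    have := (f i).commutes (c i)
    rw [Algebra.TensorProduct.algebraMap_apply, Algebra.TensorProduct.algebraMap_apply] at this
    exact this
  refine ⟨AlgEquiv.ofRingEquiv (f := f₀.toRingEquiv) hcomm, fun x => ?_⟩
  show f₀ (T.baseChange (∀ i, B i) x) = T'.baseChange (∀ i, B i) (f₀ x)
  apply (piLeftAlg B E').injective
  funext i
  rw [hf₀, piLeftAlg_baseChange, hf, piLeftAlg_baseChange, hf₀]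

end Pi

section Glue

variable {R : Type u} [CommRing R]
  {E : Type w} [Ring E] [Algebra R E] {E' : Type w'} [Ring E'] [Algebra R E']
  (T : E →ₗ[R] E) (T' : E' →ₗ[R] E')

/-- gluing étale-local isomorphisms -/
theorem invIso_glue
    (h : ∀ p : PrimeSpectrum R, ∃ (C : Type u) (_ : CommRing C) (_ : Algebra R C)
      (_ : Algebra.Etale R C), InvIso C (T.baseChange C) (T'.baseChange C) ∧
        p ∈ Set.range (PrimeSpectrum.comap (algebraMap R C))) :
    ∃ (R' : Type u) (_ : CommRing R') (_ : Algebra R R') (_ : Algebra.Etale R R')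
      (_ : Module.FaithfullyFlat R R'), InvIso R' (T.baseChange R') (T'.baseChange R') := by
  classical
  choose C instC algC etC hiso hrange using h
  have hopen : ∀ p, IsOpen (Set.range (PrimeSpectrum.comap (algebraMap R (C p)))) := fun p =>
    (PrimeSpectrum.isOpenMap_comap_of_hasGoingDown_of_finitePresentation (R := R)
      (S := C p)).isOpen_range
  obtain ⟨s, hs⟩ := isCompact_univ.elim_finite_subcover
    (fun p => Set.range (PrimeSpectrum.comap (algebraMap R (C p)))) hopen
    (fun p _ => Set.mem_iUnion.mpr ⟨p, hrange p⟩)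
  let B : (↥s) → Type u := fun i => C i.1
  haveI : Module.Flat R (∀ i : ↥s, B i) := flat_pi B
  have hff : Module.FaithfullyFlat R (∀ i : ↥s, B i) := by
    apply Module.FaithfullyFlat.of_comap_surjective
    intro p
    have hp := hs (Set.mem_univ p)
    simp only [Set.mem_iUnion, exists_prop] at hp
    obtain ⟨q, hq, ⟨𝔓, h𝔓⟩⟩ := hp
    refine ⟨⟨𝔓.asIdeal.comap (Pi.evalRingHom B ⟨q, hq⟩), Ideal.comap_isPrime _ _⟩, ?_⟩
    rw [← h𝔓]
    ext1
    show Ideal.comap _ (Ideal.comap _ _) = Ideal.comap _ _
    rw [Ideal.comap_comap]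
    rfl
  exact ⟨∀ i : ↥s, B i, inferInstance, inferInstance, inferInstance, hff,
    invIso_pi B T T' (fun i => hiso i.1)⟩

end Glue

end Groth.Agent.Lib.Helper52.InvGlue
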