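import Mathlib
import Groth.Agent.Lib.Helper52.InvHyper
import Groth.Agent.Lib.Helper52.InvStd

/-!
# Isomorphisms of algebras with a linear map and marked elements
-/

set_option autoImplicit false
set_option linter.style.haveILetI false
set_option linter.unusedSectionVars false
set_option linter.unusedVariables false
set_option linter.unusedSimpArgs false

namespace Groth.Agent.Lib.Helper52.RamMark

open scoped TensorProduct
open Groth.Agent.Lib.Helper52.InvFix Groth.Agent.Lib.Helper52.InvIso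
  Groth.Agent.Lib.Helper52.InvHyper

section Basic

variable (C : Type*) [CommRing C] {X Y Z : Type*} [Ring X] [Ring Y] [Ring Z]
  [Algebra C X] [Algebra C Y] [Algebra C Z] {ι : Type*}

/-- isomorphic as algebras with a linear self-map and a family of marked elements -/
def MIso (T : X →ₗ[C] X) (T' : Y →ₗ[C] Y) (a : ι → X) (a' : ι → Y) : Prop :=
  ∃ f : X ≃ₐ[C] Y, (∀ x, f (T x) = T' (f x)) ∧ ∀ r, f (a r) = a' r

variable {C}

lemma MIso.refl (T : X →ₗ[C] X) (a : ι → X) : MIso C T T a a :=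
  ⟨AlgEquiv.refl, fun _ => rfl, fun _ => rfl⟩

lemma MIso.of_eq {T T' : X →ₗ[C] X} {a a' : ι → X} (h : ∀ x, T x = T' x) (ha : ∀ r, a r = a' r) :
    MIso C T T' a a' :=
  ⟨AlgEquiv.refl, fun x => h x, fun r => ha r⟩

lemma MIso.symm {T : X →ₗ[C] X} {T' : Y →ₗ[C] Y} {a : ι → X} {a' : ι → Y}
    (h : MIso C T T' a a') : MIso C T' T a' a := by
  obtain ⟨f, hf, hfa⟩ := h
  refine ⟨f.symm, fun x => ?_, fun r => ?_⟩
  · apply f.injective
    rw [hf, f.apply_symm_apply, f.apply_symm_apply]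
  · rw [← hfa, f.symm_apply_apply]

lemma MIso.trans {T : X →ₗ[C] X} {T' : Y →ₗ[C] Y} {T'' : Z →ₗ[C] Z} {a : ι → X} {a' : ι → Y}
    {a'' : ι → Z} (h : MIso C T T' a a') (h' : MIso C T' T'' a' a'') : MIso C T T'' a a'' := by
  obtain ⟨f, hf, hfa⟩ := h
  obtain ⟨g, hg, hga⟩ := h'
  exact ⟨f.trans g, fun x => by rw [AlgEquiv.trans_apply, AlgEquiv.trans_apply, hf, hg],
    fun r => by rw [AlgEquiv.trans_apply, hfa, hga]⟩

/-- passing to matrices; the marks become scalar matrices -/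
lemma MIso.matrix {T : X →ₗ[C] X} {T' : Y →ₗ[C] Y} {a : ι → X} {a' : ι → Y}
    (h : MIso C T T' a a') (m : Type*) [Fintype m] [DecidableEq m] :
    MIso C (matInv T m) (matInv T' m) (fun r => Matrix.scalar m (a r))
      (fun r => Matrix.scalar m (a' r)) := by
  obtain ⟨f, hf, hfa⟩ := h
  refine ⟨f.mapMatrix, fun M => ?_, fun r => ?_⟩
  · ext i j
    simp [hf]
  · ext i j
    simp only [AlgEquiv.mapMatrix_apply, Matrix.map_apply, Matrix.scalar_apply,
      Matrix.diagonal_apply]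
    split_ifs
    · exact hfa r
    · exact map_zero f

/-- the explicit form of `invIso_conj` -/
lemma inner_conj (θ : X →ₗ[C] X) (hmul : ∀ x y, θ (x * y) = θ y * θ x) (hone : θ 1 = 1)
    (W D V : Xˣ) (s s' : C) (hs : s * s' = 1)
    (h : (↑W : X) * ↑D * θ ↑W = s • (↑V : X)) (x : X) :
    innerAlgEquiv (C := C) W (conjLin D θ x) = conjLin V θ (innerAlgEquiv (C := C) W x) := by
  rw [innerAlgEquiv_apply, innerAlgEquiv_apply, conjLin_apply, conjLin_apply]
  have h1 : θ (↑W : X) * θ (↑W⁻¹ : X) = 1 := by rw [← hmul, Units.inv_mul, hone]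
  have h2 : θ (↑W⁻¹ : X) * θ (↑W : X) = 1 := by rw [← hmul, Units.mul_inv, hone]
  have ha : (↑W : X) * ↑D = s • ((↑V : X) * θ (↑W⁻¹ : X)) := by
    calc (↑W : X) * ↑D = (↑W : X) * ↑D * (θ (↑W : X) * θ (↑W⁻¹ : X)) := by rw [h1, mul_one]
      _ = ((↑W : X) * ↑D * θ (↑W : X)) * θ (↑W⁻¹ : X) := by rw [mul_assoc, mul_assoc, mul_assoc]
      _ = s • ((↑V : X) * θ (↑W⁻¹ : X)) := by rw [h, smul_mul_assoc]
  have hb : (↑D⁻¹ : X) * (↑W⁻¹ : X) = s' • (θ (↑W : X) * (↑V⁻¹ : X)) := by
    have hl : (s' • (θ (↑W : X) * (↑V⁻¹ : X))) * ((↑W : X) * ↑D) = 1 := by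
      rw [ha, smul_mul_smul_comm, mul_comm s' s, hs, one_smul]
      calc θ (↑W : X) * (↑V⁻¹ : X) * ((↑V : X) * θ (↑W⁻¹ : X))
          = θ (↑W : X) * ((↑V⁻¹ : X) * (↑V : X)) * θ (↑W⁻¹ : X) := by
            simp only [mul_assoc]
        _ = 1 := by rw [Units.inv_mul, mul_one, h1]
    have hr : ((↑W : X) * ↑D) * ((↑D⁻¹ : X) * (↑W⁻¹ : X)) = 1 := by
      simp [mul_assoc]
    calc (↑D⁻¹ : X) * (↑W⁻¹ : X)
        = ((s' • (θ (↑W : X) * (↑V⁻¹ : X))) * ((↑W : X) * ↑D)) * ((↑D⁻¹ : X) * (↑W⁻¹ : X)) := by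
          rw [hl, one_mul]
      _ = s' • (θ (↑W : X) * (↑V⁻¹ : X)) := by rw [mul_assoc, hr, mul_one]
  calc (↑W : X) * (↑D * θ x * ↑D⁻¹) * ↑W⁻¹
      = ((↑W : X) * ↑D) * θ x * ((↑D⁻¹ : X) * (↑W⁻¹ : X)) := by simp only [mul_assoc]
    _ = (s • ((↑V : X) * θ (↑W⁻¹ : X))) * θ x * (s' • (θ (↑W : X) * (↑V⁻¹ : X))) := by
        rw [ha, hb]
    _ = (s * s') • ((↑V : X) * θ (↑W⁻¹ : X) * θ x * (θ (↑W : X) * (↑V⁻¹ : X))) := by
        rw [smul_mul_assoc, smul_mul_smul_comm]
    _ = ↑V * θ (↑W * x * ↑W⁻¹) * ↑V⁻¹ := by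
        rw [hs, one_smul, hmul, hmul]
        simp only [mul_assoc]

/-- congruent units give isomorphic twisted involutions, fixing central marks -/
lemma Cong.mIso {θ : X →ₗ[C] X} (hmul : ∀ x y, θ (x * y) = θ y * θ x) (hone : θ 1 = 1)
    {D D' : Xˣ} (h : Cong θ D D') (a : ι → X) (ha : ∀ r x, a r * x = x * a r) :
    MIso C (conjLin D θ) (conjLin D' θ) a a := by
  obtain ⟨W, s, s', hs, hW⟩ := h
  refine ⟨innerAlgEquiv W, inner_conj θ hmul hone W D D' s s' hs hW, fun r => ?_⟩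
  rw [innerAlgEquiv_apply, ← ha, mul_assoc, Units.mul_inv, mul_one]

end Basic

section Hyper

variable {C : Type*} [CommRing C] {B : Type*} [Ring B] [Algebra C B] (θ₀ : B →ₗ[C] B)
  (hmul : ∀ x y, θ₀ (x * y) = θ₀ y * θ₀ x) (hone : θ₀ 1 = 1)
  (u : Bˣ) (c : C) (hc : c * c = 1) (hu : θ₀ ↑u = c • (↑u : B))
  (i h : C) (hi : i * i = -1) (hh : h * 2 = 1)
  {ι : Type*} (a : ι → B) (ha : ∀ r x, a r * x = x * a r)

include hmul hone hu hi hh ha in
/-- the hyperbolic trick with marks -/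
theorem hyperM : MIso C (matInv (conjLin u θ₀) (Fin 2))
    (conjLin (D₂ (B := B) c hc) (matInv θ₀ (Fin 2)))
    (fun r => Matrix.scalar (Fin 2) (a r)) (fun r => Matrix.scalar (Fin 2) (a r)) := by
  have hm := matInv_mul θ₀ (Fin 2) hmul
  have ho := matInv_one θ₀ (Fin 2) hone
  refine (MIso.of_eq (matInv_conjLin_eq θ₀ u) (fun _ => rfl)).trans ?_
  exact Cong.mIso hm ho
    ((step1 θ₀ hone u i h hi hh).trans hm (step2 θ₀ hmul hone u c hc hu h hh)) _
    (fun r x => Matrix.scalar_comm (a r) (fun r' => ha r r') x)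

end Hyper

section ConjOut

variable {C : Type*} [CommRing C] {B : Type*} [Ring B] [Algebra C B] (θ : B →ₗ[C] B)
  (V : Bˣ) (m : Type*) [Fintype m] [DecidableEq m]

/-- the block scalar unit -/
def scalarUnit : (Matrix m m B)ˣ := Units.map (Matrix.scalar m).toMonoidHom V

lemma scalarUnit_val : (scalarUnit V m).val = Matrix.scalar m V.val := rfl

lemma scalarUnit_inv : (scalarUnit V m)⁻¹.val = Matrix.scalar m V⁻¹.val := rfl

lemma matInv_conjLin_scalar (M : Matrix m m B) :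
    matInv (conjLin V θ) m M = conjLin (scalarUnit V m) (matInv θ m) M := by
  rw [conjLin_apply, scalarUnit_val, scalarUnit_inv]
  ext i j
  simp [Matrix.scalar_apply, Matrix.diagonal_mul, Matrix.mul_diagonal]

lemma matInv_scalarUnit (c : C) (hV : θ V.val = c • V.val) :
    matInv θ m (scalarUnit V m).val = c • (scalarUnit V m).val := by
  rw [scalarUnit_val]
  ext i j
  simp only [matInv_apply, Matrix.scalar_apply, Matrix.diagonal_apply, Matrix.smul_apply]
  by_cases hij : i = j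
  · subst hij
    simp [hV]
  · rw [if_neg (Ne.symm hij), if_neg hij, map_zero, smul_zero]

end ConjOut

section Transport

variable {C : Type*} [CommRing C] {B B' : Type*} [Ring B] [Ring B'] [Algebra C B] [Algebra C B']
  {ι : Type*}

lemma mapMatrix_mk2 (g : B ≃ₐ[C] B') (p q r s : B) :
    g.mapMatrix (mk2 p q r s) = mk2 (g p) (g q) (g r) (g s) := by
  ext i j
  fin_cases i <;> fin_cases j <;> rfl

/-- transport of the standard `c`-hyperbolic involution along an isomorphism -/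
theorem mIso_D₂ (θ : B →ₗ[C] B) (θ' : B' →ₗ[C] B') (g : B ≃ₐ[C] B')
    (hg : ∀ x, g (θ x) = θ' (g x)) (c : C) (hc : c * c = 1) (a : ι → B) (a' : ι → B')
    (hga : ∀ r, g (a r) = a' r) :
    MIso C (conjLin (D₂ (B := B) c hc) (matInv θ (Fin 2)))
      (conjLin (D₂ (B := B') c hc) (matInv θ' (Fin 2)))
      (fun r => Matrix.scalar (Fin 2) (a r)) (fun r => Matrix.scalar (Fin 2) (a' r)) := by
  refine ⟨g.mapMatrix, fun M => ?_, fun r => ?_⟩
  · rw [conjLin_apply, conjLin_apply, map_mul, map_mul]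
    have h1 : g.mapMatrix (D₂ (B := B) c hc).val = (D₂ (B := B') c hc).val := by
      show g.mapMatrix (mk2 0 (c • (1 : B)) 1 0) = mk2 0 (c • (1 : B')) 1 0
      rw [mapMatrix_mk2, map_zero, map_one, map_smul, map_one]
    have h2 : g.mapMatrix (D₂ (B := B) c hc)⁻¹.val = (D₂ (B := B') c hc)⁻¹.val := by
      show g.mapMatrix (mk2 0 1 (c • (1 : B)) 0) = mk2 0 1 (c • (1 : B')) 0
      rw [mapMatrix_mk2, map_zero, map_one, map_smul, map_one]
    rw [h1, h2]
    congr 2
    ext i j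
    simp [hg]
  · ext i j
    simp only [AlgEquiv.mapMatrix_apply, Matrix.map_apply, Matrix.scalar_apply,
      Matrix.diagonal_apply]
    split_ifs
    · exact hga r
    · exact map_zero g

end Transport

section MatTensor

variable {R : Type*} [CommRing R] (C : Type*) [CommRing C] [Algebra R C]
  {A : Type*} [Ring A] [Algebra R A] (m : Type*) [Fintype m] [DecidableEq m] {ι : Type*}

lemma mIso_matTensor (σ : A →ₗ[R] A) (b : ι → A) :
    MIso C ((matInv σ m).baseChange C) (matInv (σ.baseChange C) m)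
      (fun r => (1 : C) ⊗ₜ[R] Matrix.scalar m (b r))
      (fun r => Matrix.scalar m ((1 : C) ⊗ₜ[R] b r)) := by
  refine ⟨matTensor C m, fun x => ?_, fun r => ?_⟩
  · induction x using TensorProduct.induction_on with
    | zero => simp
    | tmul c M =>
      ext i j
      rw [LinearMap.baseChange_tmul, matTensor_tmul, matInv_apply, matInv_apply, matTensor_tmul,
        LinearMap.baseChange_tmul]
    | add x y hx hy => simp only [map_add, hx, hy]
  · ext i j
    rw [matTensor_tmul]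
    simp only [Matrix.scalar_apply, Matrix.diagonal_apply]
    split_ifs
    · rfl
    · exact TensorProduct.tmul_zero _ _

/-- base change of an isomorphism -/
lemma mIso_baseChange {X Y : Type*} [Ring X] [Ring Y] [Algebra R X] [Algebra R Y]
    (σ : X →ₗ[R] X) (σ' : Y →ₗ[R] Y) (g : X ≃ₐ[R] Y) (hg : ∀ x, g (σ x) = σ' (g x))
    (b : ι → X) (b' : ι → Y) (hb : ∀ r, g (b r) = b' r) :
    MIso C (σ.baseChange C) (σ'.baseChange C) (fun r => (1 : C) ⊗ₜ[R] b r)
      (fun r => (1 : C) ⊗ₜ[R] b' r) := by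
  refine ⟨Algebra.TensorProduct.congr (AlgEquiv.refl : C ≃ₐ[C] C) g, fun x => ?_, fun r => ?_⟩
  · induction x using TensorProduct.induction_on with
    | zero => simp
    | tmul c M =>
      rw [LinearMap.baseChange_tmul, Algebra.TensorProduct.congr_apply,
        Algebra.TensorProduct.map_tmul, Algebra.TensorProduct.congr_apply,
        Algebra.TensorProduct.map_tmul, LinearMap.baseChange_tmul]
      congr 1
      exact hg M
    | add x y hx hy => simp only [map_add, hx, hy]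
  · rw [Algebra.TensorProduct.congr_apply, Algebra.TensorProduct.map_tmul]
    congr 1
    exact hb r

end MatTensor

section Swap

variable (C : Type*) [CommRing C] (K : Type*) [CommRing K] [Algebra C K] (m n : ℕ)

/-- exchanging two levels of matrices -/
noncomputable def swapMN : Matrix (Fin m) (Fin m) (Matrix (Fin n) (Fin n) K) ≃ₐ[C]
    Matrix (Fin n) (Fin n) (Matrix (Fin m) (Fin m) K) :=
  (Matrix.compAlgEquiv (Fin m) (Fin n) K C).trans
    ((Matrix.reindexAlgEquiv C K (Equiv.prodComm (Fin m) (Fin n))).trans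
      (Matrix.compAlgEquiv (Fin n) (Fin m) K C).symm)

lemma swapMN_apply (X : Matrix (Fin m) (Fin m) (Matrix (Fin n) (Fin n) K)) (i j : Fin n)
    (a b : Fin m) : swapMN C K m n X i j a b = X a b i j := rfl

end Swap

section TwoMul

variable (R : Type*) [CommRing R] (A : Type*) [Ring A] [Algebra R A] (m : ℕ)

/-- `M_{2m}(A) ≃ M_2(M_m(A))` -/
noncomputable def twoMul : Matrix (Fin (2 * m)) (Fin (2 * m)) A ≃ₐ[R]
    Matrix (Fin 2) (Fin 2) (Matrix (Fin m) (Fin m) A) :=
  (Matrix.reindexAlgEquiv R A finProdFinEquiv.symm).trans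
    (Matrix.compAlgEquiv (Fin 2) (Fin m) A R).symm

lemma twoMul_apply (M : Matrix (Fin (2 * m)) (Fin (2 * m)) A) (a b : Fin 2) (i j : Fin m) :
    twoMul R A m M a b i j = M (finProdFinEquiv (a, i)) (finProdFinEquiv (b, j)) := rfl

end TwoMul

end Groth.Agent.Lib.Helper52.RamMark
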