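import Mathlib
import Groth.Agent.Lib.Helper52.InvGlue
import Groth.Agent.Lib.Helper52.RamMark

/-!
# Gluing étale-local isomorphisms of algebras with involution and marked elements
-/

set_option autoImplicit false
set_option linter.style.haveILetI false
set_option linter.dupNamespace false
set_option linter.unusedSimpArgs false
set_option linter.unusedVariables false
set_option linter.unusedSectionVars false

namespace Groth.Agent.Lib.Helper52.RamGlue

open scoped TensorProduct
open Groth.Agent.Lib.Helper52.InvIso Groth.Agent.S17357 Groth.Agent.Lib.Helper52.InvGlue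
  Groth.Agent.Lib.Helper52.RamMark

universe u w w'

section Pi

variable {R : Type u} [CommRing R] {ι : Type u} [Fintype ι] [DecidableEq ι]
  (B : ι → Type u) [∀ i, CommRing (B i)] [∀ i, Algebra R (B i)]
  {E : Type w} [Ring E] [Algebra R E] {E' : Type w'} [Ring E'] [Algebra R E']
  (T : E →ₗ[R] E) (T' : E' →ₗ[R] E') {κ : Type*} (b : κ → E) (b' : κ → E')

/-- gluing over a finite product -/
theorem mIso_pi (h : ∀ i, MIso (B i) (T.baseChange (B i)) (T'.baseChange (B i))
      (fun r => (1 : B i) ⊗ₜ[R] b r) (fun r => (1 : B i) ⊗ₜ[R] b' r)) :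
    MIso (∀ i, B i) (T.baseChange (∀ i, B i)) (T'.baseChange (∀ i, B i))
      (fun r => (1 : ∀ i, B i) ⊗ₜ[R] b r) (fun r => (1 : ∀ i, B i) ⊗ₜ[R] b' r) := by
  classical
  choose f hf hfa using h
  let f₀ : ((∀ i, B i) ⊗[R] E) ≃ₐ[R] ((∀ i, B i) ⊗[R] E') :=
    (piLeftAlg B E).trans ((AlgEquiv.piCongrRight fun i => (f i).restrictScalars R).trans
      (piLeftAlg B E').symm)
  have hf₀ : ∀ x i, piLeftAlg B E' (f₀ x) i = f i (piLeftAlg B E x i) := by
    intro x i
    simp only [f₀, AlgEquiv.trans_apply, AlgEquiv.apply_symm_apply]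
    rfl
  have hcomm : ∀ c : (∀ i, B i), f₀ (algebraMap (∀ i, B i) ((∀ i, B i) ⊗[R] E) c) =
      algebraMap (∀ i, B i) ((∀ i, B i) ⊗[R] E') c := by
    intro c
    apply (piLeftAlg B E').injective
    funext i
    rw [hf₀, Algebra.TensorProduct.algebraMap_apply, Algebra.TensorProduct.algebraMap_apply,
      piLeftAlg_tmul, piLeftAlg_tmul]
    have := (f i).commutes (c i)
    rw [Algebra.TensorProduct.algebraMap_apply, Algebra.TensorProduct.algebraMap_apply] at this
    exact this
  refine ⟨AlgEquiv.ofRingEquiv (f := f₀.toRingEquiv) hcomm, fun x => ?_, fun r => ?_⟩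
  · show f₀ (T.baseChange (∀ i, B i) x) = T'.baseChange (∀ i, B i) (f₀ x)
    apply (piLeftAlg B E').injective
    funext i
    rw [hf₀, piLeftAlg_baseChange, hf, piLeftAlg_baseChange, hf₀]
  · show f₀ ((1 : ∀ i, B i) ⊗ₜ[R] b r) = (1 : ∀ i, B i) ⊗ₜ[R] b' r
    apply (piLeftAlg B E').injective
    funext i
    rw [hf₀, piLeftAlg_tmul, piLeftAlg_tmul]
    exact hfa i r

end Pi

section Glue

variable {R : Type u} [CommRing R]
  {E : Type w} [Ring E] [Algebra R E] {E' : Type w'} [Ring E'] [Algebra R E']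
  (T : E →ₗ[R] E) (T' : E' →ₗ[R] E') {κ : Type*} (b : κ → E) (b' : κ → E')

/-- gluing étale-local isomorphisms -/
theorem mIso_glue
    (h : ∀ p : PrimeSpectrum R, ∃ (C : Type u) (_ : CommRing C) (_ : Algebra R C)
      (_ : Algebra.Etale R C), MIso C (T.baseChange C) (T'.baseChange C)
        (fun r => (1 : C) ⊗ₜ[R] b r) (fun r => (1 : C) ⊗ₜ[R] b' r) ∧
        p ∈ Set.range (PrimeSpectrum.comap (algebraMap R C))) :
    ∃ (R' : Type u) (_ : CommRing R') (_ : Algebra R R') (_ : Algebra.Etale R R')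
      (_ : Module.FaithfullyFlat R R'), MIso R' (T.baseChange R') (T'.baseChange R')
        (fun r => (1 : R') ⊗ₜ[R] b r) (fun r => (1 : R') ⊗ₜ[R] b' r) := by
  classical
  choose C instC algC etC hiso hrange using h
  have hopen : ∀ p, IsOpen (Set.range (PrimeSpectrum.comap (algebraMap R (C p)))) := fun p =>
    (PrimeSpectrum.isOpenMap_comap_of_hasGoingDown_of_finitePresentation (R := R)
      (S := C p)).isOpen_range
  obtain ⟨s, hs⟩ := isCompact_univ.elim_finite_subcover
    (fun p => Set.range (PrimeSpectrum.comap (algebraMap R (C p)))) hopen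
    (fun p _ => Set.mem_iUnion.mpr ⟨p, hrange p⟩)
  let B : (↥s) → Type u := fun i => C i.1
  haveI : Module.Flat R (∀ i : ↥s, B i) := flat_pi B
  have hff : Module.FaithfullyFlat R (∀ i : ↥s, B i) := by
    apply Module.FaithfullyFlat.of_comap_surjective
    intro p
    have hp := hs (Set.mem_univ p)
    simp only [Set.mem_iUnion, exists_prop] at hp
    obtain ⟨q, hq, ⟨𝔓, h𝔓⟩⟩ := hp
    refine ⟨⟨𝔓.asIdeal.comap (Pi.evalRingHom B ⟨q, hq⟩), Ideal.comap_isPrime _ _⟩, ?_⟩
    rw [← h𝔓]
    ext1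
    show Ideal.comap _ (Ideal.comap _ _) = Ideal.comap _ _
    rw [Ideal.comap_comap]
    rfl
  exact ⟨∀ i : ↥s, B i, inferInstance, inferInstance, inferInstance, hff,
    mIso_pi B T T' b b' (fun i => hiso i.1)⟩

end Glue

end Groth.Agent.Lib.Helper52.RamGlue
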