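import Mathlib
import Groth.Agent.Lib.Helper52.AzSplitMain
import Groth.Agent.Lib.Helper52.InvHyper
import Groth.Prelude.Def_AzInv

/-!
# Normal forms of `lam`-involutions on split Azumaya algebras (element based)
-/

set_option autoImplicit false
set_option linter.style.haveILetI false
set_option linter.unusedSectionVars false
set_option linter.unusedVariables false
set_option linter.unusedSimpArgs false

namespace Groth.Agent.Lib.Helper52.RamNF

open scoped TensorProduct
open AzInv Groth.Agent.Lib.Helper52.AzSplitMU Groth.Agent.Lib.Helper52.AzSplitBC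

universe u v w

section Base

variable {S : Type u} {R : Type v} [CommRing S] [CommRing R] [Algebra S R] (lam : R ≃ₐ[S] R)
  {A : Type w} [Ring A] [Algebra S A] [Algebra R A] [IsScalarTower S R A]
  (t : LamInv R A lam) (E : Type*) [CommRing E] [Algebra S E]

/-- the involution of `E ⊗ R` -/
noncomputable def lamE : E ⊗[S] R ≃ₐ[E] E ⊗[S] R :=
  Algebra.TensorProduct.congr (AlgEquiv.refl : E ≃ₐ[E] E) lam

lemma lamE_tmul (e : E) (r : R) : lamE lam E (e ⊗ₜ[S] r) = e ⊗ₜ[S] lam r := by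
  simp [lamE]

lemma lamE_lamE (hlam : ∀ r, lam (lam r) = r) (k : E ⊗[S] R) : lamE lam E (lamE lam E k) = k := by
  induction k using TensorProduct.induction_on with
  | zero => simp
  | tmul e r => rw [lamE_tmul, lamE_tmul, hlam]
  | add x y hx hy => rw [map_add, map_add, hx, hy]

variable (A) in
/-- the central embedding `E ⊗ R → E ⊗ A` -/
noncomputable def jE : E ⊗[S] R →ₐ[E] E ⊗[S] A :=
  Algebra.TensorProduct.map (AlgHom.id E E) (IsScalarTower.toAlgHom S R A)

lemma jE_tmul (e : E) (r : R) : jE A E (e ⊗ₜ[S] r) = e ⊗ₜ[S] algebraMap R A r := by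
  simp [jE]

lemma jE_comm (k : E ⊗[S] R) (x : E ⊗[S] A) : jE A E k * x = x * jE A E k := by
  induction k using TensorProduct.induction_on with
  | zero => simp
  | tmul r l =>
    induction x using TensorProduct.induction_on with
    | zero => simp
    | tmul l' a =>
      rw [jE_tmul, Algebra.TensorProduct.tmul_mul_tmul, Algebra.TensorProduct.tmul_mul_tmul,
        mul_comm r l', Algebra.commutes]
    | add x y hx hy => rw [mul_add, add_mul, hx, hy]
  | add k k' hk hk' => rw [map_add, add_mul, mul_add, hk, hk']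

lemma bc_mul (x y : E ⊗[S] A) :
    t.bc S lam E (x * y) = t.bc S lam E y * t.bc S lam E x := by
  induction x using TensorProduct.induction_on with
  | zero => simp
  | add x₁ x₂ h₁ h₂ => rw [add_mul, map_add, h₁, h₂, map_add, mul_add]
  | tmul c a =>
    induction y using TensorProduct.induction_on with
    | zero => simp
    | add y₁ y₂ h₁ h₂ => rw [mul_add, map_add, h₁, h₂, map_add, add_mul]
    | tmul c' a' =>
      rw [Algebra.TensorProduct.tmul_mul_tmul, LamInv.bc_tmul, LamInv.bc_tmul, LamInv.bc_tmul,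
        Algebra.TensorProduct.tmul_mul_tmul, t.map_mul, mul_comm]

lemma bc_one : t.bc S lam E (1 : E ⊗[S] A) = 1 := by
  rw [Algebra.TensorProduct.one_def, LamInv.bc_tmul, t.map_one]

lemma bc_bc (x : E ⊗[S] A) : t.bc S lam E (t.bc S lam E x) = x := by
  induction x using TensorProduct.induction_on with
  | zero => simp
  | tmul c b => rw [LamInv.bc_tmul, LamInv.bc_tmul, t.invol]
  | add x y hx hy => rw [map_add, map_add, hx, hy]

lemma bc_jE (k : E ⊗[S] R) : t.bc S lam E (jE A E k) = jE A E (lamE lam E k) := by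
  induction k using TensorProduct.induction_on with
  | zero => simp
  | tmul e r => rw [jE_tmul, LamInv.bc_tmul, lamE_tmul, jE_tmul, t.map_algebraMap]
  | add x y hx hy => rw [map_add, map_add, hx, hy, map_add, map_add]

lemma bc_unit_inv (W : (E ⊗[S] A)ˣ) :
    t.bc S lam E (↑W⁻¹ : E ⊗[S] A) * t.bc S lam E (↑W : E ⊗[S] A) = 1 := by
  rw [← bc_mul, Units.mul_inv, bc_one]

lemma bc_unit_inv' (W : (E ⊗[S] A)ˣ) :
    t.bc S lam E (↑W : E ⊗[S] A) * t.bc S lam E (↑W⁻¹ : E ⊗[S] A) = 1 := by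
  rw [← bc_mul, Units.inv_mul, bc_one]

section Map

variable {E} {E' : Type*} [CommRing E'] [Algebra S E'] (g : E →ₐ[S] E')

variable (A) in
/-- base change of `E ⊗ A` along `g : E → E'` -/
noncomputable def bcMap : E ⊗[S] A →ₐ[S] E' ⊗[S] A :=
  Algebra.TensorProduct.map g (AlgHom.id S A)

lemma bcMap_tmul (e : E) (a : A) : bcMap A g (e ⊗ₜ[S] a) = g e ⊗ₜ[S] a := by
  simp [bcMap]

lemma bcMap_bc (x : E ⊗[S] A) : bcMap A g (t.bc S lam E x) = t.bc S lam E' (bcMap A g x) := by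
  induction x using TensorProduct.induction_on with
  | zero => simp
  | tmul c b => rw [LamInv.bc_tmul, bcMap_tmul, bcMap_tmul, LamInv.bc_tmul]
  | add x y hx hy => rw [map_add, map_add, hx, hy, map_add, map_add]

lemma bcMap_smul (c : E) (x : E ⊗[S] A) : bcMap A g (c • x) = g c • bcMap A g x := by
  induction x using TensorProduct.induction_on with
  | zero => simp
  | tmul c' b =>
    rw [TensorProduct.smul_tmul', bcMap_tmul, bcMap_tmul, TensorProduct.smul_tmul', smul_eq_mul,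
      smul_eq_mul, map_mul]
  | add x y hx hy => rw [smul_add, map_add, hx, hy, map_add, smul_add]

lemma bcMap_jE (k : E ⊗[S] R) :
    bcMap A g (jE A E k) = jE A E' (Algebra.TensorProduct.map g (AlgHom.id S R) k) := by
  induction k using TensorProduct.induction_on with
  | zero => simp
  | tmul e r =>
    rw [jE_tmul, bcMap_tmul, Algebra.TensorProduct.map_tmul, AlgHom.id_apply, jE_tmul]
  | add x y hx hy => rw [map_add, map_add, hx, hy, map_add, map_add]

end Map

end Base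

section NF

variable {S : Type u} {R : Type v} [CommRing S] [CommRing R] [Algebra S R] {lam : R ≃ₐ[S] R}
  {A : Type w} [Ring A] [Algebra S A] [Algebra R A] [IsScalarTower S R A]
  (t : LamInv R A lam) (E : Type*) [CommRing E] [Algebra S E]

/-- weak normal form data: matrix units `e` and a unit `W` with `T(e_ij) = W e_ji W⁻¹` -/
def HasNF0 (n : ℕ) : Prop :=
  ∃ (e : Fin n → Fin n → E ⊗[S] A) (W : (E ⊗[S] A)ˣ), IsMU e ∧
    ∀ i j, t.bc S lam E (e i j) = ↑W * e j i * ↑W⁻¹

/-- normal form data: moreover `T(W) = ε W` -/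
def HasNF (n : ℕ) (ε : E) : Prop :=
  ∃ (e : Fin n → Fin n → E ⊗[S] A) (W : (E ⊗[S] A)ˣ), IsMU e ∧
    (∀ i j, t.bc S lam E (e i j) = ↑W * e j i * ↑W⁻¹) ∧
      t.bc S lam E (↑W : E ⊗[S] A) = ε • (↑W : E ⊗[S] A)

variable {t E} {E' : Type*} [CommRing E'] [Algebra S E'] {n : ℕ}

lemma HasNF0.map (g : E →ₐ[S] E') (h : HasNF0 t E n) : HasNF0 t E' n := by
  obtain ⟨e, W, he, h1⟩ := h
  refine ⟨fun i j => bcMap A g (e i j), Units.map (bcMap A g).toMonoidHom W,
    he.map (bcMap A g).toRingHom, fun i j => ?_⟩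
  rw [← bcMap_bc, h1, map_mul, map_mul]
  rfl

lemma HasNF.map (g : E →ₐ[S] E') {ε : E} (h : HasNF t E n ε) : HasNF t E' n (g ε) := by
  obtain ⟨e, W, he, h1, h2⟩ := h
  refine ⟨fun i j => bcMap A g (e i j), Units.map (bcMap A g).toMonoidHom W,
    he.map (bcMap A g).toRingHom, fun i j => ?_, ?_⟩
  · rw [← bcMap_bc, h1, map_mul, map_mul]
    rfl
  · show t.bc S lam E' (bcMap A g ↑W) = g ε • bcMap A g ↑W
    rw [← bcMap_bc, h2, bcMap_smul]

lemma HasNF.hasNF0 {ε : E} (h : HasNF t E n ε) : HasNF0 t E n := by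
  obtain ⟨e, W, he, h1, h2⟩ := h
  exact ⟨e, W, he, h1⟩

/-- flipping the sign with a skew unit of `E ⊗ R` -/
lemma HasNF.flip {ε : E} (h : HasNF t E n ε) (δ δ' : E ⊗[S] R) (hδ : δ * δ' = 1)
    (hl : lamE lam E δ = -δ) : HasNF t E n (-ε) := by
  obtain ⟨e, W, he, h1, h2⟩ := h
  have hδ' : δ' * δ = 1 := by rw [mul_comm, hδ]
  let D : (E ⊗[S] A)ˣ := ⟨jE A E δ, jE A E δ', by rw [← map_mul, hδ, map_one],
    by rw [← map_mul, hδ', map_one]⟩
  have hD : (↑D : E ⊗[S] A) = jE A E δ := rfl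
  have hDi : (↑D⁻¹ : E ⊗[S] A) = jE A E δ' := rfl
  refine ⟨e, D * W, he, fun i j => ?_, ?_⟩
  · rw [h1, mul_inv_rev, Units.val_mul, Units.val_mul, hD, hDi]
    calc ↑W * e j i * ↑W⁻¹ = jE A E (δ * δ') * (↑W * e j i * ↑W⁻¹) := by
          rw [hδ, map_one, one_mul]
      _ = jE A E δ * ↑W * e j i * (↑W⁻¹ * jE A E δ') := by
          have hc := jE_comm (A := A) E δ' ((↑W : E ⊗[S] A) * e j i * (↑W⁻¹ : E ⊗[S] A))
          rw [map_mul, mul_assoc, hc]
          simp only [mul_assoc]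
  · rw [Units.val_mul, bc_mul, h2, hD, bc_jE, hl, map_neg, smul_mul_assoc, mul_neg, neg_smul,
      smul_neg, jE_comm E]

end NF

section Iso

variable {S : Type u} {R : Type v} [CommRing S] [CommRing R] [Algebra S R] {lam : R ≃ₐ[S] R}
  {A : Type w} [Ring A] [Algebra S A] [Algebra R A] [IsScalarTower S R A]
  (t : LamInv R A lam) (n : ℕ) (hn : 0 < n) [IsAzumaya R A]
  (hrank : ∀ p : PrimeSpectrum R, Module.rankAtStalk (R := R) A p = n ^ 2)

lemma jL_eq_jE (E : Type*) [CommRing E] [Algebra S E] (k : R ⊗[S] E) :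
    jL A E k = jE A E (Algebra.TensorProduct.comm S R E k) := by
  induction k using TensorProduct.induction_on with
  | zero => simp
  | tmul r l => rw [jL_tmul, Algebra.TensorProduct.comm_tmul, jE_tmul]
  | add x y hx hy => rw [map_add, map_add, hx, hy, map_add]

include hn hrank in
/-- matrix units over `E` give an `E`-isomorphism with the matrix algebra over `E ⊗ R` carrying
them to the standard matrix units -/
theorem exists_algEquiv_of_isMU (E : Type u) [CommRing E] [Algebra S E]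
    (e : Fin n → Fin n → E ⊗[S] A) (he : IsMU e) :
    ∃ f : E ⊗[S] A ≃ₐ[E] Matrix (Fin n) (Fin n) (E ⊗[S] R),
      (∀ k : E ⊗[S] R, f (jE A E k) = Matrix.scalar (Fin n) k) ∧
        ∀ i j, f (e i j) = Matrix.single i j (1 : E ⊗[S] R) := by
  classical
  let c := cEquiv (S := S) (R := R) A E
  have he' : IsMU (fun i j => c (e i j)) := he.map (c : E ⊗[S] A →+* (R ⊗[S] E) ⊗[R] A)
  haveI : IsAzumaya (R ⊗[S] E) ((R ⊗[S] E) ⊗[R] A) :=
    Groth.Agent.Lib.Helper46.Azumaya.isAzumaya_baseChange R (R ⊗[S] E) A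
  haveI : Module.Finite R A := IsAzumaya.toFinite
  haveI : Module.Projective R A := inferInstance
  haveI : Module.Finite (R ⊗[S] E) ((R ⊗[S] E) ⊗[R] A) := IsAzumaya.toFinite
  have hrank' : ∀ q : PrimeSpectrum (R ⊗[S] E),
      Module.rankAtStalk (R := R ⊗[S] E) ((R ⊗[S] E) ⊗[R] A) q = n ^ 2 := by
    intro q
    rw [Module.rankAtStalk_baseChange, hrank]
  have hbij := muHom_bijective (K := R ⊗[S] E) he'
    (FaithfulSMul.algebraMap_injective (R ⊗[S] E) ((R ⊗[S] E) ⊗[R] A)) hrank' hn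
  let Ψ : Matrix (Fin n) (Fin n) (R ⊗[S] E) ≃ₐ[R ⊗[S] E] (R ⊗[S] E) ⊗[R] A :=
    AlgEquiv.ofBijective (muHom (K := R ⊗[S] E) he') hbij
  let f : E ⊗[S] A ≃ₐ[S] Matrix (Fin n) (Fin n) (E ⊗[S] R) :=
    c.trans ((Ψ.symm.restrictScalars S).trans (Algebra.TensorProduct.comm S R E).mapMatrix)
  have hf1 : ∀ (k : R ⊗[S] E) (x : E ⊗[S] A),
      f (jL A E k * x) = Matrix.scalar (Fin n) (Algebra.TensorProduct.comm S R E k) * f x := by
    intro k x
    show (Algebra.TensorProduct.comm S R E).mapMatrix (Ψ.symm (c (jL A E k * x))) =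
      Matrix.scalar (Fin n) (Algebra.TensorProduct.comm S R E k) *
        (Algebra.TensorProduct.comm S R E).mapMatrix (Ψ.symm (c x))
    rw [cEquiv_jL_mul, ← Algebra.smul_def, map_smul]
    ext a b
    simp [Matrix.scalar_apply, Matrix.diagonal_mul]
    rfl
  have hf2 : ∀ k : E ⊗[S] R, f (jE A E k) = Matrix.scalar (Fin n) k := by
    intro k
    have h := hf1 ((Algebra.TensorProduct.comm S R E).symm k) 1
    rw [mul_one, map_one, mul_one, AlgEquiv.apply_symm_apply, jL_eq_jE,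
      AlgEquiv.apply_symm_apply] at h
    exact h
  have hf3 : ∀ i j, f (e i j) = Matrix.single i j (1 : E ⊗[S] R) := by
    intro i j
    have h1 : Ψ (Matrix.single i j 1) = c (e i j) := by
      show muHom (K := R ⊗[S] E) he' (Matrix.single i j 1) = c (e i j)
      rw [muHom_single, one_smul]
    have h2 : Ψ.symm (c (e i j)) = Matrix.single i j 1 := by
      rw [← h1, AlgEquiv.symm_apply_apply]
    show (Algebra.TensorProduct.comm S R E).mapMatrix (Ψ.symm (c (e i j))) = _
    rw [h2]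
    ext a b
    simp [Matrix.single_apply]
  have hcomm : ∀ x : E, f (algebraMap E (E ⊗[S] A) x) =
      algebraMap E (Matrix (Fin n) (Fin n) (E ⊗[S] R)) x := by
    intro x
    have h1 : algebraMap E (E ⊗[S] A) x = jE A E (x ⊗ₜ[S] (1 : R)) := by
      rw [jE_tmul, map_one, Algebra.TensorProduct.algebraMap_apply]
      rfl
    rw [h1, hf2]
    ext a b
    simp [Matrix.algebraMap_matrix_apply, Matrix.scalar_apply, Matrix.diagonal_apply,
      Algebra.TensorProduct.algebraMap_apply]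
  exact ⟨AlgEquiv.ofRingEquiv (f := f.toRingEquiv) hcomm, hf2, hf3⟩

end Iso

section Struct

variable {S : Type u} {R : Type v} [CommRing S] [CommRing R] [Algebra S R] {lam : R ≃ₐ[S] R}
  {A : Type w} [Ring A] [Algebra S A] [Algebra R A] [IsScalarTower S R A]
  (t : LamInv R A lam) (n : ℕ) (hn : 0 < n) [IsAzumaya R A]
  (hrank : ∀ p : PrimeSpectrum R, Module.rankAtStalk (R := R) A p = n ^ 2)
  (E : Type u) [CommRing E] [Algebra S E]

/-- transport of the involution through an isomorphism respecting matrix units -/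
lemma struct_aux (f : E ⊗[S] A ≃ₐ[E] Matrix (Fin n) (Fin n) (E ⊗[S] R))
    (hf2 : ∀ k : E ⊗[S] R, f (jE A E k) = Matrix.scalar (Fin n) k)
    (e : Fin n → Fin n → E ⊗[S] A) (hf3 : ∀ i j, f (e i j) = Matrix.single i j (1 : E ⊗[S] R))
    (W : (E ⊗[S] A)ˣ) (h1 : ∀ i j, t.bc S lam E (e i j) = ↑W * e j i * ↑W⁻¹) (x : E ⊗[S] A) :
    f (t.bc S lam E x) = f ↑W * lamTr (lamE lam E) (f x) * f ↑W⁻¹ := by
  classical
  have hdec : ∀ M : Matrix (Fin n) (Fin n) (E ⊗[S] R),
      f (∑ i, ∑ j, jE A E (M i j) * e i j) = M := by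
    intro M
    rw [map_sum]
    conv_rhs => rw [Matrix.matrix_eq_sum_single M]
    apply Finset.sum_congr rfl
    intro i _
    rw [map_sum]
    apply Finset.sum_congr rfl
    intro j _
    rw [map_mul, hf2, hf3]
    ext a b
    simp [Matrix.scalar_apply, Matrix.diagonal_mul, Matrix.single_apply]
  have hx : x = ∑ i, ∑ j, jE A E (f x i j) * e i j := by
    apply f.injective
    rw [hdec]
  have hT : t.bc S lam E x =
      ↑W * (∑ i, ∑ j, jE A E (lamTr (lamE lam E) (f x) j i) * e j i) * ↑W⁻¹ := by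
    conv_lhs => rw [hx]
    rw [map_sum, Finset.mul_sum, Finset.sum_mul]
    apply Finset.sum_congr rfl
    intro i _
    rw [map_sum, Finset.mul_sum, Finset.sum_mul]
    apply Finset.sum_congr rfl
    intro j _
    rw [bc_mul, bc_jE, h1, lamTr_apply, ← jE_comm]
    simp only [mul_assoc]
    rw [← mul_assoc (jE A E _) (↑W : E ⊗[S] A), jE_comm, mul_assoc]
  rw [hT, map_mul, map_mul]
  congr 2
  rw [Finset.sum_comm]
  exact hdec _

include hn hrank in
theorem HasNF0.exists_iso (h : HasNF0 t E n) :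
    ∃ (f : E ⊗[S] A ≃ₐ[E] Matrix (Fin n) (Fin n) (E ⊗[S] R))
      (V : (Matrix (Fin n) (Fin n) (E ⊗[S] R))ˣ),
      (∀ k : E ⊗[S] R, f (jE A E k) = Matrix.scalar (Fin n) k) ∧
        ∀ x, f (t.bc S lam E x) = V.val * lamTr (lamE lam E) (f x) * V⁻¹.val := by
  obtain ⟨e, W, he, h1⟩ := h
  obtain ⟨f, hf2, hf3⟩ := exists_algEquiv_of_isMU n hn hrank E e he
  exact ⟨f, Units.map f.toAlgHom.toRingHom.toMonoidHom W, hf2,
    fun x => struct_aux t n E f hf2 e hf3 W h1 x⟩

include hn hrank in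
theorem HasNF.exists_iso {ε : E} (h : HasNF t E n ε) :
    ∃ (f : E ⊗[S] A ≃ₐ[E] Matrix (Fin n) (Fin n) (E ⊗[S] R))
      (V : (Matrix (Fin n) (Fin n) (E ⊗[S] R))ˣ),
      (∀ k : E ⊗[S] R, f (jE A E k) = Matrix.scalar (Fin n) k) ∧
        (∀ x, f (t.bc S lam E x) = V.val * lamTr (lamE lam E) (f x) * V⁻¹.val) ∧
          lamTr (lamE lam E) V.val = ε • V.val := by
  obtain ⟨e, W, he, h1, h2⟩ := h
  obtain ⟨f, hf2, hf3⟩ := exists_algEquiv_of_isMU n hn hrank E e he
  refine ⟨f, Units.map f.toAlgHom.toRingHom.toMonoidHom W, hf2,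
    fun x => struct_aux t n E f hf2 e hf3 W h1 x, ?_⟩
  have h3 := struct_aux t n E f hf2 e hf3 W h1 ↑W
  rw [h2, map_smul] at h3
  show lamTr (lamE lam E) (f ↑W) = ε • f ↑W
  have h4 : f (↑W⁻¹ : E ⊗[S] A) * f (↑W : E ⊗[S] A) = 1 := by
    rw [← map_mul, Units.inv_mul, map_one]
  calc lamTr (lamE lam E) (f ↑W)
      = (f (↑W⁻¹ : E ⊗[S] A) * f (↑W : E ⊗[S] A)) * lamTr (lamE lam E) (f ↑W) *
          (f (↑W⁻¹ : E ⊗[S] A) * f (↑W : E ⊗[S] A)) := by rw [h4, one_mul, mul_one]
    _ = f (↑W⁻¹ : E ⊗[S] A) * (f ↑W * lamTr (lamE lam E) (f ↑W) * f ↑W⁻¹) * f ↑W := by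
        simp only [mul_assoc]
    _ = ε • f ↑W := by
        rw [← h3, mul_smul_comm, smul_mul_assoc, h4, one_mul]

end Struct

end Groth.Agent.Lib.Helper52.RamNF
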