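import Mathlib
import Groth.Agent.Lib.Helper52.RamNF
import Groth.Agent.Lib.Helper52.RamSign
import Groth.Agent.Lib.Helper52.InvSign

/-!
# The sign of a normal form at a ramified prime is detected by the sign rank
-/

set_option autoImplicit false
set_option linter.style.haveILetI false
set_option linter.unusedSectionVars false
set_option linter.unusedVariables false
set_option linter.unusedSimpArgs false

namespace Groth.Agent.Lib.Helper52.RamId

open scoped TensorProduct
open AzInv Groth.Agent.Lib.Helper52.AzSplitMU Groth.Agent.Lib.Helper52.RamNF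
  Groth.Agent.Lib.Helper52.InvFix Groth.Agent.Lib.Helper52.InvIso
  Groth.Agent.Lib.Helper52.InvHyper Groth.Agent.Lib.Helper52.InvStd
  Groth.Agent.Lib.Helper52.InvSign Groth.Agent.Lib.Helper52.RamSign

universe u v w

section Fix

variable {C : Type*} [CommRing C] {n : ℕ}

lemma finrank_fix_conj_pos [Nontrivial C] (u : (Matrix (Fin n) (Fin n) C)ˣ)
    (hu : u.val.transpose = u.val) :
    Module.finrank C (fix (conjLin u (trLin C (Fin n)))) =
      n + Fintype.card {p : Fin n × Fin n // p.1 < p.2} := by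
  have e₂ := fixCongr (conjLin u (trLin C (Fin n))) (trLin C (Fin n)) (mulRightEquiv u)
    (fun x => by
      show u.val * (trLin C (Fin n) x) * u⁻¹.val * u.val = trLin C (Fin n) (x * u.val)
      rw [trLin_apply, trLin_apply, Matrix.transpose_mul, hu, Matrix.mul_assoc, Units.inv_mul,
        Matrix.mul_one])
  obtain ⟨hfree, hrank⟩ := finrank_fix_matInv (LinearMap.id : C →ₗ[C] C) (fun _ => rfl) (Fin n)
    (Fin 1) fixIdEquiv
  rw [e₂.finrank_eq, hrank]
  simp

lemma finrank_fix_conj_neg [Nontrivial C] (h2 : C) (hh : h2 * 2 = 1)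
    (u : (Matrix (Fin n) (Fin n) C)ˣ) (hu : u.val.transpose = -u.val) :
    Module.finrank C (fix (conjLin u (trLin C (Fin n)))) =
      Fintype.card {p : Fin n × Fin n // p.1 < p.2} := by
  have e₂ := fixCongr (conjLin u (trLin C (Fin n)))
    (matInv (-(LinearMap.id : C →ₗ[C] C)) (Fin n)) (mulRightEquiv u)
    (fun x => by
      show u.val * (trLin C (Fin n) x) * u⁻¹.val * u.val =
        matInv (-(LinearMap.id : C →ₗ[C] C)) (Fin n) (x * u.val)
      have h3 : matInv (-(LinearMap.id : C →ₗ[C] C)) (Fin n) (x * u.val) =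
          -(x * u.val).transpose := by
        ext i j
        rfl
      rw [h3, trLin_apply, Matrix.transpose_mul, hu, Matrix.mul_assoc, Units.inv_mul,
        Matrix.mul_one, Matrix.neg_mul, neg_neg])
  obtain ⟨hfree, hrank⟩ := finrank_fix_matInv (-(LinearMap.id : C →ₗ[C] C))
    (fun b => by simp) (Fin n) (Fin 0) (fixNegEquiv h2 hh)
  rw [e₂.finrank_eq, hrank]
  simp

end Fix

section Main

variable {S : Type u} {R : Type v} [CommRing S] [CommRing R] [Algebra S R] (lam : R ≃ₐ[S] R)
  {A : Type w} [Ring A] [Algebra S A] [Algebra R A] [IsScalarTower S R A]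
  (t : LamInv R A lam) (n : ℕ) (hn : 0 < n) [IsAzumaya R A]
  (hrank : ∀ p : PrimeSpectrum R, Module.rankAtStalk (R := R) A p = n ^ 2)
  (E : Type u) [CommRing E] [Algebra S E]

/-- the ring map `R → E ⊗ R` -/
noncomputable abbrev ιR : R →+* E ⊗[S] R :=
  (Algebra.TensorProduct.includeRight : R →ₐ[S] E ⊗[S] R).toRingHom

include hn hrank in
theorem sgnRank_of_hasNF {ε : E} (h : HasNF t E n ε)
    (q₁ : Ideal (E ⊗[S] R)) [q₁.IsPrime] (hq₁ : ∀ k, lamE lam E k - k ∈ q₁)
    (q : Ideal R) [q.IsPrime] (hqq : q = q₁.comap (ιR (S := S) (R := R) E))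
    (c₂ : R) (hc₂ : c₂ * 2 = 1) (hlc : lam c₂ = c₂) :
    (ε = 1 → sgnRank t q = n + Fintype.card {p : Fin n × Fin n // p.1 < p.2}) ∧
      (ε = -1 → sgnRank t q = Fintype.card {p : Fin n × Fin n // p.1 < p.2}) := by
  classical
  haveI : Module.Finite R A := IsAzumaya.toFinite
  obtain ⟨f, V, hf2, hfT, hV⟩ := h.exists_iso t n hn hrank E
  let π : E ⊗[S] R →+* q₁.ResidueField := algebraMap (E ⊗[S] R) q₁.ResidueField
  letI : Algebra R q₁.ResidueField := (π.comp (ιR (S := S) (R := R) E)).toAlgebra
  have halg : ∀ r : R, algebraMap R q₁.ResidueField r = π ((1 : E) ⊗ₜ[S] r) := fun r => rfl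
  have hq : ∀ r, lam r - r ∈ q := by
    intro r
    rw [hqq, Ideal.mem_comap]
    have := hq₁ ((1 : E) ⊗ₜ[S] r)
    rwa [lamE_tmul, ← TensorProduct.tmul_sub] at this
  have hπlam : ∀ k, π (lamE lam E k) = π k := by
    intro k
    have h0 : π (lamE lam E k - k) = 0 := Ideal.algebraMap_residueField_eq_zero.mpr (hq₁ k)
    rwa [map_sub, sub_eq_zero] at h0
  have hker : ∀ r : R, r ∉ q → algebraMap R q₁.ResidueField r ≠ 0 := by
    intro r hr h0
    apply hr
    rw [hqq, Ideal.mem_comap]
    exact Ideal.algebraMap_residueField_eq_zero.mp h0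
  let Vk : (Matrix (Fin n) (Fin n) q₁.ResidueField)ˣ :=
    Units.map (π.mapMatrix (m := Fin n)).toMonoidHom V
  have hVk : Vk.val = V.val.map π := rfl
  have hVki : Vk⁻¹.val = V⁻¹.val.map π := rfl
  let ρ : A →ₗ[R] Matrix (Fin n) (Fin n) q₁.ResidueField :=
    { toFun := fun a => (f ((1 : E) ⊗ₜ[S] a)).map π
      map_add' := fun a b => by
        rw [TensorProduct.tmul_add, map_add]
        exact Matrix.map_add π (fun x y => map_add π x y) _ _
      map_smul' := fun r a => by
        have h1 : (1 : E) ⊗ₜ[S] (r • a) = jE A E ((1 : E) ⊗ₜ[S] r) * ((1 : E) ⊗ₜ[S] a) := by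
          rw [jE_tmul, Algebra.TensorProduct.tmul_mul_tmul, one_mul, ← Algebra.smul_def]
        rw [h1, map_mul, hf2]
        ext i j
        simp only [Matrix.map_apply, Matrix.scalar_apply, Matrix.diagonal_mul, map_mul,
          RingHom.id_apply, Matrix.smul_apply]
        rw [Algebra.smul_def, halg] }
  have hρdef : ∀ a, ρ a = (f ((1 : E) ⊗ₜ[S] a)).map π := fun _ => rfl
  have hmem : ∀ x : E ⊗[S] A, (f x).map π ∈ Submodule.span q₁.ResidueField (Set.range ρ) := by
    intro x
    induction x using TensorProduct.induction_on with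
    | zero =>
      rw [map_zero]
      have : (0 : Matrix (Fin n) (Fin n) (E ⊗[S] R)).map π = 0 := by
        ext i j
        simp
      rw [this]
      exact Submodule.zero_mem _
    | tmul c a =>
      have h1 : c ⊗ₜ[S] a = c • ((1 : E) ⊗ₜ[S] a) := by
        rw [TensorProduct.smul_tmul', smul_eq_mul, mul_one]
      rw [h1, map_smul]
      have h2 : (c • f ((1 : E) ⊗ₜ[S] a)).map π =
          π (algebraMap E (E ⊗[S] R) c) • (f ((1 : E) ⊗ₜ[S] a)).map π := by
        ext i j
        simp only [Matrix.map_apply, Matrix.smul_apply]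
        rw [Algebra.smul_def, map_mul, smul_eq_mul]
      rw [h2]
      exact Submodule.smul_mem _ _ (Submodule.subset_span ⟨a, rfl⟩)
    | add x y hx hy =>
      rw [map_add, Matrix.map_add π (fun x y => map_add π x y)]
      exact Submodule.add_mem _ hx hy
  have hspan : Submodule.span q₁.ResidueField (Set.range ρ) = ⊤ := by
    rw [eq_top_iff]
    rintro X -
    rw [Matrix.matrix_eq_sum_single X]
    refine Submodule.sum_mem _ fun i _ => Submodule.sum_mem _ fun j _ => ?_
    have h1 := hmem (f.symm (Matrix.single i j 1))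
    rw [AlgEquiv.apply_symm_apply] at h1
    have h2 : Matrix.single i j (X i j) =
        X i j • (Matrix.single i j (1 : E ⊗[S] R)).map π := by
      ext a b
      simp only [Matrix.single_apply, Matrix.smul_apply, Matrix.map_apply]
      split_ifs <;> simp
    rw [h2]
    exact Submodule.smul_mem _ _ h1
  have hρ : ∀ a, ρ (t a) = conjLin Vk (trLin q₁.ResidueField (Fin n)) (ρ a) := by
    intro a
    rw [conjLin_apply, trLin_apply, hρdef, hρdef, ← LamInv.bc_tmul, hfT,
      Matrix.map_mul, Matrix.map_mul, hVk, hVki]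
    congr 2
    ext i j
    simp only [Matrix.map_apply, lamTr_apply, Matrix.transpose_apply, hπlam]
  have hdim : Module.finrank q₁.ResidueField (Matrix (Fin n) (Fin n) q₁.ResidueField) =
      Module.finrank q.ResidueField (q.ResidueField ⊗[R] A) := by
    have h1 := Module.rankAtStalk_eq (R := R) (M := A) ⟨q, inferInstance⟩
    rw [hrank] at h1
    rw [← h1]
    simp [Module.finrank_matrix, sq]
  have hmain := sgnRank_eq_of_rho (t := t) hq c₂ hc₂ hlc (κ := q₁.ResidueField) hker
    (conjLin Vk (trLin q₁.ResidueField (Fin n))) ρ hspan hρ hdim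
  have hVt : ∀ i j, Vk.val j i = π (algebraMap E (E ⊗[S] R) ε) * Vk.val i j := by
    intro i j
    have h1 := congrFun (congrFun hV i) j
    rw [lamTr_apply, Matrix.smul_apply, Algebra.smul_def] at h1
    have h3 := congrArg π h1
    rw [hπlam, map_mul] at h3
    exact h3
  constructor
  · intro hε
    rw [hmain]
    apply finrank_fix_conj_pos
    ext i j
    rw [Matrix.transpose_apply, hVt, hε, map_one, map_one, one_mul]
  · intro hε
    rw [hmain]
    apply finrank_fix_conj_neg (algebraMap R q₁.ResidueField c₂)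
    · rw [← map_ofNat (algebraMap R q₁.ResidueField) 2, ← map_mul, hc₂, map_one]
    · ext i j
      rw [Matrix.transpose_apply, hVt, hε, map_neg, map_neg, map_one, map_one, neg_one_mul]
      rfl

end Main

end Groth.Agent.Lib.Helper52.RamId
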