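import Mathlib
import Groth.Agent.Lib.Helper52.RamNF
import Groth.Agent.S17357
import Groth.Agent.S15586

/-!
# Existence of normal forms of `lam`-involutions étale locally
-/

set_option autoImplicit false
set_option linter.style.haveILetI false
set_option linter.unusedSectionVars false
set_option linter.unusedVariables false
set_option linter.unusedSimpArgs false

namespace Groth.Agent.Lib.Helper52.RamNFExists

open scoped TensorProduct
open AzInv Groth.Agent.Lib.Helper52.AzSplitMU Groth.Agent.Lib.Helper52.RamNF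

universe u v w

section Cancel

variable {S : Type u} [CommRing S] (E : Type*) [CommRing E] [Algebra S E]
  (E₂ : Type*) [CommRing E₂] [Algebra S E₂] [Algebra E E₂] [IsScalarTower S E E₂]
  (A : Type w) [Ring A] [Algebra S A]

/-- `E₂ ⊗[E] (E ⊗[S] A) ≃ E₂ ⊗[S] A` for a non-commutative `A` -/
noncomputable def cancelBC : E₂ ⊗[E] (E ⊗[S] A) ≃ₐ[E₂] E₂ ⊗[S] A :=
  AlgEquiv.symm <| AlgEquiv.ofLinearEquiv
    (TensorProduct.AlgebraTensorModule.cancelBaseChange S E E₂ E₂ A).symm
    (by simp [Algebra.TensorProduct.one_def]) <|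
      LinearMap.map_mul_of_map_mul_tmul (fun _ _ _ _ ↦ by simp)

lemma cancelBC_tmul (c : E₂) (e : E) (a : A) :
    cancelBC E E₂ A (c ⊗ₜ[E] (e ⊗ₜ[S] a)) = (e • c) ⊗ₜ[S] a :=
  TensorProduct.AlgebraTensorModule.cancelBaseChange_tmul S E E₂ c a e

lemma cancelBC_one_tmul (x : E ⊗[S] A) :
    cancelBC E E₂ A ((1 : E₂) ⊗ₜ[E] x) = bcMap A (IsScalarTower.toAlgHom S E E₂) x := by
  induction x using TensorProduct.induction_on with
  | zero => simp
  | tmul e a =>
    rw [cancelBC_tmul, bcMap_tmul, Algebra.smul_def, mul_one]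
    rfl
  | add x y hx hy => rw [TensorProduct.tmul_add, map_add, hx, hy, map_add]

end Cancel

section Exists

variable {S : Type u} {R : Type v} [CommRing S] [CommRing R] [Algebra S R] (lam : R ≃ₐ[S] R)
  (hlam : ∀ r, lam (lam r) = r) (hfix : RInv.IsFixedRing S R lam.toRingEquiv)
  (h2 : IsUnit (2 : S))
  {A : Type w} [Ring A] [Algebra S A] [Algebra R A] [IsScalarTower S R A]
  (t : LamInv R A lam) (n : ℕ) (hn : 0 < n) [IsAzumaya R A]
  (hrank : ∀ p : PrimeSpectrum R, Module.rankAtStalk (R := R) A p = n ^ 2)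

include hlam hfix h2 in
/-- the fixed ring after base change -/
lemma isFixedRing_lamE (E : Type u) [CommRing E] [Algebra S E] :
    RInv.IsFixedRing E (E ⊗[S] R) (lamE lam E).toRingEquiv := by
  have h := Groth.Agent.S15586.result S R E lam hlam hfix (Or.inr h2)
  have heq : ∀ k : E ⊗[S] R,
      (Algebra.TensorProduct.congr (AlgEquiv.refl : E ≃ₐ[S] E) lam) k = lamE lam E k := by
    intro k
    induction k using TensorProduct.induction_on with
    | zero => simp
    | tmul e r => rw [lamE_tmul]; simp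
    | add x y hx hy => rw [map_add, map_add, hx, hy]
  refine ⟨h.1, fun r => ?_⟩
  have := h.2 r
  rw [← this]
  show lamE lam E r = r ↔ (Algebra.TensorProduct.congr (AlgEquiv.refl : E ≃ₐ[S] E) lam) r = r
  rw [heq]

include hn in
lemma isAzumayaDeg_matrix (K : Type*) [CommRing K] :
    AzInv.IsAzumayaDeg K (Matrix (Fin n) (Fin n) K) n := by
  haveI : Nonempty (Fin n) := ⟨⟨0, hn⟩⟩
  refine ⟨IsAzumaya.matrix K (Fin n), fun p => ?_⟩
  haveI : Nontrivial K :=
    nontrivial_of_ne (0 : K) 1 (fun h => p.2.ne_top ((Ideal.eq_top_iff_one _).mpr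
      (h ▸ p.asIdeal.zero_mem)))
  rw [Module.rankAtStalk_eq_finrank_of_free]
  simp [Module.finrank_matrix, sq]

include hlam hfix h2 hn hrank in
/-- from matrix units over `E` to weak normal form data over an étale cover of `E` -/
theorem hasNF0_of_isMU (E : Type u) [CommRing E] [Algebra S E]
    (e : Fin n → Fin n → E ⊗[S] A) (he : IsMU e) :
    ∃ (E₂ : Type u) (_ : CommRing E₂) (_ : Algebra E E₂) (_ : Algebra.Etale E E₂)
      (_ : Module.FaithfullyFlat E E₂) (_ : Algebra S E₂) (_ : IsScalarTower S E E₂),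
      HasNF0 t E₂ n := by
  classical
  obtain ⟨f, hf2, hf3⟩ := exists_algEquiv_of_isMU n hn hrank E e he
  have hlamK : ∀ k, lamE lam E (lamE lam E k) = k := lamE_lamE lam E hlam
  let τ₀ : LamInv (E ⊗[S] R) (Matrix (Fin n) (Fin n) (E ⊗[S] R)) (lamE lam E) :=
    LamInv.transpose (lamE lam E) (Fin n) hlamK
  have hfs : ∀ k : E ⊗[S] R, f.symm (Matrix.scalar (Fin n) k) = jE A E k := by
    intro k
    rw [← hf2, AlgEquiv.symm_apply_apply]
  have hτs : ∀ k : E ⊗[S] R, τ₀ (Matrix.scalar (Fin n) k) = Matrix.scalar (Fin n) (lamE lam E k) := by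
    intro k
    ext i j
    rw [LamInv.transpose_apply]
    by_cases hij : i = j
    · subst hij; simp
    · simp [Matrix.scalar_apply, Matrix.diagonal_apply, hij, Ne.symm hij]
  let ψ : Matrix (Fin n) (Fin n) (E ⊗[S] R) ≃ₐ[E ⊗[S] R] Matrix (Fin n) (Fin n) (E ⊗[S] R) :=
    { toFun := fun Y => f (t.bc S lam E (f.symm (τ₀ Y)))
      invFun := fun Y => τ₀ (f (t.bc S lam E (f.symm Y)))
      left_inv := fun Y => by
        show τ₀ (f (t.bc S lam E (f.symm (f (t.bc S lam E (f.symm (τ₀ Y))))))) = Y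
        rw [AlgEquiv.symm_apply_apply, bc_bc, AlgEquiv.apply_symm_apply, τ₀.invol]
      right_inv := fun Y => by
        show f (t.bc S lam E (f.symm (τ₀ (τ₀ (f (t.bc S lam E (f.symm Y))))))) = Y
        rw [τ₀.invol, AlgEquiv.symm_apply_apply, bc_bc, AlgEquiv.apply_symm_apply]
      map_mul' := fun X Y => by
        show f (t.bc S lam E (f.symm (τ₀ (X * Y)))) = _
        rw [τ₀.map_mul, map_mul, bc_mul, map_mul]
      map_add' := fun X Y => by
        show f (t.bc S lam E (f.symm (τ₀ (X + Y)))) = _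
        rw [τ₀.map_add, map_add, map_add, map_add]
      commutes' := fun k => by
        show f (t.bc S lam E (f.symm (τ₀ (Matrix.scalar (Fin n) k)))) = Matrix.scalar (Fin n) k
        rw [hτs, hfs, bc_jE, hf2, hlamK] }
  have hψ : ∀ Y, ψ Y = f (t.bc S lam E (f.symm (τ₀ Y))) := fun _ => rfl
  obtain ⟨E₂, _, _, hEt, hFF, u, hu⟩ := Groth.Agent.S17357.result E (E ⊗[S] R) (lamE lam E) hlamK
    (isFixedRing_lamE lam hlam hfix h2 E) (Matrix (Fin n) (Fin n) (E ⊗[S] R)) n hn
    (isAzumayaDeg_matrix n hn _) ψ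
  letI : Algebra S E₂ := ((algebraMap E E₂).comp (algebraMap S E)).toAlgebra
  haveI : IsScalarTower S E E₂ := IsScalarTower.of_algebraMap_eq (fun _ => rfl)
  refine ⟨E₂, inferInstance, inferInstance, hEt, hFF, inferInstance, inferInstance, ?_⟩
  let g : E →ₐ[S] E₂ := IsScalarTower.toAlgHom S E E₂
  let Θ : E₂ ⊗[E] Matrix (Fin n) (Fin n) (E ⊗[S] R) ≃ₐ[E₂] E₂ ⊗[S] A :=
    (Algebra.TensorProduct.congr (AlgEquiv.refl : E₂ ≃ₐ[E₂] E₂) f.symm).trans (cancelBC E E₂ A)
  have hΘ : ∀ Y, Θ ((1 : E₂) ⊗ₜ[E] Y) = bcMap A g (f.symm Y) := by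
    intro Y
    show cancelBC E E₂ A (Algebra.TensorProduct.congr (AlgEquiv.refl : E₂ ≃ₐ[E₂] E₂) f.symm
      ((1 : E₂) ⊗ₜ[E] Y)) = _
    rw [Algebra.TensorProduct.congr_apply, Algebra.TensorProduct.map_tmul]
    show cancelBC E E₂ A ((1 : E₂) ⊗ₜ[E] f.symm Y) = _
    rw [cancelBC_one_tmul]
  refine ⟨fun i j => bcMap A g (e i j), Units.map Θ.toAlgHom.toRingHom.toMonoidHom u,
    he.map (bcMap A g).toRingHom, fun i j => ?_⟩
  have hsingle : τ₀ (Matrix.single j i (1 : E ⊗[S] R)) = Matrix.single i j 1 := by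
    ext a b
    rw [LamInv.transpose_apply]
    simp only [Matrix.single_apply]
    by_cases hab : j = b ∧ i = a
    · rw [if_pos hab, if_pos ⟨hab.2, hab.1⟩, map_one]
    · rw [if_neg hab, if_neg (fun h => hab ⟨h.2, h.1⟩), map_zero]
  have h1 : t.bc S lam E (e i j) = f.symm (ψ (Matrix.single j i 1)) := by
    rw [hψ, AlgEquiv.symm_apply_apply, hsingle, ← hf3, AlgEquiv.symm_apply_apply]
  have h2' : f.symm (Matrix.single j i (1 : E ⊗[S] R)) = e j i := by
    rw [← hf3, AlgEquiv.symm_apply_apply]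
  have h3 := hu ((1 : E₂) ⊗ₜ[E] Matrix.single j i (1 : E ⊗[S] R))
  rw [Algebra.TensorProduct.congr_apply, Algebra.TensorProduct.map_tmul] at h3
  have h4 := congrArg Θ h3
  rw [map_mul, map_mul] at h4
  show t.bc S lam E₂ (bcMap A g (e i j)) = Θ ↑u * bcMap A g (e j i) * Θ ↑u⁻¹
  rw [← bcMap_bc, h1, ← hΘ, ← h2', ← hΘ]
  exact h4

end Exists

section Sign

variable {S : Type u} {R : Type v} [CommRing S] [CommRing R] [Algebra S R] (lam : R ≃ₐ[S] R)
  (hlam : ∀ r, lam (lam r) = r) (hfix : RInv.IsFixedRing S R lam.toRingEquiv)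
  (h2 : IsUnit (2 : S))
  {A : Type w} [Ring A] [Algebra S A] [Algebra R A] [IsScalarTower S R A]
  (t : LamInv R A lam) (n : ℕ) (hn : 0 < n) [IsAzumaya R A]
  (hrank : ∀ p : PrimeSpectrum R, Module.rankAtStalk (R := R) A p = n ^ 2)

include hlam hfix h2 hn hrank in
/-- global existence of weak normal forms -/
theorem exists_hasNF0 :
    ∃ (E : Type u) (_ : CommRing E) (_ : Algebra S E) (_ : Algebra.Etale S E)
      (_ : Module.FaithfullyFlat S E), HasNF0 t E n := by
  obtain ⟨E₁, _, _, hEt₁, hFF₁, e, he⟩ :=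
    Groth.Agent.Lib.Helper52.AzSplitMain.exists_cover_hasMU lam hlam hfix A n hn hrank
  obtain ⟨E₂, _, _, hEt₂, hFF₂, _, _, hNF⟩ := hasNF0_of_isMU lam hlam hfix h2 t n hn hrank E₁ e he
  exact ⟨E₂, inferInstance, inferInstance, Algebra.Etale.comp S E₁ E₂,
    Module.FaithfullyFlat.trans S E₁ E₂, hNF⟩

/-- the base change map on `E ⊗ R` commutes with the involutions -/
lemma map_lamE {E E' : Type*} [CommRing E] [Algebra S E] [CommRing E'] [Algebra S E']
    (g : E →ₐ[S] E') (k : E ⊗[S] R) :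
    Algebra.TensorProduct.map g (AlgHom.id S R) (lamE lam E k) =
      lamE lam E' (Algebra.TensorProduct.map g (AlgHom.id S R) k) := by
  induction k using TensorProduct.induction_on with
  | zero => simp
  | tmul e r =>
    rw [lamE_tmul, Algebra.TensorProduct.map_tmul, Algebra.TensorProduct.map_tmul, lamE_tmul]
    rfl
  | add x y hx hy => rw [map_add, map_add, hx, hy, map_add, map_add]

/-- normalising the sign with a unit `c` of `E ⊗ R` -/
lemma hasNF_of_unit (E : Type*) [CommRing E] [Algebra S E] (e : Fin n → Fin n → E ⊗[S] A)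
    (W : (E ⊗[S] A)ˣ) (he : IsMU e) (h1 : ∀ i j, t.bc S lam E (e i j) = ↑W * e j i * ↑W⁻¹)
    (k₀ : E ⊗[S] R) (hTW : t.bc S lam E (↑W : E ⊗[S] A) = ↑W * jE A E k₀)
    (c c' : E ⊗[S] R) (hc : c * c' = 1) (ε : E) (hcε : k₀ * lamE lam E c = ε • c) :
    HasNF t E n ε := by
  have hc' : c' * c = 1 := by rw [mul_comm, hc]
  let D : (E ⊗[S] A)ˣ := ⟨jE A E c, jE A E c', by rw [← map_mul, hc, map_one],
    by rw [← map_mul, hc', map_one]⟩
  have hD : (↑D : E ⊗[S] A) = jE A E c := rfl
  have hDi : (↑D⁻¹ : E ⊗[S] A) = jE A E c' := rfl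
  refine ⟨e, D * W, he, fun i j => ?_, ?_⟩
  · rw [h1, mul_inv_rev, Units.val_mul, Units.val_mul, hD, hDi]
    calc ↑W * e j i * ↑W⁻¹ = jE A E (c * c') * (↑W * e j i * ↑W⁻¹) := by
          rw [hc, map_one, one_mul]
      _ = jE A E c * ↑W * e j i * (↑W⁻¹ * jE A E c') := by
          have hcm := jE_comm (A := A) E c' ((↑W : E ⊗[S] A) * e j i * (↑W⁻¹ : E ⊗[S] A))
          rw [map_mul, mul_assoc, hcm]
          simp only [mul_assoc]
  · rw [Units.val_mul, bc_mul, hTW, hD, bc_jE, mul_assoc, ← map_mul, hcε, map_smul, mul_smul_comm,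
      jE_comm E]

include hlam hfix h2 hn hrank in
/-- Zariski locally the sign can be normalised to `1` or `-1` -/
theorem exists_sign (E : Type u) [CommRing E] [Algebra S E] (h : HasNF0 t E n) :
    ∃ a b : E, a + b = 4 ∧ HasNF t (Localization.Away a) n 1 ∧
      HasNF t (Localization.Away b) n (-1) := by
  classical
  haveI : Nonempty (Fin n) := ⟨⟨0, hn⟩⟩
  obtain ⟨e, W, he, h1⟩ := h
  obtain ⟨f, hf2, hf3⟩ := exists_algEquiv_of_isMU n hn hrank E e he
  have hfixK := isFixedRing_lamE lam hlam hfix h2 E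
  have hlamK : ∀ k, lamE lam E (lamE lam E k) = k := lamE_lamE lam E hlam
  obtain ⟨z, hz⟩ : ∃ z : E ⊗[S] A, z = ↑W⁻¹ * t.bc S lam E ↑W := ⟨_, rfl⟩
  have hTinv' : t.bc S lam E (↑W : E ⊗[S] A) * t.bc S lam E (↑W⁻¹ : E ⊗[S] A) = 1 :=
    bc_unit_inv' lam t E W
  have hcomm : ∀ i j, z * e i j = e i j * z := by
    intro i j
    have h3 : e i j = t.bc S lam E (↑W⁻¹ : E ⊗[S] A) * (↑W * e i j * ↑W⁻¹) *
        t.bc S lam E (↑W : E ⊗[S] A) := by
      conv_lhs => rw [← bc_bc lam t E (e i j), h1, bc_mul, bc_mul, h1]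
      simp only [mul_assoc]
    calc z * e i j = ↑W⁻¹ * t.bc S lam E (↑W : E ⊗[S] A) *
          (t.bc S lam E (↑W⁻¹ : E ⊗[S] A) * (↑W * e i j * ↑W⁻¹) *
            t.bc S lam E (↑W : E ⊗[S] A)) := by rw [← h3, hz]
      _ = ↑W⁻¹ * (t.bc S lam E (↑W : E ⊗[S] A) * t.bc S lam E (↑W⁻¹ : E ⊗[S] A)) * ↑W * e i j *
            (↑W⁻¹ * t.bc S lam E (↑W : E ⊗[S] A)) := by simp only [mul_assoc]
      _ = e i j * z := by rw [hTinv', mul_one, Units.inv_mul, one_mul, hz]
  obtain ⟨k₀, hk₀⟩ := Matrix.mem_range_scalar_of_commute_single (M := f z) (fun i j _ => by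
    show Matrix.single i j 1 * f z = f z * Matrix.single i j 1
    rw [← hf3, ← map_mul, ← map_mul, hcomm])
  have hzk : z = jE A E k₀ := f.injective (by rw [hf2, hk₀])
  have hTW : t.bc S lam E (↑W : E ⊗[S] A) = ↑W * jE A E k₀ := by
    rw [← hzk, hz, ← mul_assoc, Units.mul_inv, one_mul]
  have hjinj : Function.Injective (jE (S := S) (R := R) A E) := by
    intro x y hxy
    have := congrArg f hxy
    rw [hf2, hf2] at this
    exact Matrix.scalar_inj.mp this
  have hk : lamE lam E k₀ * k₀ = 1 := by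
    apply hjinj
    have h5 : (↑W : E ⊗[S] A) = ↑W * jE A E (lamE lam E k₀ * k₀) := by
      conv_lhs => rw [← bc_bc lam t E (↑W : E ⊗[S] A), hTW, bc_mul, bc_jE, hTW]
      rw [map_mul, ← mul_assoc, jE_comm E (lamE lam E k₀), mul_assoc]
    have h6 := congrArg (fun y => (↑W⁻¹ : E ⊗[S] A) * y) h5
    simp only [Units.inv_mul, ← mul_assoc, one_mul] at h6
    rw [map_one]
    exact h6.symm
  -- the norms
  have hnorm : ∀ c : E ⊗[S] R, ∃ a : E, algebraMap E (E ⊗[S] R) a = c * lamE lam E c := by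
    intro c
    have : lamE lam E (c * lamE lam E c) = c * lamE lam E c := by
      rw [map_mul, hlamK, mul_comm]
    exact ((hfixK.2 _).mp this)
  obtain ⟨a, ha⟩ := hnorm (1 + k₀)
  obtain ⟨b, hb⟩ := hnorm (1 - k₀)
  have key : ∀ (s : E) (a : E), s * s = 1 →
      algebraMap E (E ⊗[S] R) a = (1 + s • k₀) * lamE lam E (1 + s • k₀) →
      HasNF t (Localization.Away a) n (algebraMap E (Localization.Away a) s) := by
    intro s a hs ha
    let g : E →ₐ[S] Localization.Away a := IsScalarTower.toAlgHom S E (Localization.Away a)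
    let G : E ⊗[S] R →ₐ[S] Localization.Away a ⊗[S] R :=
      Algebra.TensorProduct.map g (AlgHom.id S R)
    have hGalg : ∀ x : E, G (algebraMap E (E ⊗[S] R) x) =
        algebraMap (Localization.Away a) (Localization.Away a ⊗[S] R) (g x) := by
      intro x
      rw [Algebra.TensorProduct.algebraMap_apply, Algebra.TensorProduct.algebraMap_apply]
      show Algebra.TensorProduct.map g (AlgHom.id S R) (x ⊗ₜ[S] (1 : R)) = _
      rw [Algebra.TensorProduct.map_tmul]
      rfl
    have hGsmul : ∀ (x : E) (k : E ⊗[S] R), G (x • k) = g x • G k := by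
      intro x k
      rw [Algebra.smul_def, map_mul, hGalg, ← Algebra.smul_def]
    refine hasNF_of_unit lam t n (Localization.Away a) (fun i j => bcMap A g (e i j))
      (Units.map (bcMap A g).toRingHom.toMonoidHom W) (he.map (bcMap A g).toRingHom)
      (fun i j => ?_) (G k₀) ?_ (G (1 + s • k₀))
      (lamE lam _ (G (1 + s • k₀)) * algebraMap (Localization.Away a) (Localization.Away a ⊗[S] R)
        (IsLocalization.Away.invSelf (S := Localization.Away a) a)) ?_ _ ?_
    · show t.bc S lam _ (bcMap A g (e i j)) = bcMap A g ↑W * bcMap A g (e j i) * bcMap A g ↑W⁻¹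
      rw [← bcMap_bc, h1, map_mul, map_mul]
    · show t.bc S lam _ (bcMap A g ↑W) = bcMap A g ↑W * jE A _ (G k₀)
      rw [← bcMap_bc, hTW, map_mul, bcMap_jE]
    · rw [← mul_assoc, ← map_lamE, ← map_mul, ← ha, hGalg, ← map_mul]
      have : g a * IsLocalization.Away.invSelf (S := Localization.Away a) a = 1 :=
        IsLocalization.Away.mul_invSelf a
      rw [this, map_one]
    · rw [← map_lamE, ← map_mul]
      show G (k₀ * lamE lam E (1 + s • k₀)) = g s • G (1 + s • k₀)
      rw [← hGsmul]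
      congr 1
      rw [map_add, map_one, map_smul, mul_add, mul_one, mul_smul_comm, mul_comm k₀, hk, smul_add,
        smul_smul, hs, one_smul, add_comm]
  refine ⟨a, b, ?_, ?_, ?_⟩
  · apply hfixK.1
    rw [map_add, ha, hb, map_sub, map_add, map_one, map_ofNat]
    linear_combination 2 * hk
  · have := key 1 a (one_mul 1) (by rw [one_smul, ha])
    rwa [map_one] at this
  · have := key (-1) b (by ring) (by rw [neg_smul, one_smul, ← sub_eq_add_neg, hb])
    rwa [map_neg, map_one] at this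

end Sign

end Groth.Agent.Lib.Helper52.RamNFExists
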