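import Mathlib
import Groth.Agent.Lib.Helper52.RamNF
import Groth.Agent.Lib.Helper52.RamMark

/-!
# The standard form of `M_{2m}(A)` with its involution, from a normal form of `(A, t)`
-/

set_option autoImplicit false
set_option linter.style.haveILetI false
set_option linter.unusedSectionVars false
set_option linter.unusedVariables false
set_option linter.unusedSimpArgs false

namespace Groth.Agent.Lib.Helper52.RamStd

open scoped TensorProduct
open AzInv Groth.Agent.Lib.Helper52.AzSplitMU Groth.Agent.Lib.Helper52.RamNF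
  Groth.Agent.Lib.Helper52.InvFix Groth.Agent.Lib.Helper52.InvIso
  Groth.Agent.Lib.Helper52.InvHyper Groth.Agent.Lib.Helper52.RamMark

universe u v w

section TrK

variable {S : Type u} {R : Type v} [CommRing S] [CommRing R] [Algebra S R] (lam : R ≃ₐ[S] R)
  (hlam : ∀ r, lam (lam r) = r) (E : Type*) [CommRing E] [Algebra S E] (n : ℕ)

/-- the `lam`-transpose on `M_n(E ⊗ R)` as an `E`-linear map -/
noncomputable def trK : Matrix (Fin n) (Fin n) (E ⊗[S] R) →ₗ[E] Matrix (Fin n) (Fin n) (E ⊗[S] R) where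
  toFun M := lamTr (lamE lam E) M
  map_add' M N := by ext i j; simp
  map_smul' c M := by ext i j; simp [lamTr_apply]

lemma trK_apply (M : Matrix (Fin n) (Fin n) (E ⊗[S] R)) (i j : Fin n) :
    trK lam E n M i j = lamE lam E (M j i) := rfl

lemma trK_eq (M : Matrix (Fin n) (Fin n) (E ⊗[S] R)) : trK lam E n M = lamTr (lamE lam E) M := rfl

include hlam in
lemma trK_mul (M N : Matrix (Fin n) (Fin n) (E ⊗[S] R)) :
    trK lam E n (M * N) = trK lam E n N * trK lam E n M :=
  (LamInv.transpose (lamE lam E) (Fin n) (lamE_lamE lam E hlam)).map_mul M N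

include hlam in
lemma trK_one : trK lam E n 1 = 1 :=
  (LamInv.transpose (lamE lam E) (Fin n) (lamE_lamE lam E hlam)).map_one

end TrK

section Std

variable {S : Type u} {R : Type v} [CommRing S] [CommRing R] [Algebra S R] (lam : R ≃ₐ[S] R)
  (hlam : ∀ r, lam (lam r) = r)
  {A : Type w} [Ring A] [Algebra S A] [Algebra R A] [IsScalarTower S R A]
  (t : LamInv R A lam) (n : ℕ) (hn : 0 < n) [IsAzumaya R A]
  (hrank : ∀ p : PrimeSpectrum R, Module.rankAtStalk (R := R) A p = n ^ 2)
  (E : Type u) [CommRing E] [Algebra S E]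

/-- the marks in the standard model -/
noncomputable def stdMark (m : ℕ) (r : R) :
    Matrix (Fin 2) (Fin 2) (Matrix (Fin m) (Fin m) (Matrix (Fin n) (Fin n) (E ⊗[S] R))) :=
  Matrix.scalar (Fin 2) (Matrix.scalar (Fin m) (Matrix.scalar (Fin n) ((1 : E) ⊗ₜ[S] r)))

lemma algebraMap_matrix2 (m : ℕ) (r : R) :
    algebraMap R (Matrix (Fin 2) (Fin 2) (Matrix (Fin m) (Fin m) A)) r =
      Matrix.scalar (Fin 2) (Matrix.scalar (Fin m) (algebraMap R A r)) := by
  ext a b i j
  simp only [Matrix.algebraMap_matrix_apply, Matrix.scalar_apply, Matrix.diagonal_apply]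
  by_cases hab : a = b
  · rw [if_pos hab, if_pos hab, Matrix.algebraMap_matrix_apply, Matrix.diagonal_apply]
  · rw [if_neg hab, if_neg hab]

include hlam hn hrank in
/-- the standard form of `E ⊗ M_{2m}(A)` -/
theorem mIso_std {ε : E} (hε : ε * ε = 1) (h : HasNF t E n ε) (m : ℕ) (i h' : E)
    (hi : i * i = -1) (hh : h' * 2 = 1) :
    MIso E (((t.matrix (Fin (2 * m))).linS S lam).baseChange E)
      (conjLin (D₂ (B := Matrix (Fin m) (Fin m) (Matrix (Fin n) (Fin n) (E ⊗[S] R))) ε hε)
        (matInv (matInv (trK lam E n) (Fin m)) (Fin 2)))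
      (fun r : R => (1 : E) ⊗ₜ[S] algebraMap R (Matrix (Fin (2 * m)) (Fin (2 * m)) A) r)
      (stdMark n E m) := by
  classical
  obtain ⟨f, V, hf2, hfT, hV⟩ := h.exists_iso t n hn hrank E
  set σ := t.linS S lam with hσ
  -- step 0
  have s0 : MIso E (((t.matrix (Fin (2 * m))).linS S lam).baseChange E)
      ((matInv (matInv σ (Fin m)) (Fin 2)).baseChange E)
      (fun r : R => (1 : E) ⊗ₜ[S] algebraMap R (Matrix (Fin (2 * m)) (Fin (2 * m)) A) r)
      (fun r : R => (1 : E) ⊗ₜ[S]
        Matrix.scalar (Fin 2) (Matrix.scalar (Fin m) (algebraMap R A r))) := by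
    apply mIso_baseChange E _ _ ((twoMul R A m).restrictScalars S)
    · intro M
      ext a b i j
      rfl
    · intro r
      rw [AlgEquiv.restrictScalars_apply, AlgEquiv.commutes, algebraMap_matrix2]
  have s1 := mIso_matTensor (R := S) E (Fin 2) (matInv σ (Fin m))
    (fun r : R => Matrix.scalar (Fin m) (algebraMap R A r))
  have s2 := (mIso_matTensor (R := S) E (Fin m) σ (fun r : R => algebraMap R A r)).matrix (Fin 2)
  have hNF : MIso E (σ.baseChange E) (conjLin V (trK lam E n))
      (fun r : R => (1 : E) ⊗ₜ[S] algebraMap R A r)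
      (fun r : R => Matrix.scalar (Fin n) ((1 : E) ⊗ₜ[S] r)) := by
    refine ⟨f, fun x => ?_, fun r => ?_⟩
    · rw [conjLin_apply, trK_eq]
      exact hfT x
    · show f ((1 : E) ⊗ₜ[S] algebraMap R A r) = Matrix.scalar (Fin n) ((1 : E) ⊗ₜ[S] r)
      rw [← hf2, jE_tmul]
  have s3 := (hNF.matrix (Fin m)).matrix (Fin 2)
  have s4 : MIso E (matInv (matInv (conjLin V (trK lam E n)) (Fin m)) (Fin 2))
      (matInv (conjLin (scalarUnit V (Fin m)) (matInv (trK lam E n) (Fin m))) (Fin 2))
      (stdMark n E m) (stdMark n E m) := by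
    apply MIso.of_eq _ (fun _ => rfl)
    intro M
    refine Matrix.ext fun a b => ?_
    rw [matInv_apply, matInv_apply]
    exact matInv_conjLin_scalar _ V (Fin m) (M b a)
  have hV' : trK lam E n V.val = ε • V.val := hV
  have s5 := hyperM (matInv (trK lam E n) (Fin m))
    (matInv_mul (trK lam E n) (Fin m) (trK_mul lam hlam E n))
    (matInv_one (trK lam E n) (Fin m) (trK_one lam hlam E n))
    (scalarUnit V (Fin m)) ε hε (matInv_scalarUnit (trK lam E n) V (Fin m) ε hV') i h' hi hh
    (fun r : R => Matrix.scalar (Fin m) (Matrix.scalar (Fin n) ((1 : E) ⊗ₜ[S] r)))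
    (fun r x => Matrix.scalar_comm _ (fun r' => Matrix.scalar_commute _
      (fun r'' => Commute.all _ _) r') x)
  exact s0.trans (s1.trans (s2.trans (s3.trans (s4.trans s5))))

end Std

section Two

variable {S : Type u} {R : Type v} [CommRing S] [CommRing R] [Algebra S R] (lam : R ≃ₐ[S] R)
  (hlam : ∀ r, lam (lam r) = r)
  {A : Type w} [Ring A] [Algebra S A] [Algebra R A] [IsScalarTower S R A]
  (t : LamInv R A lam) (n : ℕ) (hn : 0 < n) [IsAzumaya R A]
  (hrank : ∀ p : PrimeSpectrum R, Module.rankAtStalk (R := R) A p = n ^ 2)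
  {A' : Type*} [Ring A'] [Algebra S A'] [Algebra R A'] [IsScalarTower S R A']
  (t' : LamInv R A' lam) (n' : ℕ) (hn' : 0 < n') [IsAzumaya R A']
  (hrank' : ∀ p : PrimeSpectrum R, Module.rankAtStalk (R := R) A' p = n' ^ 2)
  (E : Type u) [CommRing E] [Algebra S E]

include hlam hn hrank hn' hrank' in
/-- two algebras with involution having normal forms of the same sign over `E` have isomorphic
matrix algebras over `E` -/
theorem mIso_of_hasNF {ε : E} (hε : ε * ε = 1) (h : HasNF t E n ε) (h' : HasNF t' E n' ε)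
    (i h₂ : E) (hi : i * i = -1) (hh : h₂ * 2 = 1) :
    MIso E (((t.matrix (Fin (2 * n'))).linS S lam).baseChange E)
      (((t'.matrix (Fin (2 * n))).linS S lam).baseChange E)
      (fun r : R => (1 : E) ⊗ₜ[S] algebraMap R (Matrix (Fin (2 * n')) (Fin (2 * n')) A) r)
      (fun r : R => (1 : E) ⊗ₜ[S] algebraMap R (Matrix (Fin (2 * n)) (Fin (2 * n)) A') r) := by
  have hA := mIso_std lam hlam t n hn hrank E hε h n' i h₂ hi hh
  have hA' := mIso_std lam hlam t' n' hn' hrank' E hε h' n i h₂ hi hh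
  have hsw : MIso E
      (conjLin (D₂ (B := Matrix (Fin n') (Fin n') (Matrix (Fin n) (Fin n) (E ⊗[S] R))) ε hε)
        (matInv (matInv (trK lam E n) (Fin n')) (Fin 2)))
      (conjLin (D₂ (B := Matrix (Fin n) (Fin n) (Matrix (Fin n') (Fin n') (E ⊗[S] R))) ε hε)
        (matInv (matInv (trK lam E n') (Fin n)) (Fin 2)))
      (stdMark n E n') (stdMark n' E n) := by
    apply mIso_D₂ _ _ (swapMN E (E ⊗[S] R) n' n)
    · intro X
      ext i j a b
      rfl
    · intro r
      ext i j a b
      simp only [swapMN_apply, Matrix.scalar_apply, Matrix.diagonal_apply]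
      split_ifs <;> simp_all
  exact hA.trans (hsw.trans hA'.symm)

end Two

end Groth.Agent.Lib.Helper52.RamStd
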