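import Mathlib
import Groth.Agent.Lib.Helper52.RamFwd
import Groth.Agent.Lib.Helper52.RamNFExists
import Groth.Agent.Lib.Helper52.RamId
import Groth.Agent.Lib.Helper52.RamStd
import Groth.Agent.Lib.Helper52.RamGlue
import Groth.Agent.Lib.Helper52.InvSplitExists

/-!
# Same type of `lam`-involutions is detected by the signs on the ramification locus
-/

set_option autoImplicit false
set_option linter.style.haveILetI false
set_option linter.unusedSectionVars false
set_option linter.unusedVariables false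
set_option linter.unusedSimpArgs false

namespace Groth.Agent.Lib.Helper52.RamFinal

open scoped TensorProduct
open AzInv Groth.Agent.Lib.Helper52.AzSplitMU Groth.Agent.Lib.Helper52.RamNF
  Groth.Agent.Lib.Helper52.InvFix Groth.Agent.Lib.Helper52.RamSign
  Groth.Agent.Lib.Helper52.RamFwd Groth.Agent.Lib.Helper52.RamMark

universe u v w w'

section Arith

lemma two_mul_choose (n : ℕ) : 2 * Nat.choose (n + 1) 2 = n * (n + 1) := by
  induction n with
  | zero => simp
  | succ k ih =>
    rw [Nat.choose_succ_succ' (k + 1) 1, Nat.choose_one_right, mul_add, ih]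
    ring

lemma choose_eq_add_card (n : ℕ) :
    Nat.choose (n + 1) 2 = n + Fintype.card {p : Fin n × Fin n // p.1 < p.2} := by
  have h1 := two_mul_choose n
  have h2 := card_lt_pairs (Fin n)
  rw [Fintype.card_fin] at h2
  nlinarith

/-- the arithmetic of the forward direction -/
lemma arith (m m' n n' s s' c c' : ℕ) (hm : 0 < m) (hm' : 0 < m')
    (hs : m * s + c * n ^ 2 = m' * s' + c' * n' ^ 2)
    (hc : 2 * c + m = m * m) (hc' : 2 * c' + m' = m' * m')
    (hN : m * m * n ^ 2 = m' * m' * n' ^ 2) :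
    s = Nat.choose (n + 1) 2 ↔ s' = Nat.choose (n' + 1) 2 := by
  have hT := two_mul_choose n
  have hT' := two_mul_choose n'
  have hmn : m * n = m' * n' := by
    have h1 : (m * n) ^ 2 = (m' * n') ^ 2 := by nlinarith
    exact Nat.pow_left_injective (n := 2) (by norm_num) h1
  zify at *
  constructor
  · intro h
    have h3 : (m' : ℤ) * (2 * s' - 2 * (Nat.choose (n' + 1) 2 : ℤ)) = 0 := by
      linear_combination (-2) * hs + 2 * (m : ℤ) * h + (m : ℤ) * hT + (n : ℤ) ^ 2 * hc -
        (n' : ℤ) ^ 2 * hc' - (m' : ℤ) * hT' + hmn + hN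
    have h4 := (mul_eq_zero.mp h3).resolve_left (ne_of_gt hm')
    linarith
  · intro h
    have h3 : (m : ℤ) * (2 * s - 2 * (Nat.choose (n + 1) 2 : ℤ)) = 0 := by
      linear_combination 2 * hs + 2 * (m' : ℤ) * h + (m' : ℤ) * hT' + (n' : ℤ) ^ 2 * hc' -
        (n : ℤ) ^ 2 * hc - (m : ℤ) * hT - hmn - hN
    have h4 := (mul_eq_zero.mp h3).resolve_left (ne_of_gt hm)
    linarith

end Arith

section Forward

variable {S : Type u} {R : Type v} [CommRing S] [CommRing R] [Algebra S R]
  (lam : R ≃ₐ[S] R) (hlam : ∀ r, lam (lam r) = r)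
  {A : Type w} [Ring A] [Algebra S A] [Algebra R A] [IsScalarTower S R A]
  {A' : Type w'} [Ring A'] [Algebra S A'] [Algebra R A'] [IsScalarTower S R A']
  (n n' : ℕ) (hn : 0 < n) (hn' : 0 < n') [IsAzumaya R A] [IsAzumaya R A']
  (hrank : ∀ p : PrimeSpectrum R, Module.rankAtStalk (R := R) A p = n ^ 2)
  (hrank' : ∀ p : PrimeSpectrum R, Module.rankAtStalk (R := R) A' p = n' ^ 2)
  (t : LamInv R A lam) (t' : LamInv R A' lam)

instance flat_fun {ι : Type*} [Fintype ι] (B : Type*) [AddCommGroup B] [Module R B]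
    [Module.Flat R B] : Module.Flat R (ι → B) := by
  classical
  exact Module.Flat.of_linearEquiv (DirectSum.linearEquivFunOnFintype R ι (fun _ => B)).symm

lemma rankAtStalk_matrix {B : Type*} [AddCommGroup B] [Module R B] [Module.Finite R B]
    [Module.Flat R B] (m N : ℕ) (hB : ∀ p : PrimeSpectrum R, Module.rankAtStalk (R := R) B p = N)
    (p : PrimeSpectrum R) :
    Module.rankAtStalk (R := R) (Matrix (Fin m) (Fin m) B) p = m * m * N := by
  show Module.rankAtStalk (R := R) (Fin m → Fin m → B) p = m * m * N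
  rw [Module.rankAtStalk_pi, finsum_eq_sum_of_fintype]
  simp only [Module.rankAtStalk_pi, finsum_eq_sum_of_fintype, hB, Finset.sum_const,
    Finset.card_univ, Fintype.card_fin, smul_eq_mul]
  ring

include hn hn' hrank hrank' in
theorem forward (c₂ : R) (hc₂ : c₂ * 2 = 1) (hlc : lam c₂ = c₂)
    (hST : SameType S lam t t') (q : PrimeSpectrum R) (hq : ∀ r : R, lam r - r ∈ q.asIdeal) :
    sgnRank t q.asIdeal = Nat.choose (n + 1) 2 ↔ sgnRank t' q.asIdeal = Nat.choose (n' + 1) 2 := by
  classical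
  haveI : Module.Finite R A := IsAzumaya.toFinite
  haveI : Module.Finite R A' := IsAzumaya.toFinite
  obtain ⟨m, m', hm, hm', S₁, _, _, hEt, hFF, f, hf₁, hf₂⟩ := hST
  haveI : Module.Flat R (Matrix (Fin m) (Fin m) A) :=
    inferInstanceAs (Module.Flat R (Fin m → Fin m → A))
  haveI : Module.Flat R (Matrix (Fin m') (Fin m') A') :=
    inferInstanceAs (Module.Flat R (Fin m' → Fin m' → A'))
  have hN := rankAtStalk_matrix (R := R) (B := A) m (n ^ 2) hrank
  have hN' := rankAtStalk_matrix (R := R) (B := A') m' (n' ^ 2) hrank'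
  have hNN := rank_eq_of_locIso S₁ f hf₁ _ _ hN hN' q
  have hs := sgnRank_eq_of_locIso lam (t.matrix (Fin m)) (t'.matrix (Fin m')) S₁ f hf₁ hf₂
    q.asIdeal hq c₂ hc₂ hlc (m * m * n ^ 2) hN (fun p => by rw [hN', hNN])
  rw [sgnRank_matrix t q.asIdeal hq c₂ hc₂ hlc m, sgnRank_matrix t' q.asIdeal hq c₂ hc₂ hlc m']
    at hs
  have hd : Module.finrank q.asIdeal.ResidueField (q.asIdeal.ResidueField ⊗[R] A) = n ^ 2 := by
    have h1 := Module.rankAtStalk_eq (R := R) (M := A) q
    rw [hrank] at h1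
    exact h1.symm
  have hd' : Module.finrank q.asIdeal.ResidueField (q.asIdeal.ResidueField ⊗[R] A') = n' ^ 2 := by
    have h1 := Module.rankAtStalk_eq (R := R) (M := A') q
    rw [hrank'] at h1
    exact h1.symm
  rw [hd, hd'] at hs
  have hc := card_lt_pairs (Fin m)
  have hc' := card_lt_pairs (Fin m')
  rw [Fintype.card_fin] at hc hc'
  exact arith m m' n n' _ _ _ _ hm hm' hs hc hc' hNN

end Forward

section Away

variable {S : Type u} {R : Type v} [CommRing S] [CommRing R] [Algebra S R] {lam : R ≃ₐ[S] R}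
  {A : Type w} [Ring A] [Algebra S A] [Algebra R A] [IsScalarTower S R A] {t : LamInv R A lam}
  {n : ℕ} {E : Type u} [CommRing E] [Algebra S E]

lemma HasNF.of_away {a ε : E} (h : HasNF t (Localization.Away a) n
      (algebraMap E (Localization.Away a) ε))
    {E' : Type*} [CommRing E'] [Algebra S E'] (g : E →ₐ[S] E') (hg : IsUnit (g a)) :
    HasNF t E' n (g ε) := by
  have h1 := h.map (IsLocalization.Away.liftAlgHom (S := Localization.Away a) a (f := g) hg)
  rwa [IsLocalization.Away.liftAlgHom_apply, IsLocalization.Away.lift_eq] at h1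

end Away

section Integral

open Polynomial

variable {S : Type u} {R : Type v} [CommRing S] [CommRing R] [Algebra S R] (lam : R ≃ₐ[S] R)
  (hlam : ∀ r, lam (lam r) = r) (E : Type u) [CommRing E] [Algebra S E]

include hlam in
lemma isIntegral_lamE (hfixK : RInv.IsFixedRing E (E ⊗[S] R) (lamE lam E).toRingEquiv) :
    Algebra.IsIntegral E (E ⊗[S] R) := by
  have hlamK := lamE_lamE lam E hlam
  constructor
  intro k
  have htr : lamE lam E (k + lamE lam E k) = k + lamE lam E k := by
    rw [map_add, hlamK, add_comm]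
  have hnm : lamE lam E (k * lamE lam E k) = k * lamE lam E k := by
    rw [map_mul, hlamK, mul_comm]
  obtain ⟨a, ha⟩ := (hfixK.2 _).mp htr
  obtain ⟨b, hb⟩ := (hfixK.2 _).mp hnm
  refine ⟨X ^ 2 + (C (-a) * X + C b), monic_X_pow_add
    ((degree_linear_le).trans_lt (by norm_num)), ?_⟩
  simp only [eval₂_add, eval₂_mul, eval₂_pow, eval₂_X, eval₂_C, map_neg, eval₂_neg]
  rw [ha, hb]
  ring

end Integral

section Local

open Groth.Agent.Lib.Helper52.RamNFExists Groth.Agent.Lib.Helper52.RamId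
  Groth.Agent.Lib.Helper52.RamStd

variable {S : Type u} {R : Type v} [CommRing S] [CommRing R] [Algebra S R]
  (lam : R ≃ₐ[S] R) (hlam : ∀ r, lam (lam r) = r)
  (hfix : RInv.IsFixedRing S R lam.toRingEquiv) (h2 : IsUnit (2 : S))
  {A : Type w} [Ring A] [Algebra S A] [Algebra R A] [IsScalarTower S R A]
  {A' : Type w'} [Ring A'] [Algebra S A'] [Algebra R A'] [IsScalarTower S R A']
  (n n' : ℕ) (hn : 0 < n) (hn' : 0 < n') [IsAzumaya R A] [IsAzumaya R A']
  (hrank : ∀ p : PrimeSpectrum R, Module.rankAtStalk (R := R) A p = n ^ 2)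
  (hrank' : ∀ p : PrimeSpectrum R, Module.rankAtStalk (R := R) A' p = n' ^ 2)
  (t : LamInv R A lam) (t' : LamInv R A' lam)
  (H : ∀ q : PrimeSpectrum R, (∀ r : R, lam r - r ∈ q.asIdeal) →
    (sgnRank t q.asIdeal = Nat.choose (n + 1) 2 ↔ sgnRank t' q.asIdeal = Nat.choose (n' + 1) 2))

include hlam hfix h2 hn hn' hrank hrank' H in
/-- opposite signs cannot occur at a ramified point -/
lemma no_opposite (c₂ : R) (hc₂ : c₂ * 2 = 1) (hlc : lam c₂ = c₂)
    (E : Type u) [CommRing E] [Algebra S E] (ε ε' : E)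
    (hεε' : (ε = 1 ∧ ε' = -1) ∨ (ε = -1 ∧ ε' = 1))
    (h : HasNF t E n ε) (h' : HasNF t' E n' ε') (P : Ideal E) [P.IsPrime]
    (hall : ∀ (k : E ⊗[S] R) (d : E),
      algebraMap E (E ⊗[S] R) d = (lamE lam E k - k) * (lamE lam E k - k) → d ∈ P) : False := by
  have hfixK := isFixedRing_lamE lam hlam hfix h2 E
  have hlamK := lamE_lamE lam E hlam
  haveI := isIntegral_lamE lam hlam E hfixK
  obtain ⟨q₁, -, hq₁prime, hq₁P⟩ := Ideal.exists_ideal_over_prime_of_isIntegral P
    (⊥ : Ideal (E ⊗[S] R)) (by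
      intro x hx
      rw [Ideal.mem_comap, Ideal.mem_bot] at hx
      have : x = 0 := hfixK.1 (by rw [hx, map_zero])
      rw [this]
      exact P.zero_mem)
  haveI := hq₁prime
  have hq₁ram : ∀ k, lamE lam E k - k ∈ q₁ := by
    intro k
    have hfixd : lamE lam E ((lamE lam E k - k) * (lamE lam E k - k)) =
        (lamE lam E k - k) * (lamE lam E k - k) := by
      rw [map_mul, map_sub, hlamK]
      ring
    obtain ⟨d, hd⟩ := (hfixK.2 _).mp hfixd
    have hdP := hall k d hd
    have h1 : algebraMap E (E ⊗[S] R) d ∈ q₁ := by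
      rw [← Ideal.mem_comap, hq₁P]
      exact hdP
    rw [hd] at h1
    exact (hq₁prime.mem_or_mem h1).elim id id
  have hq : ∀ r, lam r - r ∈ q₁.comap (ιR (S := S) (R := R) E) := by
    intro r
    rw [Ideal.mem_comap]
    have := hq₁ram ((1 : E) ⊗ₜ[S] r)
    rwa [lamE_tmul, ← TensorProduct.tmul_sub] at this
  have hs := sgnRank_of_hasNF lam t n hn hrank E h q₁ hq₁ram
    (q₁.comap (ιR (S := S) (R := R) E)) rfl c₂ hc₂ hlc
  have hs' := sgnRank_of_hasNF lam t' n' hn' hrank' E h' q₁ hq₁ram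
    (q₁.comap (ιR (S := S) (R := R) E)) rfl c₂ hc₂ hlc
  have hH := H ⟨q₁.comap (ιR (S := S) (R := R) E), inferInstance⟩ hq
  rw [choose_eq_add_card, choose_eq_add_card] at hH
  rcases hεε' with ⟨h1, h1'⟩ | ⟨h1, h1'⟩
  · have e1 := hs.1 h1
    have e2 := hs'.2 h1'
    have e3 := hH.mp e1
    rw [e2] at e3
    omega
  · have e1 := hs.2 h1
    have e2 := hs'.1 h1'
    have e3 := hH.mpr e2
    rw [e1] at e3
    omega

lemma map_algebraMap' {E E' : Type*} [CommRing E] [Algebra S E] [CommRing E'] [Algebra S E']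
    (g : E →ₐ[S] E') (x : E) :
    Algebra.TensorProduct.map g (AlgHom.id S R) (algebraMap E (E ⊗[S] R) x) =
      algebraMap E' (E' ⊗[S] R) (g x) := by
  rw [Algebra.TensorProduct.algebraMap_apply, Algebra.TensorProduct.algebraMap_apply]
  show Algebra.TensorProduct.map g (AlgHom.id S R) (x ⊗ₜ[S] (1 : R)) = _
  rw [Algebra.TensorProduct.map_tmul]
  rfl

include hlam hfix h2 hn hn' hrank hrank' H in
/-- the local isomorphism near a prime of a ring over which both involutions have normal forms -/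
theorem local_iso (c₂ : R) (hc₂ : c₂ * 2 = 1) (hlc : lam c₂ = c₂)
    (E : Type u) [CommRing E] [Algebra S E] (ε ε' : E) (hε : ε = 1 ∨ ε = -1)
    (hε' : ε' = 1 ∨ ε' = -1) (h : HasNF t E n ε) (h' : HasNF t' E n' ε') (i h₂ : E)
    (hi : i * i = -1) (hh : h₂ * 2 = 1) (P : Ideal E) [P.IsPrime] :
    ∃ x : E, x ∉ P ∧ MIso (Localization.Away x)
      (((t.matrix (Fin (2 * n'))).linS S lam).baseChange (Localization.Away x))
      (((t'.matrix (Fin (2 * n))).linS S lam).baseChange (Localization.Away x))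
      (fun r : R => (1 : Localization.Away x) ⊗ₜ[S]
        algebraMap R (Matrix (Fin (2 * n')) (Fin (2 * n')) A) r)
      (fun r : R => (1 : Localization.Away x) ⊗ₜ[S]
        algebraMap R (Matrix (Fin (2 * n)) (Fin (2 * n)) A') r) := by
  have key : ∀ (x : E) (e₁ : E), e₁ * e₁ = 1 →
      HasNF t (Localization.Away x) n (algebraMap E (Localization.Away x) e₁) →
      HasNF t' (Localization.Away x) n' (algebraMap E (Localization.Away x) e₁) →
      MIso (Localization.Away x)
        (((t.matrix (Fin (2 * n'))).linS S lam).baseChange (Localization.Away x))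
        (((t'.matrix (Fin (2 * n))).linS S lam).baseChange (Localization.Away x))
        (fun r : R => (1 : Localization.Away x) ⊗ₜ[S]
          algebraMap R (Matrix (Fin (2 * n')) (Fin (2 * n')) A) r)
        (fun r : R => (1 : Localization.Away x) ⊗ₜ[S]
          algebraMap R (Matrix (Fin (2 * n)) (Fin (2 * n)) A') r) := by
    intro x e₁ he₁ k1 k2
    exact mIso_of_hasNF lam hlam t n hn hrank t' n' hn' hrank' (Localization.Away x)
      (by rw [← map_mul, he₁, map_one]) k1 k2 (algebraMap E _ i) (algebraMap E _ h₂)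
      (by rw [← map_mul, hi, map_neg, map_one])
      (by rw [← map_ofNat (algebraMap E (Localization.Away x)) 2, ← map_mul, hh, map_one])
  have hsq : ε * ε = 1 := by rcases hε with rfl | rfl <;> ring
  by_cases hsame : ε' = ε
  · subst hsame
    refine ⟨1, fun h1 => (inferInstance : P.IsPrime).ne_top ((Ideal.eq_top_iff_one _).mpr h1), ?_⟩
    exact key 1 ε' hsq (h.map (IsScalarTower.toAlgHom S E _)) (h'.map (IsScalarTower.toAlgHom S E _))
  · have hopp : (ε = 1 ∧ ε' = -1) ∨ (ε = -1 ∧ ε' = 1) := by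
      rcases hε with h1 | h1 <;> rcases hε' with h1' | h1'
      · exact absurd (h1'.trans h1.symm) hsame
      · exact Or.inl ⟨h1, h1'⟩
      · exact Or.inr ⟨h1, h1'⟩
      · exact absurd (h1'.trans h1.symm) hsame
    have hneg : ε' = -ε := by
      rcases hopp with ⟨h1, h1'⟩ | ⟨h1, h1'⟩
      · rw [h1, h1']
      · rw [h1, h1', neg_neg]
    by_cases hex : ∃ (k : E ⊗[S] R) (d : E),
        algebraMap E (E ⊗[S] R) d = (lamE lam E k - k) * (lamE lam E k - k) ∧ d ∉ P
    · obtain ⟨k, d, hd, hdP⟩ := hex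
      refine ⟨d, hdP, ?_⟩
      let g : E →ₐ[S] Localization.Away d := IsScalarTower.toAlgHom S E _
      obtain ⟨δ, hδdef⟩ : ∃ δ, δ = Algebra.TensorProduct.map g (AlgHom.id S R)
        (lamE lam E k - k) := ⟨_, rfl⟩
      have hδδ : δ * δ =
          algebraMap (Localization.Away d) (Localization.Away d ⊗[S] R) (g d) := by
        rw [hδdef, ← map_mul, ← hd, map_algebraMap']
      have hunit : g d * IsLocalization.Away.invSelf (S := Localization.Away d) d = 1 :=
        IsLocalization.Away.mul_invSelf d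
      have hδ : δ * (δ * algebraMap (Localization.Away d) (Localization.Away d ⊗[S] R)
          (IsLocalization.Away.invSelf (S := Localization.Away d) d)) = 1 := by
        rw [← mul_assoc, hδδ, ← map_mul, hunit, map_one]
      have hl : lamE lam (Localization.Away d) δ = -δ := by
        rw [hδdef, ← map_lamE, map_sub, lamE_lamE lam E hlam, ← map_neg, neg_sub]
      have k2 := (h'.map g).flip δ _ hδ hl
      have k1 := h.map g
      have hgε : -(g ε') = g ε := by rw [hneg, map_neg, neg_neg]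
      rw [hgε] at k2
      exact key d ε hsq k1 k2
    · simp only [not_exists, not_and, not_not] at hex
      exact (no_opposite lam hlam hfix h2 n n' hn hn' hrank hrank' t t' H c₂ hc₂ hlc E ε ε' hopp
        h h' P hex).elim

lemma exists_prime_away {E : Type*} [CommRing E] (P : Ideal E) [P.IsPrime] (x : E) (hx : x ∉ P) :
    ∃ P' : Ideal (Localization.Away x), P'.IsPrime ∧
      P'.comap (algebraMap E (Localization.Away x)) = P := by
  have hdisj : Disjoint (Submonoid.powers x : Set E) (P : Set E) :=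
    (Ideal.disjoint_powers_iff_notMem _ (Ideal.IsPrime.isRadical inferInstance)).mpr hx
  exact ⟨Ideal.map (algebraMap E (Localization.Away x)) P,
    IsLocalization.isPrime_of_isPrime_disjoint (Submonoid.powers x) _ P inferInstance hdisj,
    IsLocalization.under_map_of_isPrime_disjoint (Submonoid.powers x) _ inferInstance hdisj⟩

include hlam hfix h2 hn hn' hrank hrank' H in
/-- one piece of the cover -/
theorem piece (c₂ : R) (hc₂ : c₂ * 2 = 1) (hlc : lam c₂ = c₂)
    (E : Type u) [CommRing E] [Algebra S E] [Algebra.Etale S E] (P : Ideal E) [P.IsPrime]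
    (x₀ : E) (hx₀ : x₀ ∉ P) (ε ε' : E) (hε : ε = 1 ∨ ε = -1) (hε' : ε' = 1 ∨ ε' = -1)
    (h : HasNF t (Localization.Away x₀) n (algebraMap E (Localization.Away x₀) ε))
    (h' : HasNF t' (Localization.Away x₀) n' (algebraMap E (Localization.Away x₀) ε'))
    (i h₂ : E) (hi : i * i = -1) (hh : h₂ * 2 = 1) :
    ∃ (C : Type u) (_ : CommRing C) (_ : Algebra S C) (_ : Algebra.Etale S C),
      MIso C (((t.matrix (Fin (2 * n'))).linS S lam).baseChange C)
        (((t'.matrix (Fin (2 * n))).linS S lam).baseChange C)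
        (fun r : R => (1 : C) ⊗ₜ[S] algebraMap R (Matrix (Fin (2 * n')) (Fin (2 * n')) A) r)
        (fun r : R => (1 : C) ⊗ₜ[S] algebraMap R (Matrix (Fin (2 * n)) (Fin (2 * n)) A') r) ∧
      ∃ P'' : Ideal C, P''.IsPrime ∧ P''.comap (algebraMap S C) = P.comap (algebraMap S E) := by
  obtain ⟨P', hP'prime, hP'⟩ := exists_prime_away P x₀ hx₀
  haveI := hP'prime
  have hmap : ∀ e : E, (e = 1 ∨ e = -1) →
      (algebraMap E (Localization.Away x₀) e = 1 ∨ algebraMap E (Localization.Away x₀) e = -1) := by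
    rintro e (rfl | rfl)
    · exact Or.inl (map_one _)
    · exact Or.inr (by rw [map_neg, map_one])
  obtain ⟨x, hxP', hiso⟩ := local_iso lam hlam hfix h2 n n' hn hn' hrank hrank' t t' H c₂ hc₂ hlc
    (Localization.Away x₀) _ _ (hmap ε hε) (hmap ε' hε') h h'
    (algebraMap E _ i) (algebraMap E _ h₂) (by rw [← map_mul, hi, map_neg, map_one])
    (by rw [← map_ofNat (algebraMap E (Localization.Away x₀)) 2, ← map_mul, hh, map_one]) P'
  obtain ⟨P'', hP''prime, hP''⟩ := exists_prime_away P' x hxP'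
  haveI : Algebra.Etale S (Localization.Away x₀) := Algebra.Etale.comp S E _
  haveI : Algebra.Etale S (Localization.Away x) := Algebra.Etale.comp S (Localization.Away x₀) _
  refine ⟨Localization.Away x, inferInstance, inferInstance, inferInstance, hiso, P'', hP''prime, ?_⟩
  rw [IsScalarTower.algebraMap_eq S (Localization.Away x₀) (Localization.Away x),
    ← Ideal.comap_comap, hP'', IsScalarTower.algebraMap_eq S E (Localization.Away x₀),
    ← Ideal.comap_comap, hP']

open Groth.Agent.Lib.Helper52.RamGlue in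
include hlam hfix h2 hn hn' hrank hrank' H in
/-- the backward direction, given a cover with weak normal forms and a square root of `-1` -/
theorem backward_aux (E : Type u) [CommRing E] [Algebra S E] [Algebra.Etale S E]
    (hNF : HasNF0 t E n) (hNF' : HasNF0 t' E n') (i h₂ : E) (hi : i * i = -1) (hh : h₂ * 2 = 1)
    (hsurj : Function.Surjective (PrimeSpectrum.comap (algebraMap S E))) :
    SameType S lam t t' := by
  classical
  obtain ⟨s₂, hs₂⟩ := h2.exists_left_inv
  have hc₂ : algebraMap S R s₂ * 2 = 1 := by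
    rw [← map_ofNat (algebraMap S R) 2, ← map_mul, hs₂, map_one]
  have hlc : lam (algebraMap S R s₂) = algebraMap S R s₂ := lam.commutes s₂
  refine ⟨2 * n', 2 * n, by omega, by omega, ?_⟩
  obtain ⟨a, b, hab, hNa, hNb⟩ := exists_sign lam hlam hfix h2 t n hn hrank E hNF
  obtain ⟨a', b', hab', hNa', hNb'⟩ := exists_sign lam hlam hfix h2 t' n' hn' hrank' E hNF'
  have hglue := mIso_glue (R := S) ((t.matrix (Fin (2 * n'))).linS S lam)
    ((t'.matrix (Fin (2 * n))).linS S lam)
    (fun r : R => algebraMap R (Matrix (Fin (2 * n')) (Fin (2 * n')) A) r)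
    (fun r : R => algebraMap R (Matrix (Fin (2 * n)) (Fin (2 * n)) A') r) (fun p => ?_)
  · obtain ⟨R', _, _, hEt, hFF, f, hf, hfa⟩ := hglue
    refine ⟨R', inferInstance, inferInstance, hEt, hFF, f, fun r x => ?_, hf⟩
    rw [map_mul]
    congr 1
    exact hfa r
  · obtain ⟨P, hP⟩ := hsurj p
    haveI := P.2
    have h4 : ∀ x y : E, x + y = 4 → x ∉ P.asIdeal ∨ y ∉ P.asIdeal := by
      intro x y hxy
      by_contra hcon
      rw [not_or, not_not, not_not] at hcon
      have h1 : (4 : E) ∈ P.asIdeal := by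
        rw [← hxy]
        exact P.asIdeal.add_mem hcon.1 hcon.2
      apply P.2.ne_top
      rw [Ideal.eq_top_iff_one]
      have h5 : (1 : E) = (h₂ * h₂) * 4 := by
        linear_combination (-(h₂ * 2) - 1) * hh
      rw [h5]
      exact P.asIdeal.mul_mem_left _ h1
    have hfin : ∀ (x₀ : E) (hx₀ : x₀ ∉ P.asIdeal) (ε ε' : E)
        (hε : ε = 1 ∨ ε = -1) (hε' : ε' = 1 ∨ ε' = -1)
        (k : HasNF t (Localization.Away x₀) n (algebraMap E (Localization.Away x₀) ε))
        (k' : HasNF t' (Localization.Away x₀) n' (algebraMap E (Localization.Away x₀) ε')),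
        ∃ (C : Type u) (_ : CommRing C) (_ : Algebra S C) (_ : Algebra.Etale S C),
          MIso C (((t.matrix (Fin (2 * n'))).linS S lam).baseChange C)
            (((t'.matrix (Fin (2 * n))).linS S lam).baseChange C)
            (fun r : R => (1 : C) ⊗ₜ[S] algebraMap R (Matrix (Fin (2 * n')) (Fin (2 * n')) A) r)
            (fun r : R => (1 : C) ⊗ₜ[S] algebraMap R (Matrix (Fin (2 * n)) (Fin (2 * n)) A') r) ∧
          p ∈ Set.range (PrimeSpectrum.comap (algebraMap S C)) := by
      intro x₀ hx₀ ε ε' hε hε' k k'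
      obtain ⟨C, _, _, hEtC, hiso, P'', hP''prime, hP''⟩ := piece lam hlam hfix h2 n n' hn hn' hrank
        hrank' t t' H _ hc₂ hlc E P.asIdeal x₀ hx₀ ε ε' hε hε' k k' i h₂ hi hh
      refine ⟨C, inferInstance, inferInstance, hEtC, hiso, ⟨⟨P'', hP''prime⟩, ?_⟩⟩
      apply PrimeSpectrum.ext
      show P''.comap (algebraMap S C) = p.asIdeal
      rw [hP'']
      exact congrArg PrimeSpectrum.asIdeal hP
    have hunitL : ∀ x y : E, IsUnit (algebraMap E (Localization.Away (x * y)) x) := fun x y =>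
      isUnit_of_mul_isUnit_left (by
        rw [← map_mul]; exact IsLocalization.Away.algebraMap_isUnit (x * y))
    have hunitR : ∀ x y : E, IsUnit (algebraMap E (Localization.Away (x * y)) y) := fun x y =>
      isUnit_of_mul_isUnit_right (by
        rw [← map_mul]; exact IsLocalization.Away.algebraMap_isUnit (x * y))
    have hNa1 : HasNF t (Localization.Away a) n (algebraMap E (Localization.Away a) 1) := by
      rw [map_one]; exact hNa
    have hNb1 : HasNF t (Localization.Away b) n (algebraMap E (Localization.Away b) (-1)) := by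
      rw [map_neg, map_one]; exact hNb
    have hNa1' : HasNF t' (Localization.Away a') n' (algebraMap E (Localization.Away a') 1) := by
      rw [map_one]; exact hNa'
    have hNb1' : HasNF t' (Localization.Away b') n'
        (algebraMap E (Localization.Away b') (-1)) := by
      rw [map_neg, map_one]; exact hNb'
    rcases h4 a b hab with ha | hb <;> rcases h4 a' b' hab' with ha' | hb'
    · exact hfin (a * a') (fun h => (P.2.mem_or_mem h).elim ha ha') 1 1 (Or.inl rfl) (Or.inl rfl)
        (HasNF.of_away hNa1 (IsScalarTower.toAlgHom S E (Localization.Away (a * a')))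
          (hunitL a a'))
        (HasNF.of_away hNa1' (IsScalarTower.toAlgHom S E (Localization.Away (a * a')))
          (hunitR a a'))
    · exact hfin (a * b') (fun h => (P.2.mem_or_mem h).elim ha hb') 1 (-1) (Or.inl rfl)
        (Or.inr rfl)
        (HasNF.of_away hNa1 (IsScalarTower.toAlgHom S E (Localization.Away (a * b')))
          (hunitL a b'))
        (HasNF.of_away hNb1' (IsScalarTower.toAlgHom S E (Localization.Away (a * b')))
          (hunitR a b'))
    · exact hfin (b * a') (fun h => (P.2.mem_or_mem h).elim hb ha') (-1) 1 (Or.inr rfl)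
        (Or.inl rfl)
        (HasNF.of_away hNb1 (IsScalarTower.toAlgHom S E (Localization.Away (b * a')))
          (hunitL b a'))
        (HasNF.of_away hNa1' (IsScalarTower.toAlgHom S E (Localization.Away (b * a')))
          (hunitR b a'))
    · exact hfin (b * b') (fun h => (P.2.mem_or_mem h).elim hb hb') (-1) (-1) (Or.inr rfl)
        (Or.inr rfl)
        (HasNF.of_away hNb1 (IsScalarTower.toAlgHom S E (Localization.Away (b * b')))
          (hunitL b b'))
        (HasNF.of_away hNb1' (IsScalarTower.toAlgHom S E (Localization.Away (b * b')))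
          (hunitR b b'))

open Groth.Agent.Lib.Helper52.InvSplitExists in
include hlam hfix h2 hn hn' hrank hrank' H in
/-- the backward direction -/
theorem backward : SameType S lam t t' := by
  classical
  obtain ⟨s₂, hs₂⟩ := h2.exists_left_inv
  obtain ⟨E₁, _, _, hEt₁, hFF₁, hNF₁⟩ := exists_hasNF0 lam hlam hfix h2 t n hn hrank
  obtain ⟨E₂, _, _, hEt₂, hFF₂, hNF₂⟩ := exists_hasNF0 lam hlam hfix h2 t' n' hn' hrank'
  haveI : Algebra.Etale S (E₁ ⊗[S] E₂) := Algebra.Etale.comp S E₁ (E₁ ⊗[S] E₂)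
  haveI : Module.FaithfullyFlat S (E₁ ⊗[S] E₂) := Module.FaithfullyFlat.trans S E₁ (E₁ ⊗[S] E₂)
  have hmonic := polyI_monic (E₁ ⊗[S] E₂)
  have hc₃ : algebraMap S (E₁ ⊗[S] E₂) s₂ * 2 = 1 := by
    rw [← map_ofNat (algebraMap S (E₁ ⊗[S] E₂)) 2, ← map_mul, hs₂, map_one]
  haveI : Algebra.Etale (E₁ ⊗[S] E₂)
      (Polynomial (E₁ ⊗[S] E₂) ⧸ Ideal.span {polyI (E₁ ⊗[S] E₂)}) :=
    Groth.Agent.Lib.Helper35.EtaleMonogenic.etale_quotient_of_separable _ hmonic
      (polyI_separable _ _ hc₃)
  haveI : Algebra.Etale S (Polynomial (E₁ ⊗[S] E₂) ⧸ Ideal.span {polyI (E₁ ⊗[S] E₂)}) :=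
    Algebra.Etale.comp S (E₁ ⊗[S] E₂) _
  haveI := hmonic.free_quotient
  haveI := hmonic.finite_quotient
  let g₃ : E₁ ⊗[S] E₂ →ₐ[S] (Polynomial (E₁ ⊗[S] E₂) ⧸ Ideal.span {polyI (E₁ ⊗[S] E₂)}) :=
    IsScalarTower.toAlgHom S _ _
  have hNF : HasNF0 t (Polynomial (E₁ ⊗[S] E₂) ⧸ Ideal.span {polyI (E₁ ⊗[S] E₂)}) n :=
    hNF₁.map (g₃.comp Algebra.TensorProduct.includeLeft)
  have hNF' : HasNF0 t' (Polynomial (E₁ ⊗[S] E₂) ⧸ Ideal.span {polyI (E₁ ⊗[S] E₂)}) n' :=
    hNF₂.map (g₃.comp Algebra.TensorProduct.includeRight)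
  have hi := polyI_root (E₁ ⊗[S] E₂)
  have hh : algebraMap S (Polynomial (E₁ ⊗[S] E₂) ⧸ Ideal.span {polyI (E₁ ⊗[S] E₂)}) s₂ * 2 = 1 := by
    rw [← map_ofNat (algebraMap S (Polynomial (E₁ ⊗[S] E₂) ⧸ Ideal.span {polyI (E₁ ⊗[S] E₂)})) 2,
      ← map_mul, hs₂, map_one]
  refine backward_aux lam hlam hfix h2 n n' hn hn' hrank hrank' t t' H
    (Polynomial (E₁ ⊗[S] E₂) ⧸ Ideal.span {polyI (E₁ ⊗[S] E₂)}) hNF hNF' _ _ hi hh ?_
  intro p
  obtain ⟨P₃, hP₃⟩ := PrimeSpectrum.comap_surjective_of_faithfullyFlat (A := S)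
    (B := E₁ ⊗[S] E₂) p
  haveI : Nontrivial (E₁ ⊗[S] E₂) :=
    nontrivial_of_ne (0 : E₁ ⊗[S] E₂) 1 (fun h => P₃.2.ne_top ((Ideal.eq_top_iff_one _).mpr
      (h ▸ P₃.asIdeal.zero_mem)))
  haveI := polyI_nontrivial (E₁ ⊗[S] E₂)
  obtain ⟨P, hP⟩ := PrimeSpectrum.comap_surjective_of_faithfullyFlat (A := E₁ ⊗[S] E₂)
    (B := Polynomial (E₁ ⊗[S] E₂) ⧸ Ideal.span {polyI (E₁ ⊗[S] E₂)}) P₃
  refine ⟨P, ?_⟩
  apply PrimeSpectrum.ext
  show P.asIdeal.comap (algebraMap S _) = p.asIdeal
  rw [IsScalarTower.algebraMap_eq S (E₁ ⊗[S] E₂) _, ← Ideal.comap_comap]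
  have h1 : P.asIdeal.comap (algebraMap (E₁ ⊗[S] E₂) _) = P₃.asIdeal :=
    congrArg PrimeSpectrum.asIdeal hP
  rw [h1]
  exact congrArg PrimeSpectrum.asIdeal hP₃

end Local

end Groth.Agent.Lib.Helper52.RamFinal
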