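import Mathlib
import Groth.Agent.S15583
import Groth.Agent.S15586
import Groth.Agent.Lib.Helper52.HermSpread
import Groth.Agent.Lib.Helper52.RamFinal

/-!
# Diagonalising hermitian matrices over `E ⊗ R` near a prime of `E`
-/

set_option autoImplicit false
set_option linter.style.haveILetI false
set_option linter.unusedSectionVars false
set_option linter.unusedVariables false
set_option linter.unusedSimpArgs false

namespace Groth.Agent.Lib.Helper52.HermLocal

open scoped TensorProduct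
open AzInv Groth.Agent.Lib.Helper52.RamNF Groth.Agent.Lib.Helper52.RamNFExists
  Groth.Agent.Lib.Helper52.RamFinal Groth.Agent.Lib.Helper52.HermSpread

universe u v w

variable {S : Type u} {R : Type v} [CommRing S] [CommRing R] [Algebra S R] (lam : R ≃ₐ[S] R)
  (hlam : ∀ r, lam (lam r) = r) (hfix : RInv.IsFixedRing S R lam.toRingEquiv)

include hlam hfix in
/-- the fixed ring after a flat base change -/
lemma isFixedRing_lamE_of_flat (E : Type*) [CommRing E] [Algebra S E] [Module.Flat S E] :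
    RInv.IsFixedRing E (E ⊗[S] R) (lamE lam E).toRingEquiv := by
  have h := Groth.Agent.S15586.result S R E lam hlam hfix (Or.inl inferInstance)
  have heq : ∀ k : E ⊗[S] R,
      (Algebra.TensorProduct.congr (AlgEquiv.refl : E ≃ₐ[S] E) lam) k = lamE lam E k := by
    intro k
    induction k using TensorProduct.induction_on with
    | zero => simp
    | tmul e r => rw [lamE_tmul]; simp
    | add x y hx hy => rw [map_add, map_add, hx, hy]
  refine ⟨h.1, fun r => ?_⟩
  have := h.2 r
  rw [← this]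
  show lamE lam E r = r ↔ (Algebra.TensorProduct.congr (AlgEquiv.refl : E ≃ₐ[S] E) lam) r = r
  rw [heq]

/-- the base change map `E ⊗ R → E' ⊗ R` -/
noncomputable abbrev GMap {E E' : Type*} [CommRing E] [Algebra S E] [CommRing E'] [Algebra S E']
    (ρ : E →ₐ[S] E') : E ⊗[S] R →ₐ[S] E' ⊗[S] R :=
  Algebra.TensorProduct.map ρ (AlgHom.id S R)

lemma lamE_algebraMap (E : Type*) [CommRing E] [Algebra S E] (x : E) :
    lamE lam E (algebraMap E (E ⊗[S] R) x) = algebraMap E (E ⊗[S] R) x :=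
  (lamE lam E).commutes x

include hlam hfix in
/-- diagonalisation near a prime, with numerators over `E ⊗ R` -/
theorem exists_diag_near_prime (E : Type u) [CommRing E] [Algebra S E] [Module.Flat S E]
    (n : ℕ) (V : Matrix (Fin n) (Fin n) (E ⊗[S] R)) (hV : IsUnit V)
    (hherm : lamTr (lamE lam E) V = V) (hcase : Odd n ∨ IsUnit (2 : S))
    (P : Ideal E) [P.IsPrime] :
    ∃ (x : E) (v₀ : Matrix (Fin n) (Fin n) (E ⊗[S] R)) (δ₀ : Fin n → E), x ∉ P ∧
      ∀ (E' : Type u) [CommRing E'] [Algebra S E'] (ρ : E →ₐ[S] E'), IsUnit (ρ x) →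
        IsUnit (v₀.map (GMap (R := R) ρ)) ∧
        lamTr (lamE lam E') (v₀.map (GMap (R := R) ρ)) * V.map (GMap (R := R) ρ) *
          v₀.map (GMap (R := R) ρ) =
            Matrix.diagonal (fun i => algebraMap E' (E' ⊗[S] R) (ρ (δ₀ i))) := by
  classical
  have hlamK : ∀ k, lamE lam E (lamE lam E k) = k := lamE_lamE lam E hlam
  let EP := Localization.AtPrime P
  let g : E →ₐ[S] EP := IsScalarTower.toAlgHom S E EP
  let G : E ⊗[S] R →ₐ[S] EP ⊗[S] R := GMap (R := R) g
  haveI : Module.Flat E EP := IsLocalization.flat EP P.primeCompl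
  haveI : Module.Flat S EP := Module.Flat.trans S E EP
  have hfixP := isFixedRing_lamE_of_flat lam hlam hfix EP
  have hfixK := isFixedRing_lamE_of_flat lam hlam hfix E
  letI algK : Algebra (E ⊗[S] R) (EP ⊗[S] R) := G.toRingHom.toAlgebra
  haveI : IsScalarTower E (E ⊗[S] R) (EP ⊗[S] R) := IsScalarTower.of_algebraMap_eq (fun x => by
    show algebraMap E (EP ⊗[S] R) x = G (algebraMap E (E ⊗[S] R) x)
    rw [map_algebraMap']
    rfl)
  haveI hloc : IsLocalization (Algebra.algebraMapSubmonoid (E ⊗[S] R) P.primeCompl)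
      (EP ⊗[S] R) := by
    apply IsLocalization.tensorProduct_tensorProduct S R P.primeCompl EP
    ext r
    show G ((1 : E) ⊗ₜ[S] r) = (1 : EP) ⊗ₜ[S] r
    show Algebra.TensorProduct.map g (AlgHom.id S R) ((1 : E) ⊗ₜ[S] r) = _
    rw [Algebra.TensorProduct.map_tmul, map_one]
    rfl
  -- the hermitian matrix over the localisation
  have hVP : IsUnit (V.map G) := by
    have := hV.map (G.toRingHom.mapMatrix)
    exact this
  have hmapTr : ∀ (E' : Type u) [CommRing E'] [Algebra S E'] (ρ : E →ₐ[S] E')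
      (X : Matrix (Fin n) (Fin n) (E ⊗[S] R)),
      lamTr (lamE lam E') (X.map (GMap (R := R) ρ)) =
        (lamTr (lamE lam E) X).map (GMap (R := R) ρ) := by
    intro E' _ _ ρ X
    ext i j
    simp only [lamTr_apply, Matrix.map_apply]
    exact (map_lamE lam ρ (X j i)).symm
  have hhermP : (1 : EP ⊗[S] R) • ((V.map G).map (lamE lam EP).toRingEquiv).transpose =
      V.map G := by
    rw [one_smul]
    have := hmapTr EP g V
    rw [hherm] at this
    exact this
  have hcaseP : (∃ a : EP ⊗[S] R, (lamE lam EP).toRingEquiv a - a ∉ Ring.jacobson (EP ⊗[S] R)) ∨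
      (1 : EP ⊗[S] R) + 1 ∉ Ring.jacobson (EP ⊗[S] R) ∨ Odd n := by
    rcases hcase with hodd | h2
    · exact Or.inr (Or.inr hodd)
    · refine Or.inr (Or.inl ?_)
      haveI : Nontrivial (EP ⊗[S] R) := hfixP.1.nontrivial
      intro hmem
      have h2' : IsUnit ((1 : EP ⊗[S] R) + 1) := by
        have := h2.map (algebraMap S (EP ⊗[S] R))
        rwa [map_ofNat, ← one_add_one_eq_two] at this
      have htop : Ring.jacobson (EP ⊗[S] R) = ⊤ := Ideal.eq_top_of_isUnit_mem _ hmem h2'
      rw [← Ideal.jacobson_bot, Ideal.jacobson_eq_top_iff] at htop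
      exact bot_ne_top htop
  obtain ⟨v, hv, d, hvd⟩ := Groth.Agent.S15583.result EP (EP ⊗[S] R) (lamE lam EP).toRingEquiv
    (fun k => lamE_lamE lam EP hlam k) hfixP n 1 (Or.inl rfl) (V.map G) hVP hhermP hcaseP
  -- spread out
  obtain ⟨m, s, v₀, v₀', h1, h2⟩ := spread (Algebra.algebraMapSubmonoid (E ⊗[S] R) P.primeCompl)
    (L := EP ⊗[S] R) (lamE lam E : E ⊗[S] R →+* E ⊗[S] R)
    (lamE lam EP : EP ⊗[S] R →+* EP ⊗[S] R)
    (fun k => (map_lamE lam g k).symm)
    (fun m hm => by
      obtain ⟨x, _, rfl⟩ := hm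
      exact lamE_algebraMap lam E x) V v hv
    (fun i j hij => by
      have := congrFun (congrFun hvd i) j
      rw [Matrix.diagonal_apply_ne _ hij] at this
      exact this)
  obtain ⟨x₁, hx₁P, hx₁⟩ := m.2
  obtain ⟨x₂, hx₂P, hx₂⟩ := s.2
  -- the diagonal entries come from `E`
  let τ : LamInv (E ⊗[S] R) (Matrix (Fin n) (Fin n) (E ⊗[S] R)) (lamE lam E) :=
    LamInv.transpose (lamE lam E) (Fin n) hlamK
  have hτ : ∀ X, τ X = lamTr (lamE lam E) X := fun _ => rfl
  have hDherm : lamTr (lamE lam E) (lamTr (lamE lam E) v₀ * V * v₀) =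
      lamTr (lamE lam E) v₀ * V * v₀ := by
    rw [← hτ, ← hτ v₀, τ.map_mul, τ.map_mul, τ.invol, hτ V, hherm, mul_assoc]
  have hδ : ∀ i, ∃ a : E, algebraMap E (E ⊗[S] R) a = (lamTr (lamE lam E) v₀ * V * v₀) i i := by
    intro i
    have := congrFun (congrFun hDherm i) i
    rw [lamTr_apply] at this
    exact (hfixK.2 _).mp this
  choose δ₀ hδ₀ using hδ
  refine ⟨x₁ * x₂, v₀, δ₀, fun h => (‹P.IsPrime›.mem_or_mem h).elim hx₁P hx₂P, ?_⟩
  intro E' _ _ ρ hρ
  have hu₁ : IsUnit (ρ x₁) := isUnit_of_mul_isUnit_left (by rwa [← map_mul])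
  have hu₂ : IsUnit (ρ x₂) := isUnit_of_mul_isUnit_right (by rwa [← map_mul])
  have hm : IsUnit ((GMap (R := R) ρ).toRingHom (m : E ⊗[S] R)) := by
    rw [← hx₁]
    show IsUnit (GMap (R := R) ρ (algebraMap E (E ⊗[S] R) x₁))
    rw [map_algebraMap']
    exact hu₁.map _
  have hs : IsUnit ((GMap (R := R) ρ).toRingHom (s : E ⊗[S] R)) := by
    rw [← hx₂]
    show IsUnit (GMap (R := R) ρ (algebraMap E (E ⊗[S] R) x₂))
    rw [map_algebraMap']
    exact hu₂.map _
  obtain ⟨k1, k2, k3⟩ := spread_use (lamE lam E : E ⊗[S] R →+* E ⊗[S] R)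
    (GMap (R := R) ρ).toRingHom (lamE lam E' : E' ⊗[S] R →+* E' ⊗[S] R)
    (fun k => map_lamE lam ρ k) (m : E ⊗[S] R) (s : E ⊗[S] R) hm hs V v₀ v₀' h1 h2
  refine ⟨k1, ?_⟩
  ext i j
  by_cases hij : i = j
  · subst hij
    rw [Matrix.diagonal_apply_eq]
    have := congrFun (congrFun k2 i) i
    refine this.trans ?_
    rw [Matrix.map_apply]
    show GMap (R := R) ρ ((lamTr (lamE lam E) v₀ * V * v₀) i i) = _
    rw [← hδ₀, map_algebraMap']
  · rw [Matrix.diagonal_apply_ne _ hij]
    exact k3 i j hij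

end Groth.Agent.Lib.Helper52.HermLocal
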