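import Mathlib
import Groth.Agent.Lib.Helper52.HermLocal

/-!
# Étale-locally a hermitian unit matrix over `E ⊗ R` is congruent to the identity
(odd size, or `2` invertible), given étale-local square roots of units
-/

set_option autoImplicit false
set_option linter.style.haveILetI false
set_option linter.unusedSectionVars false
set_option linter.unusedVariables false
set_option linter.unusedSimpArgs false

namespace Groth.Agent.Lib.Helper52.HermSqrt

open scoped TensorProduct
open AzInv Groth.Agent.Lib.Helper52.RamNF Groth.Agent.Lib.Helper52.RamNFExists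
  Groth.Agent.Lib.Helper52.RamFinal Groth.Agent.Lib.Helper52.HermLocal

universe u v w

variable {S : Type u} {R : Type v} [CommRing S] [CommRing R] [Algebra S R] (lam : R ≃ₐ[S] R)
  (hlam : ∀ r, lam (lam r) = r) (hfix : RInv.IsFixedRing S R lam.toRingEquiv)
  (hsq : ∀ (S₁ : Type u) [CommRing S₁] [Algebra S S₁] [Algebra.Etale S S₁] (x : S₁ˣ),
      ∃ (S₂ : Type u) (_ : CommRing S₂) (_ : Algebra S₁ S₂) (_ : Algebra.Etale S₁ S₂)
        (_ : Module.FaithfullyFlat S₁ S₂) (y : S₂), y * y = algebraMap S₁ S₂ ↑x)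

include hsq in
/-- square roots of finitely many units over one étale faithfully flat extension -/
theorem exists_sqrt_cover (E₁ : Type u) [CommRing E₁] [Algebra S E₁] [Algebra.Etale S E₁] :
    ∀ (k : ℕ) (δ : Fin k → E₁ˣ),
      ∃ (E₂ : Type u) (_ : CommRing E₂) (_ : Algebra E₁ E₂) (_ : Algebra.Etale E₁ E₂)
        (_ : Module.FaithfullyFlat E₁ E₂) (y : Fin k → E₂),
        ∀ i, y i * y i = algebraMap E₁ E₂ ↑(δ i) := by
  intro k
  induction k with
  | zero =>
    intro δ
    exact ⟨E₁, inferInstance, inferInstance, inferInstance, inferInstance, fun i => i.elim0,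
      fun i => i.elim0⟩
  | succ k ih =>
    intro δ
    obtain ⟨E₂, _, _, hEt₂, hFF₂, y, hy⟩ := ih (fun i => δ i.castSucc)
    letI : Algebra S E₂ := ((algebraMap E₁ E₂).comp (algebraMap S E₁)).toAlgebra
    haveI : IsScalarTower S E₁ E₂ := IsScalarTower.of_algebraMap_eq (fun _ => rfl)
    haveI : Algebra.Etale S E₂ := Algebra.Etale.comp S E₁ E₂
    obtain ⟨E₃, _, _, hEt₃, hFF₃, y₃, hy₃⟩ :=
      hsq E₂ (Units.map (algebraMap E₁ E₂).toMonoidHom (δ (Fin.last k)))
    letI : Algebra E₁ E₃ := ((algebraMap E₂ E₃).comp (algebraMap E₁ E₂)).toAlgebra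
    haveI : IsScalarTower E₁ E₂ E₃ := IsScalarTower.of_algebraMap_eq (fun _ => rfl)
    refine ⟨E₃, inferInstance, inferInstance, Algebra.Etale.comp E₁ E₂ E₃,
      Module.FaithfullyFlat.trans E₁ E₂ E₃,
      Fin.lastCases y₃ (fun i => algebraMap E₂ E₃ (y i)), fun i => ?_⟩
    induction i using Fin.lastCases with
    | last =>
      simp only [Fin.lastCases_last]
      rw [hy₃]
      rfl
    | cast i =>
      simp only [Fin.lastCases_castSucc]
      rw [← map_mul, hy i]
      rfl

include hlam hfix in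
/-- a fixed unit of `E ⊗ R` comes from a unit of `E` -/
lemma isUnit_of_algebraMap (E : Type*) [CommRing E] [Algebra S E] [Module.Flat S E] (a : E)
    (ha : IsUnit (algebraMap E (E ⊗[S] R) a)) : IsUnit a := by
  have hfixK := isFixedRing_lamE_of_flat lam hlam hfix E
  obtain ⟨b, hb⟩ := ha.exists_right_inv
  have hbfix : lamE lam E b = b := by
    have h1 : algebraMap E (E ⊗[S] R) a * lamE lam E b = 1 := by
      have := congrArg (lamE lam E) hb
      rwa [map_mul, lamE_algebraMap, map_one] at this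
    calc lamE lam E b = (b * algebraMap E (E ⊗[S] R) a) * lamE lam E b := by
          rw [mul_comm b, hb, one_mul]
      _ = b := by rw [mul_assoc, h1, mul_one]
  obtain ⟨b₀, hb₀⟩ := (hfixK.2 b).mp hbfix
  refine IsUnit.of_mul_eq_one b₀ (hfixK.1 ?_)
  rw [map_mul, hb₀, hb, map_one]

include hlam hfix hsq in
/-- near a prime, étale locally, a hermitian unit matrix is congruent to the identity -/
theorem exists_cong_one_near_prime (E : Type u) [CommRing E] [Algebra S E] [Algebra.Etale S E]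
    (n : ℕ) (V : Matrix (Fin n) (Fin n) (E ⊗[S] R)) (hV : IsUnit V)
    (hherm : lamTr (lamE lam E) V = V) (hcase : Odd n ∨ IsUnit (2 : S))
    (P : Ideal E) [P.IsPrime] :
    ∃ (E'' : Type u) (_ : CommRing E'') (_ : Algebra S E'') (_ : Algebra.Etale S E'')
      (ρ : E →ₐ[S] E'') (P'' : Ideal E''), P''.IsPrime ∧ P''.comap ρ = P ∧
      ∃ Q : (Matrix (Fin n) (Fin n) (E'' ⊗[S] R))ˣ,
        Q.val * V.map (GMap (R := R) ρ) * lamTr (lamE lam E'') Q.val = 1 := by
  classical
  obtain ⟨x, v₀, δ₀, hxP, hkey⟩ := exists_diag_near_prime lam hlam hfix E n V hV hherm hcase P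
  -- the localisation away from `x`
  let Ex := Localization.Away x
  haveI : Algebra.Etale S Ex := Algebra.Etale.comp S E Ex
  let ρx : E →ₐ[S] Ex := IsScalarTower.toAlgHom S E Ex
  have hux : IsUnit (ρx x) := IsLocalization.Away.algebraMap_isUnit x
  obtain ⟨hvx, hdx⟩ := hkey Ex ρx hux
  have hVx : IsUnit (V.map (GMap (R := R) ρx)) := hV.map ((GMap (R := R) ρx).toRingHom.mapMatrix)
  have hlamKx : ∀ k, lamE lam Ex (lamE lam Ex k) = k := lamE_lamE lam Ex hlam
  let τx : LamInv (Ex ⊗[S] R) (Matrix (Fin n) (Fin n) (Ex ⊗[S] R)) (lamE lam Ex) :=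
    LamInv.transpose (lamE lam Ex) (Fin n) hlamKx
  have hδu : ∀ i, IsUnit (ρx (δ₀ i)) := by
    intro i
    apply isUnit_of_algebraMap lam hlam hfix Ex
    have hdiag : IsUnit (Matrix.diagonal
        (fun i => algebraMap Ex (Ex ⊗[S] R) (ρx (δ₀ i)))) := by
      rw [← hdx]
      refine (IsUnit.mul ?_ hVx).mul hvx
      obtain ⟨u, hu⟩ := hvx
      have : lamTr (lamE lam Ex) (v₀.map (GMap (R := R) ρx)) = τx ↑u := by rw [hu]; rfl
      rw [this]
      exact ⟨⟨τx ↑u, τx ↑u⁻¹, by rw [← τx.map_mul, Units.inv_mul, τx.map_one],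
        by rw [← τx.map_mul, Units.mul_inv, τx.map_one]⟩, rfl⟩
    rw [Matrix.isUnit_iff_isUnit_det, Matrix.det_diagonal] at hdiag
    exact (IsUnit.prod_univ_iff.mp hdiag) i
  obtain ⟨E'', _, _, hEt'', hFF'', y, hy⟩ :=
    exists_sqrt_cover hsq Ex n (fun i => (hδu i).unit)
  letI : Algebra S E'' := ((algebraMap Ex E'').comp (algebraMap S Ex)).toAlgebra
  haveI : IsScalarTower S Ex E'' := IsScalarTower.of_algebraMap_eq (fun _ => rfl)
  haveI : Algebra.Etale S E'' := Algebra.Etale.comp S Ex E''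
  let ρ : E →ₐ[S] E'' := (IsScalarTower.toAlgHom S Ex E'').comp ρx
  have hρx : IsUnit (ρ x) := hux.map (IsScalarTower.toAlgHom S Ex E'')
  obtain ⟨hv, hd⟩ := hkey E'' ρ hρx
  have hyδ : ∀ i, y i * y i = ρ (δ₀ i) := by
    intro i
    rw [hy i]
    rfl
  have hyu : ∀ i, IsUnit (y i) := by
    intro i
    have h1 : IsUnit (y i * y i) := by
      rw [hyδ]
      exact (hδu i).map (IsScalarTower.toAlgHom S Ex E'')
    exact isUnit_of_mul_isUnit_left h1
  choose yi hyi using fun i => (hyu i).exists_right_inv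
  have hlamK'' : ∀ k, lamE lam E'' (lamE lam E'' k) = k := lamE_lamE lam E'' hlam
  let τ : LamInv (E'' ⊗[S] R) (Matrix (Fin n) (Fin n) (E'' ⊗[S] R)) (lamE lam E'') :=
    LamInv.transpose (lamE lam E'') (Fin n) hlamK''
  have hτ : ∀ X, τ X = lamTr (lamE lam E'') X := fun _ => rfl
  obtain ⟨vu, hvu⟩ := hv
  let Y' : Matrix (Fin n) (Fin n) (E'' ⊗[S] R) :=
    Matrix.diagonal (fun i => algebraMap E'' (E'' ⊗[S] R) (yi i))
  let Y : Matrix (Fin n) (Fin n) (E'' ⊗[S] R) :=
    Matrix.diagonal (fun i => algebraMap E'' (E'' ⊗[S] R) (y i))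
  have hYY' : Y * Y' = 1 := by
    show Matrix.diagonal _ * Matrix.diagonal _ = 1
    rw [Matrix.diagonal_mul_diagonal, ← Matrix.diagonal_one]
    congr 1
    funext i
    rw [← map_mul, hyi, map_one]
  have hY'Y : Y' * Y = 1 := by
    show Matrix.diagonal _ * Matrix.diagonal _ = 1
    rw [Matrix.diagonal_mul_diagonal, ← Matrix.diagonal_one]
    congr 1
    funext i
    rw [← map_mul, mul_comm, hyi, map_one]
  have hτY' : τ Y' = Y' := by
    ext i j
    show lamE lam E'' (Y' j i) = Y' i j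
    by_cases hij : i = j
    · subst hij
      show lamE lam E'' (Matrix.diagonal _ i i) = Matrix.diagonal _ i i
      rw [Matrix.diagonal_apply_eq, lamE_algebraMap]
    · show lamE lam E'' (Matrix.diagonal _ j i) = Matrix.diagonal _ i j
      rw [Matrix.diagonal_apply_ne _ hij, Matrix.diagonal_apply_ne _ (Ne.symm hij), map_zero]
  let Qu : (Matrix (Fin n) (Fin n) (E'' ⊗[S] R))ˣ :=
    ⟨Y' * τ ↑vu, τ ↑vu⁻¹ * Y, by
      rw [mul_assoc, ← mul_assoc (τ ↑vu), ← τ.map_mul, Units.inv_mul, τ.map_one, one_mul, hY'Y],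
     by
      rw [mul_assoc, ← mul_assoc Y, hYY', one_mul, ← τ.map_mul, Units.mul_inv, τ.map_one]⟩
  -- a prime over `P`
  obtain ⟨Px, hPxprime, hPx⟩ := exists_prime_away P x hxP
  obtain ⟨P'', hP''⟩ := PrimeSpectrum.comap_surjective_of_faithfullyFlat (A := Ex) (B := E'')
    ⟨Px, hPxprime⟩
  refine ⟨E'', inferInstance, inferInstance, inferInstance, ρ, P''.asIdeal, P''.2, ?_, Qu, ?_⟩
  · have h1 : P''.asIdeal.comap (algebraMap Ex E'') = Px := congrArg PrimeSpectrum.asIdeal hP''
    rw [← hPx, ← h1]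
    rfl
  · show Y' * τ ↑vu * V.map (GMap (R := R) ρ) * lamTr (lamE lam E'') (Y' * τ ↑vu) = 1
    rw [← hτ, τ.map_mul, τ.invol, hτY']
    have hd' : τ ↑vu * V.map (GMap (R := R) ρ) * (↑vu : Matrix (Fin n) (Fin n) (E'' ⊗[S] R)) =
        Y * Y := by
      rw [hvu]
      refine hd.trans ?_
      show _ = Matrix.diagonal _ * Matrix.diagonal _
      rw [Matrix.diagonal_mul_diagonal]
      congr 1
      funext i
      rw [← map_mul, hyδ]
    calc Y' * τ ↑vu * V.map (GMap (R := R) ρ) *
          ((↑vu : Matrix (Fin n) (Fin n) (E'' ⊗[S] R)) * Y')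
        = Y' * (τ ↑vu * V.map (GMap (R := R) ρ) *
            (↑vu : Matrix (Fin n) (Fin n) (E'' ⊗[S] R))) * Y' := by simp only [mul_assoc]
      _ = (Y' * Y) * (Y * Y') := by rw [hd']; simp only [mul_assoc]
      _ = 1 := by rw [hY'Y, hYY', one_mul]

end Groth.Agent.Lib.Helper52.HermSqrt
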