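import Mathlib

/-!
# Flat base change of `ker g ⧸ (B ∩ ker g)` over a field
-/

set_option autoImplicit false
set_option linter.unusedSectionVars false
set_option linter.style.haveILetI false

namespace Groth.Agent.Lib.Helper52.HochBCA

open TensorProduct

variable {K : Type*} [Field K] {R : Type*} [CommRing R] [Algebra K R]
  {Y W : Type*} [AddCommGroup Y] [Module K Y] [AddCommGroup W] [Module K W]
  {Y' W' : Type*} [AddCommGroup Y'] [Module R Y'] [AddCommGroup W'] [Module R W']

/-- **Base change of homology** along a field extension-like map `K → R`, transported along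
identifications `ψY`, `ψW`. -/
theorem exists_homology_baseChange
    (g : Y →ₗ[K] W) (B : Submodule K Y)
    (g' : Y' →ₗ[R] W') (B' : Submodule R Y')
    (ψY : R ⊗[K] Y ≃ₗ[R] Y') (ψW : R ⊗[K] W →ₗ[R] W') (hψW : Function.Injective ψW)
    (hg : ∀ x, g' (ψY x) = ψW (g.baseChange R x))
    (hB : ∀ x : R ⊗[K] Y, ψY x ∈ B' ↔ x ∈ LinearMap.range (B.subtype.lTensor R)) :
    ∃ e : R ⊗[K] (LinearMap.ker g ⧸ B.comap (LinearMap.ker g).subtype) ≃ₗ[R]
        (LinearMap.ker g' ⧸ B'.comap (LinearMap.ker g').subtype),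
      ∀ (r : R) (z : LinearMap.ker g) (hz : ψY (r ⊗ₜ[K] (z : Y)) ∈ LinearMap.ker g'),
        e (r ⊗ₜ[K] Submodule.Quotient.mk z) = Submodule.Quotient.mk ⟨ψY (r ⊗ₜ[K] (z : Y)), hz⟩ := by
  classical
  letI : Module K Y' := Module.compHom Y' (algebraMap K R)
  haveI : IsScalarTower K R Y' := ⟨fun k r y => by
    change (k • r) • y = algebraMap K R k • (r • y)
    rw [Algebra.smul_def, mul_smul]⟩
  set Z := LinearMap.ker g with hZ
  set ι := Z.subtype with hι
  set P := B.comap ι with hP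
  set Z' := LinearMap.ker g' with hZ'
  set P' := B'.comap Z'.subtype with hP'
  have hgι : ∀ x : R ⊗[K] Z, g.baseChange R (ι.baseChange R x) = 0 := by
    intro x
    have : (g.baseChange R) ∘ₗ (ι.baseChange R) = 0 := by
      rw [← LinearMap.baseChange_comp]
      have : g ∘ₗ ι = 0 := by
        ext z
        exact z.2
      rw [this, LinearMap.baseChange_zero]
    exact LinearMap.congr_fun this x
  let α : R ⊗[K] Z →ₗ[R] Z' :=
    LinearMap.codRestrict Z' (ψY.toLinearMap ∘ₗ ι.baseChange R) (by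
      intro x
      change g' (ψY (ι.baseChange R x)) = 0
      rw [hg, hgι, map_zero])
  have hα : ∀ x, ((α x : Z') : Y') = ψY (ι.baseChange R x) := fun x => rfl
  let β : R ⊗[K] Z →ₗ[R] Z' ⧸ P' := P'.mkQ ∘ₗ α
  let l₀ : Z →ₗ[K] Z' ⧸ P' := (β.restrictScalars K) ∘ₗ (TensorProduct.mk K R Z 1)
  have hl₀ : P ≤ LinearMap.ker l₀ := by
    intro z hz
    change P'.mkQ (α (1 ⊗ₜ[K] z)) = 0
    rw [Submodule.mkQ_apply, Submodule.Quotient.mk_eq_zero]
    change ((α (1 ⊗ₜ[K] z) : Z') : Y') ∈ B'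
    rw [hα, hB]
    refine ⟨(1 : R) ⊗ₜ[K] (⟨ι z, hz⟩ : B), ?_⟩
    rfl
  let l : Z ⧸ P →ₗ[K] Z' ⧸ P' := P.liftQ l₀ hl₀
  let e₀ : R ⊗[K] (Z ⧸ P) →ₗ[R] Z' ⧸ P' := LinearMap.liftBaseChange R l
  have he₀ : ∀ (r : R) (z : Z), e₀ (r ⊗ₜ[K] Submodule.Quotient.mk z) = β (r ⊗ₜ[K] z) := by
    intro r z
    change LinearMap.liftBaseChange R l (r ⊗ₜ[K] P.mkQ z) = _
    rw [LinearMap.liftBaseChange_tmul]
    change r • β ((1 : R) ⊗ₜ[K] z) = _
    rw [← map_smul, smul_tmul', smul_eq_mul, mul_one]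
  have he₀' : e₀ ∘ₗ (P.mkQ.baseChange R) = β := by
    apply TensorProduct.AlgebraTensorModule.ext
    intro r z
    exact he₀ r z
  have hsurj : Function.Surjective e₀ := by
    intro y
    obtain ⟨w, rfl⟩ := Submodule.Quotient.mk_surjective _ y
    have h1 : g.baseChange R (ψY.symm (w : Y')) = 0 := by
      apply hψW
      rw [← hg, LinearEquiv.apply_symm_apply, map_zero]
      exact w.2
    have hex : Function.Exact (ι.lTensor R) (g.lTensor R) :=
      Module.Flat.lTensor_exact R (LinearMap.exact_subtype_ker_map g)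
    have h2 : g.lTensor R (ψY.symm (w : Y')) = 0 := by
      rw [← LinearMap.baseChange_eq_ltensor]
      exact h1
    obtain ⟨z, hz⟩ := (hex _).mp h2
    refine ⟨P.mkQ.baseChange R z, ?_⟩
    rw [← LinearMap.comp_apply, he₀']
    change P'.mkQ (α z) = _
    have hαz : α z = w := by
      apply Subtype.ext
      rw [hα, LinearMap.baseChange_eq_ltensor, hz, LinearEquiv.apply_symm_apply]
    rw [hαz]
    rfl
  have hinj : Function.Injective e₀ := by
    rw [injective_iff_map_eq_zero]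
    intro x hx
    have hs : Function.Surjective (P.mkQ.baseChange R) := by
      rw [LinearMap.baseChange_eq_ltensor]
      exact LinearMap.lTensor_surjective R (Submodule.mkQ_surjective P)
    obtain ⟨z, rfl⟩ := hs x
    rw [← LinearMap.comp_apply, he₀'] at hx
    change P'.mkQ (α z) = 0 at hx
    rw [Submodule.mkQ_apply, Submodule.Quotient.mk_eq_zero] at hx
    have hx' : ψY (ι.baseChange R z) ∈ B' := hx
    rw [hB] at hx'
    obtain ⟨b, hb⟩ := hx'
    -- exactness for `P → Z → Y ⧸ B`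
    let q : Y →ₗ[K] Y ⧸ B := B.mkQ
    have hker : LinearMap.ker (q ∘ₗ ι) = P := by
      rw [LinearMap.ker_comp, Submodule.ker_mkQ]
    have hex0 : Function.Exact P.subtype (q ∘ₗ ι) := by
      rw [← hker]
      exact LinearMap.exact_subtype_ker_map _
    have hex : Function.Exact (P.subtype.lTensor R) ((q ∘ₗ ι).lTensor R) :=
      Module.Flat.lTensor_exact R hex0
    have h3 : (q ∘ₗ ι).lTensor R z = 0 := by
      rw [LinearMap.lTensor_comp, LinearMap.comp_apply, ← LinearMap.baseChange_eq_ltensor ι, ← hb,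
        ← LinearMap.comp_apply, ← LinearMap.lTensor_comp]
      have : q ∘ₗ B.subtype = 0 := by
        ext y
        change B.mkQ (y : Y) = 0
        rw [Submodule.mkQ_apply, Submodule.Quotient.mk_eq_zero]
        exact y.2
      rw [this, LinearMap.lTensor_zero, LinearMap.zero_apply]
    obtain ⟨p, hp⟩ := (hex _).mp h3
    rw [← hp, LinearMap.baseChange_eq_ltensor, ← LinearMap.comp_apply, ← LinearMap.lTensor_comp]
    have : P.mkQ ∘ₗ P.subtype = 0 := by
      ext y
      change P.mkQ (y : Z) = 0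
      rw [Submodule.mkQ_apply, Submodule.Quotient.mk_eq_zero]
      exact y.2
    rw [this, LinearMap.lTensor_zero, LinearMap.zero_apply]
  refine ⟨LinearEquiv.ofBijective e₀ ⟨hinj, hsurj⟩, ?_⟩
  intro r z hz
  change e₀ (r ⊗ₜ[K] Submodule.Quotient.mk z) = _
  rw [he₀]
  change P'.mkQ (α (r ⊗ₜ[K] z)) = _
  rfl

end Groth.Agent.Lib.Helper52.HochBCA
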