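import Mathlib
import Groth.Prelude.Def_Hoch
import Groth.Prelude.Def_CoactBr2
import Groth.Agent.Lib.Helper52.HochBCA

/-!
# Base change of the Hochschild complex of a comodule over a field
-/

set_option autoImplicit false
set_option linter.unusedSectionVars false
set_option linter.style.haveILetI false

namespace Groth.Agent.Lib.Helper52.HochBCB

open TensorProduct

universe u v w

variable (K : Type u) [Field K] (A : Type v) [CommRing A] [HopfAlgebra K A]
  (V : Type v) [AddCommGroup V] [Module K V] [HopfRep.Comod K A V]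
  (R : Type w) [CommRing R] [Algebra K R]

/-- the canonical comparison isomorphisms -/
noncomputable def psi : (n : ℕ) →
    R ⊗[K] (Hoch.cochain K A V n) ≃ₗ[R] (Hoch.cochain R (R ⊗[K] A) (R ⊗[K] V) n)
  | 0 => LinearEquiv.refl R (R ⊗[K] V)
  | n + 1 =>
    (TensorProduct.AlgebraTensorModule.distribBaseChange K R (Hoch.cochain K A V n) A).trans
      (TensorProduct.congr (psi n) (LinearEquiv.refl R (R ⊗[K] A)))

theorem psi_zero (x : R ⊗[K] V) : psi K A V R 0 x = x := rfl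

theorem psi_succ_tmul (n : ℕ) (r : R) (c : Hoch.cochain K A V n) (a : A) :
    psi K A V R (n + 1) (r ⊗ₜ[K] (c ⊗ₜ[K] a)) =
      (psi K A V R n (r ⊗ₜ[K] c)) ⊗ₜ[R] ((1 : R) ⊗ₜ[K] a) := by
  change (TensorProduct.congr (psi K A V R n) (LinearEquiv.refl R (R ⊗[K] A)))
    ((TensorProduct.AlgebraTensorModule.distribBaseChange K R (Hoch.cochain K A V n) A)
      (r ⊗ₜ[K] (c ⊗ₜ[K] a))) = _
  rw [TensorProduct.AlgebraTensorModule.distribBaseChange_tmul]
  rfl

/-- any family `φ` with the two defining properties is `psi` -/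
theorem eq_psi
    (φ : ∀ n : ℕ, R ⊗[K] (Hoch.cochain K A V n) →ₗ[R]
      (Hoch.cochain R (R ⊗[K] A) (R ⊗[K] V) n))
    (hφ0 : ∀ x : R ⊗[K] V, φ 0 x = x)
    (hφs : ∀ (n : ℕ) (r : R) (c : Hoch.cochain K A V n) (a : A),
      φ (n + 1) (r ⊗ₜ[K] (c ⊗ₜ[K] a)) = (φ n (r ⊗ₜ[K] c)) ⊗ₜ[R] ((1 : R) ⊗ₜ[K] a)) (n : ℕ) :
    φ n = (psi K A V R n).toLinearMap := by
  induction n with
  | zero =>
    ext x
    exact hφ0 _
  | succ n ih =>
    apply LinearMap.ext
    intro x
    induction x using TensorProduct.induction_on with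
    | zero => rw [map_zero, map_zero]
    | add x₁ x₂ h₁ h₂ => rw [map_add, map_add, h₁, h₂]
    | tmul r y =>
      induction y using TensorProduct.induction_on with
      | zero => rw [tmul_zero, map_zero, map_zero]
      | tmul c a =>
        rw [hφs, ih]
        exact (psi_succ_tmul K A V R n r c a).symm
      | add y₁ y₂ h₁ h₂ => rw [tmul_add, map_add, map_add, h₁, h₂]

/-- the base-changed comodule structure, as a local instance -/
@[reducible] noncomputable def instBC : HopfRep.Comod R (R ⊗[K] A) (R ⊗[K] V) :=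
  CoactBr.Comod.baseChange K R A V

attribute [local instance] instBC

theorem neg_one_pow_smul {M : Type*} [AddCommGroup M] [Module K M] [Module R M]
    [IsScalarTower K R M] (m : ℕ) (z : M) : ((-1 : K) ^ m) • z = ((-1 : R) ^ m) • z := by
  rw [← algebraMap_smul R ((-1 : K) ^ m) z, map_pow, map_neg, map_one]

/-- `psi 1` in terms of the middle-four interchange -/
theorem psi_one_eq (r : R) (t : V ⊗[K] A) :
    psi K A V R 1 (r ⊗ₜ[K] t) =
      AlgebraTensorModule.tensorTensorTensorComm K R K R R R V A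
        (((1 : R) ⊗ₜ[R] r) ⊗ₜ[K] t) := by
  induction t using TensorProduct.induction_on with
  | zero => rw [tmul_zero, map_zero, tmul_zero, map_zero]
  | add t₁ t₂ h₁ h₂ => rw [tmul_add, map_add, h₁, h₂, tmul_add, map_add]
  | tmul v a =>
    rw [psi_succ_tmul, psi_zero, AlgebraTensorModule.tensorTensorTensorComm_tmul]
    have e1 : r ⊗ₜ[K] v = r • ((1 : R) ⊗ₜ[K] v) := by
      rw [smul_tmul', smul_eq_mul, mul_one]
    have e2 : r ⊗ₜ[K] a = r • ((1 : R) ⊗ₜ[K] a) := by
      rw [smul_tmul', smul_eq_mul, mul_one]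
    rw [e1, e2, smul_tmul]

/-- compatibility in degree zero -/
theorem psi_d_zero (x : R ⊗[K] V) :
    psi K A V R 1 ((Hoch.d K A V 0).baseChange R x) =
      Hoch.d R (R ⊗[K] A) (R ⊗[K] V) 0 (psi K A V R 0 x) := by
  induction x using TensorProduct.induction_on with
  | zero => rw [map_zero, map_zero, map_zero, map_zero]
  | add x₁ x₂ h₁ h₂ => rw [map_add, map_add, map_add, map_add, h₁, h₂]
  | tmul r v =>
    rw [LinearMap.baseChange_tmul, psi_zero, Hoch.d_zero_apply, Hoch.d_zero_apply, tmul_sub,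
      map_sub, psi_one_eq, psi_succ_tmul, psi_zero]
    rfl

/-- the map `a₁ ⊗ a₂ ↦ (1 ⊗ a₁) ⊗ (1 ⊗ a₂)` -/
noncomputable def T (u : A ⊗[K] A) : (R ⊗[K] A) ⊗[R] (R ⊗[K] A) :=
  AlgebraTensorModule.tensorTensorTensorComm K R K R R R A A (((1 : R) ⊗ₜ[R] (1 : R)) ⊗ₜ[K] u)

theorem T_tmul (a₁ a₂ : A) :
    T K A R (a₁ ⊗ₜ[K] a₂) = ((1 : R) ⊗ₜ[K] a₁) ⊗ₜ[R] ((1 : R) ⊗ₜ[K] a₂) := by
  rw [T, AlgebraTensorModule.tensorTensorTensorComm_tmul]

theorem T_add (u₁ u₂ : A ⊗[K] A) : T K A R (u₁ + u₂) = T K A R u₁ + T K A R u₂ := by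
  rw [T, T, T, tmul_add, map_add]

theorem T_sub (u₁ u₂ : A ⊗[K] A) : T K A R (u₁ - u₂) = T K A R u₁ - T K A R u₂ := by
  rw [T, T, T, tmul_sub, map_sub]

theorem T_zero : T K A R 0 = 0 := by
  rw [T, tmul_zero, map_zero]

theorem T_comul (a : A) :
    T K A R (Coalgebra.comul (R := K) a) =
      Coalgebra.comul (R := R) (A := R ⊗[K] A) ((1 : R) ⊗ₜ[K] a) := rfl

theorem psi_assoc (n : ℕ) (r : R) (c : Hoch.cochain K A V n) (u : A ⊗[K] A) :
    psi K A V R (n + 2) (r ⊗ₜ[K] ((TensorProduct.assoc K (Hoch.cochain K A V n) A A).symm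
        (c ⊗ₜ[K] u))) =
      (TensorProduct.assoc R (Hoch.cochain R (R ⊗[K] A) (R ⊗[K] V) n) (R ⊗[K] A) (R ⊗[K] A)).symm
        ((psi K A V R n (r ⊗ₜ[K] c)) ⊗ₜ[R] T K A R u) := by
  induction u using TensorProduct.induction_on with
  | zero => rw [tmul_zero, map_zero, tmul_zero, map_zero, T_zero, tmul_zero, map_zero]
  | add u₁ u₂ h₁ h₂ =>
    rw [tmul_add, map_add, tmul_add, map_add, h₁, h₂, T_add, tmul_add, map_add]
  | tmul a₁ a₂ =>
    rw [T_tmul, TensorProduct.assoc_symm_tmul, TensorProduct.assoc_symm_tmul]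
    rw [psi_succ_tmul, psi_succ_tmul]

theorem psi_tail (n : ℕ) (r : R) (c : Hoch.cochain K A V n) (a : A) :
    psi K A V R (n + 2) (r ⊗ₜ[K] (Hoch.tail K A (Hoch.cochain K A V n) (c ⊗ₜ[K] a))) =
      Hoch.tail R (R ⊗[K] A) (Hoch.cochain R (R ⊗[K] A) (R ⊗[K] V) n)
        ((psi K A V R n (r ⊗ₜ[K] c)) ⊗ₜ[R] ((1 : R) ⊗ₜ[K] a)) := by
  rw [Hoch.tail_tmul, Hoch.tail_tmul, psi_assoc, T_sub, T_sub, T_comul, T_tmul, T_tmul]
  rfl

/-- **The comparison maps commute with the Hochschild differentials.** -/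
theorem psi_d (n : ℕ) (x : R ⊗[K] (Hoch.cochain K A V n)) :
    psi K A V R (n + 1) ((Hoch.d K A V n).baseChange R x) =
      Hoch.d R (R ⊗[K] A) (R ⊗[K] V) n (psi K A V R n x) := by
  induction n with
  | zero => exact psi_d_zero K A V R x
  | succ n ih =>
    induction x using TensorProduct.induction_on with
    | zero => rw [map_zero, map_zero, map_zero, map_zero]
    | add x₁ x₂ h₁ h₂ => rw [map_add, map_add, map_add, map_add, h₁, h₂]
    | tmul r y =>
      induction y using TensorProduct.induction_on with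
      | zero => rw [tmul_zero, map_zero, map_zero, map_zero, map_zero]
      | add y₁ y₂ h₁ h₂ => rw [tmul_add, map_add, map_add, map_add, map_add, h₁, h₂]
      | tmul c a =>
        have h := ih (r ⊗ₜ[K] c)
        rw [LinearMap.baseChange_tmul] at h
        have e1 : (Hoch.d K A V (n + 1)) (c ⊗ₜ[K] a) =
            (Hoch.d K A V n c) ⊗ₜ[K] a +
              ((-1 : K) ^ (n + 1)) • Hoch.tail K A (Hoch.cochain K A V n) (c ⊗ₜ[K] a) := rfl
        have e2 : ∀ z : (Hoch.cochain R (R ⊗[K] A) (R ⊗[K] V) n) ⊗[R] (R ⊗[K] A),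
            (Hoch.d R (R ⊗[K] A) (R ⊗[K] V) (n + 1)) z =
            (Hoch.d R (R ⊗[K] A) (R ⊗[K] V) n).rTensor (R ⊗[K] A) z +
              ((-1 : R) ^ (n + 1)) •
                Hoch.tail R (R ⊗[K] A) (Hoch.cochain R (R ⊗[K] A) (R ⊗[K] V) n) z := fun z => rfl
        have e3 : r ⊗ₜ[K] (((-1 : K) ^ (n + 1)) •
              Hoch.tail K A (Hoch.cochain K A V n) (c ⊗ₜ[K] a)) =
            ((-1 : R) ^ (n + 1)) •
              (r ⊗ₜ[K] Hoch.tail K A (Hoch.cochain K A V n) (c ⊗ₜ[K] a) :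
                R ⊗[K] ((Hoch.cochain K A V n ⊗[K] A) ⊗[K] A)) := by
          rw [tmul_smul]
          exact neg_one_pow_smul K R (M := R ⊗[K] ((Hoch.cochain K A V n ⊗[K] A) ⊗[K] A)) (n + 1)
            (r ⊗ₜ[K] Hoch.tail K A (Hoch.cochain K A V n) (c ⊗ₜ[K] a))
        rw [LinearMap.baseChange_tmul, e1, tmul_add, map_add, e3, map_smul]
        rw [psi_succ_tmul K A V R (n + 1) r (Hoch.d K A V n c) a, h]
        rw [psi_tail]
        rw [psi_succ_tmul K A V R n r c a, e2, LinearMap.rTensor_tmul]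

theorem coboundaries_iff (n : ℕ) (x : R ⊗[K] (Hoch.cochain K A V n)) :
    psi K A V R n x ∈ Hoch.coboundaries R (R ⊗[K] A) (R ⊗[K] V) n ↔
      x ∈ LinearMap.range ((Hoch.coboundaries K A V n).subtype.lTensor R) := by
  cases n with
  | zero =>
    change psi K A V R 0 x ∈ (⊥ : Submodule R (R ⊗[K] V)) ↔
      x ∈ LinearMap.range ((⊥ : Submodule K V).subtype.lTensor R)
    have h0 : (⊥ : Submodule K V).subtype = 0 := by
      ext y
      exact (Submodule.mem_bot K).mp y.2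
    rw [h0, LinearMap.lTensor_zero, LinearMap.range_zero, Submodule.mem_bot, Submodule.mem_bot,
      psi_zero]
  | succ n =>
    change psi K A V R (n + 1) x ∈ LinearMap.range (Hoch.d R (R ⊗[K] A) (R ⊗[K] V) n) ↔
      x ∈ LinearMap.range ((LinearMap.range (Hoch.d K A V n)).subtype.lTensor R)
    have hfac : (Hoch.d K A V n).lTensor R =
        ((LinearMap.range (Hoch.d K A V n)).subtype.lTensor R) ∘ₗ
          ((Hoch.d K A V n).rangeRestrict.lTensor R) := by
      rw [← LinearMap.lTensor_comp]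
      congr 1
    constructor
    · rintro ⟨y', hy'⟩
      obtain ⟨y, rfl⟩ := (psi K A V R n).surjective y'
      rw [← psi_d] at hy'
      have hx : x = (Hoch.d K A V n).baseChange R y :=
        ((psi K A V R (n + 1)).injective hy').symm
      rw [hx, LinearMap.baseChange_eq_ltensor, hfac]
      exact ⟨_, rfl⟩
    · rintro ⟨z, rfl⟩
      have hs : Function.Surjective ((Hoch.d K A V n).rangeRestrict.lTensor R) :=
        LinearMap.lTensor_surjective R (LinearMap.surjective_rangeRestrict _)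
      obtain ⟨y, rfl⟩ := hs z
      rw [← LinearMap.comp_apply, ← hfac, ← LinearMap.baseChange_eq_ltensor, psi_d]
      exact ⟨_, rfl⟩

/-- **Base change for Hochschild cohomology over a field.** -/
theorem exists_H_equiv (n : ℕ) :
    ∃ e : R ⊗[K] Hoch.H K A V n ≃ₗ[R] Hoch.H R (R ⊗[K] A) (R ⊗[K] V) n,
      ∀ (r : R) (z : Hoch.cocycles K A V n)
        (hz : psi K A V R n (r ⊗ₜ[K] (z : Hoch.cochain K A V n)) ∈
          Hoch.cocycles R (R ⊗[K] A) (R ⊗[K] V) n),
        e (r ⊗ₜ[K] Hoch.H.mk K A V n z) =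
          Hoch.H.mk R (R ⊗[K] A) (R ⊗[K] V) n
            ⟨psi K A V R n (r ⊗ₜ[K] (z : Hoch.cochain K A V n)), hz⟩ :=
  Groth.Agent.Lib.Helper52.HochBCA.exists_homology_baseChange
    (Hoch.d K A V n) (Hoch.coboundaries K A V n)
    (Hoch.d R (R ⊗[K] A) (R ⊗[K] V) n) (Hoch.coboundaries R (R ⊗[K] A) (R ⊗[K] V) n)
    (psi K A V R n) (psi K A V R (n + 1)).toLinearMap (psi K A V R (n + 1)).injective
    (fun x => (psi_d K A V R n x).symm) (coboundaries_iff K A V R n)

end Groth.Agent.Lib.Helper52.HochBCB
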