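import Mathlib

/-!
# The Hopf lemma on 1-generic bilinear maps

Over an algebraically closed field, `w` bilinear forms on `k^a × k^b` with `w + 2 ≤ a + b` have a
common zero `(u, v)` with `u ≠ 0` and `v ≠ 0`.  Proof: Krull's height theorem in the coordinate ring
`R = k[x_i y_j]` of the Segre cone, in which the irrelevant maximal ideal has height `≥ a + b - 1`.
-/

set_option autoImplicit false
set_option linter.style.haveILetI false

namespace Groth.Agent.Lib.Helper52.HopfLemma

open MvPolynomial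

section Segre

variable (k : Type*) [Field k] (a b : ℕ)

/-- index type for the variables `x_i`, `y_j` -/
abbrev Var := Fin a ⊕ Fin b

/-- the products `x_i y_j` -/
noncomputable def gen (p : Fin a × Fin b) : MvPolynomial (Var a b) k :=
  X (Sum.inl p.1) * X (Sum.inr p.2)

/-- the coordinate ring of the Segre cone -/
noncomputable def SegreRing : Subalgebra k (MvPolynomial (Var a b) k) :=
  Algebra.adjoin k (Set.range (gen k a b))

/-- the generators, as elements of the Segre ring -/
noncomputable def g (p : Fin a × Fin b) : SegreRing k a b :=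
  ⟨gen k a b p, Algebra.subset_adjoin ⟨p, rfl⟩⟩

instance : Algebra.FiniteType k (SegreRing k a b) := by
  rw [← Subalgebra.fg_iff_finiteType]
  have : (Set.range (gen k a b)) = (((Set.finite_range (gen k a b)).toFinset : Finset _) : Set _) :=
    (Set.Finite.coe_toFinset _).symm
  rw [SegreRing, this]
  exact Subalgebra.fg_adjoin_finset _

instance : IsNoetherianRing (SegreRing k a b) := Algebra.FiniteType.isNoetherianRing k _

instance : IsJacobsonRing (SegreRing k a b) := isJacobsonRing_of_finiteType (A := k)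

variable {k a b}

theorem algHom_ext {B : Type*} [Semiring B] [Algebra k B] {φ ψ : SegreRing k a b →ₐ[k] B}
    (h : ∀ p, φ (g k a b p) = ψ (g k a b p)) : φ = ψ := by
  apply AlgHom.adjoin_ext
  rintro _ ⟨p, rfl⟩
  exact h p

open Classical in
/-- set the variables in `S` to zero -/
noncomputable def theta (S : Set (Var a b)) : MvPolynomial (Var a b) k →ₐ[k] MvPolynomial (Var a b) k :=
  aeval (fun i => if i ∈ S then 0 else X i)

theorem theta_X_of_mem {S : Set (Var a b)} {i : Var a b} (hi : i ∈ S) :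
    theta (k := k) S (X i) = 0 := by
  simp only [theta, aeval_X, if_pos hi]

theorem theta_X_of_notMem {S : Set (Var a b)} {i : Var a b} (hi : i ∉ S) :
    theta (k := k) S (X i) = X i := by
  simp only [theta, aeval_X, if_neg hi]

theorem theta_comp {S S' : Set (Var a b)} (h : S ⊆ S') (r : MvPolynomial (Var a b) k) :
    theta S' (theta S r) = theta S' r := by
  have : (theta (k := k) S').comp (theta S) = theta S' := by
    apply MvPolynomial.algHom_ext
    intro i
    rw [AlgHom.comp_apply]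
    by_cases hi : i ∈ S
    · rw [theta_X_of_mem hi, theta_X_of_mem (h hi), map_zero]
    · rw [theta_X_of_notMem hi]
  exact AlgHom.congr_fun this r

/-- the prime ideal of the Segre ring obtained by setting the variables in `S` to zero -/
noncomputable def Q (S : Set (Var a b)) : Ideal (SegreRing k a b) :=
  RingHom.ker ((theta S).comp (SegreRing k a b).val : SegreRing k a b →ₐ[k] _)

instance (S : Set (Var a b)) : (Q (k := k) S).IsPrime := RingHom.ker_isPrime _

theorem mem_Q {S : Set (Var a b)} {r : SegreRing k a b} :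
    r ∈ Q S ↔ theta S (r : MvPolynomial (Var a b) k) = 0 := by
  rw [Q, RingHom.mem_ker]
  rfl

theorem Q_mono {S S' : Set (Var a b)} (h : S ⊆ S') : Q (k := k) S ≤ Q S' := by
  intro r hr
  rw [mem_Q] at hr ⊢
  rw [← theta_comp h, hr, map_zero]

theorem g_mem_Q {S : Set (Var a b)} (p : Fin a × Fin b) :
    g k a b p ∈ Q S ↔ Sum.inl p.1 ∈ S ∨ Sum.inr p.2 ∈ S := by
  rw [mem_Q]
  show theta S (X (Sum.inl p.1) * X (Sum.inr p.2)) = 0 ↔ _
  rw [map_mul, mul_eq_zero]
  constructor
  · rintro (h | h)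
    · left; by_contra hc; rw [theta_X_of_notMem hc] at h; exact X_ne_zero _ h
    · right; by_contra hc; rw [theta_X_of_notMem hc] at h; exact X_ne_zero _ h
  · rintro (h | h)
    · left; exact theta_X_of_mem h
    · right; exact theta_X_of_mem h

theorem Q_lt {S S' : Set (Var a b)} (h : S ⊆ S') (p : Fin a × Fin b)
    (hp : Sum.inl p.1 ∈ S' ∨ Sum.inr p.2 ∈ S') (h1 : Sum.inl p.1 ∉ S) (h2 : Sum.inr p.2 ∉ S) :
    Q (k := k) S < Q S' := by
  refine lt_of_le_of_ne (Q_mono h) ?_
  intro heq
  have : g k a b p ∈ Q (k := k) S := by rw [heq, g_mem_Q]; exact hp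
  rw [g_mem_Q] at this
  tauto

theorem height_Q_lt {S S' : Set (Var a b)} (h : S ⊆ S') (p : Fin a × Fin b)
    (hp : Sum.inl p.1 ∈ S' ∨ Sum.inr p.2 ∈ S') (h1 : Sum.inl p.1 ∉ S) (h2 : Sum.inr p.2 ∉ S) :
    (Q (k := k) S).height + 1 ≤ (Q (k := k) S').height :=
  Ideal.height_add_one_le_of_lt_of_isPrime (Q_lt h p hp h1 h2)

/-- the first chain of variable sets: `x_i` with `i < m` -/
def setA (a b m : ℕ) : Set (Var a b) := {z | Sum.elim (fun i : Fin a => i.val < m) (fun _ => False) z}

/-- the second chain: `x_i` with `i + 1 < a` and `y_j` with `j < t` -/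
def setB (a b t : ℕ) : Set (Var a b) :=
  {z | Sum.elim (fun i : Fin a => i.val + 1 < a) (fun j : Fin b => j.val < t) z}

theorem height_Q_setA (hb : 0 < b) :
    ∀ m : ℕ, m + 1 ≤ a → (m : ℕ∞) ≤ (Q (k := k) (setA a b m)).height := by
  intro m
  induction m with
  | zero => intro _; simp
  | succ m ih =>
    intro hm
    have h1 := ih (by omega)
    have h2 := height_Q_lt (k := k) (S := setA a b m) (S' := setA a b (m + 1))
      (by
        rintro (i | j) hz
        · exact Nat.lt_succ_of_lt hz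
        · exact hz)
      (⟨m, by omega⟩, ⟨0, hb⟩) (Or.inl (Nat.lt_succ_self m)) (lt_irrefl m) id
    calc ((m + 1 : ℕ) : ℕ∞) = (m : ℕ∞) + 1 := by push_cast; rfl
      _ ≤ (Q (k := k) (setA a b m)).height + 1 := by gcongr
      _ ≤ _ := h2

theorem height_Q_setB (ha : 0 < a) (hb : 0 < b) :
    ∀ t : ℕ, t ≤ b → ((a - 1 + t : ℕ) : ℕ∞) ≤ (Q (k := k) (setB a b t)).height := by
  intro t
  induction t with
  | zero =>
    intro _
    have h0 : setB a b 0 = setA a b (a - 1) := by
      ext z
      rcases z with i | j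
      · show i.val + 1 < a ↔ i.val < a - 1
        omega
      · show j.val < 0 ↔ False
        simp
    rw [h0, add_zero]
    exact height_Q_setA hb (a - 1) (by omega)
  | succ t ih =>
    intro ht
    have h1 := ih (by omega)
    have h2 := height_Q_lt (k := k) (S := setB a b t) (S' := setB a b (t + 1))
      (by
        rintro (i | j) hz
        · exact hz
        · exact Nat.lt_succ_of_lt hz)
      (⟨a - 1, by omega⟩, ⟨t, by omega⟩) (Or.inr (Nat.lt_succ_self t))
      (by show ¬ (a - 1 + 1 < a); omega) (lt_irrefl t)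
    calc ((a - 1 + (t + 1) : ℕ) : ℕ∞) = ((a - 1 + t : ℕ) : ℕ∞) + 1 := by push_cast; ring
      _ ≤ (Q (k := k) (setB a b t)).height + 1 := by gcongr
      _ ≤ _ := h2

/-- evaluation at the origin -/
noncomputable def ev0 : SegreRing k a b →ₐ[k] k :=
  (aeval (fun _ : Var a b => (0 : k))).comp (SegreRing k a b).val

theorem ev0_g (p : Fin a × Fin b) : ev0 (g k a b p) = 0 := by
  show aeval (fun _ : Var a b => (0 : k)) (X (Sum.inl p.1) * X (Sum.inr p.2)) = 0
  rw [map_mul, aeval_X, zero_mul]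

theorem Q_le_ker_ev0 (S : Set (Var a b)) : Q (k := k) S ≤ RingHom.ker (ev0 (k := k) (a := a) (b := b)) := by
  intro r hr
  rw [mem_Q] at hr
  rw [RingHom.mem_ker]
  have hcomp : (aeval (fun _ : Var a b => (0 : k))).comp (theta (k := k) S) =
      aeval (fun _ : Var a b => (0 : k)) := by
    apply MvPolynomial.algHom_ext
    intro i
    rw [AlgHom.comp_apply]
    by_cases hi : i ∈ S
    · rw [theta_X_of_mem hi, map_zero, aeval_X]
    · rw [theta_X_of_notMem hi]
  show aeval (fun _ : Var a b => (0 : k)) (r : MvPolynomial (Var a b) k) = 0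
  rw [← hcomp, AlgHom.comp_apply, hr, map_zero]

end Segre

section Main

variable {k : Type*} [Field k] [IsAlgClosed k] {a b : ℕ}

/-- a `k`-point of the Segre ring from a maximal ideal -/
theorem exists_algHom_of_isMaximal (𝔫 : Ideal (SegreRing k a b)) [h𝔫 : 𝔫.IsMaximal] :
    ∃ ψ : SegreRing k a b →ₐ[k] k, RingHom.ker ψ = 𝔫 := by
  have hbij : Function.Bijective (algebraMap k (SegreRing k a b ⧸ 𝔫)) := by
    letI : Field (SegreRing k a b ⧸ 𝔫) := Ideal.Quotient.field 𝔫
    haveI : Module.Finite k (SegreRing k a b ⧸ 𝔫) := finite_of_finite_type_of_isJacobsonRing k _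
    haveI : Algebra.IsIntegral k (SegreRing k a b ⧸ 𝔫) := Algebra.IsIntegral.of_finite k _
    exact IsAlgClosed.algebraMap_bijective_of_isIntegral
  let e : k ≃ₐ[k] (SegreRing k a b ⧸ 𝔫) := AlgEquiv.ofBijective (Algebra.ofId k _) hbij
  refine ⟨e.symm.toAlgHom.comp (Ideal.Quotient.mkₐ k 𝔫), ?_⟩
  ext r
  rw [RingHom.mem_ker]
  show e.symm (Ideal.Quotient.mk 𝔫 r) = 0 ↔ r ∈ 𝔫
  rw [EmbeddingLike.map_eq_zero_iff]
  exact Ideal.Quotient.eq_zero_iff_mem

/-- **Hopf lemma**, matrix form: `w` bilinear forms on `k^a × k^b` with `w + 2 ≤ a + b` have a common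
zero `(u, v)` with both `u` and `v` nonzero. -/
theorem exists_rankOne_zero (ha : 0 < a) (hb : 0 < b) {w : ℕ} (hw : w + 2 ≤ a + b)
    (M : Fin w → Matrix (Fin a) (Fin b) k) :
    ∃ (u : Fin a → k) (v : Fin b → k), u ≠ 0 ∧ v ≠ 0 ∧
      ∀ i, ∑ j, ∑ l, M i j l * (u j * v l) = 0 := by
  classical
  let f : Fin w → SegreRing k a b := fun i => ∑ j, ∑ l, M i j l • g k a b (j, l)
  let s : Finset (SegreRing k a b) := Finset.univ.image f
  obtain ⟨𝔪, h𝔪⟩ : ∃ 𝔪 : Ideal (SegreRing k a b), 𝔪 = Q (k := k) (setB a b b) := ⟨_, rfl⟩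
  haveI : 𝔪.IsPrime := by rw [h𝔪]; infer_instance
  have hg𝔪 : ∀ p, g k a b p ∈ 𝔪 := by
    intro p
    rw [h𝔪, g_mem_Q]
    right
    exact p.2.isLt
  have hf𝔪 : Ideal.span (s : Set (SegreRing k a b)) ≤ 𝔪 := by
    rw [Ideal.span_le]
    intro x hx
    obtain ⟨i, -, rfl⟩ := Finset.mem_image.mp (Finset.mem_coe.mp hx)
    refine Ideal.sum_mem _ fun j _ => Ideal.sum_mem _ fun l _ => ?_
    rw [Algebra.smul_def]
    exact Ideal.mul_mem_left _ _ (hg𝔪 (j, l))
  obtain ⟨P, hP, hP𝔪⟩ := Ideal.exists_minimalPrimes_le hf𝔪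
  haveI : P.IsPrime := hP.1.1
  have hPht : P.height ≤ (w : ℕ∞) := by
    refine (Ideal.height_le_card_of_mem_minimalPrimes_span_finset hP).trans ?_
    have : s.card ≤ w := by
      have := Finset.card_image_le (s := (Finset.univ : Finset (Fin w))) (f := f)
      simpa using this
    exact_mod_cast this
  have h𝔪ht : ((a - 1 + b : ℕ) : ℕ∞) ≤ 𝔪.height := by
    rw [h𝔪]; exact height_Q_setB ha hb b le_rfl
  have hne : ¬ 𝔪 ≤ P := by
    intro hle
    have h1 : 𝔪.height ≤ P.height := Ideal.height_mono hle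
    have h2 : ((a - 1 + b : ℕ) : ℕ∞) ≤ (w : ℕ∞) := (h𝔪ht.trans h1).trans hPht
    have h3 : a - 1 + b ≤ w := by exact_mod_cast h2
    omega
  have hJ : P.jacobson = P :=
    IsJacobsonRing.out (inferInstance : IsJacobsonRing (SegreRing k a b)) (Ideal.IsPrime.isRadical ‹_›)
  obtain ⟨𝔫, h𝔫max, hP𝔫, h𝔪𝔫⟩ : ∃ 𝔫 : Ideal (SegreRing k a b), 𝔫.IsMaximal ∧ P ≤ 𝔫 ∧ ¬ 𝔪 ≤ 𝔫 := by
    by_contra hcon
    apply hne
    rw [← hJ, Ideal.jacobson, le_sInf_iff]
    rintro 𝔫 ⟨h1, h2⟩
    by_contra h3
    exact hcon ⟨𝔫, h2, h1, h3⟩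
  obtain ⟨ψ, hψ⟩ := exists_algHom_of_isMaximal 𝔫
  have hex : ∃ p, ψ (g k a b p) ≠ 0 := by
    by_contra hcon
    rw [not_exists] at hcon
    have hψ0 : ψ = ev0 := algHom_ext (fun p => by rw [not_not.mp (hcon p), ev0_g])
    apply h𝔪𝔫
    rw [← hψ, hψ0, h𝔪]
    exact Q_le_ker_ev0 _
  obtain ⟨⟨j₀, l₀⟩, h₀⟩ := hex
  obtain ⟨m, hm⟩ : ∃ m : Fin a → Fin b → k, ∀ j l, m j l = ψ (g k a b (j, l)) := ⟨_, fun _ _ => rfl⟩
  have hrel : ∀ j l j' l', m j l * m j' l' = m j l' * m j' l := by
    intro j l j' l'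
    rw [hm, hm, hm, hm, ← map_mul, ← map_mul]
    congr 1
    apply Subtype.ext
    show gen k a b (j, l) * gen k a b (j', l') = gen k a b (j, l') * gen k a b (j', l)
    simp only [gen]
    ring
  have h₀' : m j₀ l₀ ≠ 0 := by rw [hm]; exact h₀
  refine ⟨fun j => m j l₀, fun l => m j₀ l / m j₀ l₀, ?_, ?_, ?_⟩
  · intro h
    exact h₀' (congrFun h j₀)
  · intro h
    have := congrFun h l₀
    simp only [Pi.zero_apply] at this
    rw [div_self h₀'] at this
    exact one_ne_zero this
  · intro i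
    have hfi : ψ (f i) = 0 := by
      have h1 : f i ∈ 𝔫 :=
        hP𝔫 (hP.1.2 (Ideal.subset_span (Finset.mem_coe.mpr
          (Finset.mem_image_of_mem f (Finset.mem_univ i)))))
      rw [← hψ, RingHom.mem_ker] at h1
      exact h1
    have hexp : ψ (f i) = ∑ j, ∑ l, M i j l * m j l := by
      simp only [f, map_sum, map_smul, smul_eq_mul, hm]
    rw [← hfi, hexp]
    refine Finset.sum_congr rfl fun j _ => Finset.sum_congr rfl fun l _ => ?_
    congr 1
    rw [mul_div_assoc', ← hrel j l j₀ l₀, mul_div_assoc, div_self h₀', mul_one]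

/-- **Hopf lemma**: a bilinear map `φ : U × V → W` of finite-dimensional spaces over an
algebraically closed field with `φ u v ≠ 0` for `u, v ≠ 0` has `dim U + dim V ≤ dim W + 1`. -/
theorem finrank_add_le_of_oneGeneric {U V W : Type*} [AddCommGroup U] [Module k U]
    [AddCommGroup V] [Module k V] [AddCommGroup W] [Module k W]
    [Module.Finite k U] [Module.Finite k V] [Module.Finite k W] [Nontrivial U] [Nontrivial V]
    (φ : U →ₗ[k] V →ₗ[k] W) (hφ : ∀ (x : U) (y : V), x ≠ 0 → y ≠ 0 → φ x y ≠ 0) :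
    Module.finrank k U + Module.finrank k V ≤ Module.finrank k W + 1 := by
  classical
  by_contra hcon
  rw [not_le] at hcon
  have ha : 0 < Module.finrank k U := Module.finrank_pos
  have hb : 0 < Module.finrank k V := Module.finrank_pos
  let bU := Module.finBasis k U
  let bV := Module.finBasis k V
  let bW := Module.finBasis k W
  obtain ⟨u, v, hu, hv, huv⟩ := exists_rankOne_zero (k := k) ha hb
    (w := Module.finrank k W) (by omega)
    (fun i => Matrix.of fun j l => bW.repr (φ (bU j) (bV l)) i)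
  have hx : (∑ j, u j • bU j) ≠ 0 := by
    intro h0
    apply hu
    funext j
    have := congrArg (fun z => bU.repr z j) h0
    simpa [Finsupp.single_apply] using this
  have hy : (∑ l, v l • bV l) ≠ 0 := by
    intro h0
    apply hv
    funext l
    have := congrArg (fun z => bV.repr z l) h0
    simpa [Finsupp.single_apply] using this
  apply hφ _ _ hx hy
  have hφxy : φ (∑ j, u j • bU j) (∑ l, v l • bV l) =
      ∑ j, ∑ l, (u j * v l) • φ (bU j) (bV l) := by
    rw [map_sum φ, LinearMap.sum_apply]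
    refine Finset.sum_congr rfl fun j _ => ?_
    rw [map_smul φ, LinearMap.smul_apply, map_sum, Finset.smul_sum]
    refine Finset.sum_congr rfl fun l _ => ?_
    rw [map_smul, smul_smul]
  rw [hφxy]
  apply bW.ext_elem
  intro i
  rw [map_zero, Finsupp.zero_apply, ← huv i, map_sum, Finsupp.coe_finsetSum, Finset.sum_apply]
  refine Finset.sum_congr rfl fun j _ => ?_
  rw [map_sum, Finsupp.coe_finsetSum, Finset.sum_apply]
  refine Finset.sum_congr rfl fun l _ => ?_
  rw [map_smul, Finsupp.smul_apply, smul_eq_mul, Matrix.of_apply, mul_comm]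

end Main

end Groth.Agent.Lib.Helper52.HopfLemma
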