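import Mathlib
import Groth.Prelude.Def_W4c2azumayainvolQEt
import Groth.Prelude.Def_AzInv

/-!
# Quadratic étale algebras with involution

* `span_sub_eq_top` : if `R` is quadratic étale over `S` and `lam` is an involution of `R` with fixed
  ring `S`, the elements `lam b - b` generate the unit ideal (the involution is nowhere ramified).
-/

set_option autoImplicit false
set_option linter.style.haveILetI false
set_option linter.dupNamespace false
set_option linter.unusedSimpArgs false
set_option linter.unusedVariables false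
set_option linter.unusedSectionVars false

namespace Groth.Agent.Lib.Helper52.InvQuad

open scoped TensorProduct Matrix

section Unram

variable {S : Type*} {R : Type*} [CommRing S] [CommRing R] [Algebra S R]
  (lam : R ≃ₐ[S] R) (hlam : ∀ r, lam (lam r) = r) (hfix : RInv.IsFixedRing S R lam.toRingEquiv)
  (hq : RInv.IsQuadEtale S R)

include hlam hfix hq in
/-- the involution of a quadratic étale algebra with fixed ring the base is nowhere ramified -/
theorem span_sub_eq_top : Ideal.span (Set.range fun b : R => lam b - b) = ⊤ := by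
  classical
  obtain ⟨hfin, hproj, hunr, hrank⟩ := hq
  haveI := hfin
  haveI := hproj
  haveI := hunr
  obtain ⟨t, ht1, ht2⟩ := Algebra.FormallyUnramified.iff_exists_tensorProduct.mp hunr
  let Φ₂ : R ⊗[S] R →ₐ[S] R :=
    Algebra.TensorProduct.lift (AlgHom.id S R) lam.toAlgHom (fun _ _ => Commute.all _ _)
  have hΦ₂ : ∀ a b : R, Φ₂ (a ⊗ₜ[S] b) = a * lam b := fun a b => by
    simp [Φ₂, Algebra.TensorProduct.lift_tmul]
  set D := Ideal.span (Set.range fun b : R => lam b - b) with hDdef
  have hD : ∀ b, lam b - b ∈ D := fun b => Ideal.subset_span ⟨b, rfl⟩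
  have h1 : ∀ x : R ⊗[S] R, Algebra.TensorProduct.lmul' S x - Φ₂ x ∈ D := by
    intro x
    induction x using TensorProduct.induction_on with
    | zero => simp
    | tmul a b =>
      rw [hΦ₂, Algebra.TensorProduct.lmul'_apply_tmul]
      have : a * b - a * lam b = -(a * (lam b - b)) := by ring
      rw [this]
      exact D.neg_mem (D.mul_mem_left _ (hD b))
    | add x y hx hy =>
      rw [map_add, map_add]
      have : Algebra.TensorProduct.lmul' S x + Algebra.TensorProduct.lmul' S y - (Φ₂ x + Φ₂ y) =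
        (Algebra.TensorProduct.lmul' S x - Φ₂ x) + (Algebra.TensorProduct.lmul' S y - Φ₂ y) := by ring
      rw [this]
      exact D.add_mem hx hy
  set g := Φ₂ t with hgdef
  have hg1 : 1 - g ∈ D := by
    have := h1 t
    rwa [ht2] at this
  have hg2 : ∀ s, (lam s - s) * g = 0 := by
    intro s
    have := congrArg Φ₂ (ht1 s)
    rw [map_mul, map_sub, hΦ₂, hΦ₂, map_zero, map_one, one_mul, mul_one] at this
    exact this
  have hDg : ∀ d ∈ D, d * g = 0 := by
    intro d hd
    induction hd using Submodule.span_induction with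
    | mem x hx =>
      obtain ⟨b, rfl⟩ := hx
      exact hg2 b
    | zero => exact zero_mul g
    | add x y _ _ hx hy => rw [add_mul, hx, hy, add_zero]
    | smul a x _ hx => rw [smul_eq_mul, mul_assoc, hx, mul_zero]
  by_contra hne
  obtain ⟨q, hqmax, hle⟩ := Ideal.exists_le_maximal D hne
  haveI := hqmax.isPrime
  have hgq : g ∉ q := by
    intro hgq
    apply hqmax.ne_top
    rw [Ideal.eq_top_iff_one]
    have := q.add_mem (hle hg1) hgq
    rwa [sub_add_cancel] at this
  have hgg : g * g = g := by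
    have := hDg _ hg1
    rw [sub_mul, one_mul, sub_eq_zero] at this
    exact this.symm
  have hlg : lam g = g := by
    have h3 := hDg _ (hD g)
    rw [sub_mul, hgg, sub_eq_zero] at h3
    -- lam g * g = g
    have h4 := congrArg lam h3
    rw [map_mul, hlam] at h4
    -- g * lam g = lam g
    rw [← h4, mul_comm, h3]
  obtain ⟨sg, hsg⟩ := (hfix.2 g).mp hlg
  have hxg : ∀ x : R, ∃ s, algebraMap S R s = x * g := by
    intro x
    apply (hfix.2 (x * g)).mp
    show lam (x * g) = x * g
    rw [map_mul, hlg]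
    have := hg2 x
    rw [sub_mul, sub_eq_zero] at this
    exact this
  let p : PrimeSpectrum S := ⟨q.comap (algebraMap S R), Ideal.comap_isPrime _ _⟩
  have hsgp : sg ∉ p.asIdeal := by
    intro h
    apply hgq
    rw [← hsg]
    exact h
  have h2 := hrank p
  unfold Module.rankAtStalk at h2
  have h3 : Module.finrank (Localization.AtPrime p.asIdeal)
      (LocalizedModule p.asIdeal.primeCompl R) ≤ 1 := by
    apply finrank_le_one (LocalizedModule.mk g 1)
    intro w
    induction w using LocalizedModule.induction_on with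
    | h x s =>
      obtain ⟨s', hs'⟩ := hxg x
      refine ⟨Localization.mk s' (s * ⟨sg, hsgp⟩), ?_⟩
      rw [LocalizedModule.mk_smul_mk, LocalizedModule.mk_eq]
      refine ⟨1, ?_⟩
      rw [one_smul, one_smul, mul_one]
      show s • s' • g = (s * ⟨sg, hsgp⟩ : p.asIdeal.primeCompl) • x
      rw [mul_smul]
      congr 1
      show s' • g = sg • x
      rw [Algebra.smul_def, Algebra.smul_def, hs', hsg, mul_assoc, hgg, mul_comm]
  omega

end Unram

section RankLemma

variable {C : Type*} [CommRing C] {M N : Type*} [AddCommGroup M] [Module C M]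
  [AddCommGroup N] [Module C N]

/-- a surjection between finite projective modules of the same rank is injective -/
lemma injective_of_surjective_of_rankAtStalk_eq [Module.Finite C M] [Module.Projective C M]
    [Module.Finite C N] [Module.Projective C N] (f : M →ₗ[C] N) (hf : Function.Surjective f)
    (hrank : ∀ p : PrimeSpectrum C, Module.rankAtStalk (R := C) M p = Module.rankAtStalk N p) :
    Function.Injective f := by
  obtain ⟨s, hs⟩ := Module.projective_lifting_property f LinearMap.id hf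
  have hs' : ∀ n, f (s n) = n := fun n => by
    have := congrArg (fun g => g n) hs
    simpa using this
  let K := LinearMap.ker f
  let pr : M →ₗ[C] K := (LinearMap.id - s.comp f).codRestrict K (fun m => by
    rw [LinearMap.mem_ker]
    simp [hs'])
  have hpr : pr.comp K.subtype = LinearMap.id := by
    ext k
    have hk : f k.1 = 0 := k.2
    simp [pr, hk]
  haveI : Module.Projective C K := Module.Projective.of_split K.subtype pr hpr
  haveI : Module.Finite C K := Module.Finite.of_surjective pr (fun k => ⟨k.1, by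
    have := congrArg (fun g => g k) hpr
    simpa using this⟩)
  let e : M ≃ₗ[C] K × N :=
    { toFun := fun m => (pr m, f m)
      map_add' := fun a b => by simp
      map_smul' := fun c a => by simp
      invFun := fun kn => kn.1.1 + s kn.2
      left_inv := fun m => by simp [pr]
      right_inv := fun kn => by
        obtain ⟨k, n⟩ := kn
        have hk : f k.1 = 0 := k.2
        apply Prod.ext
        · apply Subtype.ext
          simp [pr, hk, hs']
        · simp [hk, hs'] }
  have h1 := Module.rankAtStalk_eq_of_equiv e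
  rw [Module.rankAtStalk_prod] at h1
  have h2 : Module.rankAtStalk (R := C) K = 0 := by
    funext p
    have := congrFun h1 p
    rw [Pi.add_apply, hrank p] at this
    simp only [Pi.zero_apply]
    omega
  have := Module.rankAtStalk_eq_zero_iff_subsingleton.mp h2
  rw [← LinearMap.ker_eq_bot]
  exact Submodule.eq_bot_of_subsingleton

end RankLemma

section PhiC

variable {S : Type*} {R : Type*} [CommRing S] [CommRing R] [Algebra S R]
  (lam : R ≃ₐ[S] R) (hlam : ∀ r, lam (lam r) = r) (hfix : RInv.IsFixedRing S R lam.toRingEquiv)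
  (hq : RInv.IsQuadEtale S R)
  (C : Type*) [CommRing C] [Algebra S C] [Algebra R C] [IsScalarTower S R C]

/-- the Galois map `C ⊗_S R → C × C`, `c ⊗ r ↦ (c r, c lam(r))` -/
noncomputable def PhiC : C ⊗[S] R →ₐ[C] C × C :=
  Algebra.TensorProduct.lift (Algebra.ofId C (C × C))
    (AlgHom.prod (IsScalarTower.toAlgHom S R C) ((IsScalarTower.toAlgHom S R C).comp lam.toAlgHom))
    (fun _ _ => Commute.all _ _)

lemma PhiC_tmul (c : C) (r : R) :
    PhiC lam C (c ⊗ₜ[S] r) = (c * algebraMap R C r, c * algebraMap R C (lam r)) := by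
  unfold PhiC
  rw [Algebra.TensorProduct.lift_tmul]
  apply Prod.ext <;> simp [Algebra.ofId_apply]

include hlam hfix hq in
lemma exists_PhiC_eq_zero_one : ∃ e' : C ⊗[S] R, PhiC lam C e' = (0, 1) := by
  have h1 : (1 : R) ∈ Ideal.span (Set.range fun b : R => lam b - b) := by
    rw [span_sub_eq_top lam hlam hfix hq]
    trivial
  suffices h : ∀ d ∈ Ideal.span (Set.range fun b : R => lam b - b),
      ∃ z : C ⊗[S] R, PhiC lam C z = (0, algebraMap R C d) by
    obtain ⟨z, hz⟩ := h 1 h1
    exact ⟨z, by rw [hz, map_one]⟩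
  intro d hd
  induction hd using Submodule.span_induction with
  | mem x hx =>
    obtain ⟨b, rfl⟩ := hx
    refine ⟨(1 : C) ⊗ₜ[S] b - (algebraMap R C b) ⊗ₜ[S] (1 : R), ?_⟩
    rw [map_sub, PhiC_tmul, PhiC_tmul]
    apply Prod.ext <;> simp
  | zero => exact ⟨0, by rw [map_zero, map_zero]; rfl⟩
  | add x y _ _ hx hy =>
    obtain ⟨zx, hzx⟩ := hx
    obtain ⟨zy, hzy⟩ := hy
    exact ⟨zx + zy, by rw [map_add, hzx, hzy]; apply Prod.ext <;> simp⟩
  | smul a x _ hx =>
    obtain ⟨zx, hzx⟩ := hx
    refine ⟨((1 : C) ⊗ₜ[S] lam a) * zx, ?_⟩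
    rw [map_mul, hzx, PhiC_tmul]
    apply Prod.ext <;> simp [hlam]

include hlam hfix hq in
lemma PhiC_surjective : Function.Surjective (PhiC lam C) := by
  obtain ⟨e', he'⟩ := exists_PhiC_eq_zero_one lam hlam hfix hq C
  rintro ⟨x, y⟩
  refine ⟨x • (1 - e') + y • e', ?_⟩
  rw [map_add, map_smul, map_smul, map_sub, map_one, he']
  apply Prod.ext <;> simp

include hlam hfix hq in
lemma PhiC_bijective : Function.Bijective (PhiC lam C) := by
  refine ⟨?_, PhiC_surjective lam hlam hfix hq C⟩
  rcases subsingleton_or_nontrivial C with hC | hC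
  · haveI : Subsingleton (C ⊗[S] R) := by
      refine ⟨fun a b => ?_⟩
      have h0 : ∀ x : C ⊗[S] R, x = 0 := fun x => by
        rw [← one_smul C x, Subsingleton.elim (1 : C) 0, zero_smul]
      rw [h0 a, h0 b]
    exact Function.injective_of_subsingleton _
  obtain ⟨hfin, hproj, hunr, hrank⟩ := hq
  haveI := hfin
  haveI := hproj
  have := injective_of_surjective_of_rankAtStalk_eq (PhiC lam C).toLinearMap
    (PhiC_surjective lam hlam hfix ⟨hfin, hproj, hunr, hrank⟩ C) (by
      intro p
      rw [Module.rankAtStalk_baseChange, hrank, Module.rankAtStalk_prod,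
        Module.rankAtStalk_self]
      rfl)
  exact this

end PhiC


section LemmaQ

variable {S : Type*} {R : Type*} [CommRing S] [CommRing R] [Algebra S R]
  (lam : R ≃ₐ[S] R) (hlam : ∀ r, lam (lam r) = r) (hfix : RInv.IsFixedRing S R lam.toRingEquiv)
  (hq : RInv.IsQuadEtale S R)
  (C : Type*) [CommRing C] [Algebra S C] [Algebra R C] [IsScalarTower S R C]
  {B : Type*} [Ring B] [Algebra S B] [Algebra R B] [IsScalarTower S R B]
  (τ : AzInv.LamInv R B lam) {n : Type*} [Fintype n] [DecidableEq n]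
  (ψ : B →ₐ[R] Matrix n n C)

/-- `lam` extended to `C ⊗[S] R` -/
noncomputable def lamC : C ⊗[S] R →ₐ[C] C ⊗[S] R :=
  Algebra.TensorProduct.map (AlgHom.id C C) lam.toAlgHom

lemma lamC_tmul (c : C) (r : R) : lamC lam C (c ⊗ₜ[S] r) = c ⊗ₜ[S] lam r := by
  simp [lamC]

include hlam in
lemma PhiC_lamC (z : C ⊗[S] R) :
    PhiC lam C (lamC lam C z) = ((PhiC lam C z).2, (PhiC lam C z).1) := by
  induction z using TensorProduct.induction_on with
  | zero => simp; rfl
  | tmul c r => rw [lamC_tmul, PhiC_tmul, PhiC_tmul, hlam]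
  | add x y hx hy => rw [map_add, map_add, hx, hy, map_add]; rfl

/-- `b ↦ (ψ (τ b))ᵀ` -/
noncomputable def psiT : B →ₐ[S] Matrix n n C where
  toFun b := (ψ (τ b))ᵀ
  map_one' := by rw [τ.map_one, map_one, Matrix.transpose_one]
  map_mul' a b := by rw [τ.map_mul, map_mul, Matrix.transpose_mul]
  map_zero' := by rw [τ.map_zero, map_zero, Matrix.transpose_zero]
  map_add' a b := by rw [τ.map_add, map_add, Matrix.transpose_add]
  commutes' s := by
    rw [IsScalarTower.algebraMap_apply S R B, τ.map_algebraMap, AlgEquiv.commutes, AlgHom.commutes,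
      ← IsScalarTower.algebraMap_apply S R (Matrix n n C)]
    rw [Matrix.algebraMap_eq_diagonal, Matrix.diagonal_transpose]

lemma psiT_apply (b : B) : psiT lam C τ ψ b = (ψ (τ b))ᵀ := rfl

/-- the map `C ⊗[S] B → M_n(C) × M_n(C)`, `c ⊗ b ↦ (c • ψ b, c • (ψ (τ b))ᵀ)` -/
noncomputable def FQ : C ⊗[S] B →ₐ[C] Matrix n n C × Matrix n n C :=
  Algebra.TensorProduct.lift (Algebra.ofId C _)
    (AlgHom.prod (ψ.restrictScalars S) (psiT lam C τ ψ))
    (fun c b => by rw [Algebra.ofId_apply]; exact Algebra.commute_algebraMap_left c _)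

lemma FQ_tmul (c : C) (b : B) :
    FQ lam C τ ψ (c ⊗ₜ[S] b) = (c • ψ b, c • (ψ (τ b))ᵀ) := by
  unfold FQ
  rw [Algebra.TensorProduct.lift_tmul, Algebra.ofId_apply, ← Algebra.smul_def]
  rfl

/-- the structure map `C ⊗[S] R → C ⊗[S] B` -/
noncomputable def jQ : C ⊗[S] R →ₐ[C] C ⊗[S] B :=
  Algebra.TensorProduct.map (AlgHom.id C C) (IsScalarTower.toAlgHom S R B)

lemma jQ_tmul (c : C) (r : R) : jQ C (B := B) (c ⊗ₜ[S] r) = c ⊗ₜ[S] algebraMap R B r := by
  simp [jQ]

lemma FQ_jQ (z : C ⊗[S] R) :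
    FQ lam C τ ψ (jQ C z) = ((PhiC lam C z).1 • 1, (PhiC lam C z).2 • 1) := by
  induction z using TensorProduct.induction_on with
  | zero => simp; rfl
  | tmul c r =>
    rw [jQ_tmul, FQ_tmul, PhiC_tmul, τ.map_algebraMap, AlgHom.commutes, AlgHom.commutes]
    simp only [Algebra.algebraMap_eq_smul_one, Matrix.transpose_smul, Matrix.transpose_one]
    apply Prod.ext
    · show c • (r • (1 : Matrix n n C)) = (c * r • (1 : C)) • (1 : Matrix n n C)
      rw [mul_smul, smul_assoc, one_smul]
    · show c • (lam r • (1 : Matrix n n C)) = (c * lam r • (1 : C)) • (1 : Matrix n n C)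
      rw [mul_smul, smul_assoc, one_smul]
  | add x y hx hy =>
    rw [map_add, map_add, hx, hy, map_add]
    apply Prod.ext <;> simp [add_smul]

lemma FQ_bc (x : C ⊗[S] B) :
    FQ lam C τ ψ (τ.bc S lam C x) = ((FQ lam C τ ψ x).2ᵀ, (FQ lam C τ ψ x).1ᵀ) := by
  induction x using TensorProduct.induction_on with
  | zero => simp; rfl
  | tmul c b =>
    rw [AzInv.LamInv.bc_tmul, FQ_tmul, FQ_tmul, τ.invol]
    simp [Matrix.transpose_smul]
  | add x y hx hy =>
    rw [map_add, map_add, hx, hy, map_add]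
    apply Prod.ext <;> simp [Matrix.transpose_add]

lemma bc_jQ_mul (z : C ⊗[S] R) (x : C ⊗[S] B) :
    τ.bc S lam C (jQ C z * x) = jQ C (lamC lam C z) * τ.bc S lam C x := by
  induction z using TensorProduct.induction_on with
  | zero => simp
  | add z₁ z₂ h₁ h₂ => rw [map_add, add_mul, map_add, h₁, h₂, map_add, map_add, add_mul]
  | tmul c r =>
    induction x using TensorProduct.induction_on with
    | zero => simp
    | add x₁ x₂ h₁ h₂ => rw [mul_add, map_add, h₁, h₂, map_add, mul_add]
    | tmul c' b =>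
      rw [jQ_tmul, Algebra.TensorProduct.tmul_mul_tmul, AzInv.LamInv.bc_tmul,
        AzInv.LamInv.bc_tmul, lamC_tmul, jQ_tmul, Algebra.TensorProduct.tmul_mul_tmul]
      congr 1
      rw [← Algebra.smul_def, τ.map_smul, Algebra.smul_def]

/-- the lift of `ψ` to `C ⊗[R] B` -/
noncomputable def psiLift : C ⊗[R] B →ₐ[C] Matrix n n C :=
  Algebra.TensorProduct.lift (Algebra.ofId C _) ψ
    (fun c b => by rw [Algebra.ofId_apply]; exact Algebra.commute_algebraMap_left c _)

lemma psiLift_tmul (c : C) (b : B) : psiLift C ψ (c ⊗ₜ[R] b) = c • ψ b := by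
  unfold psiLift
  rw [Algebra.TensorProduct.lift_tmul, Algebra.ofId_apply, ← Algebra.smul_def]

/-- the projection `C ⊗[S] B → C ⊗[R] B` -/
noncomputable def piQ : C ⊗[S] B →ₐ[C] C ⊗[R] B :=
  Algebra.TensorProduct.mapOfCompatibleSMul R S C C B

lemma piQ_tmul (c : C) (b : B) : piQ (S := S) (R := R) C (B := B) (c ⊗ₜ[S] b) = c ⊗ₜ[R] b := rfl

lemma FQ_fst (x : C ⊗[S] B) : (FQ lam C τ ψ x).1 = psiLift C ψ (piQ C x) := by
  induction x using TensorProduct.induction_on with
  | zero => simp
  | tmul c b => rw [FQ_tmul, piQ_tmul, psiLift_tmul]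
  | add x y hx hy => rw [map_add, map_add, map_add, Prod.fst_add, hx, hy]


include hlam hfix hq in
lemma exists_PhiC_eq_one_zero : ∃ e : C ⊗[S] R, PhiC lam C e = (1, 0) := by
  obtain ⟨e', he'⟩ := exists_PhiC_eq_zero_one lam hlam hfix hq C
  exact ⟨lamC lam C e', by rw [PhiC_lamC lam hlam, he']⟩

include hlam hfix hq in
lemma e_mul_sub (e : C ⊗[S] R) (he : PhiC lam C e = (1, 0)) (r : R) :
    e * ((algebraMap R C r) ⊗ₜ[S] (1 : R) - (1 : C) ⊗ₜ[S] r) = 0 := by
  apply (PhiC_bijective lam hlam hfix hq C).1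
  rw [map_mul, he, map_sub, PhiC_tmul, PhiC_tmul, map_zero]
  apply Prod.ext <;> simp

include hlam hfix hq in
lemma jQ_e_mul (e : C ⊗[S] R) (he : PhiC lam C e = (1, 0)) (r : R) (c : C) (b : B) :
    jQ C e * ((r • c) ⊗ₜ[S] b) = jQ C e * (c ⊗ₜ[S] (r • b)) := by
  have h := congrArg (fun z => jQ C (B := B) z * (c ⊗ₜ[S] b)) (e_mul_sub lam hlam hfix hq C e he r)
  simp only [map_mul, map_sub, jQ_tmul, map_zero, zero_mul, map_one] at h
  rw [mul_assoc, sub_mul, Algebra.TensorProduct.tmul_mul_tmul, Algebra.TensorProduct.tmul_mul_tmul,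
    mul_sub, sub_eq_zero] at h
  rw [one_mul, one_mul, ← Algebra.smul_def, ← Algebra.smul_def] at h
  exact h

/-- multiplication by the idempotent `e` factors through `C ⊗[R] B` -/
noncomputable def kappa (e : C ⊗[S] R) (he : PhiC lam C e = (1, 0)) :
    C ⊗[R] B →ₗ[C] C ⊗[S] B :=
  TensorProduct.AlgebraTensorModule.lift
    (LinearMap.mk₂' C R (fun c b => jQ C (B := B) e * (c ⊗ₜ[S] b))
      (fun c₁ c₂ b => by rw [TensorProduct.add_tmul, mul_add])
      (fun a c b => by rw [← TensorProduct.smul_tmul', mul_smul_comm])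
      (fun c b₁ b₂ => by rw [TensorProduct.tmul_add, mul_add])
      (fun r c b => by
        rw [← jQ_e_mul lam hlam hfix hq C e he, ← TensorProduct.smul_tmul', mul_smul_comm]))

lemma kappa_tmul (e : C ⊗[S] R) (he : PhiC lam C e = (1, 0)) (c : C) (b : B) :
    kappa lam hlam hfix hq C e he (c ⊗ₜ[R] b) = jQ C (B := B) e * (c ⊗ₜ[S] b) := rfl

lemma kappa_piQ (e : C ⊗[S] R) (he : PhiC lam C e = (1, 0)) (x : C ⊗[S] B) :
    kappa lam hlam hfix hq C e he (piQ C x) = jQ C (B := B) e * x := by
  induction x using TensorProduct.induction_on with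
  | zero => simp
  | tmul c b => rw [piQ_tmul, kappa_tmul]
  | add x y hx hy => rw [map_add, map_add, hx, hy, mul_add]

lemma bc_bc (x : C ⊗[S] B) : τ.bc S lam C (τ.bc S lam C x) = x := by
  induction x using TensorProduct.induction_on with
  | zero => simp
  | tmul c b => rw [AzInv.LamInv.bc_tmul, AzInv.LamInv.bc_tmul, τ.invol]
  | add x y hx hy => rw [map_add, map_add, hx, hy]

include hlam hfix hq in
/-- **Lemma Q**: if `ψ` splits `B` over `C`, then `C ⊗[S] B ≅ M_n(C) × M_n(C)`. -/
theorem FQ_bijective (hψ : Function.Bijective (psiLift C ψ)) :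
    Function.Bijective (FQ lam C τ ψ) := by
  obtain ⟨e, he⟩ := exists_PhiC_eq_one_zero lam hlam hfix hq C
  obtain ⟨e', he'def⟩ : ∃ e', e' = lamC lam C e := ⟨_, rfl⟩
  have he' : PhiC lam C e' = (0, 1) := by rw [he'def, PhiC_lamC lam hlam, he]
  have hsum : e + e' = 1 := by
    apply (PhiC_bijective lam hlam hfix hq C).1
    rw [map_add, he, he', map_one]
    apply Prod.ext <;> simp
  have key1 : ∀ x, (FQ lam C τ ψ x).1 = 0 → jQ C (B := B) e * x = 0 := by
    intro x hx
    rw [FQ_fst] at hx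
    have h0 : piQ (S := S) (R := R) C x = 0 := hψ.1 (by rw [hx, map_zero])
    rw [← kappa_piQ lam hlam hfix hq C e he, h0, map_zero]
  constructor
  · rw [injective_iff_map_eq_zero]
    intro x hx
    have h1 : jQ C (B := B) e * x = 0 := key1 x (by rw [hx]; rfl)
    have h2 : jQ C (B := B) e' * x = 0 := by
      have h3 : (FQ lam C τ ψ (τ.bc S lam C x)).1 = 0 := by
        rw [FQ_bc, hx]
        simp
      have h4 := key1 _ h3
      have h5 := congrArg (τ.bc S lam C) h4
      rw [bc_jQ_mul, bc_bc, map_zero, ← he'def] at h5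
      exact h5
    calc x = jQ C (B := B) (e + e') * x := by rw [hsum, map_one, one_mul]
      _ = 0 := by rw [map_add, add_mul, h1, h2, add_zero]
  · have hs1 : ∀ X, ∃ x, (FQ lam C τ ψ x).1 = X := by
      intro X
      obtain ⟨y, hy⟩ := hψ.2 X
      obtain ⟨x, hx⟩ := Algebra.TensorProduct.mapOfCompatibleSMul_surjective R S C C B y
      refine ⟨x, ?_⟩
      rw [FQ_fst]
      show psiLift C ψ (Algebra.TensorProduct.mapOfCompatibleSMul R S C C B x) = X
      rw [hx, hy]
    have hs2 : ∀ Y, ∃ x, (FQ lam C τ ψ x).2 = Y := by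
      intro Y
      obtain ⟨x, hx⟩ := hs1 Yᵀ
      refine ⟨τ.bc S lam C x, ?_⟩
      rw [FQ_bc]
      simp [hx]
    rintro ⟨X, Y⟩
    obtain ⟨x₁, hx₁⟩ := hs1 X
    obtain ⟨x₂, hx₂⟩ := hs2 Y
    refine ⟨jQ C e * x₁ + jQ C e' * x₂, ?_⟩
    rw [map_add, map_mul, map_mul, FQ_jQ, FQ_jQ, he, he']
    apply Prod.ext
    · simp [hx₁]
    · simp [hx₂]

end LemmaQ

section Compare

variable {S : Type*} {R : Type*} [CommRing S] [CommRing R] [Algebra S R]
  (lam : R ≃ₐ[S] R) (hlam : ∀ r, lam (lam r) = r) (hfix : RInv.IsFixedRing S R lam.toRingEquiv)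
  (hq : RInv.IsQuadEtale S R)
  (C : Type*) [CommRing C] [Algebra S C] [Algebra R C] [IsScalarTower S R C]
  {B₁ : Type*} [Ring B₁] [Algebra S B₁] [Algebra R B₁] [IsScalarTower S R B₁]
  {B₂ : Type*} [Ring B₂] [Algebra S B₂] [Algebra R B₂] [IsScalarTower S R B₂]
  (τ₁ : AzInv.LamInv R B₁ lam) (τ₂ : AzInv.LamInv R B₂ lam)
  {n : Type*} [Fintype n] [DecidableEq n]
  (ψ₁ : B₁ →ₐ[R] Matrix n n C) (ψ₂ : B₂ →ₐ[R] Matrix n n C)

include hlam hfix hq in
/-- two algebras with `lam`-involution which are split by `C` (with the same degree) become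
isomorphic over `C`, as algebras with involution -/
theorem exists_algEquiv_of_split (hψ₁ : Function.Bijective (psiLift C ψ₁))
    (hψ₂ : Function.Bijective (psiLift C ψ₂)) :
    ∃ f : C ⊗[S] B₁ ≃ₐ[C] C ⊗[S] B₂,
      (∀ (r : R) (x : C ⊗[S] B₁), f (((1 : C) ⊗ₜ[S] algebraMap R B₁ r) * x) =
          ((1 : C) ⊗ₜ[S] algebraMap R B₂ r) * f x) ∧
        ∀ x : C ⊗[S] B₁, f (τ₁.bc S lam C x) = τ₂.bc S lam C (f x) := by
  let F₁ := AlgEquiv.ofBijective (FQ lam C τ₁ ψ₁) (FQ_bijective lam hlam hfix hq C τ₁ ψ₁ hψ₁)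
  let F₂ := AlgEquiv.ofBijective (FQ lam C τ₂ ψ₂) (FQ_bijective lam hlam hfix hq C τ₂ ψ₂ hψ₂)
  have hF : ∀ x, FQ lam C τ₂ ψ₂ ((F₁.trans F₂.symm) x) = FQ lam C τ₁ ψ₁ x := by
    intro x
    show F₂ (F₂.symm (F₁ x)) = F₁ x
    rw [AlgEquiv.apply_symm_apply]
  have hinj := (FQ_bijective lam hlam hfix hq C τ₂ ψ₂ hψ₂).1
  refine ⟨F₁.trans F₂.symm, fun r x => ?_, fun x => ?_⟩
  · apply hinj
    rw [hF, map_mul, map_mul, hF, ← jQ_tmul, ← jQ_tmul, FQ_jQ, FQ_jQ]
  · apply hinj
    rw [hF, FQ_bc, FQ_bc, hF]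

end Compare

end Groth.Agent.Lib.Helper52.InvQuad
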