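import Mathlib
import Groth.Prelude.Def_W4c2azumayainvolQEt
import Groth.Prelude.Def_AzInv
import Groth.Agent.Lib.Helper52.InvQuad
import Groth.Agent.Lib.Helper52.InvSplitExists
import Groth.Agent.Lib.Helper52.InvGlue
import Groth.Agent.Lib.Helper52.AzuCharpoly

/-!
# Quadratic étale algebras with involution, part 2: covers

* `etale_of_isQuadEtale`, `faithfullyFlat_of_isQuadEtale`
* `exists_cover` : for an Azumaya algebra `A` of degree `n` over `R` quadratic étale over `S`, an
  étale faithfully flat `S`-algebra `C` in the universe of `S`, which is an `R`-algebra, splitting `A`.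
-/

set_option autoImplicit false
set_option linter.style.haveILetI false
set_option linter.dupNamespace false
set_option linter.unusedSimpArgs false
set_option linter.unusedVariables false
set_option linter.unusedSectionVars false

namespace Groth.Agent.Lib.Helper52.InvQuad

open scoped TensorProduct Matrix
open Groth.Agent.Lib.Helper52.AzuCharpoly Groth.Agent.Lib.Helper52.InvGlue
  Groth.Agent.Lib.Helper52.InvSplitExists Groth.Agent.Lib.Helper52.InvIso

universe u v w v'

section EtaleFF

variable {S : Type*} {R : Type*} [CommRing S] [CommRing R] [Algebra S R]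

theorem etale_of_isQuadEtale (hq : RInv.IsQuadEtale S R) : Algebra.Etale S R := by
  obtain ⟨hfin, hproj, hunr, hrank⟩ := hq
  haveI := hfin
  haveI := hproj
  haveI := hunr
  haveI : Module.FinitePresentation S R := Module.finitePresentation_of_projective S R
  haveI : Algebra.FinitePresentation S R := Algebra.FinitePresentation.of_finitePresentation S R
  exact Algebra.Etale.of_formallyUnramified_of_flat

theorem faithfullyFlat_of_isQuadEtale (hq : RInv.IsQuadEtale S R)
    (hinj : Function.Injective (algebraMap S R)) : Module.FaithfullyFlat S R := by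
  obtain ⟨hfin, hproj, hunr, hrank⟩ := hq
  haveI := hfin
  haveI := hproj
  apply Module.FaithfullyFlat.of_comap_surjective
  intro P
  obtain ⟨Q, _, hQ₁, hQ₂⟩ := Ideal.exists_ideal_over_prime_of_isIntegral P.asIdeal (⊥ : Ideal R)
    (by
      intro x hx
      rw [Ideal.mem_comap, Ideal.mem_bot] at hx
      rw [hinj (hx.trans (map_zero _).symm)]
      exact Ideal.zero_mem _)
  exact ⟨⟨Q, hQ₁⟩, PrimeSpectrum.ext hQ₂⟩

end EtaleFF

section Shrink

/-- transport of a split cover to the universe of the base -/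
theorem exists_cover_small {S : Type u} {R : Type v} [CommRing S] [CommRing R] [Algebra S R]
    {A : Type w} [Ring A] [Algebra R A] (n : ℕ)
    (C₀ : Type v') [CommRing C₀] [Algebra S C₀] [Algebra R C₀] [IsScalarTower S R C₀]
    [Algebra.Etale S C₀] [Module.FaithfullyFlat S C₀]
    (g₀ : C₀ ⊗[R] A ≃ₐ[C₀] Matrix (Fin n) (Fin n) C₀) :
    ∃ (C : Type u) (_ : CommRing C) (_ : Algebra S C) (_ : Algebra R C)
      (_ : IsScalarTower S R C) (_ : Algebra.Etale S C) (_ : Module.FaithfullyFlat S C),
      Nonempty (C ⊗[R] A ≃ₐ[C] Matrix (Fin n) (Fin n) C) := by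
  classical
  haveI : Small.{u} C₀ := by
    obtain ⟨k, f, hf⟩ := Algebra.FiniteType.iff_quotient_mvPolynomial''.mp
      (inferInstance : Algebra.FiniteType S C₀)
    exact small_of_surjective hf
  let eS : Shrink.{u} C₀ ≃ₐ[S] C₀ := Shrink.algEquiv S C₀
  let eR : Shrink.{u} C₀ ≃ₐ[R] C₀ := Shrink.algEquiv R C₀
  have heq : ∀ x, eS x = eR x := fun x => rfl
  haveI : IsScalarTower S R (Shrink.{u} C₀) := IsScalarTower.of_algebraMap_eq (fun s => by
    apply eR.injective
    rw [AlgEquiv.commutes, ← heq, AlgEquiv.commutes, IsScalarTower.algebraMap_apply S R C₀])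
  haveI : Algebra.Etale S (Shrink.{u} C₀) := Algebra.Etale.of_equiv eS.symm
  haveI : Module.FaithfullyFlat S (Shrink.{u} C₀) :=
    Module.FaithfullyFlat.of_linearEquiv S C₀ eS.toLinearEquiv
  refine ⟨Shrink.{u} C₀, inferInstance, inferInstance, inferInstance, inferInstance, inferInstance,
    inferInstance, ⟨?_⟩⟩
  let G : Shrink.{u} C₀ ⊗[R] A ≃ₐ[R] Matrix (Fin n) (Fin n) (Shrink.{u} C₀) :=
    ((Algebra.TensorProduct.congr eR (AlgEquiv.refl : A ≃ₐ[R] A)).trans
      (g₀.restrictScalars R)).trans eR.symm.mapMatrix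
  refine AlgEquiv.ofRingEquiv (f := G.toRingEquiv) ?_
  intro c
  show G (algebraMap (Shrink.{u} C₀) _ c) = _
  rw [Algebra.TensorProduct.algebraMap_apply]
  show eR.symm.mapMatrix (g₀ (Algebra.TensorProduct.congr eR (AlgEquiv.refl : A ≃ₐ[R] A)
    (algebraMap (Shrink.{u} C₀) (Shrink.{u} C₀) c ⊗ₜ[R] (1 : A)))) = _
  rw [Algebra.TensorProduct.congr_apply, Algebra.TensorProduct.map_tmul]
  have h1 : (eR : Shrink.{u} C₀ →ₐ[R] C₀) (algebraMap (Shrink.{u} C₀) (Shrink.{u} C₀) c) ⊗ₜ[R]
      ((AlgEquiv.refl : A ≃ₐ[R] A) : A →ₐ[R] A) (1 : A) =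
      algebraMap C₀ (C₀ ⊗[R] A) (eR c) := by
    rw [Algebra.TensorProduct.algebraMap_apply]
    rfl
  rw [h1, AlgEquiv.commutes]
  ext i j
  simp [Matrix.algebraMap_matrix_apply]
  split_ifs <;> simp

end Shrink

section Cover

/-- an étale faithfully flat cover of `S`, factoring through the quadratic étale `R`, which splits
the Azumaya `R`-algebra `A` -/
theorem exists_cover {S : Type u} {R : Type v} [CommRing S] [CommRing R] [Algebra S R]
    (hq : RInv.IsQuadEtale S R) (hinj : Function.Injective (algebraMap S R))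
    {A : Type w} [Ring A] [Algebra R A] [IsAzumaya R A] (n : ℕ)
    (hrank : ∀ p : PrimeSpectrum R, Module.rankAtStalk (R := R) A p = n ^ 2) :
    ∃ (C : Type u) (_ : CommRing C) (_ : Algebra S C) (_ : Algebra R C)
      (_ : IsScalarTower S R C) (_ : Algebra.Etale S C) (_ : Module.FaithfullyFlat S C),
      Nonempty (C ⊗[R] A ≃ₐ[C] Matrix (Fin n) (Fin n) C) := by
  classical
  obtain ⟨C₀, _, _, _, _, ⟨g₀, _⟩⟩ := invIso_glue (R := R) (0 : A →ₗ[R] A)
    (0 : Matrix (Fin n) (Fin n) R →ₗ[R] Matrix (Fin n) (Fin n) R) (fun p => by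
      obtain ⟨C, _, _, _, 𝔓, _, h𝔓, ⟨φ⟩⟩ := exists_splitting R A n hrank p.asIdeal
      refine ⟨C, inferInstance, inferInstance, inferInstance,
        ⟨φ.trans (matrixBaseChange R C (Fin n)).symm, fun x => ?_⟩,
        ⟨⟨𝔓, inferInstance⟩, PrimeSpectrum.ext h𝔓⟩⟩
      simp)
  letI : Algebra S C₀ := ((algebraMap R C₀).comp (algebraMap S R)).toAlgebra
  haveI : IsScalarTower S R C₀ := IsScalarTower.of_algebraMap_eq (fun _ => rfl)
  haveI := etale_of_isQuadEtale hq
  haveI := faithfullyFlat_of_isQuadEtale hq hinj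
  haveI : Algebra.Etale S C₀ := Algebra.Etale.comp S R C₀
  haveI : Module.FaithfullyFlat S C₀ := Module.FaithfullyFlat.trans S R C₀
  exact exists_cover_small n C₀ (g₀.trans (matrixBaseChange R C₀ (Fin n)))

end Cover

end Groth.Agent.Lib.Helper52.InvQuad
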