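import Mathlib
import Groth.Agent.Lib.Helper52.RamNF
import Groth.Agent.Lib.Helper52.RamStd

/-!
# Normal forms with an explicit Gram matrix

`MatNF t E n V`: matrix units `e` of `E ⊗ A` and a unit `W` with `T(e_ij) = W e_ji W⁻¹` and
`W = ∑ V_ij e_ij`.  Stable under base change, and convertible into a marked isomorphism with
`(M_n(E ⊗ R), V · lamTr · V⁻¹)`.
-/

set_option autoImplicit false
set_option linter.style.haveILetI false
set_option linter.unusedSectionVars false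
set_option linter.unusedVariables false
set_option linter.unusedSimpArgs false
set_option linter.dupNamespace false

namespace Groth.Agent.Lib.Helper52.MatNF

open scoped TensorProduct
open AzInv Groth.Agent.Lib.Helper52.AzSplitMU Groth.Agent.Lib.Helper52.RamNF
  Groth.Agent.Lib.Helper52.InvFix Groth.Agent.Lib.Helper52.InvIso
  Groth.Agent.Lib.Helper52.InvHyper Groth.Agent.Lib.Helper52.RamMark
  Groth.Agent.Lib.Helper52.RamStd

universe u v w

section Def

variable {S : Type u} {R : Type v} [CommRing S] [CommRing R] [Algebra S R] {lam : R ≃ₐ[S] R}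
  {A : Type w} [Ring A] [Algebra S A] [Algebra R A] [IsScalarTower S R A]
  (t : LamInv R A lam) (E : Type*) [CommRing E] [Algebra S E]

/-- normal form data with explicit Gram matrix `V` -/
def MatNF (n : ℕ) (V : Matrix (Fin n) (Fin n) (E ⊗[S] R)) : Prop :=
  ∃ (e : Fin n → Fin n → E ⊗[S] A) (W : (E ⊗[S] A)ˣ), IsMU e ∧
    (∀ i j, t.bc S lam E (e i j) = ↑W * e j i * ↑W⁻¹) ∧
    (↑W : E ⊗[S] A) = ∑ i, ∑ j, jE A E (V i j) * e i j

variable {t E} {E' : Type*} [CommRing E'] [Algebra S E'] {n : ℕ}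

lemma MatNF.map (g : E →ₐ[S] E') {V : Matrix (Fin n) (Fin n) (E ⊗[S] R)} (h : MatNF t E n V) :
    MatNF t E' n (V.map (Algebra.TensorProduct.map g (AlgHom.id S R))) := by
  obtain ⟨e, W, he, h1, h2⟩ := h
  refine ⟨fun i j => bcMap A g (e i j), Units.map (bcMap A g).toMonoidHom W,
    he.map (bcMap A g).toRingHom, fun i j => ?_, ?_⟩
  · rw [← bcMap_bc, h1, map_mul, map_mul]
    rfl
  · show bcMap A g ↑W = _
    rw [h2, map_sum]
    apply Finset.sum_congr rfl
    intro i _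
    rw [map_sum]
    apply Finset.sum_congr rfl
    intro j _
    rw [map_mul, bcMap_jE, Matrix.map_apply]

end Def

section Iso

variable {S : Type u} {R : Type v} [CommRing S] [CommRing R] [Algebra S R] {lam : R ≃ₐ[S] R}
  {A : Type w} [Ring A] [Algebra S A] [Algebra R A] [IsScalarTower S R A]
  (t : LamInv R A lam) (n : ℕ) (hn : 0 < n) [IsAzumaya R A]
  (hrank : ∀ p : PrimeSpectrum R, Module.rankAtStalk (R := R) A p = n ^ 2)
  (E : Type u) [CommRing E] [Algebra S E]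

/-- the matrix of a combination of matrix units -/
lemma f_sum (f : E ⊗[S] A ≃ₐ[E] Matrix (Fin n) (Fin n) (E ⊗[S] R))
    (hf2 : ∀ k : E ⊗[S] R, f (jE A E k) = Matrix.scalar (Fin n) k)
    (e : Fin n → Fin n → E ⊗[S] A) (hf3 : ∀ i j, f (e i j) = Matrix.single i j (1 : E ⊗[S] R))
    (M : Matrix (Fin n) (Fin n) (E ⊗[S] R)) :
    f (∑ i, ∑ j, jE A E (M i j) * e i j) = M := by
  classical
  rw [map_sum]
  conv_rhs => rw [Matrix.matrix_eq_sum_single M]
  apply Finset.sum_congr rfl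
  intro i _
  rw [map_sum]
  apply Finset.sum_congr rfl
  intro j _
  rw [map_mul, hf2, hf3]
  ext a b
  simp [Matrix.scalar_apply, Matrix.diagonal_mul, Matrix.single_apply]

include hn hrank in
/-- from the normal form to a marked isomorphism with the matrix algebra -/
theorem MatNF.mIso {V : Matrix (Fin n) (Fin n) (E ⊗[S] R)} (h : MatNF t E n V) :
    ∃ Vu : (Matrix (Fin n) (Fin n) (E ⊗[S] R))ˣ, Vu.val = V ∧
      MIso E ((t.linS S lam).baseChange E) (conjLin Vu (trK lam E n))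
        (fun r : R => (1 : E) ⊗ₜ[S] algebraMap R A r)
        (fun r : R => Matrix.scalar (Fin n) ((1 : E) ⊗ₜ[S] r)) := by
  obtain ⟨e, W, he, h1, h2⟩ := h
  obtain ⟨f, hf2, hf3⟩ := exists_algEquiv_of_isMU n hn hrank E e he
  have hfW : f ↑W = V := by rw [h2]; exact f_sum n E f hf2 e hf3 V
  refine ⟨Units.map f.toAlgHom.toRingHom.toMonoidHom W, hfW, f, fun x => ?_, fun r => ?_⟩
  · rw [conjLin_apply, trK_eq]
    exact struct_aux t n E f hf2 e hf3 W h1 x
  · show f ((1 : E) ⊗ₜ[S] algebraMap R A r) = Matrix.scalar (Fin n) ((1 : E) ⊗ₜ[S] r)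
    rw [← hf2, jE_tmul]

include hn hrank in
/-- a normal form with sign gives a Gram matrix with that sign -/
theorem matNF_of_hasNF {ε : E} (h : HasNF t E n ε) :
    ∃ V : Matrix (Fin n) (Fin n) (E ⊗[S] R), IsUnit V ∧ lamTr (lamE lam E) V = ε • V ∧
      MatNF t E n V := by
  obtain ⟨e, W, he, h1, h2⟩ := h
  obtain ⟨f, hf2, hf3⟩ := exists_algEquiv_of_isMU n hn hrank E e he
  have hW : (↑W : E ⊗[S] A) = ∑ i, ∑ j, jE A E (f ↑W i j) * e i j := by
    apply f.injective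
    rw [f_sum n E f hf2 e hf3]
  refine ⟨f ↑W, (W.isUnit.map f.toAlgHom.toRingHom.toMonoidHom), ?_, e, W, he, h1, hW⟩
  have h3 := struct_aux t n E f hf2 e hf3 W h1 ↑W
  rw [h2, map_smul] at h3
  have h4 : f (↑W⁻¹ : E ⊗[S] A) * f (↑W : E ⊗[S] A) = 1 := by
    rw [← map_mul, Units.inv_mul, map_one]
  calc lamTr (lamE lam E) (f ↑W)
      = (f (↑W⁻¹ : E ⊗[S] A) * f (↑W : E ⊗[S] A)) * lamTr (lamE lam E) (f ↑W) *
          (f (↑W⁻¹ : E ⊗[S] A) * f (↑W : E ⊗[S] A)) := by rw [h4, one_mul, mul_one]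
    _ = f (↑W⁻¹ : E ⊗[S] A) * (f ↑W * lamTr (lamE lam E) (f ↑W) * f ↑W⁻¹) * f ↑W := by
        simp only [mul_assoc]
    _ = ε • f ↑W := by
        rw [← h3, mul_smul_comm, smul_mul_assoc, h4, one_mul]

end Iso

section Odd

variable {S : Type u} {R : Type v} [CommRing S] [CommRing R] [Algebra S R] (lam : R ≃ₐ[S] R)
  (hlam : ∀ r, lam (lam r) = r)
  {A : Type w} [Ring A] [Algebra S A] [Algebra R A] [IsScalarTower S R A]
  (t : LamInv R A lam) (n : ℕ) (hn : 0 < n) [IsAzumaya R A]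
  (hrank : ∀ p : PrimeSpectrum R, Module.rankAtStalk (R := R) A p = n ^ 2)
  (E : Type u) [CommRing E] [Algebra S E]

include hlam hn hrank in
/-- the scalar `k₀` with `T(W) = W k₀` attached to weak normal form data -/
theorem exists_k0 (e : Fin n → Fin n → E ⊗[S] A) (W : (E ⊗[S] A)ˣ) (he : IsMU e)
    (h1 : ∀ i j, t.bc S lam E (e i j) = ↑W * e j i * ↑W⁻¹)
    (f : E ⊗[S] A ≃ₐ[E] Matrix (Fin n) (Fin n) (E ⊗[S] R))
    (hf2 : ∀ k : E ⊗[S] R, f (jE A E k) = Matrix.scalar (Fin n) k)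
    (hf3 : ∀ i j, f (e i j) = Matrix.single i j (1 : E ⊗[S] R)) :
    ∃ k₀ : E ⊗[S] R, t.bc S lam E (↑W : E ⊗[S] A) = ↑W * jE A E k₀ ∧
      lamE lam E k₀ * k₀ = 1 := by
  classical
  haveI : Nonempty (Fin n) := ⟨⟨0, hn⟩⟩
  obtain ⟨z, hz⟩ : ∃ z : E ⊗[S] A, z = ↑W⁻¹ * t.bc S lam E ↑W := ⟨_, rfl⟩
  have hTinv' : t.bc S lam E (↑W : E ⊗[S] A) * t.bc S lam E (↑W⁻¹ : E ⊗[S] A) = 1 :=
    bc_unit_inv' lam t E W
  have hcomm : ∀ i j, z * e i j = e i j * z := by
    intro i j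
    have h3 : e i j = t.bc S lam E (↑W⁻¹ : E ⊗[S] A) * (↑W * e i j * ↑W⁻¹) *
        t.bc S lam E (↑W : E ⊗[S] A) := by
      conv_lhs => rw [← bc_bc lam t E (e i j), h1, bc_mul, bc_mul, h1]
      simp only [mul_assoc]
    calc z * e i j = ↑W⁻¹ * t.bc S lam E (↑W : E ⊗[S] A) *
          (t.bc S lam E (↑W⁻¹ : E ⊗[S] A) * (↑W * e i j * ↑W⁻¹) *
            t.bc S lam E (↑W : E ⊗[S] A)) := by rw [← h3, hz]
      _ = ↑W⁻¹ * (t.bc S lam E (↑W : E ⊗[S] A) * t.bc S lam E (↑W⁻¹ : E ⊗[S] A)) * ↑W * e i j *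
            (↑W⁻¹ * t.bc S lam E (↑W : E ⊗[S] A)) := by simp only [mul_assoc]
      _ = e i j * z := by rw [hTinv', mul_one, Units.inv_mul, one_mul, hz]
  obtain ⟨k₀, hk₀⟩ := Matrix.mem_range_scalar_of_commute_single (M := f z) (fun i j _ => by
    show Matrix.single i j 1 * f z = f z * Matrix.single i j 1
    rw [← hf3, ← map_mul, ← map_mul, hcomm])
  have hzk : z = jE A E k₀ := f.injective (by rw [hf2, hk₀])
  have hTW : t.bc S lam E (↑W : E ⊗[S] A) = ↑W * jE A E k₀ := by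
    rw [← hzk, hz, ← mul_assoc, Units.mul_inv, one_mul]
  have hjinj : Function.Injective (jE (S := S) (R := R) A E) := by
    intro x y hxy
    have := congrArg f hxy
    rw [hf2, hf2] at this
    exact Matrix.scalar_inj.mp this
  refine ⟨k₀, hTW, ?_⟩
  apply hjinj
  have h5 : (↑W : E ⊗[S] A) = ↑W * jE A E (lamE lam E k₀ * k₀) := by
    conv_lhs => rw [← bc_bc lam t E (↑W : E ⊗[S] A), hTW, bc_mul, bc_jE, hTW]
    rw [map_mul, ← mul_assoc, jE_comm E (lamE lam E k₀), mul_assoc]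
  have h6 := congrArg (fun y => (↑W⁻¹ : E ⊗[S] A) * y) h5
  simp only [Units.inv_mul, ← mul_assoc, one_mul] at h6
  rw [map_one]
  exact h6.symm

include hlam hn hrank in
/-- in odd degree the Gram matrix can be made hermitian -/
theorem exists_matNF_of_odd (hodd : Odd n) (h : HasNF0 t E n) :
    ∃ V : Matrix (Fin n) (Fin n) (E ⊗[S] R), IsUnit V ∧ lamTr (lamE lam E) V = V ∧
      MatNF t E n V := by
  classical
  obtain ⟨e, W, he, h1⟩ := h
  obtain ⟨f, hf2, hf3⟩ := exists_algEquiv_of_isMU n hn hrank E e he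
  obtain ⟨k₀, hTW, hk⟩ := exists_k0 lam hlam t n hn hrank E e W he h1 f hf2 hf3
  have hlamK : ∀ k, lamE lam E (lamE lam E k) = k := lamE_lamE lam E hlam
  have hk' : k₀ * lamE lam E k₀ = 1 := by rw [mul_comm, hk]
  have hW : (↑W : E ⊗[S] A) = ∑ i, ∑ j, jE A E (f ↑W i j) * e i j := by
    apply f.injective
    rw [f_sum n E f hf2 e hf3]
  have hVu : IsUnit (f ↑W) := W.isUnit.map f.toAlgHom.toRingHom.toMonoidHom
  have h4 : f (↑W⁻¹ : E ⊗[S] A) * f (↑W : E ⊗[S] A) = 1 := by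
    rw [← map_mul, Units.inv_mul, map_one]
  have hV₀ : lamTr (lamE lam E) (f ↑W) = k₀ • f ↑W := by
    have h3 := struct_aux t n E f hf2 e hf3 W h1 ↑W
    rw [hTW, map_mul, hf2] at h3
    calc lamTr (lamE lam E) (f ↑W)
        = (f (↑W⁻¹ : E ⊗[S] A) * f (↑W : E ⊗[S] A)) * lamTr (lamE lam E) (f ↑W) *
            (f (↑W⁻¹ : E ⊗[S] A) * f (↑W : E ⊗[S] A)) := by rw [h4, one_mul, mul_one]
      _ = f (↑W⁻¹ : E ⊗[S] A) * (f ↑W * lamTr (lamE lam E) (f ↑W) * f ↑W⁻¹) * f ↑W := by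
          simp only [mul_assoc]
      _ = k₀ • f ↑W := by
          rw [← h3, ← mul_assoc, h4, one_mul]
          ext a b
          simp [Matrix.scalar_apply, Matrix.diagonal_mul]
  -- determinants
  obtain ⟨d, hd⟩ : ∃ d, d = (f ↑W).det := ⟨_, rfl⟩
  have hdu : IsUnit d := by rw [hd]; exact (Matrix.isUnit_iff_isUnit_det _).mp hVu
  have hdet : lamE lam E d = k₀ ^ n * d := by
    have h5 : (lamTr (lamE lam E) (f ↑W)).det = lamE lam E d := by
      rw [hd]
      show ((f ↑W).map (lamE lam E)).transpose.det = _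
      rw [Matrix.det_transpose]
      exact ((lamE lam E : E ⊗[S] R →+* E ⊗[S] R).map_det (f ↑W)).symm
    rw [← h5, hV₀, Matrix.det_smul, Fintype.card_fin, hd]
  obtain ⟨m, hm⟩ := hodd
  obtain ⟨d', hdd'⟩ := hdu.exists_right_inv
  let c : E ⊗[S] R := d * k₀ ^ (m + 1)
  let c' : E ⊗[S] R := d' * (lamE lam E k₀) ^ (m + 1)
  have hcc' : c * c' = 1 := by
    show d * k₀ ^ (m + 1) * (d' * (lamE lam E k₀) ^ (m + 1)) = 1
    calc d * k₀ ^ (m + 1) * (d' * (lamE lam E k₀) ^ (m + 1))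
        = (d * d') * (k₀ * lamE lam E k₀) ^ (m + 1) := by ring
      _ = 1 := by rw [hdd', hk', one_pow, one_mul]
  have hc'c : c' * c = 1 := by rw [mul_comm, hcc']
  have hcε : k₀ * lamE lam E c = c := by
    show k₀ * lamE lam E (d * k₀ ^ (m + 1)) = d * k₀ ^ (m + 1)
    rw [map_mul, map_pow, hdet, hm]
    calc k₀ * (k₀ ^ (2 * m + 1) * d * lamE lam E k₀ ^ (m + 1))
        = d * k₀ ^ (m + 1) * (k₀ * lamE lam E k₀) ^ (m + 1) := by ring
      _ = d * k₀ ^ (m + 1) := by rw [hk', one_pow, mul_one]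
  let D : (E ⊗[S] A)ˣ := ⟨jE A E c, jE A E c', by rw [← map_mul, hcc', map_one],
    by rw [← map_mul, hc'c, map_one]⟩
  have hD : (↑D : E ⊗[S] A) = jE A E c := rfl
  have hDi : (↑D⁻¹ : E ⊗[S] A) = jE A E c' := rfl
  refine ⟨c • f ↑W, ?_, ?_, e, D * W, he, fun i j => ?_, ?_⟩
  · have hcu : IsUnit c := IsUnit.of_mul_eq_one _ hcc'
    rw [Matrix.isUnit_iff_isUnit_det, Matrix.det_smul]
    exact (hcu.pow _).mul ((Matrix.isUnit_iff_isUnit_det _).mp hVu)
  · have : lamTr (lamE lam E) (c • f ↑W) = lamE lam E c • lamTr (lamE lam E) (f ↑W) := by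
      ext a b
      simp [lamTr_apply]
    rw [this, hV₀, smul_smul, mul_comm, hcε]
  · rw [h1, mul_inv_rev, Units.val_mul, Units.val_mul, hD, hDi]
    calc ↑W * e j i * ↑W⁻¹ = jE A E (c * c') * (↑W * e j i * ↑W⁻¹) := by
          rw [hcc', map_one, one_mul]
      _ = jE A E c * ↑W * e j i * (↑W⁻¹ * jE A E c') := by
          have hcm := jE_comm (A := A) E c' ((↑W : E ⊗[S] A) * e j i * (↑W⁻¹ : E ⊗[S] A))
          rw [map_mul, mul_assoc, hcm]
          simp only [mul_assoc]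
  · rw [Units.val_mul, hD]
    conv_lhs => rw [hW]
    rw [Finset.mul_sum]
    apply Finset.sum_congr rfl
    intro i _
    rw [Finset.mul_sum]
    apply Finset.sum_congr rfl
    intro j _
    rw [← mul_assoc, ← map_mul, Matrix.smul_apply, smul_eq_mul]

end Odd

end Groth.Agent.Lib.Helper52.MatNF
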