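import Mathlib
import Groth.Agent.Lib.Helper52.RamNFExists
import Groth.Agent.Lib.Helper52.HermLocal

/-!
# Weak normal forms without assuming `2` invertible
-/

set_option autoImplicit false
set_option linter.style.haveILetI false
set_option linter.unusedSectionVars false
set_option linter.unusedVariables false
set_option linter.unusedSimpArgs false

namespace Groth.Agent.Lib.Helper52.NFGen

open scoped TensorProduct
open AzInv Groth.Agent.Lib.Helper52.AzSplitMU Groth.Agent.Lib.Helper52.RamNF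
  Groth.Agent.Lib.Helper52.RamNFExists Groth.Agent.Lib.Helper52.HermLocal

universe u v w

variable {S : Type u} {R : Type v} [CommRing S] [CommRing R] [Algebra S R] (lam : R ≃ₐ[S] R)
  (hlam : ∀ r, lam (lam r) = r) (hfix : RInv.IsFixedRing S R lam.toRingEquiv)
  {A : Type w} [Ring A] [Algebra S A] [Algebra R A] [IsScalarTower S R A]
  (t : LamInv R A lam) (n : ℕ) (hn : 0 < n) [IsAzumaya R A]
  (hrank : ∀ p : PrimeSpectrum R, Module.rankAtStalk (R := R) A p = n ^ 2)

include hlam hn hrank in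
/-- from matrix units over `E` to weak normal form data over an étale cover of `E` -/
theorem hasNF0_of_isMU_of_fix (E : Type u) [CommRing E] [Algebra S E]
    (hfixK : RInv.IsFixedRing E (E ⊗[S] R) (lamE lam E).toRingEquiv)
    (e : Fin n → Fin n → E ⊗[S] A) (he : IsMU e) :
    ∃ (E₂ : Type u) (_ : CommRing E₂) (_ : Algebra E E₂) (_ : Algebra.Etale E E₂)
      (_ : Module.FaithfullyFlat E E₂) (_ : Algebra S E₂) (_ : IsScalarTower S E E₂),
      HasNF0 t E₂ n := by
  classical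
  obtain ⟨f, hf2, hf3⟩ := exists_algEquiv_of_isMU n hn hrank E e he
  have hlamK : ∀ k, lamE lam E (lamE lam E k) = k := lamE_lamE lam E hlam
  let τ₀ : LamInv (E ⊗[S] R) (Matrix (Fin n) (Fin n) (E ⊗[S] R)) (lamE lam E) :=
    LamInv.transpose (lamE lam E) (Fin n) hlamK
  have hfs : ∀ k : E ⊗[S] R, f.symm (Matrix.scalar (Fin n) k) = jE A E k := by
    intro k
    rw [← hf2, AlgEquiv.symm_apply_apply]
  have hτs : ∀ k : E ⊗[S] R, τ₀ (Matrix.scalar (Fin n) k) = Matrix.scalar (Fin n) (lamE lam E k) := by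
    intro k
    ext i j
    rw [LamInv.transpose_apply]
    by_cases hij : i = j
    · subst hij; simp
    · simp [Matrix.scalar_apply, Matrix.diagonal_apply, hij, Ne.symm hij]
  let ψ : Matrix (Fin n) (Fin n) (E ⊗[S] R) ≃ₐ[E ⊗[S] R] Matrix (Fin n) (Fin n) (E ⊗[S] R) :=
    { toFun := fun Y => f (t.bc S lam E (f.symm (τ₀ Y)))
      invFun := fun Y => τ₀ (f (t.bc S lam E (f.symm Y)))
      left_inv := fun Y => by
        show τ₀ (f (t.bc S lam E (f.symm (f (t.bc S lam E (f.symm (τ₀ Y))))))) = Y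
        rw [AlgEquiv.symm_apply_apply, bc_bc, AlgEquiv.apply_symm_apply, τ₀.invol]
      right_inv := fun Y => by
        show f (t.bc S lam E (f.symm (τ₀ (τ₀ (f (t.bc S lam E (f.symm Y))))))) = Y
        rw [τ₀.invol, AlgEquiv.symm_apply_apply, bc_bc, AlgEquiv.apply_symm_apply]
      map_mul' := fun X Y => by
        show f (t.bc S lam E (f.symm (τ₀ (X * Y)))) = _
        rw [τ₀.map_mul, map_mul, bc_mul, map_mul]
      map_add' := fun X Y => by
        show f (t.bc S lam E (f.symm (τ₀ (X + Y)))) = _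
        rw [τ₀.map_add, map_add, map_add, map_add]
      commutes' := fun k => by
        show f (t.bc S lam E (f.symm (τ₀ (Matrix.scalar (Fin n) k)))) = Matrix.scalar (Fin n) k
        rw [hτs, hfs, bc_jE, hf2, hlamK] }
  have hψ : ∀ Y, ψ Y = f (t.bc S lam E (f.symm (τ₀ Y))) := fun _ => rfl
  obtain ⟨E₂, _, _, hEt, hFF, u, hu⟩ := Groth.Agent.S17357.result E (E ⊗[S] R) (lamE lam E) hlamK
    hfixK (Matrix (Fin n) (Fin n) (E ⊗[S] R)) n hn
    (isAzumayaDeg_matrix n hn _) ψ
  letI : Algebra S E₂ := ((algebraMap E E₂).comp (algebraMap S E)).toAlgebra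
  haveI : IsScalarTower S E E₂ := IsScalarTower.of_algebraMap_eq (fun _ => rfl)
  refine ⟨E₂, inferInstance, inferInstance, hEt, hFF, inferInstance, inferInstance, ?_⟩
  let g : E →ₐ[S] E₂ := IsScalarTower.toAlgHom S E E₂
  let Θ : E₂ ⊗[E] Matrix (Fin n) (Fin n) (E ⊗[S] R) ≃ₐ[E₂] E₂ ⊗[S] A :=
    (Algebra.TensorProduct.congr (AlgEquiv.refl : E₂ ≃ₐ[E₂] E₂) f.symm).trans (cancelBC E E₂ A)
  have hΘ : ∀ Y, Θ ((1 : E₂) ⊗ₜ[E] Y) = bcMap A g (f.symm Y) := by
    intro Y
    show cancelBC E E₂ A (Algebra.TensorProduct.congr (AlgEquiv.refl : E₂ ≃ₐ[E₂] E₂) f.symm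
      ((1 : E₂) ⊗ₜ[E] Y)) = _
    rw [Algebra.TensorProduct.congr_apply, Algebra.TensorProduct.map_tmul]
    show cancelBC E E₂ A ((1 : E₂) ⊗ₜ[E] f.symm Y) = _
    rw [cancelBC_one_tmul]
  refine ⟨fun i j => bcMap A g (e i j), Units.map Θ.toAlgHom.toRingHom.toMonoidHom u,
    he.map (bcMap A g).toRingHom, fun i j => ?_⟩
  have hsingle : τ₀ (Matrix.single j i (1 : E ⊗[S] R)) = Matrix.single i j 1 := by
    ext a b
    rw [LamInv.transpose_apply]
    simp only [Matrix.single_apply]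
    by_cases hab : j = b ∧ i = a
    · rw [if_pos hab, if_pos ⟨hab.2, hab.1⟩, map_one]
    · rw [if_neg hab, if_neg (fun h => hab ⟨h.2, h.1⟩), map_zero]
  have h1 : t.bc S lam E (e i j) = f.symm (ψ (Matrix.single j i 1)) := by
    rw [hψ, AlgEquiv.symm_apply_apply, hsingle, ← hf3, AlgEquiv.symm_apply_apply]
  have h2' : f.symm (Matrix.single j i (1 : E ⊗[S] R)) = e j i := by
    rw [← hf3, AlgEquiv.symm_apply_apply]
  have h3 := hu ((1 : E₂) ⊗ₜ[E] Matrix.single j i (1 : E ⊗[S] R))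
  rw [Algebra.TensorProduct.congr_apply, Algebra.TensorProduct.map_tmul] at h3
  have h4 := congrArg Θ h3
  rw [map_mul, map_mul] at h4
  show t.bc S lam E₂ (bcMap A g (e i j)) = Θ ↑u * bcMap A g (e j i) * Θ ↑u⁻¹
  rw [← bcMap_bc, h1, ← hΘ, ← h2', ← hΘ]
  exact h4

include hlam hfix hn hrank in
/-- global existence of weak normal forms, no assumption on `2` -/
theorem exists_hasNF0_flat :
    ∃ (E : Type u) (_ : CommRing E) (_ : Algebra S E) (_ : Algebra.Etale S E)
      (_ : Module.FaithfullyFlat S E), HasNF0 t E n := by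
  obtain ⟨E₁, _, _, hEt₁, hFF₁, e, he⟩ :=
    Groth.Agent.Lib.Helper52.AzSplitMain.exists_cover_hasMU lam hlam hfix A n hn hrank
  obtain ⟨E₂, _, _, hEt₂, hFF₂, _, _, hNF⟩ := hasNF0_of_isMU_of_fix lam hlam t n hn hrank E₁
    (isFixedRing_lamE_of_flat lam hlam hfix E₁) e he
  exact ⟨E₂, inferInstance, inferInstance, Algebra.Etale.comp S E₁ E₂,
    Module.FaithfullyFlat.trans S E₁ E₂, hNF⟩

end Groth.Agent.Lib.Helper52.NFGen
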