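import Mathlib
import Groth.Agent.Lib.Helper52.MatNF
import Groth.Agent.Lib.Helper52.HermSqrt
import Groth.Agent.Lib.Helper52.RamGlue

/-!
# From a hermitian Gram matrix to the neutral type
-/

set_option autoImplicit false
set_option linter.style.haveILetI false
set_option linter.unusedSectionVars false
set_option linter.unusedVariables false
set_option linter.unusedSimpArgs false

namespace Groth.Agent.Lib.Helper52.OddFinal

open scoped TensorProduct
open AzInv Groth.Agent.Lib.Helper52.AzSplitMU Groth.Agent.Lib.Helper52.RamNF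
  Groth.Agent.Lib.Helper52.InvFix Groth.Agent.Lib.Helper52.InvIso
  Groth.Agent.Lib.Helper52.InvHyper Groth.Agent.Lib.Helper52.RamMark
  Groth.Agent.Lib.Helper52.RamStd Groth.Agent.Lib.Helper52.MatNF
  Groth.Agent.Lib.Helper52.HermLocal Groth.Agent.Lib.Helper52.HermSqrt
  Groth.Agent.Lib.Helper52.RamGlue

universe u v w

section Pieces

variable {S : Type u} {R : Type v} [CommRing S] [CommRing R] [Algebra S R] (lam : R ≃ₐ[S] R)
  (hlam : ∀ r, lam (lam r) = r)
  {A : Type w} [Ring A] [Algebra S A] [Algebra R A] [IsScalarTower S R A]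
  (t : LamInv R A lam) (n : ℕ) (hn : 0 < n) [IsAzumaya R A]
  (hrank : ∀ p : PrimeSpectrum R, Module.rankAtStalk (R := R) A p = n ^ 2)
  (E : Type u) [CommRing E] [Algebra S E]

/-- `M₁(A) ≃ A` -/
def mat1 (A : Type*) [Ring A] [Algebra R A] : Matrix (Fin 1) (Fin 1) A ≃ₐ[R] A :=
  { toFun := fun M => M 0 0
    invFun := fun a => Matrix.of fun _ _ => a
    left_inv := fun M => by
      ext i j
      fin_cases i
      fin_cases j
      rfl
    right_inv := fun a => rfl
    map_mul' := fun M N => by simp [Matrix.mul_apply]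
    map_add' := fun M N => rfl
    commutes' := fun r => by simp [Matrix.algebraMap_matrix_apply] }

/-- the `1 × 1` matrices over `A` with the induced involution -/
lemma mIso_mat1 :
    MIso E (((t.matrix (Fin 1)).linS S lam).baseChange E) ((t.linS S lam).baseChange E)
      (fun r : R => (1 : E) ⊗ₜ[S] algebraMap R (Matrix (Fin 1) (Fin 1) A) r)
      (fun r : R => (1 : E) ⊗ₜ[S] algebraMap R A r) := by
  apply mIso_baseChange E _ _ ((mat1 (R := R) A).restrictScalars S)
  · intro M
    rfl
  · intro r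
    rw [AlgEquiv.restrictScalars_apply, AlgEquiv.commutes]

lemma baseChange_self_eq_lamE (k : E ⊗[S] R) :
    (((LamInv.self lam hlam).linS S lam).baseChange E) k = lamE lam E k := by
  induction k using TensorProduct.induction_on with
  | zero => simp
  | tmul e r => rw [LinearMap.baseChange_tmul, lamE_tmul]; rfl
  | add x y hx hy => rw [map_add, map_add, hx, hy]

/-- the matrix algebra over `R` with the `lam`-transpose, after base change -/
lemma mIso_self_std :
    MIso E ((((LamInv.self lam hlam).matrix (Fin n)).linS S lam).baseChange E) (trK lam E n)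
      (fun r : R => (1 : E) ⊗ₜ[S] algebraMap R (Matrix (Fin n) (Fin n) R) r)
      (fun r : R => Matrix.scalar (Fin n) ((1 : E) ⊗ₜ[S] r)) := by
  classical
  set σ₀ := (LamInv.self lam hlam).linS S lam with hσ₀
  have s1 : MIso E ((((LamInv.self lam hlam).matrix (Fin n)).linS S lam).baseChange E)
      ((matInv σ₀ (Fin n)).baseChange E)
      (fun r : R => (1 : E) ⊗ₜ[S] algebraMap R (Matrix (Fin n) (Fin n) R) r)
      (fun r : R => (1 : E) ⊗ₜ[S] Matrix.scalar (Fin n) r) := by
    apply mIso_baseChange E _ _ (AlgEquiv.refl : Matrix (Fin n) (Fin n) R ≃ₐ[S] _)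
    · intro M
      ext i j
      rfl
    · intro r
      ext i j
      simp [Matrix.algebraMap_matrix_apply, Matrix.scalar_apply, Matrix.diagonal_apply]
  have s2 := mIso_matTensor (R := S) E (Fin n) σ₀ (fun r : R => r)
  have s3 : MIso E (matInv (σ₀.baseChange E) (Fin n)) (trK lam E n)
      (fun r : R => Matrix.scalar (Fin n) ((1 : E) ⊗ₜ[S] r))
      (fun r : R => Matrix.scalar (Fin n) ((1 : E) ⊗ₜ[S] r)) := by
    apply MIso.of_eq _ (fun _ => rfl)
    intro X
    ext i j
    rw [matInv_apply, trK_apply]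
    exact baseChange_self_eq_lamE lam hlam E (X j i)
  exact s1.trans (s2.trans s3)

include hlam hn hrank in
/-- a Gram matrix congruent to the identity gives the standard model -/
lemma mIso_trK_of_cong_one {V : Matrix (Fin n) (Fin n) (E ⊗[S] R)} (hMat : MatNF t E n V)
    (Q : (Matrix (Fin n) (Fin n) (E ⊗[S] R))ˣ)
    (hQ : Q.val * V * lamTr (lamE lam E) Q.val = 1) :
    MIso E ((t.linS S lam).baseChange E) (trK lam E n)
      (fun r : R => (1 : E) ⊗ₜ[S] algebraMap R A r)
      (fun r : R => Matrix.scalar (Fin n) ((1 : E) ⊗ₜ[S] r)) := by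
  classical
  obtain ⟨Vu, hVu, h1⟩ := hMat.mIso t n hn hrank E
  have hcong : Cong (trK lam E n) Vu 1 := by
    refine ⟨Q, 1, 1, one_mul 1, ?_⟩
    rw [hVu, trK_eq, hQ, one_smul]
    rfl
  have h2 := Cong.mIso (trK_mul lam hlam E n) (trK_one lam hlam E n) hcong
    (fun r : R => Matrix.scalar (Fin n) ((1 : E) ⊗ₜ[S] r))
    (fun r x => Matrix.scalar_commute _ (fun r' => Commute.all _ _) x)
  have h3 : MIso E (conjLin (1 : (Matrix (Fin n) (Fin n) (E ⊗[S] R))ˣ) (trK lam E n))
      (trK lam E n) (fun r : R => Matrix.scalar (Fin n) ((1 : E) ⊗ₜ[S] r))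
      (fun r : R => Matrix.scalar (Fin n) ((1 : E) ⊗ₜ[S] r)) := by
    apply MIso.of_eq _ (fun _ => rfl)
    intro X
    rw [conjLin_apply]
    simp
  exact h1.trans (h2.trans h3)

end Pieces

section Main

variable {S : Type u} {R : Type v} [CommRing S] [CommRing R] [Algebra S R] (lam : R ≃ₐ[S] R)
  (hlam : ∀ r, lam (lam r) = r) (hfix : RInv.IsFixedRing S R lam.toRingEquiv)
  (hsq : ∀ (S₁ : Type u) [CommRing S₁] [Algebra S S₁] [Algebra.Etale S S₁] (x : S₁ˣ),
      ∃ (S₂ : Type u) (_ : CommRing S₂) (_ : Algebra S₁ S₂) (_ : Algebra.Etale S₁ S₂)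
        (_ : Module.FaithfullyFlat S₁ S₂) (y : S₂), y * y = algebraMap S₁ S₂ ↑x)
  {A : Type w} [Ring A] [Algebra S A] [Algebra R A] [IsScalarTower S R A]
  (t : LamInv R A lam) (n : ℕ) (hn : 0 < n) [IsAzumaya R A]
  (hrank : ∀ p : PrimeSpectrum R, Module.rankAtStalk (R := R) A p = n ^ 2)

include hlam hfix hsq hn hrank in
/-- a hermitian Gram matrix over an étale cover gives the neutral type -/
theorem sameType_self_of_herm (E : Type u) [CommRing E] [Algebra S E] [Algebra.Etale S E]
    [Module.FaithfullyFlat S E] (V : Matrix (Fin n) (Fin n) (E ⊗[S] R)) (hV : IsUnit V)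
    (hherm : lamTr (lamE lam E) V = V) (hMat : MatNF t E n V)
    (hcase : Odd n ∨ IsUnit (2 : S)) :
    SameType S lam t (LamInv.self lam hlam) := by
  classical
  refine ⟨1, n, Nat.one_pos, hn, ?_⟩
  have hglue := mIso_glue (R := S) ((t.matrix (Fin 1)).linS S lam)
    (((LamInv.self lam hlam).matrix (Fin n)).linS S lam)
    (fun r : R => algebraMap R (Matrix (Fin 1) (Fin 1) A) r)
    (fun r : R => algebraMap R (Matrix (Fin n) (Fin n) R) r) (fun p => ?_)
  · obtain ⟨R', _, _, hEt, hFF, f, hf, hfa⟩ := hglue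
    refine ⟨R', inferInstance, inferInstance, hEt, hFF, f, fun r x => ?_, hf⟩
    rw [map_mul]
    congr 1
    exact hfa r
  · obtain ⟨P, hP⟩ := PrimeSpectrum.comap_surjective_of_faithfullyFlat (A := S) (B := E) p
    haveI := P.2
    obtain ⟨E'', _, _, hEt'', ρ, P'', hP''prime, hP'', Q, hQ⟩ :=
      exists_cong_one_near_prime lam hlam hfix hsq E n V hV hherm hcase P.asIdeal
    refine ⟨E'', inferInstance, inferInstance, hEt'', ?_, ⟨⟨P'', hP''prime⟩, ?_⟩⟩
    · have h1 := mIso_trK_of_cong_one lam hlam t n hn hrank E'' (hMat.map ρ) Q hQ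
      exact (mIso_mat1 lam t E'').trans (h1.trans (mIso_self_std lam hlam n E'').symm)
    · apply PrimeSpectrum.ext
      show P''.comap (algebraMap S E'') = p.asIdeal
      have h2 : algebraMap S E'' = (ρ : E →+* E'').comp (algebraMap S E) := by
        ext s
        exact (ρ.commutes s).symm
      rw [h2, ← Ideal.comap_comap]
      have h3 : P''.comap (ρ : E →+* E'') = P.asIdeal := hP''
      rw [h3]
      exact congrArg PrimeSpectrum.asIdeal hP

end Main

end Groth.Agent.Lib.Helper52.OddFinal
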