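import Mathlib
import Groth.Agent.Lib.Helper86.Herm1

/-!
# Skew-hermitian unit matrices over a local ring with a "unipotent" involution

`L` local, `φ` an involution with `φ a - a` nilpotent for all `a`, `2` invertible.
Every `(-1)`-hermitian unit matrix of size `n` is congruent to the standard form `Jstd L n`
(block sum of `[[0, 1], [-1, 0]]`).
-/

set_option autoImplicit false
set_option linter.style.haveILetI false
set_option linter.unusedSectionVars false
set_option linter.unusedVariables false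
set_option linter.unusedSimpArgs false

namespace Groth.Agent.Lib.Helper52.SkewStd

open Matrix Groth.Agent.Lib.Helper86.Herm

variable {L : Type*} [CommRing L]

/-! ### congruence -/

/-- `Y = Q* X Q` for a unit `Q` -/
def CongTo {ι : Type*} [Fintype ι] [DecidableEq ι] (φ : L →+* L) (X Y : Matrix ι ι L) : Prop :=
  ∃ Q : Matrix ι ι L, IsUnit Q ∧ (Q.map φ)ᵀ * X * Q = Y

section Cong

variable {ι κ : Type*} [Fintype ι] [DecidableEq ι] [Fintype κ] [DecidableEq κ] (φ : L →+* L)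

lemma CongTo.refl (X : Matrix ι ι L) : CongTo φ X X :=
  ⟨1, isUnit_one, by simp⟩

lemma CongTo.of_eq {X Y : Matrix ι ι L} (h : X = Y) : CongTo φ X Y := h ▸ CongTo.refl φ X

variable {φ}

lemma CongTo.trans {X Y Z : Matrix ι ι L} (h : CongTo φ X Y) (h' : CongTo φ Y Z) :
    CongTo φ X Z := by
  obtain ⟨Q, hQ, rfl⟩ := h
  obtain ⟨Q', hQ', rfl⟩ := h'
  refine ⟨Q * Q', hQ.mul hQ', ?_⟩
  rw [Groth.Agent.Lib.Helper86.Herm.star_mul]
  simp only [Matrix.mul_assoc]

lemma CongTo.reindex (e : ι ≃ κ) {X Y : Matrix ι ι L} (h : CongTo φ X Y) :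
    CongTo φ (Matrix.reindex e e X) (Matrix.reindex e e Y) := by
  obtain ⟨Q, hQ, rfl⟩ := h
  refine ⟨Matrix.reindex e e Q, isUnit_reindex e Q hQ, ?_⟩
  show ((Q.submatrix e.symm e.symm).map φ)ᵀ * X.submatrix e.symm e.symm *
    Q.submatrix e.symm e.symm = ((Q.map φ)ᵀ * X * Q).submatrix e.symm e.symm
  rw [← Matrix.submatrix_mul_equiv _ _ _ e.symm, ← Matrix.submatrix_mul_equiv _ _ _ e.symm]
  rfl

lemma CongTo.fromBlocks {B B' : Matrix ι ι L} {D D' : Matrix κ κ L} (h : CongTo φ B B')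
    (h' : CongTo φ D D') :
    CongTo φ (Matrix.fromBlocks B 0 0 D) (Matrix.fromBlocks B' 0 0 D') := by
  obtain ⟨Q, hQ, rfl⟩ := h
  obtain ⟨Q', hQ', rfl⟩ := h'
  refine ⟨Matrix.fromBlocks Q 0 0 Q', ?_, ?_⟩
  · rw [Matrix.isUnit_iff_isUnit_det, Matrix.det_fromBlocks_zero₂₁]
    exact ((Matrix.isUnit_iff_isUnit_det _).mp hQ).mul ((Matrix.isUnit_iff_isUnit_det _).mp hQ')
  · rw [Matrix.fromBlocks_map, Matrix.fromBlocks_transpose, Matrix.fromBlocks_multiply,
      Matrix.fromBlocks_multiply]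
    simp

/-- permuting the indices is a congruence -/
lemma CongTo.submatrix_perm (σ : ι ≃ ι) (X : Matrix ι ι L) :
    CongTo φ X (X.submatrix σ σ) := by
  refine ⟨(1 : Matrix ι ι L).submatrix id σ, ?_, ?_⟩
  · rw [Matrix.isUnit_iff_isUnit_det, Matrix.det_permute', Matrix.det_one, mul_one]
    exact ⟨(Units.map (Int.castRingHom L).toMonoidHom (Equiv.Perm.sign σ)), rfl⟩
  · ext i j
    simp [Matrix.mul_apply, Matrix.one_apply, Matrix.map_apply, apply_ite φ]

end Cong

/-! ### the standard skew form -/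

/-- the `2 × 2` block -/
def J2 (L : Type*) [CommRing L] : Matrix (Fin 2) (Fin 2) L := !![0, 1; -1, 0]

/-- `Fin 2 ⊕ Fin n ≃ Fin (n + 2)` -/
def e2 (n : ℕ) : Fin 2 ⊕ Fin n ≃ Fin (n + 2) := finSumFinEquiv.trans (finCongr (add_comm 2 n))

/-- the standard skew form: block sum of copies of `J2` (zero in sizes `0`, `1`) -/
def Jstd (L : Type*) [CommRing L] : (n : ℕ) → Matrix (Fin n) (Fin n) L
  | 0 => 0
  | 1 => 0
  | (n + 2) => Matrix.reindex (e2 n) (e2 n) (Matrix.fromBlocks (J2 L) 0 0 (Jstd L n))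

lemma Jstd_succ_succ (n : ℕ) :
    Jstd L (n + 2) = Matrix.reindex (e2 n) (e2 n) (Matrix.fromBlocks (J2 L) 0 0 (Jstd L n)) := rfl

lemma J2_map {L' : Type*} [CommRing L'] (f : L →+* L') : (J2 L).map f = J2 L' := by
  ext i j
  fin_cases i <;> fin_cases j <;> simp [J2]

lemma Jstd_map {L' : Type*} [CommRing L'] (f : L →+* L') :
    ∀ n, (Jstd L n).map f = Jstd L' n := by
  intro n
  induction n using Nat.twoStepInduction with
  | zero => ext i j; exact i.elim0
  | one => ext i j; simp [Jstd]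
  | more n ih _ =>
    rw [Jstd_succ_succ, Jstd_succ_succ, ← ih, ← J2_map f]
    ext i j
    simp only [Matrix.map_apply, Matrix.reindex_apply, Matrix.submatrix_apply]
    rcases (e2 n).symm i with a | a <;> rcases (e2 n).symm j with b | b <;> simp

lemma J2_transpose : (J2 L)ᵀ = -J2 L := by
  ext i j
  fin_cases i <;> fin_cases j <;> simp [J2]

lemma Jstd_transpose : ∀ n, (Jstd L n)ᵀ = -Jstd L n := by
  intro n
  induction n using Nat.twoStepInduction with
  | zero => ext i j; exact i.elim0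
  | one => ext i j; simp [Jstd]
  | more n ih _ =>
    rw [Jstd_succ_succ]
    ext i j
    simp only [Matrix.transpose_apply, Matrix.reindex_apply, Matrix.submatrix_apply,
      Matrix.neg_apply]
    have h1 := fun a b => congrFun (congrFun (J2_transpose (L := L)) a) b
    have h2 := fun a b => congrFun (congrFun ih a) b
    simp only [Matrix.transpose_apply, Matrix.neg_apply] at h1 h2
    rcases (e2 n).symm i with a | a <;> rcases (e2 n).symm j with b | b
    · simp only [Matrix.fromBlocks_apply₁₁]; exact h1 a b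
    · simp
    · simp
    · simp only [Matrix.fromBlocks_apply₂₂]; exact h2 a b

/-- `Jstd` is `(-1)`-hermitian for any `φ` -/
lemma Jstd_herm (φ : L →+* L) (n : ℕ) : Herm φ (-1) (Jstd L n) := by
  unfold Herm
  rw [Jstd_map, Jstd_transpose, neg_smul, one_smul, neg_neg]

lemma J2_det : (J2 L).det = 1 := by
  simp [J2, Matrix.det_fin_two]

lemma Jstd_isUnit : ∀ n, Even n → IsUnit (Jstd L n) := by
  intro n
  induction n using Nat.twoStepInduction with
  | zero => intro _; exact ⟨⟨0, 0, Subsingleton.elim _ _, Subsingleton.elim _ _⟩, rfl⟩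
  | one => intro h; exact absurd h (by decide)
  | more n ih _ =>
    intro h
    have hn : Even n := by
      rcases h with ⟨k, hk⟩
      exact ⟨k - 1, by omega⟩
    rw [Jstd_succ_succ, Matrix.isUnit_iff_isUnit_det, Matrix.det_reindex_self,
      Matrix.det_fromBlocks_zero₂₁, J2_det, one_mul]
    exact (Matrix.isUnit_iff_isUnit_det _).mp (ih hn)

/-! ### `2 × 2` congruences -/

lemma star_mul_mul_fin_two (φ : L →+* L) (p q r u a b c d : L) :
    ((!![p, q; r, u] : Matrix (Fin 2) (Fin 2) L).map φ)ᵀ * !![a, b; c, d] * !![p, q; r, u] =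
      !![φ p * (a * p + b * r) + φ r * (c * p + d * r),
          φ p * (a * q + b * u) + φ r * (c * q + d * u);
        φ q * (a * p + b * r) + φ u * (c * p + d * r),
          φ q * (a * q + b * u) + φ u * (c * q + d * u)] := by
  ext i j
  fin_cases i <;> fin_cases j <;> simp [Matrix.mul_apply, Fin.sum_univ_two] <;> ring

lemma isUnit_fin_two (p q r u : L) (h : IsUnit (p * u - q * r)) :
    IsUnit (!![p, q; r, u] : Matrix (Fin 2) (Fin 2) L) := by
  rw [Matrix.isUnit_iff_isUnit_det, Matrix.det_fin_two_of]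
  exact h

/-! ### square roots of `1 + nilpotent` -/

lemma fixed_of_mul_eq_one (φ : L →+* L) {a b : L} (hab : a * b = 1) (ha : φ a = a) : φ b = b := by
  have h1 : a * φ b = 1 := by rw [← ha, ← map_mul, hab, map_one]
  calc φ b = (b * a) * φ b := by rw [mul_comm b, hab, one_mul]
    _ = b := by rw [mul_assoc, h1, mul_one]

lemma fixed_half (φ : L →+* L) {h : L} (hh : h * 2 = 1) : φ h = h := by
  have : (2 : L) * h = 1 := by rw [mul_comm, hh]
  exact fixed_of_mul_eq_one φ this (map_ofNat φ 2)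

theorem exists_sqrt_one_add (φ : L →+* L) (h : L) (hh : h * 2 = 1) :
    ∀ (k : ℕ) (s : L), s ^ k = 0 → φ s = s →
      ∃ y : L, y * y = 1 + s ∧ φ y = y ∧ IsNilpotent (y - 1) := by
  have hφh := fixed_half φ hh
  intro k
  induction k using Nat.strong_induction_on with
  | _ k ih =>
    intro s hs hφs
    by_cases hk : k ≤ 1
    · have hs0 : s = 0 := by
        interval_cases k
        · have h10 : (1 : L) = 0 := by simpa using hs
          calc s = s * 1 := (mul_one s).symm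
            _ = 0 := by rw [h10, mul_zero]
        · simpa using hs
      exact ⟨1, by rw [hs0]; ring, map_one φ, by simp⟩
    · have hsn : IsNilpotent s := ⟨k, hs⟩
      obtain ⟨ui, hui⟩ := hsn.isUnit_one_add.exists_right_inv
      have hφui : φ ui = ui := fixed_of_mul_eq_one φ hui (by rw [map_add, map_one, hφs])
      obtain ⟨s₁, hs₁⟩ : ∃ s₁, s₁ = s * s * (h * h) * ui := ⟨_, rfl⟩
      have hφs₁ : φ s₁ = s₁ := by
        rw [hs₁]; simp only [map_mul, hφs, hφh, hφui]
      have hs₁k : s₁ ^ ((k + 1) / 2) = 0 := by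
        rw [hs₁]
        have : s * s * (h * h) * ui = s ^ 2 * ((h * h) * ui) := by ring
        rw [this, mul_pow, ← pow_mul]
        have : s ^ (2 * ((k + 1) / 2)) = 0 := pow_eq_zero_of_le (by omega) hs
        rw [this, zero_mul]
      obtain ⟨y₁, hy₁, hφy₁, hy₁n⟩ := ih ((k + 1) / 2) (by omega) s₁ hs₁k hφs₁
      have hy₁u : IsUnit y₁ := by
        have : y₁ = 1 + (y₁ - 1) := by ring
        rw [this]
        exact hy₁n.isUnit_one_add
      obtain ⟨y₁i, hy₁i⟩ := hy₁u.exists_right_inv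
      have hφy₁i : φ y₁i = y₁i := fixed_of_mul_eq_one φ hy₁i hφy₁
      refine ⟨(1 + s * h) * y₁i, ?_, ?_, ?_⟩
      · have e1 : (1 + s * h) * (1 + s * h) = (1 + s) * (y₁ * y₁) := by
          rw [hy₁, hs₁]
          linear_combination s * hh - (s * s * h * h) * hui
        calc (1 + s * h) * y₁i * ((1 + s * h) * y₁i)
            = ((1 + s * h) * (1 + s * h)) * (y₁i * y₁i) := by ring
          _ = (1 + s) * ((y₁ * y₁i) * (y₁ * y₁i)) := by rw [e1]; ring
          _ = 1 + s := by rw [hy₁i]; ring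
      · simp only [map_mul, map_add, map_one, hφs, hφh, hφy₁i]
      · have e2 : (1 + s * h) * y₁i - 1 = s * (h * y₁i) + (y₁ - 1) * (-y₁i) := by
          linear_combination hy₁i
        rw [e2]
        exact Commute.isNilpotent_add (Commute.all _ _)
          ((Commute.all _ _).isNilpotent_mul_right hsn) ((Commute.all _ _).isNilpotent_mul_right hy₁n)

/-! ### normalising a `2 × 2` skew block -/

section TwoByTwo

variable (φ : L →+* L) (hφ : ∀ a, φ (φ a) = a) (h : L) (hh : h * 2 = 1)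
  (hnil : ∀ a, IsNilpotent (φ a - a))

include hh hnil in
lemma nilpotent_of_skew {a : L} (ha : φ a = -a) : IsNilpotent a := by
  have h1 := hnil a
  rw [ha] at h1
  have : a = (-a - a) * (-h) := by linear_combination (-a) * hh
  rw [this]
  exact (Commute.all _ _).isNilpotent_mul_right h1

lemma cong_scale (α β γ βi : L) (hβ : β * βi = 1) :
    CongTo φ !![α, β; -φ β, γ] !![α, 1; -1, φ βi * γ * βi] := by
  have hu : IsUnit βi := IsUnit.of_mul_eq_one β (by rw [mul_comm]; exact hβ)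
  refine ⟨!![1, 0; 0, βi], isUnit_fin_two _ _ _ _ (by simpa using hu), ?_⟩
  rw [star_mul_mul_fin_two]
  have e : φ βi * φ β = 1 := by rw [← map_mul, mul_comm, hβ, map_one]
  ext i j
  fin_cases i <;> fin_cases j <;> simp
  · exact hβ
  · exact e
  · ring

include hφ hh hnil in
/-- a skew `2 × 2` block with unit off-diagonal entry is congruent to `J2` -/
theorem cong_J2 (B : Matrix (Fin 2) (Fin 2) L) (hB : Herm φ (-1) B) (hu : IsUnit (B 0 1)) :
    CongTo φ B (J2 L) := by
  have hφh := fixed_half φ hh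
  obtain ⟨α, hα⟩ : ∃ α, α = B 0 0 := ⟨_, rfl⟩
  obtain ⟨β, hβ⟩ : ∃ β, β = B 0 1 := ⟨_, rfl⟩
  obtain ⟨γ, hγ⟩ : ∃ γ, γ = B 1 1 := ⟨_, rfl⟩
  have h10 : B 1 0 = -φ β := by rw [herm_apply φ (-1) B hB 1 0, hβ]; ring
  have hα' : φ α = -α := by
    have := herm_apply φ (-1) B hB 0 0
    rw [← hα] at this
    linear_combination this
  have hγ' : φ γ = -γ := by
    have := herm_apply φ (-1) B hB 1 1
    rw [← hγ] at this
    linear_combination this
  have hBeq : B = !![α, β; -φ β, γ] := by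
    rw [hα, hγ, ← h10, hβ]
    exact Matrix.eta_fin_two B
  rw [← hβ] at hu
  obtain ⟨βi, hβi⟩ := hu.exists_right_inv
  -- step 1
  have s1 : CongTo φ B !![α, 1; -1, φ βi * γ * βi] := by
    rw [hBeq]
    exact cong_scale φ α β γ βi hβi
  obtain ⟨γ₁, hγ₁⟩ : ∃ γ₁, γ₁ = φ βi * γ * βi := ⟨_, rfl⟩
  have hγ₁' : φ γ₁ = -γ₁ := by
    rw [hγ₁]
    simp only [map_mul, hφ, hγ']
    ring
  rw [← hγ₁] at s1
  -- step 2
  have hαn : IsNilpotent α := nilpotent_of_skew φ h hh hnil hα'
  obtain ⟨s, hs⟩ : ∃ s, s = α * γ₁ := ⟨_, rfl⟩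
  have hsn : IsNilpotent s := by
    rw [hs]
    exact (Commute.all _ _).isNilpotent_mul_right hαn
  have hφs : φ s = s := by
    rw [hs, map_mul, hα', hγ₁']
    ring
  obtain ⟨k, hk⟩ := hsn
  obtain ⟨y, hy, hφy, hyn⟩ := exists_sqrt_one_add φ h hh k s hk hφs
  have h2u : IsUnit (2 : L) := IsUnit.of_mul_eq_one h (by rw [mul_comm]; exact hh)
  have hyu : IsUnit (1 + y) := by
    have : 1 + y = 2 + (y - 1) := by ring
    rw [this]
    exact hyn.isUnit_add_left_of_commute h2u (Commute.all _ _)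
  obtain ⟨v, hv⟩ := hyu.exists_right_inv
  have hφv : φ v = v := fixed_of_mul_eq_one φ hv (by rw [map_add, map_one, hφy])
  have key : 1 - 2 * v - s * v * v = 0 := by
    linear_combination (v * v) * hy - (1 + (1 + y) * v - 2 * v) * hv
  obtain ⟨x, hx⟩ : ∃ x, x = -(α * v) := ⟨_, rfl⟩
  have hφx : φ x = -x := by
    rw [hx, map_neg, map_mul, hα', hφv]
    ring
  obtain ⟨β₂, hβ₂⟩ : ∃ β₂, β₂ = 1 + s * v := ⟨_, rfl⟩
  have hφβ₂ : φ β₂ = β₂ := by
    rw [hβ₂, map_add, map_one, map_mul, hφs, hφv]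
  have s2 : CongTo φ !![α, 1; -1, γ₁] !![0, β₂; -φ β₂, γ₁] := by
    refine ⟨!![1, 0; x, 1], isUnit_fin_two _ _ _ _ (by simp), ?_⟩
    rw [star_mul_mul_fin_two, hφβ₂]
    ext i j
    fin_cases i <;> fin_cases j <;> simp [hφx]
    · rw [hx]
      linear_combination α * key + (α * v * v) * hs
    · rw [hβ₂, hx, hs]
      ring
    · rw [hβ₂, hx, hs]
      ring
  have hβ₂u : IsUnit β₂ := by
    rw [hβ₂]
    exact ((Commute.all _ _).isNilpotent_mul_right ⟨k, hk⟩).isUnit_one_add
  obtain ⟨β₂i, hβ₂i⟩ := hβ₂u.exists_right_inv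
  -- step 3
  have s3 := cong_scale φ 0 β₂ γ₁ β₂i hβ₂i
  obtain ⟨γ₂, hγ₂⟩ : ∃ γ₂, γ₂ = φ β₂i * γ₁ * β₂i := ⟨_, rfl⟩
  have hγ₂' : φ γ₂ = -γ₂ := by
    rw [hγ₂]
    simp only [map_mul, hφ, hγ₁']
    ring
  rw [← hγ₂] at s3
  -- step 4
  have s4 : CongTo φ !![0, 1; -1, γ₂] (J2 L) := by
    refine ⟨!![1, γ₂ * h; 0, 1], isUnit_fin_two _ _ _ _ (by simp), ?_⟩
    rw [star_mul_mul_fin_two]
    unfold J2
    ext i j
    fin_cases i <;> fin_cases j <;> simp [hγ₂', hφh]
    linear_combination (-γ₂) * hh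
  exact s1.trans (s2.trans (s3.trans s4))

end TwoByTwo

/-! ### block Schur complement -/

section Schur

variable {α β : Type*} [Fintype α] [DecidableEq α] [Fintype β] [DecidableEq β]
  {ι : Type*} [Fintype ι] [DecidableEq ι]

lemma CongTo.isUnit {φ : L →+* L} {X Y : Matrix ι ι L} (h : CongTo φ X Y) (hX : IsUnit X) :
    IsUnit Y := by
  obtain ⟨Q, hQ, rfl⟩ := h
  exact isUnit_congr φ X Q hX hQ

lemma CongTo.isUnit_left {φ : L →+* L} {X Y : Matrix ι ι L} (h : CongTo φ X Y) (hY : IsUnit Y) :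
    IsUnit X := by
  obtain ⟨Q, hQ, rfl⟩ := h
  rw [Matrix.isUnit_iff_isUnit_det, Matrix.det_mul, Matrix.det_mul] at hY
  rw [Matrix.isUnit_iff_isUnit_det]
  exact isUnit_of_mul_isUnit_right (isUnit_of_mul_isUnit_left hY)

lemma CongTo.herm {φ : L →+* L} (hφ : ∀ a, φ (φ a) = a) {ε : L} {X Y : Matrix ι ι L}
    (h : CongTo φ X Y) (hX : Herm φ ε X) : Herm φ ε Y := by
  obtain ⟨Q, hQ, rfl⟩ := h
  exact herm_congr φ hφ ε X Q hX

lemma herm_blocks (φ : L →+* L) (ε : L) (B : Matrix β β L) (C : Matrix β α L)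
    (C' : Matrix α β L) (D : Matrix α α L) (hg : Herm φ ε (Matrix.fromBlocks B C C' D)) :
    ε • (B.map φ)ᵀ = B ∧ ε • (C'.map φ)ᵀ = C ∧ ε • (C.map φ)ᵀ = C' ∧ ε • (D.map φ)ᵀ = D := by
  unfold Herm at hg
  rw [Matrix.fromBlocks_map, Matrix.fromBlocks_transpose, Matrix.fromBlocks_smul,
    Matrix.fromBlocks_inj] at hg
  exact hg

theorem schur_block (φ : L →+* L) (hφ : ∀ a, φ (φ a) = a) (ε : L) (hε : ε * ε = 1)
    (B : Matrix β β L) (C : Matrix β α L) (C' : Matrix α β L) (D : Matrix α α L)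
    (hg : Herm φ ε (Matrix.fromBlocks B C C' D)) (Bi : Matrix β β L) (hBi : B * Bi = 1) :
    CongTo φ (Matrix.fromBlocks B C C' D) (Matrix.fromBlocks B 0 0 (D - C' * Bi * C)) := by
  obtain ⟨hB, hC', hC, hD⟩ := herm_blocks φ ε B C C' D hg
  have hBiB : Bi * B = 1 := mul_eq_one_comm.mp hBi
  have hBs : (B.map φ)ᵀ = ε • B := by
    calc (B.map φ)ᵀ = (ε * ε) • (B.map φ)ᵀ := by rw [hε, one_smul]
      _ = ε • B := by rw [← smul_smul, hB]
  have hBis : (Bi.map φ)ᵀ = ε • Bi := by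
    have h1 : (Bi.map φ)ᵀ * (B.map φ)ᵀ = 1 := by
      rw [← Groth.Agent.Lib.Helper86.Herm.star_mul, hBi]
      ext i j
      simp [Matrix.one_apply, apply_ite φ, eq_comm]
    rw [hBs, Matrix.mul_smul, ← Matrix.smul_mul] at h1
    have h2 : ε • (Bi.map φ)ᵀ = Bi := by
      calc ε • (Bi.map φ)ᵀ = (ε • (Bi.map φ)ᵀ) * (B * Bi) := by rw [hBi, Matrix.mul_one]
        _ = Bi := by rw [← Matrix.mul_assoc, h1, Matrix.one_mul]
    calc (Bi.map φ)ᵀ = (ε * ε) • (Bi.map φ)ᵀ := by rw [hε, one_smul]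
      _ = ε • Bi := by rw [← smul_smul, h2]
  refine ⟨Matrix.fromBlocks 1 (-(Bi * C)) 0 1, ?_, ?_⟩
  · rw [Matrix.isUnit_iff_isUnit_det, Matrix.det_fromBlocks_zero₂₁]
    simp
  · have hw : ((Matrix.fromBlocks (1 : Matrix β β L) (-(Bi * C)) 0 (1 : Matrix α α L)).map φ)ᵀ =
        Matrix.fromBlocks 1 0 (-((C.map φ)ᵀ * (ε • Bi))) 1 := by
      rw [Matrix.fromBlocks_map, Matrix.fromBlocks_transpose]
      have e1 : ((1 : Matrix β β L).map φ)ᵀ = 1 := by
        ext i j
        simp [Matrix.one_apply, apply_ite φ, eq_comm]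
      have e2 : ((1 : Matrix α α L).map φ)ᵀ = 1 := by
        ext i j
        simp [Matrix.one_apply, apply_ite φ, eq_comm]
      have e3 : ((0 : Matrix α β L).map φ)ᵀ = 0 := by
        ext i j
        simp
      have e4 : ((-(Bi * C)).map φ)ᵀ = -((C.map φ)ᵀ * (ε • Bi)) := by
        rw [← hBis, ← Groth.Agent.Lib.Helper86.Herm.star_mul]
        ext i j
        simp only [Matrix.transpose_apply, Matrix.map_apply, Matrix.neg_apply, map_neg]
      rw [e1, e2, e3, e4]
    rw [hw, Matrix.fromBlocks_multiply, Matrix.fromBlocks_multiply, Matrix.fromBlocks_inj]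
    have hCs : (C.map φ)ᵀ * (ε • Bi) * B = C' := by
      rw [Matrix.mul_smul, Matrix.smul_mul, Matrix.mul_assoc, hBiB, Matrix.mul_one, hC]
    refine ⟨?_, ?_, ?_, ?_⟩
    · simp
    · simp only [Matrix.one_mul, Matrix.zero_mul, add_zero, Matrix.mul_neg, Matrix.mul_one]
      rw [← Matrix.mul_assoc, hBi, Matrix.one_mul, neg_add_cancel]
    · simp only [Matrix.neg_mul, Matrix.one_mul, Matrix.mul_one, Matrix.mul_zero, add_zero]
      rw [hCs, neg_add_cancel]
    · simp only [Matrix.neg_mul, Matrix.one_mul, Matrix.mul_one, Matrix.mul_neg]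
      rw [hCs, neg_add_cancel, Matrix.zero_mul, neg_zero, zero_add]
      have : (C.map φ)ᵀ * (ε • Bi) * C = C' * Bi * C := by
        rw [Matrix.mul_smul, ← Matrix.smul_mul, hC]
      rw [this]
      abel

end Schur

/-! ### the classification -/

section Main

variable [IsLocalRing L] (φ : L →+* L) (hφ : ∀ a, φ (φ a) = a) (h : L) (hh : h * 2 = 1)
  (hnil : ∀ a, IsNilpotent (φ a - a))

lemma e2_inl_zero (n : ℕ) : e2 n (Sum.inl 0) = 0 := by
  apply Fin.ext
  simp [e2]

lemma e2_inl_one (n : ℕ) : e2 n (Sum.inl 1) = 1 := by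
  apply Fin.ext
  simp [e2]

include hφ hh hnil in
/-- every skew-hermitian unit matrix is congruent to the standard one -/
theorem skew_classify :
    ∀ (n : ℕ) (V : Matrix (Fin n) (Fin n) L), IsUnit V → Herm φ (-1) V →
      CongTo φ V (Jstd L n) := by
  intro n
  induction n using Nat.twoStepInduction with
  | zero =>
    intro V _ _
    exact CongTo.of_eq φ (Subsingleton.elim _ _)
  | one =>
    intro V hV hVh
    exfalso
    have h1 : IsUnit (V 0 0) := by
      have := (Matrix.isUnit_iff_isUnit_det _).mp hV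
      rwa [Matrix.det_fin_one] at this
    have h2 : φ (V 0 0) = -V 0 0 := by
      have := herm_apply φ (-1) V hVh 0 0
      linear_combination this
    exact (nilpotent_of_skew φ h hh hnil h2).not_isUnit h1
  | more n ih _ =>
    intro V hV hVh
    have hdiag : ∀ i, IsNilpotent (V i i) := by
      intro i
      have h2 : φ (V i i) = -V i i := by
        have := herm_apply φ (-1) V hVh i i
        linear_combination this
      exact nilpotent_of_skew φ h hh hnil h2
    obtain ⟨j, hj⟩ := exists_row_notMem (IsLocalRing.maximalIdeal L) Ideal.IsPrime.ne_top' V hV 0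
    have hju : IsUnit (V 0 j) := by
      by_contra hcon
      exact hj ((IsLocalRing.mem_maximalIdeal _).mpr hcon)
    have hj0 : j ≠ 0 := by
      rintro rfl
      exact (hdiag 0).not_isUnit hju
    let σ : Fin (n + 2) ≃ Fin (n + 2) := Equiv.swap 1 j
    have hσ0 : σ 0 = 0 := Equiv.swap_apply_of_ne_of_ne (by simp) (Ne.symm hj0)
    have hσ1 : σ 1 = j := Equiv.swap_apply_left 1 j
    have c1 : CongTo φ V (V.submatrix σ σ) := CongTo.submatrix_perm σ V
    have hV₁ := c1.isUnit hV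
    have hV₁h := c1.herm hφ hVh
    obtain ⟨V₂, hV₂⟩ : ∃ V₂, V₂ = Matrix.reindex (e2 n).symm (e2 n).symm (V.submatrix σ σ) :=
      ⟨_, rfl⟩
    have hV₂u : IsUnit V₂ := by rw [hV₂]; exact isUnit_reindex _ _ hV₁
    have hV₂h : Herm φ (-1) V₂ := by rw [hV₂]; exact herm_reindex φ (-1) _ _ hV₁h
    have hblk := Matrix.fromBlocks_toBlocks V₂
    obtain ⟨B, hB⟩ : ∃ B, B = V₂.toBlocks₁₁ := ⟨_, rfl⟩
    obtain ⟨C, hC⟩ : ∃ C, C = V₂.toBlocks₁₂ := ⟨_, rfl⟩
    obtain ⟨C', hC'⟩ : ∃ C', C' = V₂.toBlocks₂₁ := ⟨_, rfl⟩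
    obtain ⟨D, hD⟩ : ∃ D, D = V₂.toBlocks₂₂ := ⟨_, rfl⟩
    rw [← hB, ← hC, ← hC', ← hD] at hblk
    have hB01 : B 0 1 = V 0 j := by
      rw [hB, hV₂]
      simp only [Matrix.toBlocks₁₁, Matrix.of_apply, Matrix.reindex_apply, Equiv.symm_symm,
        Matrix.submatrix_apply]
      rw [e2_inl_zero, e2_inl_one, hσ0, hσ1]
    have hBh : Herm φ (-1) B := by
      rw [← hblk] at hV₂h
      exact (herm_blocks φ (-1) B C C' D hV₂h).1
    have cB : CongTo φ B (J2 L) := cong_J2 φ hφ h hh hnil B hBh (by rw [hB01]; exact hju)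
    have hJ2u : IsUnit (J2 L) := by
      rw [Matrix.isUnit_iff_isUnit_det, J2_det]
      exact isUnit_one
    obtain ⟨Bi, hBi⟩ := (cB.isUnit_left hJ2u).exists_right_inv
    have c3 : CongTo φ V₂ (Matrix.fromBlocks B 0 0 (D - C' * Bi * C)) := by
      rw [← hblk] at hV₂h ⊢
      exact schur_block φ hφ (-1) (by ring) B C C' D hV₂h Bi hBi
    have hD'u : IsUnit (D - C' * Bi * C) := by
      have := c3.isUnit hV₂u
      rw [Matrix.isUnit_iff_isUnit_det, Matrix.det_fromBlocks_zero₂₁] at this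
      rw [Matrix.isUnit_iff_isUnit_det]
      exact isUnit_of_mul_isUnit_right this
    have hD'h : Herm φ (-1) (D - C' * Bi * C) :=
      (herm_blocks φ (-1) _ _ _ _ (c3.herm hφ hV₂h)).2.2.2
    have c4 := CongTo.fromBlocks cB (ih _ hD'u hD'h)
    have c5 := (c3.trans c4).reindex (e2 n)
    have hback : Matrix.reindex (e2 n) (e2 n) V₂ = V.submatrix σ σ := by
      rw [hV₂]
      ext i j
      simp
    rw [hback] at c5
    exact c1.trans c5

end Main

end Groth.Agent.Lib.Helper52.SkewStd
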