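import Mathlib
import Groth.Agent.Lib.Helper52.SkewStd
import Groth.Agent.Lib.Helper52.HermLocal

/-!
# Skew-hermitian unit matrices over `E ⊗ R` near a prime of `E` (everywhere ramified case)
-/

set_option autoImplicit false
set_option linter.style.haveILetI false
set_option linter.unusedSectionVars false
set_option linter.unusedVariables false
set_option linter.unusedSimpArgs false

namespace Groth.Agent.Lib.Helper52.SkewLocal

open scoped TensorProduct
open Matrix
open AzInv Groth.Agent.Lib.Helper52.RamNF Groth.Agent.Lib.Helper52.RamNFExists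
  Groth.Agent.Lib.Helper52.RamFinal Groth.Agent.Lib.Helper52.HermSpread
  Groth.Agent.Lib.Helper52.HermLocal Groth.Agent.Lib.Helper52.SkewStd
  Groth.Agent.Lib.Helper86.Herm

universe u v w

variable {S : Type u} {R : Type v} [CommRing S] [CommRing R] [Algebra S R] (lam : R ≃ₐ[S] R)
  (hlam : ∀ r, lam (lam r) = r) (hfix : RInv.IsFixedRing S R lam.toRingEquiv)

/-- nilpotency of `λ - 1` passes to `E ⊗ R` -/
lemma isNilpotent_lamE_sub (hnilR : ∀ r : R, IsNilpotent (lam r - r))
    (E : Type*) [CommRing E] [Algebra S E] (k : E ⊗[S] R) :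
    IsNilpotent (lamE lam E k - k) := by
  induction k using TensorProduct.induction_on with
  | zero => simp
  | tmul e r =>
    rw [lamE_tmul, ← TensorProduct.tmul_sub]
    have h1 : e ⊗ₜ[S] (lam r - r) =
        (e ⊗ₜ[S] (1 : R)) * (Algebra.TensorProduct.includeRight (R := S) (A := E) (lam r - r)) := by
      rw [Algebra.TensorProduct.includeRight_apply, Algebra.TensorProduct.tmul_mul_tmul, mul_one,
        one_mul]
    rw [h1]
    exact (Commute.all _ _).isNilpotent_mul_left ((hnilR r).map _)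
  | add x y hx hy =>
    have : lamE lam E (x + y) - (x + y) = (lamE lam E x - x) + (lamE lam E y - y) := by
      rw [map_add]; ring
    rw [this]
    exact Commute.isNilpotent_add (Commute.all _ _) hx hy

include hlam hfix in
/-- `E ⊗ R` is local when `E` is local (flat over `S`), `2` is a unit and `λ - 1` is nilpotent -/
lemma isLocalRing_tensor (h2 : IsUnit (2 : S)) (hnilR : ∀ r : R, IsNilpotent (lam r - r))
    (E : Type*) [CommRing E] [Algebra S E] [Module.Flat S E] [IsLocalRing E] :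
    IsLocalRing (E ⊗[S] R) := by
  have hfixK := isFixedRing_lamE_of_flat lam hlam hfix E
  haveI : Nontrivial (E ⊗[S] R) := hfixK.1.nontrivial
  obtain ⟨s₂, hs₂⟩ := h2.exists_left_inv
  have hlamK : ∀ k, lamE lam E (lamE lam E k) = k := lamE_lamE lam E hlam
  obtain ⟨hL, hhL⟩ : ∃ hL : E ⊗[S] R, hL = algebraMap S (E ⊗[S] R) s₂ := ⟨_, rfl⟩
  have hhL2 : hL * 2 = 1 := by
    rw [hhL, ← map_ofNat (algebraMap S (E ⊗[S] R)) 2, ← map_mul, hs₂, map_one]
  have hφhL : lamE lam E hL = hL := by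
    rw [hhL]
    exact (lamE lam E).toAlgHom.restrictScalars S |>.commutes s₂
  apply IsLocalRing.of_isUnit_or_isUnit_one_sub_self
  intro x
  have hfixp : lamE lam E ((x + lamE lam E x) * hL) = (x + lamE lam E x) * hL := by
    rw [map_mul, map_add, hlamK, hφhL, add_comm]
  obtain ⟨b, hb⟩ := (hfixK.2 _).mp hfixp
  have hnil : IsNilpotent (x - (x + lamE lam E x) * hL) := by
    have : x - (x + lamE lam E x) * hL = (lamE lam E x - x) * (-hL) := by
      linear_combination (-x) * hhL2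
    rw [this]
    exact (Commute.all _ _).isNilpotent_mul_right (isNilpotent_lamE_sub lam hnilR E x)
  rcases IsLocalRing.isUnit_or_isUnit_one_sub_self b with hbu | hbu
  · left
    have : x = algebraMap E (E ⊗[S] R) b + (x - (x + lamE lam E x) * hL) := by
      rw [hb]; ring
    rw [this]
    exact hnil.isUnit_add_left_of_commute (hbu.map _) (Commute.all _ _)
  · right
    have : 1 - x = algebraMap E (E ⊗[S] R) (1 - b) + -(x - (x + lamE lam E x) * hL) := by
      rw [map_sub, map_one, hb]; ring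
    rw [this]
    exact hnil.neg.isUnit_add_left_of_commute (hbu.map _) (Commute.all _ _)

include hlam hfix in
/-- the standard skew form near a prime, with a localisation -/
theorem exists_skew_std_near_prime (h2 : IsUnit (2 : S))
    (hnilR : ∀ r : R, IsNilpotent (lam r - r))
    (E : Type u) [CommRing E] [Algebra S E] [Module.Flat S E]
    (n : ℕ) (V : Matrix (Fin n) (Fin n) (E ⊗[S] R)) (hV : IsUnit V)
    (hskew : lamTr (lamE lam E) V = -V) (P : Ideal E) [P.IsPrime] :
    ∃ x : E, x ∉ P ∧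
      ∀ (E' : Type u) [CommRing E'] [Algebra S E'] (ρ : E →ₐ[S] E'), IsUnit (ρ x) →
        ∃ Q : Matrix (Fin n) (Fin n) (E' ⊗[S] R), IsUnit Q ∧
          lamTr (lamE lam E') Q * V.map (GMap (R := R) ρ) * Q = Jstd (E' ⊗[S] R) n := by
  classical
  let EP := Localization.AtPrime P
  let g : E →ₐ[S] EP := IsScalarTower.toAlgHom S E EP
  let G : E ⊗[S] R →ₐ[S] EP ⊗[S] R := GMap (R := R) g
  haveI : Module.Flat E EP := IsLocalization.flat EP P.primeCompl
  haveI : Module.Flat S EP := Module.Flat.trans S E EP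
  letI algK : Algebra (E ⊗[S] R) (EP ⊗[S] R) := G.toRingHom.toAlgebra
  haveI : IsScalarTower E (E ⊗[S] R) (EP ⊗[S] R) := IsScalarTower.of_algebraMap_eq (fun x => by
    show algebraMap E (EP ⊗[S] R) x = G (algebraMap E (E ⊗[S] R) x)
    rw [map_algebraMap']
    rfl)
  haveI hloc : IsLocalization (Algebra.algebraMapSubmonoid (E ⊗[S] R) P.primeCompl)
      (EP ⊗[S] R) := by
    apply IsLocalization.tensorProduct_tensorProduct S R P.primeCompl EP
    ext r
    show G ((1 : E) ⊗ₜ[S] r) = (1 : EP) ⊗ₜ[S] r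
    show Algebra.TensorProduct.map g (AlgHom.id S R) ((1 : E) ⊗ₜ[S] r) = _
    rw [Algebra.TensorProduct.map_tmul, map_one]
    rfl
  haveI := isLocalRing_tensor lam hlam hfix h2 hnilR EP
  obtain ⟨s₂, hs₂⟩ := h2.exists_left_inv
  have hVP : IsUnit (V.map G) := hV.map (G.toRingHom.mapMatrix)
  have hhermP : Herm (lamE lam EP : EP ⊗[S] R →+* EP ⊗[S] R) (-1) (V.map G) := by
    unfold Herm
    have h1 : ((V.map G).map (lamE lam EP : EP ⊗[S] R →+* EP ⊗[S] R))ᵀ =
        (lamTr (lamE lam E) V).map G := by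
      ext i j
      simp only [Matrix.transpose_apply, lamTr_apply, Matrix.map_apply]
      exact (map_lamE lam g (V j i)).symm
    rw [h1, hskew]
    ext i j
    simp only [Matrix.smul_apply, Matrix.map_apply, Matrix.neg_apply, map_neg, smul_eq_mul]
    ring
  have hhL2 : algebraMap S (EP ⊗[S] R) s₂ * 2 = 1 := by
    rw [← map_ofNat (algebraMap S (EP ⊗[S] R)) 2, ← map_mul, hs₂, map_one]
  obtain ⟨Q, hQ, hQV⟩ := skew_classify (lamE lam EP : EP ⊗[S] R →+* EP ⊗[S] R)
    (fun k => lamE_lamE lam EP hlam k) _ hhL2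
    (fun k => isNilpotent_lamE_sub lam hnilR EP k) n (V.map G) hVP hhermP
  obtain ⟨m, s₁, s₂', v₀, v₀', h1, h2'⟩ := spread_to
    (Algebra.algebraMapSubmonoid (E ⊗[S] R) P.primeCompl)
    (L := EP ⊗[S] R) (lamE lam E : E ⊗[S] R →+* E ⊗[S] R)
    (lamE lam EP : EP ⊗[S] R →+* EP ⊗[S] R)
    (fun k => (map_lamE lam g k).symm)
    (fun m hm => by
      obtain ⟨x, _, rfl⟩ := hm
      exact lamE_algebraMap lam E x) V (Jstd (E ⊗[S] R) n) Q hQ
    (by
      refine hQV.trans ?_
      exact (Jstd_map (algebraMap (E ⊗[S] R) (EP ⊗[S] R)) n).symm)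
  obtain ⟨x₁, hx₁P, hx₁⟩ := m.2
  obtain ⟨x₂, hx₂P, hx₂⟩ := s₁.2
  obtain ⟨x₃, hx₃P, hx₃⟩ := s₂'.2
  refine ⟨x₁ * x₂ * x₃, fun h => ?_, ?_⟩
  · rcases ‹P.IsPrime›.mem_or_mem h with h | h
    · exact (‹P.IsPrime›.mem_or_mem h).elim hx₁P hx₂P
    · exact hx₃P h
  intro E' _ _ ρ hρ
  have hu₁₂ : IsUnit (ρ (x₁ * x₂)) := isUnit_of_mul_isUnit_left (by rwa [← map_mul])
  have hu₃ : IsUnit (ρ x₃) := isUnit_of_mul_isUnit_right (by rwa [← map_mul])
  have hu₁ : IsUnit (ρ x₁) := isUnit_of_mul_isUnit_left (by rwa [← map_mul])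
  have hu₂ : IsUnit (ρ x₂) := isUnit_of_mul_isUnit_right (by rwa [← map_mul])
  have hunit : ∀ (y : E) (k : E ⊗[S] R), algebraMap E (E ⊗[S] R) y = k → IsUnit (ρ y) →
      IsUnit ((GMap (R := R) ρ).toRingHom k) := by
    intro y k hk hy
    rw [← hk]
    show IsUnit (GMap (R := R) ρ (algebraMap E (E ⊗[S] R) y))
    rw [map_algebraMap']
    exact hy.map _
  obtain ⟨Q', hQ', hQV'⟩ := spread_to_use (lamE lam E : E ⊗[S] R →+* E ⊗[S] R)
    (GMap (R := R) ρ).toRingHom (lamE lam E' : E' ⊗[S] R →+* E' ⊗[S] R)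
    (fun k => map_lamE lam ρ k) (m : E ⊗[S] R) (s₁ : E ⊗[S] R) (s₂' : E ⊗[S] R)
    (hunit x₁ _ hx₁ hu₁) (hunit x₂ _ hx₂ hu₂) (hunit x₃ _ hx₃ hu₃)
    (by rw [← hx₂]; exact lamE_algebraMap lam E x₂) V (Jstd (E ⊗[S] R) n) v₀ v₀' h1 h2'
  refine ⟨Q', hQ', ?_⟩
  have := Jstd_map (GMap (R := R) ρ).toRingHom (L := E ⊗[S] R) n
  rw [← this]
  exact hQV'

end Groth.Agent.Lib.Helper52.SkewLocal
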