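import Mathlib
import Groth.Agent.Lib.Helper52.RamFinal
import Groth.Agent.Lib.Helper52.SkewLocal

/-!
# Signs in the everywhere ramified case: one prime of `R` over each prime of `S`,
the sign is well defined on `Spec S`
-/

set_option autoImplicit false
set_option linter.style.haveILetI false
set_option linter.unusedSectionVars false
set_option linter.unusedVariables false
set_option linter.unusedSimpArgs false

namespace Groth.Agent.Lib.Helper52.OrdSign

open scoped TensorProduct
open AzInv Groth.Agent.Lib.Helper52.RamNF Groth.Agent.Lib.Helper52.RamNFExists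
  Groth.Agent.Lib.Helper52.RamFinal Groth.Agent.Lib.Helper52.RamId
  Groth.Agent.Lib.Helper52.RamSign
  Groth.Agent.Lib.Helper52.HermLocal Groth.Agent.Lib.Helper52.SkewLocal

universe u v w

variable {S : Type u} {R : Type v} [CommRing S] [CommRing R] [Algebra S R] (lam : R ≃ₐ[S] R)
  (hlam : ∀ r, lam (lam r) = r) (hfix : RInv.IsFixedRing S R lam.toRingEquiv)
  (h2 : IsUnit (2 : S)) (hnilR : ∀ r : R, IsNilpotent (lam r - r))

include hlam hfix h2 hnilR in
/-- at most one prime of `R` over each prime of `S` -/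
lemma unique_prime_over (q q' : Ideal R) [q.IsPrime] [q'.IsPrime]
    (h : q.comap (algebraMap S R) = q'.comap (algebraMap S R)) : q ≤ q' := by
  obtain ⟨s₂, hs₂⟩ := h2.exists_left_inv
  have hc₂ : algebraMap S R s₂ * 2 = 1 := by
    rw [← map_ofNat (algebraMap S R) 2, ← map_mul, hs₂, map_one]
  intro r hr
  have hfixp : lam ((r + lam r) * algebraMap S R s₂) = (r + lam r) * algebraMap S R s₂ := by
    rw [map_mul, map_add, hlam, lam.commutes, add_comm]
  obtain ⟨s, hs⟩ := (hfix.2 _).mp hfixp
  have hnil : IsNilpotent (r - (r + lam r) * algebraMap S R s₂) := by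
    have : r - (r + lam r) * algebraMap S R s₂ = (lam r - r) * (-algebraMap S R s₂) := by
      linear_combination (-r) * hc₂
    rw [this]
    exact (Commute.all _ _).isNilpotent_mul_right (hnilR r)
  have hmem : ∀ (I : Ideal R) [I.IsPrime], r - (r + lam r) * algebraMap S R s₂ ∈ I := by
    intro I _
    obtain ⟨k, hk⟩ := hnil
    exact Ideal.IsPrime.mem_of_pow_mem inferInstance k (hk ▸ I.zero_mem)
  have h1 : algebraMap S R s ∈ q := by
    rw [hs]
    have := q.sub_mem hr (hmem q)
    simpa using this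
  have h2' : s ∈ q'.comap (algebraMap S R) := by
    rw [← h]
    exact h1
  have h3 : (r + lam r) * algebraMap S R s₂ ∈ q' := by
    rw [← hs]
    exact h2'
  have := q'.add_mem h3 (hmem q')
  simpa using this

variable {A : Type w} [Ring A] [Algebra S A] [Algebra R A] [IsScalarTower S R A]
  (t : LamInv R A lam) (n : ℕ) (hn : 0 < n) [IsAzumaya R A]
  (hrank : ∀ p : PrimeSpectrum R, Module.rankAtStalk (R := R) A p = n ^ 2)

include hlam hfix h2 hnilR hn hrank in
/-- the sign rank at the prime of `R` under a prime of a ring carrying a normal form -/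
lemma sgnRank_at (E : Type u) [CommRing E] [Algebra S E] {ε : E} (h : HasNF t E n ε)
    (P : Ideal E) [P.IsPrime] :
    ∃ (q : Ideal R) (_ : q.IsPrime), q.comap (algebraMap S R) = P.comap (algebraMap S E) ∧
      (ε = 1 → sgnRank t q = n + Fintype.card {p : Fin n × Fin n // p.1 < p.2}) ∧
      (ε = -1 → sgnRank t q = Fintype.card {p : Fin n × Fin n // p.1 < p.2}) := by
  obtain ⟨s₂, hs₂⟩ := h2.exists_left_inv
  have hc₂ : algebraMap S R s₂ * 2 = 1 := by
    rw [← map_ofNat (algebraMap S R) 2, ← map_mul, hs₂, map_one]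
  have hlc : lam (algebraMap S R s₂) = algebraMap S R s₂ := lam.commutes s₂
  have hfixK := isFixedRing_lamE lam hlam hfix h2 E
  haveI := isIntegral_lamE lam hlam E hfixK
  obtain ⟨q₁, -, hq₁prime, hq₁P⟩ := Ideal.exists_ideal_over_prime_of_isIntegral P
    (⊥ : Ideal (E ⊗[S] R)) (by
      intro x hx
      rw [Ideal.mem_comap, Ideal.mem_bot] at hx
      have : x = 0 := hfixK.1 (by rw [hx, map_zero])
      rw [this]
      exact P.zero_mem)
  haveI := hq₁prime
  have hq₁ram : ∀ k, lamE lam E k - k ∈ q₁ := by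
    intro k
    obtain ⟨m, hm⟩ := isNilpotent_lamE_sub lam hnilR E k
    exact Ideal.IsPrime.mem_of_pow_mem inferInstance m (hm ▸ q₁.zero_mem)
  have hs := sgnRank_of_hasNF lam t n hn hrank E h q₁ hq₁ram
    (q₁.comap (ιR (S := S) (R := R) E)) rfl _ hc₂ hlc
  refine ⟨q₁.comap (ιR (S := S) (R := R) E), inferInstance, ?_, hs⟩
  rw [← hq₁P, Ideal.comap_comap, Ideal.comap_comap]
  congr 1
  ext s
  show (1 : E) ⊗ₜ[S] algebraMap S R s = algebraMap E (E ⊗[S] R) (algebraMap S E s)
  rw [Algebra.TensorProduct.algebraMap_apply, Algebra.algebraMap_eq_smul_one,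
    TensorProduct.tmul_smul, TensorProduct.smul_tmul', Algebra.algebraMap_self_apply,
    Algebra.algebraMap_eq_smul_one]

include hlam hfix h2 hnilR hn hrank in
/-- the two signs cannot both occur over one prime of `S` -/
lemma sign_disjoint (E₁ E₂ : Type u) [CommRing E₁] [Algebra S E₁] [CommRing E₂] [Algebra S E₂]
    (h₁ : HasNF t E₁ n 1) (h₂ : HasNF t E₂ n (-1)) (P₁ : Ideal E₁) [P₁.IsPrime]
    (P₂ : Ideal E₂) [P₂.IsPrime]
    (h : P₁.comap (algebraMap S E₁) = P₂.comap (algebraMap S E₂)) : False := by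
  obtain ⟨q, hqp, hq, hs, -⟩ := sgnRank_at lam hlam hfix h2 hnilR t n hn hrank E₁ h₁ P₁
  obtain ⟨q', hqp', hq', -, hs'⟩ := sgnRank_at lam hlam hfix h2 hnilR t n hn hrank E₂ h₂ P₂
  haveI := hqp
  haveI := hqp'
  have hqq : q = q' := le_antisymm
    (unique_prime_over lam hlam hfix h2 hnilR q q' (by rw [hq, hq', h]))
    (unique_prime_over lam hlam hfix h2 hnilR q' q (by rw [hq, hq', h]))
  subst hqq
  have e1 := hs rfl
  have e2 := hs' rfl
  rw [e1] at e2
  omega

end Groth.Agent.Lib.Helper52.OrdSign
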