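import Mathlib
import Groth.Agent.Lib.Helper52.OrdSign
import Groth.Agent.Lib.Helper52.MatNF

/-!
# The sign idempotent of `S` in the everywhere ramified case
-/

set_option autoImplicit false
set_option linter.style.haveILetI false
set_option linter.unusedSectionVars false
set_option linter.unusedVariables false
set_option linter.unusedSimpArgs false

namespace Groth.Agent.Lib.Helper52.OrdIdem

open scoped TensorProduct
open AzInv Groth.Agent.Lib.Helper52.RamNF Groth.Agent.Lib.Helper52.RamNFExists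
  Groth.Agent.Lib.Helper52.RamFinal Groth.Agent.Lib.Helper52.OrdSign
  Groth.Agent.Lib.Helper52.HermLocal Groth.Agent.Lib.Helper52.SkewLocal
  Groth.Agent.Lib.Helper52.SkewStd Groth.Agent.Lib.Helper52.MatNF

universe u v w

variable {S : Type u} {R : Type v} [CommRing S] [CommRing R] [Algebra S R] (lam : R ≃ₐ[S] R)
  (hlam : ∀ r, lam (lam r) = r) (hfix : RInv.IsFixedRing S R lam.toRingEquiv)
  (h2 : IsUnit (2 : S)) (hnilR : ∀ r : R, IsNilpotent (lam r - r))
  {A : Type w} [Ring A] [Algebra S A] [Algebra R A] [IsScalarTower S R A]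
  (t : LamInv R A lam) (n : ℕ) (hn : 0 < n) [IsAzumaya R A]
  (hrank : ∀ p : PrimeSpectrum R, Module.rankAtStalk (R := R) A p = n ^ 2)

include hlam hfix h2 hnilR hn hrank in
/-- the sign idempotent -/
theorem exists_sign_idempotent (E : Type u) [CommRing E] [Algebra S E] [Algebra.Etale S E]
    [Module.FaithfullyFlat S E] (a b : E) (hab : a + b = 4)
    (hNa : HasNF t (Localization.Away a) n 1) (hNb : HasNF t (Localization.Away b) n (-1)) :
    ∃ e₀ : S, e₀ * e₀ = e₀ ∧
      (∀ p : PrimeSpectrum S, e₀ ∉ p.asIdeal → ∃ P : Ideal E, P.IsPrime ∧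
        P.comap (algebraMap S E) = p.asIdeal ∧ a ∉ P) ∧
      (∀ p : PrimeSpectrum S, e₀ ∈ p.asIdeal → ∃ P : Ideal E, P.IsPrime ∧
        P.comap (algebraMap S E) = p.asIdeal ∧ b ∉ P) := by
  classical
  let f := PrimeSpectrum.comap (algebraMap S E)
  let Up : Set (PrimeSpectrum S) := f '' {P | a ∉ P.asIdeal}
  let Um : Set (PrimeSpectrum S) := f '' {P | b ∉ P.asIdeal}
  have hopenmap : IsOpenMap f :=
    PrimeSpectrum.isOpenMap_comap_of_hasGoingDown_of_finitePresentation (R := S) (S := E)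
  have hUp : IsOpen Up := hopenmap _ (PrimeSpectrum.basicOpen a).isOpen
  have hUm : IsOpen Um := hopenmap _ (PrimeSpectrum.basicOpen b).isOpen
  obtain ⟨s₂, hs₂⟩ := h2.exists_left_inv
  have hcover : ∀ p, p ∈ Up ∨ p ∈ Um := by
    intro p
    obtain ⟨P, hP⟩ := PrimeSpectrum.comap_surjective_of_faithfullyFlat (A := S) (B := E) p
    by_cases ha : a ∈ P.asIdeal
    · right
      refine ⟨P, ?_, hP⟩
      intro hb
      have h4 : (4 : E) ∈ P.asIdeal := by rw [← hab]; exact P.asIdeal.add_mem ha hb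
      apply P.2.ne_top
      rw [Ideal.eq_top_iff_one]
      have h5 : (1 : E) = algebraMap S E (s₂ * s₂) * 4 := by
        have : (4 : E) = algebraMap S E (2 * 2) := by
          rw [map_mul, map_ofNat]; norm_num
        rw [this, ← map_mul]
        have : s₂ * s₂ * (2 * 2) = 1 := by
          calc s₂ * s₂ * (2 * 2) = (s₂ * 2) * (s₂ * 2) := by ring
            _ = 1 := by rw [hs₂, one_mul]
        rw [this, map_one]
      rw [h5]
      exact P.asIdeal.mul_mem_left _ h4
    · left
      exact ⟨P, ha, hP⟩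
  have hdisj : ∀ p, p ∈ Up → p ∈ Um → False := by
    rintro p ⟨P₁, hP₁a, hP₁⟩ ⟨P₂, hP₂b, hP₂⟩
    haveI := P₁.2
    haveI := P₂.2
    obtain ⟨P₁', hP₁'prime, hP₁'⟩ := exists_prime_away P₁.asIdeal a hP₁a
    obtain ⟨P₂', hP₂'prime, hP₂'⟩ := exists_prime_away P₂.asIdeal b hP₂b
    haveI := hP₁'prime
    haveI := hP₂'prime
    refine sign_disjoint lam hlam hfix h2 hnilR t n hn hrank (Localization.Away a)
      (Localization.Away b) hNa hNb P₁' P₂' ?_
    rw [IsScalarTower.algebraMap_eq S E (Localization.Away a), ← Ideal.comap_comap, hP₁',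
      IsScalarTower.algebraMap_eq S E (Localization.Away b), ← Ideal.comap_comap, hP₂']
    have e1 : P₁.asIdeal.comap (algebraMap S E) = p.asIdeal := congrArg PrimeSpectrum.asIdeal hP₁
    have e2 : P₂.asIdeal.comap (algebraMap S E) = p.asIdeal := congrArg PrimeSpectrum.asIdeal hP₂
    rw [e1, e2]
  have hcompl : Up = Umᶜ := by
    ext p
    constructor
    · intro hp hm
      exact hdisj p hp hm
    · intro hp
      rcases hcover p with h | h
      · exact h
      · exact absurd h hp
  have hclopen : IsClopen Up := ⟨by rw [hcompl]; exact hUm.isClosed_compl, hUp⟩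
  obtain ⟨e₀, he₀, hUe⟩ := PrimeSpectrum.isClopen_iff.mp hclopen
  refine ⟨e₀, he₀, fun p hp => ?_, fun p hp => ?_⟩
  · have : p ∈ Up := by
      rw [hUe]
      exact hp
    obtain ⟨P, hPa, hP⟩ := this
    exact ⟨P.asIdeal, P.2, congrArg PrimeSpectrum.asIdeal hP, hPa⟩
  · have : p ∉ Up := by
      rw [hUe]
      intro h
      exact h hp
    rcases hcover p with h | h
    · exact absurd h this
    · obtain ⟨P, hPb, hP⟩ := h
      exact ⟨P.asIdeal, P.2, congrArg PrimeSpectrum.asIdeal hP, hPb⟩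

lemma Jstd_det_odd {L : Type*} [CommRing L] : ∀ n, Odd n → (Jstd L n).det = 0 := by
  intro n
  induction n using Nat.twoStepInduction with
  | zero => intro h; exact absurd h (by decide)
  | one => intro _; simp [Jstd, Matrix.det_fin_one]
  | more n ih _ =>
    intro h
    have hn : Odd n := by
      rcases h with ⟨k, hk⟩
      exact ⟨k - 1, by omega⟩
    rw [Jstd_succ_succ, Matrix.det_reindex_self, Matrix.det_fromBlocks_zero₂₁, ih hn, mul_zero]

include hlam hfix h2 hnilR hn hrank in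
/-- a skew normal form forces even degree -/
theorem even_of_hasNF_neg (E : Type u) [CommRing E] [Algebra S E] [Module.Flat S E]
    (hN : HasNF t E n (-1)) (P : Ideal E) [P.IsPrime] : Even n := by
  by_contra hodd
  rw [Nat.not_even_iff_odd] at hodd
  obtain ⟨V, hV, hskew, -⟩ := matNF_of_hasNF t n hn hrank E hN
  rw [neg_smul, one_smul] at hskew
  obtain ⟨x, hxP, hkey⟩ := exists_skew_std_near_prime lam hlam hfix h2 hnilR E n V hV hskew P
  let Ex := Localization.Away x
  let ρx : E →ₐ[S] Ex := IsScalarTower.toAlgHom S E Ex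
  obtain ⟨Q, hQ, hQV⟩ := hkey Ex ρx (IsLocalization.Away.algebraMap_isUnit x)
  haveI : Module.Flat E Ex := IsLocalization.flat Ex (Submonoid.powers x)
  haveI : Module.Flat S Ex := Module.Flat.trans S E Ex
  have hfixx := isFixedRing_lamE_of_flat lam hlam hfix Ex
  obtain ⟨Px, hPxprime, -⟩ := exists_prime_away P x hxP
  haveI : Nontrivial Ex :=
    nontrivial_of_ne (0 : Ex) 1 (fun h => hPxprime.ne_top ((Ideal.eq_top_iff_one _).mpr
      (h ▸ Px.zero_mem)))
  haveI : Nontrivial (Ex ⊗[S] R) := hfixx.1.nontrivial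
  have hVx : IsUnit (V.map (GMap (R := R) ρx)) := hV.map ((GMap (R := R) ρx).toRingHom.mapMatrix)
  have hJ : IsUnit (Jstd (Ex ⊗[S] R) n) := by
    rw [← hQV]
    refine (IsUnit.mul ?_ hVx).mul hQ
    have hlamKx : ∀ k, lamE lam Ex (lamE lam Ex k) = k := lamE_lamE lam Ex hlam
    let τx : LamInv (Ex ⊗[S] R) (Matrix (Fin n) (Fin n) (Ex ⊗[S] R)) (lamE lam Ex) :=
      LamInv.transpose (lamE lam Ex) (Fin n) hlamKx
    obtain ⟨u, hu⟩ := hQ
    have : lamTr (lamE lam Ex) Q = τx ↑u := by rw [hu]; rfl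
    rw [this]
    exact ⟨⟨τx ↑u, τx ↑u⁻¹, by rw [← τx.map_mul, Units.inv_mul, τx.map_one],
      by rw [← τx.map_mul, Units.mul_inv, τx.map_one]⟩, rfl⟩
  rw [Matrix.isUnit_iff_isUnit_det, Jstd_det_odd n hodd] at hJ
  exact not_isUnit_zero hJ

end Groth.Agent.Lib.Helper52.OrdIdem
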