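import Mathlib
import Groth.Agent.Lib.Helper52.OrdIdem
import Groth.Agent.Lib.Helper52.OddFinal

/-!
# Ordinary involutions in the everywhere ramified case: the local comparisons
-/

set_option autoImplicit false
set_option linter.style.haveILetI false
set_option linter.unusedSectionVars false
set_option linter.unusedVariables false
set_option linter.unusedSimpArgs false

namespace Groth.Agent.Lib.Helper52.OrdFinal

open scoped TensorProduct
open Matrix
open AzInv Groth.Agent.Lib.Helper52.AzSplitMU Groth.Agent.Lib.Helper52.RamNF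
  Groth.Agent.Lib.Helper52.InvFix Groth.Agent.Lib.Helper52.InvIso
  Groth.Agent.Lib.Helper52.InvHyper Groth.Agent.Lib.Helper52.RamMark
  Groth.Agent.Lib.Helper52.RamStd Groth.Agent.Lib.Helper52.MatNF
  Groth.Agent.Lib.Helper52.HermLocal Groth.Agent.Lib.Helper52.HermSqrt
  Groth.Agent.Lib.Helper52.RamGlue Groth.Agent.Lib.Helper52.SkewStd
  Groth.Agent.Lib.Helper52.SkewLocal Groth.Agent.Lib.Helper52.RamFinal
  Groth.Agent.Lib.Helper52.RamNFExists

universe u v w

section Global

variable {S : Type u} {R : Type v} [CommRing S] [CommRing R] [Algebra S R] (lam : R ≃ₐ[S] R)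
  (hlam : ∀ r, lam (lam r) = r)

/-- the global matrix `ē • 1 + (1 - ē) • J` -/
def wMat (ē : R) (n : ℕ) : Matrix (Fin n) (Fin n) R := ē • 1 + (1 - ē) • Jstd R n

lemma wMat_mul (ē : R) (hē : ē * ē = ē) (n : ℕ) (Ji : Matrix (Fin n) (Fin n) R)
    (hJ : (1 - ē) • (Jstd R n * Ji) = (1 - ē) • (1 : Matrix (Fin n) (Fin n) R)) :
    wMat ē n * (ē • 1 + (1 - ē) • Ji) = 1 := by
  unfold wMat
  have h0 : ē * (1 - ē) = 0 := by rw [mul_sub, mul_one, hē, sub_self]
  have h0' : (1 - ē) * ē = 0 := by rw [mul_comm, h0]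
  have h1 : (1 - ē) * (1 - ē) = 1 - ē := by
    linear_combination hē
  rw [Matrix.add_mul, Matrix.mul_add, Matrix.mul_add]
  simp only [Matrix.smul_mul, Matrix.mul_smul, Matrix.one_mul, Matrix.mul_one, smul_smul]
  rw [hē, h0, h0', h1, hJ, zero_smul, zero_smul, add_zero, zero_add, ← add_smul]
  have : ē + (1 - ē) = 1 := by ring
  rw [this, one_smul]

lemma mul_wMat (ē : R) (hē : ē * ē = ē) (n : ℕ) (Ji : Matrix (Fin n) (Fin n) R)
    (hJ : (1 - ē) • (Ji * Jstd R n) = (1 - ē) • (1 : Matrix (Fin n) (Fin n) R)) :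
    (ē • 1 + (1 - ē) • Ji) * wMat ē n = 1 := by
  unfold wMat
  have h0 : ē * (1 - ē) = 0 := by rw [mul_sub, mul_one, hē, sub_self]
  have h0' : (1 - ē) * ē = 0 := by rw [mul_comm, h0]
  have h1 : (1 - ē) * (1 - ē) = 1 - ē := by
    linear_combination hē
  rw [Matrix.add_mul, Matrix.mul_add, Matrix.mul_add]
  simp only [Matrix.smul_mul, Matrix.mul_smul, Matrix.one_mul, Matrix.mul_one, smul_smul]
  rw [hē, h0, h0', h1, hJ, zero_smul, zero_smul, add_zero, zero_add, ← add_smul]
  have : ē + (1 - ē) = 1 := by ring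
  rw [this, one_smul]

lemma lamTr_wMat (ē : R) (hē : ē * ē = ē) (hlē : lam ē = ē) (n : ℕ) :
    LamInv.transpose lam (Fin n) hlam (wMat ē n) = (2 * ē - 1) • wMat ē n := by
  have hJ : LamInv.transpose lam (Fin n) hlam (Jstd R n) = -Jstd R n := by
    show ((Jstd R n).map (lam : R →+* R))ᵀ = -Jstd R n
    rw [Jstd_map (lam : R →+* R), Jstd_transpose]
  have h1 : LamInv.transpose lam (Fin n) hlam (1 : Matrix (Fin n) (Fin n) R) = 1 :=
    (LamInv.transpose lam (Fin n) hlam).map_one
  unfold wMat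
  rw [LamInv.map_add, LamInv.map_smul, LamInv.map_smul, h1, hJ, map_sub, map_one, hlē, smul_add,
    smul_smul, smul_smul, smul_neg]
  have e1 : (2 * ē - 1) * ē = ē := by linear_combination 2 * hē
  have e2 : (2 * ē - 1) * (1 - ē) = -(1 - ē) := by linear_combination (-2 : R) * hē
  rw [e1, e2, neg_smul]

end Global

section Std

variable {S : Type u} {R : Type v} [CommRing S] [CommRing R] [Algebra S R] (lam : R ≃ₐ[S] R)
  (hlam : ∀ r, lam (lam r) = r) (n : ℕ) (C : Type u) [CommRing C] [Algebra S C]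

/-- the image of a unit matrix over `R` in `M_n(C ⊗ R)` -/
noncomputable def wC (w : (Matrix (Fin n) (Fin n) R)ˣ) : (Matrix (Fin n) (Fin n) (C ⊗[S] R))ˣ :=
  Units.map ((Algebra.TensorProduct.includeRight : R →ₐ[S] C ⊗[S] R).mapMatrix
    (m := Fin n)).toRingHom.toMonoidHom w

lemma wC_val (w : (Matrix (Fin n) (Fin n) R)ˣ) :
    (wC (S := S) n C w).val = w.val.map (Algebra.TensorProduct.includeRight : R →ₐ[S] C ⊗[S] R) := rfl

lemma wC_inv (w : (Matrix (Fin n) (Fin n) R)ˣ) :
    (wC (S := S) n C w)⁻¹.val = w⁻¹.val.map (Algebra.TensorProduct.includeRight : R →ₐ[S] C ⊗[S] R) := rfl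

lemma matTensor_one_tmul (M : Matrix (Fin n) (Fin n) R) :
    matTensor (R := S) C (Fin n) ((1 : C) ⊗ₜ[S] M) =
      M.map (Algebra.TensorProduct.includeRight : R →ₐ[S] C ⊗[S] R) := by
  ext i j
  rw [matTensor_tmul]
  rfl

/-- the model `(M_n(R), w · lamTr · w⁻¹)` after base change -/
lemma mIso_conj_std (w : (Matrix (Fin n) (Fin n) R)ˣ) (e : R)
    (hw : LamInv.transpose lam (Fin n) hlam (↑w : Matrix (Fin n) (Fin n) R) =
      e • (↑w : Matrix (Fin n) (Fin n) R)) (he : lam e * e = 1) :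
    MIso C ((((LamInv.transpose lam (Fin n) hlam).conj w e hw he).linS S lam).baseChange C)
      (conjLin (wC (S := S) n C w) (trK lam C n))
      (fun r : R => (1 : C) ⊗ₜ[S] algebraMap R (Matrix (Fin n) (Fin n) R) r)
      (fun r : R => Matrix.scalar (Fin n) ((1 : C) ⊗ₜ[S] r)) := by
  classical
  refine ⟨matTensor (R := S) C (Fin n), fun x => ?_, fun r => ?_⟩
  · induction x using TensorProduct.induction_on with
    | zero => simp
    | tmul c M =>
      rw [LinearMap.baseChange_tmul, conjLin_apply]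
      show matTensor (R := S) C (Fin n) (c ⊗ₜ[S] ((↑w : Matrix (Fin n) (Fin n) R) *
        LamInv.transpose lam (Fin n) hlam M * (↑w⁻¹ : Matrix (Fin n) (Fin n) R))) = _
      have h1 : c ⊗ₜ[S] ((↑w : Matrix (Fin n) (Fin n) R) *
          LamInv.transpose lam (Fin n) hlam M * (↑w⁻¹ : Matrix (Fin n) (Fin n) R)) =
          ((1 : C) ⊗ₜ[S] (↑w : Matrix (Fin n) (Fin n) R)) *
            (c ⊗ₜ[S] LamInv.transpose lam (Fin n) hlam M) *
            ((1 : C) ⊗ₜ[S] (↑w⁻¹ : Matrix (Fin n) (Fin n) R)) := by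
        rw [Algebra.TensorProduct.tmul_mul_tmul, Algebra.TensorProduct.tmul_mul_tmul, one_mul,
          mul_one]
      rw [h1, map_mul, map_mul, matTensor_one_tmul, matTensor_one_tmul, wC_val, wC_inv]
      congr 2
      ext i j
      rw [matTensor_tmul, trK_apply, matTensor_tmul, lamE_tmul]
      rfl
    | add x y hx hy => simp only [map_add, hx, hy]
  · ext i j
    rw [matTensor_tmul]
    simp only [Matrix.algebraMap_matrix_apply, Matrix.scalar_apply, Matrix.diagonal_apply]
    split_ifs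
    · rfl
    · exact TensorProduct.tmul_zero _ _

/-- the value of `wC` when `ē` becomes `1` -/
lemma wC_of_one (w : (Matrix (Fin n) (Fin n) R)ˣ) (e₀ : S)
    (hwval : w.val = wMat (algebraMap S R e₀) n) (h1 : algebraMap S C e₀ = 1) :
    (wC (S := S) n C w).val = 1 := by
  rw [wC_val, hwval]
  unfold wMat
  have hinc : (Algebra.TensorProduct.includeRight : R →ₐ[S] C ⊗[S] R) (algebraMap S R e₀) = 1 := by
    rw [AlgHom.commutes, Algebra.TensorProduct.algebraMap_apply, h1]
    rfl
  ext i j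
  simp only [Matrix.map_apply, Matrix.add_apply, Matrix.smul_apply, smul_eq_mul, map_add, map_mul,
    map_sub, map_one, hinc, sub_self, zero_mul, add_zero, one_mul]
  by_cases hij : i = j
  · subst hij
    rw [Matrix.one_apply_eq, Matrix.one_apply_eq, map_one]
  · rw [Matrix.one_apply_ne hij, Matrix.one_apply_ne hij, map_zero]

/-- the value of `wC` when `ē` becomes `0` -/
lemma wC_of_zero (w : (Matrix (Fin n) (Fin n) R)ˣ) (e₀ : S)
    (hwval : w.val = wMat (algebraMap S R e₀) n) (h0 : algebraMap S C e₀ = 0) :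
    (wC (S := S) n C w).val = Jstd (C ⊗[S] R) n := by
  rw [wC_val, hwval]
  unfold wMat
  have hinc : (Algebra.TensorProduct.includeRight : R →ₐ[S] C ⊗[S] R) (algebraMap S R e₀) = 0 := by
    rw [AlgHom.commutes, Algebra.TensorProduct.algebraMap_apply, h0, TensorProduct.zero_tmul]
  rw [← Jstd_map ((Algebra.TensorProduct.includeRight : R →ₐ[S] C ⊗[S] R) : R →+* C ⊗[S] R) n]
  ext i j
  simp only [Matrix.map_apply, Matrix.add_apply, Matrix.smul_apply, smul_eq_mul, map_add, map_mul,
    map_sub, map_one, hinc, sub_zero, zero_mul, zero_add, one_mul]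
  rfl

end Std

section Local

variable {S : Type u} {R : Type v} [CommRing S] [CommRing R] [Algebra S R] (lam : R ≃ₐ[S] R)
  (hlam : ∀ r, lam (lam r) = r) (hfix : RInv.IsFixedRing S R lam.toRingEquiv)
  (hsq : ∀ (S₁ : Type u) [CommRing S₁] [Algebra S S₁] [Algebra.Etale S S₁] (x : S₁ˣ),
      ∃ (S₂ : Type u) (_ : CommRing S₂) (_ : Algebra S₁ S₂) (_ : Algebra.Etale S₁ S₂)
        (_ : Module.FaithfullyFlat S₁ S₂) (y : S₂), y * y = algebraMap S₁ S₂ ↑x)
  (h2 : IsUnit (2 : S)) (hnilR : ∀ r : R, IsNilpotent (lam r - r))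
  {A : Type w} [Ring A] [Algebra S A] [Algebra R A] [IsScalarTower S R A]
  (t : LamInv R A lam) (n : ℕ) (hn : 0 < n) [IsAzumaya R A]
  (hrank : ∀ p : PrimeSpectrum R, Module.rankAtStalk (R := R) A p = n ^ 2)
  (w : (Matrix (Fin n) (Fin n) R)ˣ) (e : R)
  (hw : LamInv.transpose lam (Fin n) hlam (↑w : Matrix (Fin n) (Fin n) R) =
    e • (↑w : Matrix (Fin n) (Fin n) R)) (he : lam e * e = 1)

/-- the goal at a prime of `S` -/
def LocGoal (p : PrimeSpectrum S) : Prop :=
  ∃ (C : Type u) (_ : CommRing C) (_ : Algebra S C) (_ : Algebra.Etale S C),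
    MIso C ((t.linS S lam).baseChange C)
      ((((LamInv.transpose lam (Fin n) hlam).conj w e hw he).linS S lam).baseChange C)
      (fun r : R => (1 : C) ⊗ₜ[S] algebraMap R A r)
      (fun r : R => (1 : C) ⊗ₜ[S] algebraMap R (Matrix (Fin n) (Fin n) R) r) ∧
    p ∈ Set.range (PrimeSpectrum.comap (algebraMap S C))

include hn hrank in
/-- a Gram matrix congruent to the image of `w` gives the comparison -/
lemma mIso_of_cong (C : Type u) [CommRing C] [Algebra S C]
    {V : Matrix (Fin n) (Fin n) (C ⊗[S] R)} (hMat : MatNF t C n V)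
    (W : (Matrix (Fin n) (Fin n) (C ⊗[S] R))ˣ)
    (hW : W.val * V * lamTr (lamE lam C) W.val = (wC (S := S) n C w).val) :
    MIso C ((t.linS S lam).baseChange C)
      ((((LamInv.transpose lam (Fin n) hlam).conj w e hw he).linS S lam).baseChange C)
      (fun r : R => (1 : C) ⊗ₜ[S] algebraMap R A r)
      (fun r : R => (1 : C) ⊗ₜ[S] algebraMap R (Matrix (Fin n) (Fin n) R) r) := by
  classical
  obtain ⟨Vu, hVu, h1⟩ := hMat.mIso t n hn hrank C
  have hcong : Cong (trK lam C n) Vu (wC (S := S) n C w) := by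
    refine ⟨W, 1, 1, one_mul 1, ?_⟩
    rw [hVu, trK_eq, hW, one_smul]
  have h2 := Cong.mIso (trK_mul lam hlam C n) (trK_one lam hlam C n) hcong
    (fun r : R => Matrix.scalar (Fin n) ((1 : C) ⊗ₜ[S] r))
    (fun r x => Matrix.scalar_commute _ (fun r' => Commute.all _ _) x)
  exact h1.trans (h2.trans (mIso_conj_std lam hlam n C w e hw he).symm)

lemma eq_one_of_isUnit_of_idem {B : Type*} [CommRing B] {x : B} (hx : IsUnit x)
    (hxx : x * x = x) : x = 1 := by
  obtain ⟨y, hy⟩ := hx.exists_right_inv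
  calc x = x * (x * y) := by rw [hy, mul_one]
    _ = (x * x) * y := by ring
    _ = 1 := by rw [hxx, hy]

include hlam hfix hsq h2 hn hrank in
/-- the comparison near a prime with sign `+` -/
lemma loc_plus (e₀ : S) (he₀ : e₀ * e₀ = e₀) (hwval : w.val = wMat (algebraMap S R e₀) n)
    (E₁ : Type u) [CommRing E₁] [Algebra S E₁] [Algebra.Etale S E₁] (hN : HasNF t E₁ n 1)
    (hu : IsUnit (algebraMap S E₁ e₀)) (P₁ : Ideal E₁) [P₁.IsPrime] (p : PrimeSpectrum S)
    (hp : P₁.comap (algebraMap S E₁) = p.asIdeal) :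
    LocGoal lam hlam t n w e hw he p := by
  classical
  obtain ⟨V, hV, hherm, hMat⟩ := matNF_of_hasNF t n hn hrank E₁ hN
  rw [one_smul] at hherm
  obtain ⟨E'', _, _, hEt'', ρ, P'', hP''prime, hP'', Q, hQ⟩ :=
    exists_cong_one_near_prime lam hlam hfix hsq E₁ n V hV hherm (Or.inr h2) P₁
  have halg : algebraMap S E'' = (ρ : E₁ →+* E'').comp (algebraMap S E₁) := by
    ext s
    exact (ρ.commutes s).symm
  have h1 : algebraMap S E'' e₀ = 1 := by
    apply eq_one_of_isUnit_of_idem
    · rw [halg]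
      exact hu.map ρ
    · rw [← map_mul, he₀]
  refine ⟨E'', inferInstance, inferInstance, hEt'', ?_, ⟨⟨P'', hP''prime⟩, ?_⟩⟩
  · apply mIso_of_cong lam hlam t n hn hrank w e hw he E'' (hMat.map ρ) Q
    rw [wC_of_one n E'' w e₀ hwval h1]
    exact hQ
  · apply PrimeSpectrum.ext
    show P''.comap (algebraMap S E'') = p.asIdeal
    rw [halg, ← Ideal.comap_comap]
    have h3 : P''.comap (ρ : E₁ →+* E'') = P₁ := hP''
    rw [h3, hp]

include hlam hfix h2 hnilR hn hrank in
/-- the comparison near a prime with sign `-` -/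
lemma loc_minus (e₀ : S) (he₀ : e₀ * e₀ = e₀) (hwval : w.val = wMat (algebraMap S R e₀) n)
    (E₁ : Type u) [CommRing E₁] [Algebra S E₁] [Algebra.Etale S E₁] (hN : HasNF t E₁ n (-1))
    (hu : IsUnit (algebraMap S E₁ (1 - e₀))) (P₁ : Ideal E₁) [P₁.IsPrime] (p : PrimeSpectrum S)
    (hp : P₁.comap (algebraMap S E₁) = p.asIdeal) :
    LocGoal lam hlam t n w e hw he p := by
  classical
  obtain ⟨V, hV, hskew, hMat⟩ := matNF_of_hasNF t n hn hrank E₁ hN
  rw [neg_smul, one_smul] at hskew
  obtain ⟨x, hxP, hkey⟩ :=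
    exists_skew_std_near_prime lam hlam hfix h2 hnilR E₁ n V hV hskew P₁
  let Ex := Localization.Away x
  haveI : Algebra.Etale S Ex := Algebra.Etale.comp S E₁ Ex
  let ρx : E₁ →ₐ[S] Ex := IsScalarTower.toAlgHom S E₁ Ex
  obtain ⟨Q, hQ, hQV⟩ := hkey Ex ρx (IsLocalization.Away.algebraMap_isUnit x)
  have halg : algebraMap S Ex = (ρx : E₁ →+* Ex).comp (algebraMap S E₁) := by
    ext s
    exact (ρx.commutes s).symm
  have h0 : algebraMap S Ex e₀ = 0 := by
    have h1 : algebraMap S Ex (1 - e₀) = 1 := by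
      apply eq_one_of_isUnit_of_idem
      · rw [halg]
        exact hu.map ρx
      · rw [← map_mul]
        congr 1
        linear_combination he₀
    have : algebraMap S Ex e₀ = 1 - algebraMap S Ex (1 - e₀) := by
      rw [map_sub, map_one]; ring
    rw [this, h1, sub_self]
  have hlamKx : ∀ k, lamE lam Ex (lamE lam Ex k) = k := lamE_lamE lam Ex hlam
  let τx : LamInv (Ex ⊗[S] R) (Matrix (Fin n) (Fin n) (Ex ⊗[S] R)) (lamE lam Ex) :=
    LamInv.transpose (lamE lam Ex) (Fin n) hlamKx
  obtain ⟨Qu, hQu⟩ := hQ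
  let W : (Matrix (Fin n) (Fin n) (Ex ⊗[S] R))ˣ :=
    ⟨τx ↑Qu, τx ↑Qu⁻¹, by rw [← τx.map_mul, Units.inv_mul, τx.map_one],
      by rw [← τx.map_mul, Units.mul_inv, τx.map_one]⟩
  obtain ⟨Px, hPxprime, hPx⟩ := exists_prime_away P₁ x hxP
  refine ⟨Ex, inferInstance, inferInstance, inferInstance, ?_, ⟨⟨Px, hPxprime⟩, ?_⟩⟩
  · apply mIso_of_cong lam hlam t n hn hrank w e hw he Ex (hMat.map ρx) W
    rw [wC_of_zero n Ex w e₀ hwval h0, ← hQV, ← hQu]
    show τx ↑Qu * _ * τx (τx ↑Qu) = τx ↑Qu * _ * (↑Qu : Matrix (Fin n) (Fin n) (Ex ⊗[S] R))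
    rw [τx.invol]
  · apply PrimeSpectrum.ext
    show Px.comap (algebraMap S Ex) = p.asIdeal
    rw [halg, ← Ideal.comap_comap]
    have h3 : Px.comap (ρx : E₁ →+* Ex) = P₁ := hPx
    rw [h3, hp]

end Local

section Main

open Groth.Agent.Lib.Helper52.OrdIdem

lemma isUnit_away_left {E : Type*} [CommRing E] (x y : E) :
    IsUnit (algebraMap E (Localization.Away (x * y)) x) :=
  isUnit_of_mul_isUnit_left (by
    rw [← map_mul]; exact IsLocalization.Away.algebraMap_isUnit (x * y))

lemma isUnit_away_right {E : Type*} [CommRing E] (x y : E) :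
    IsUnit (algebraMap E (Localization.Away (x * y)) y) :=
  isUnit_of_mul_isUnit_right (by
    rw [← map_mul]; exact IsLocalization.Away.algebraMap_isUnit (x * y))

variable {S : Type u} {R : Type v} [CommRing S] [CommRing R] [Algebra S R] (lam : R ≃ₐ[S] R)
  (hlam : ∀ r, lam (lam r) = r) (hfix : RInv.IsFixedRing S R lam.toRingEquiv)
  (hsq : ∀ (S₁ : Type u) [CommRing S₁] [Algebra S S₁] [Algebra.Etale S S₁] (x : S₁ˣ),
      ∃ (S₂ : Type u) (_ : CommRing S₂) (_ : Algebra S₁ S₂) (_ : Algebra.Etale S₁ S₂)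
        (_ : Module.FaithfullyFlat S₁ S₂) (y : S₂), y * y = algebraMap S₁ S₂ ↑x)
  (h2 : IsUnit (2 : S)) (hnilR : ∀ r : R, IsNilpotent (lam r - r))
  {A : Type w} [Ring A] [Algebra S A] [Algebra R A] [IsScalarTower S R A]
  (t : LamInv R A lam) (n : ℕ) (hn : 0 < n) [IsAzumaya R A]
  (hrank : ∀ p : PrimeSpectrum R, Module.rankAtStalk (R := R) A p = n ^ 2)

include hlam hfix hsq h2 hnilR hn hrank in
/-- every involution is ordinary in the everywhere ramified case -/
theorem ordinary_of_ramified :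
    ∃ (w : (Matrix (Fin n) (Fin n) R)ˣ) (e : R)
      (hw : LamInv.transpose lam (Fin n) hlam (↑w : Matrix (Fin n) (Fin n) R) =
        e • (↑w : Matrix (Fin n) (Fin n) R)) (he : lam e * e = 1),
      LocIsoEt S lam t ((LamInv.transpose lam (Fin n) hlam).conj w e hw he) := by
  classical
  obtain ⟨E, _, _, hEt, hFF, hNF0⟩ := exists_hasNF0 lam hlam hfix h2 t n hn hrank
  obtain ⟨a, b, hab, hNa, hNb⟩ := exists_sign lam hlam hfix h2 t n hn hrank E hNF0
  obtain ⟨e₀, he₀, hplus, hminus⟩ := exists_sign_idempotent lam hlam hfix h2 hnilR t n hn hrank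
    E a b hab hNa hNb
  obtain ⟨ē, hēdef⟩ : ∃ ē, ē = algebraMap S R e₀ := ⟨_, rfl⟩
  have hē : ē * ē = ē := by rw [hēdef, ← map_mul, he₀]
  have hlē : lam ē = ē := by rw [hēdef]; exact lam.commutes e₀
  have hNa1 : HasNF t (Localization.Away a) n (algebraMap E (Localization.Away a) 1) := by
    rw [map_one]; exact hNa
  have hNb1 : HasNF t (Localization.Away b) n (algebraMap E (Localization.Away b) (-1)) := by
    rw [map_neg, map_one]; exact hNb
  haveI : Module.Flat S E := inferInstance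
  -- the inverse of `J` where needed
  obtain ⟨Ji, hJ1, hJ2⟩ : ∃ Ji : Matrix (Fin n) (Fin n) R,
      (1 - ē) • (Jstd R n * Ji) = (1 - ē) • (1 : Matrix (Fin n) (Fin n) R) ∧
      (1 - ē) • (Ji * Jstd R n) = (1 - ē) • (1 : Matrix (Fin n) (Fin n) R) := by
    by_cases hpar : Even n
    · obtain ⟨u, hu⟩ := Jstd_isUnit (L := R) n hpar
      refine ⟨↑u⁻¹, ?_, ?_⟩
      · rw [← hu, Units.mul_inv]
      · rw [← hu, Units.inv_mul]
    · have hall : ∀ p : PrimeSpectrum S, e₀ ∉ p.asIdeal := by
        intro p hp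
        obtain ⟨P, hPprime, hPp, hbP⟩ := hminus p hp
        haveI := hPprime
        obtain ⟨Pb, hPbprime, -⟩ := exists_prime_away P b hbP
        haveI := hPbprime
        haveI : Module.Flat E (Localization.Away b) :=
          IsLocalization.flat (Localization.Away b) (Submonoid.powers b)
        haveI : Module.Flat S (Localization.Away b) := Module.Flat.trans S E (Localization.Away b)
        exact hpar (even_of_hasNF_neg lam hlam hfix h2 hnilR t n hn hrank (Localization.Away b)
          hNb Pb)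
      have hunit : IsUnit e₀ := by
        by_contra hnu
        obtain ⟨M, hM, heM⟩ := exists_max_ideal_of_mem_nonunits hnu
        exact hall ⟨M, hM.isPrime⟩ heM
      have h1 : e₀ = 1 := eq_one_of_isUnit_of_idem hunit he₀
      have h0 : (1 : R) - ē = 0 := by rw [hēdef, h1, map_one, sub_self]
      exact ⟨0, by rw [h0, zero_smul, zero_smul], by rw [h0, zero_smul, zero_smul]⟩
  let w : (Matrix (Fin n) (Fin n) R)ˣ := ⟨wMat ē n, ē • 1 + (1 - ē) • Ji,
    wMat_mul ē hē n Ji hJ1, mul_wMat ē hē n Ji hJ2⟩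
  have hwval : w.val = wMat (algebraMap S R e₀) n := by rw [← hēdef]
  have hw : LamInv.transpose lam (Fin n) hlam (↑w : Matrix (Fin n) (Fin n) R) =
      (2 * ē - 1) • (↑w : Matrix (Fin n) (Fin n) R) := lamTr_wMat lam hlam ē hē hlē n
  have he : lam (2 * ē - 1) * (2 * ē - 1) = 1 := by
    rw [map_sub, map_mul, map_ofNat, hlē, map_one]
    linear_combination 4 * hē
  refine ⟨w, 2 * ē - 1, hw, he, ?_⟩
  have hglue := mIso_glue (R := S) (t.linS S lam)
    (((LamInv.transpose lam (Fin n) hlam).conj w (2 * ē - 1) hw he).linS S lam)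
    (fun r : R => algebraMap R A r)
    (fun r : R => algebraMap R (Matrix (Fin n) (Fin n) R) r) (fun p => ?_)
  · obtain ⟨R', _, _, hEt', hFF', f, hf, hfa⟩ := hglue
    refine ⟨R', inferInstance, inferInstance, hEt', hFF', f, fun r x => ?_, hf⟩
    rw [map_mul]
    congr 1
    exact hfa r
  · by_cases hp : e₀ ∈ p.asIdeal
    · obtain ⟨P, hPprime, hPp, hbP⟩ := hminus p hp
      haveI := hPprime
      have h1e : algebraMap S E (1 - e₀) ∉ P := by
        intro hmem
        have h3 : (1 - e₀) ∈ p.asIdeal := by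
          rw [← hPp]
          exact hmem
        apply p.2.ne_top
        rw [Ideal.eq_top_iff_one]
        have := p.asIdeal.add_mem h3 hp
        simpa using this
      obtain ⟨x₀, hx₀def⟩ : ∃ x₀, x₀ = b * algebraMap S E (1 - e₀) := ⟨_, rfl⟩
      have hx₀ : x₀ ∉ P := fun h => by
        rw [hx₀def] at h
        exact (hPprime.mem_or_mem h).elim hbP h1e
      obtain ⟨P₁, hP₁prime, hP₁⟩ := exists_prime_away P x₀ hx₀
      haveI := hP₁prime
      haveI : Algebra.Etale S (Localization.Away x₀) := Algebra.Etale.comp S E _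
      have hub : IsUnit (algebraMap E (Localization.Away x₀) b) := by
        have := isUnit_away_left b (algebraMap S E (1 - e₀))
        rw [← hx₀def] at this
        exact this
      have hue : IsUnit (algebraMap E (Localization.Away x₀) (algebraMap S E (1 - e₀))) := by
        have := isUnit_away_right b (algebraMap S E (1 - e₀))
        rw [← hx₀def] at this
        exact this
      have hN := HasNF.of_away hNb1 (IsScalarTower.toAlgHom S E (Localization.Away x₀)) hub
      rw [map_neg, map_one] at hN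
      refine loc_minus lam hlam hfix h2 hnilR t n hn hrank w (2 * ē - 1) hw he e₀ he₀ hwval
        (Localization.Away x₀) hN ?_ P₁ p ?_
      · rw [IsScalarTower.algebraMap_apply S E (Localization.Away x₀)]
        exact hue
      · rw [IsScalarTower.algebraMap_eq S E (Localization.Away x₀), ← Ideal.comap_comap, hP₁, hPp]
    · obtain ⟨P, hPprime, hPp, haP⟩ := hplus p hp
      haveI := hPprime
      have h1e : algebraMap S E e₀ ∉ P := by
        intro hmem
        apply hp
        rw [← hPp]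
        exact hmem
      obtain ⟨x₀, hx₀def⟩ : ∃ x₀, x₀ = a * algebraMap S E e₀ := ⟨_, rfl⟩
      have hx₀ : x₀ ∉ P := fun h => by
        rw [hx₀def] at h
        exact (hPprime.mem_or_mem h).elim haP h1e
      obtain ⟨P₁, hP₁prime, hP₁⟩ := exists_prime_away P x₀ hx₀
      haveI := hP₁prime
      haveI : Algebra.Etale S (Localization.Away x₀) := Algebra.Etale.comp S E _
      have hua : IsUnit (algebraMap E (Localization.Away x₀) a) := by
        have := isUnit_away_left a (algebraMap S E e₀)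
        rw [← hx₀def] at this
        exact this
      have hue : IsUnit (algebraMap E (Localization.Away x₀) (algebraMap S E e₀)) := by
        have := isUnit_away_right a (algebraMap S E e₀)
        rw [← hx₀def] at this
        exact this
      have hN := HasNF.of_away hNa1 (IsScalarTower.toAlgHom S E (Localization.Away x₀)) hua
      rw [map_one] at hN
      refine loc_plus lam hlam hfix hsq h2 t n hn hrank w (2 * ē - 1) hw he e₀ he₀ hwval
        (Localization.Away x₀) hN ?_ P₁ p ?_
      · rw [IsScalarTower.algebraMap_apply S E (Localization.Away x₀)]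
        exact hue
      · rw [IsScalarTower.algebraMap_eq S E (Localization.Away x₀), ← Ideal.comap_comap, hP₁, hPp]

end Main

end Groth.Agent.Lib.Helper52.OrdFinal
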