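import Mathlib
import Groth.Agent.Lib.Helper52.SkewStd
import Groth.Agent.Lib.Helper52.HermSqrt

/-!
# Skew-hermitian unit matrices over `E ⊗ R` near a ramified prime, étale locally

No nilpotency assumption: near a prime of `E` over which the involution is ramified, a
skew-hermitian unit matrix becomes congruent to the standard form `Jstd` after an étale
extension (square roots of units are needed).
-/

set_option autoImplicit false
set_option linter.style.haveILetI false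
set_option linter.unusedSectionVars false
set_option linter.unusedVariables false
set_option linter.unusedSimpArgs false

namespace Groth.Agent.Lib.Helper52.SkewRam

open scoped TensorProduct
open Matrix
open AzInv Groth.Agent.Lib.Helper52.RamNF Groth.Agent.Lib.Helper52.RamNFExists
  Groth.Agent.Lib.Helper52.RamFinal Groth.Agent.Lib.Helper52.HermLocal
  Groth.Agent.Lib.Helper52.HermSqrt Groth.Agent.Lib.Helper52.SkewStd
  Groth.Agent.Lib.Helper86.Herm

universe u v w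

/-! ### more on congruence -/

section Cong

variable {L : Type*} [CommRing L] {L' : Type*} [CommRing L']
  {ι : Type*} [Fintype ι] [DecidableEq ι]

lemma CongTo.map {φ : L →+* L} {φ' : L' →+* L'} (ρ : L →+* L') (hρ : ∀ k, ρ (φ k) = φ' (ρ k))
    {X Y : Matrix ι ι L} (h : CongTo φ X Y) : CongTo φ' (X.map ρ) (Y.map ρ) := by
  obtain ⟨Q, hQ, rfl⟩ := h
  refine ⟨Q.map ρ, hQ.map ρ.mapMatrix, ?_⟩
  rw [Matrix.map_mul, Matrix.map_mul, Matrix.transpose_map]
  have : (Q.map φ).map ρ = (Q.map ρ).map φ' := by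
    ext i j
    simp only [Matrix.map_apply]
    rw [hρ]
  rw [this]

lemma CongTo.symm {φ : L →+* L} {X Y : Matrix ι ι L} (h : CongTo φ X Y) : CongTo φ Y X := by
  obtain ⟨Q, hQ, rfl⟩ := h
  obtain ⟨Qi, hQi⟩ := hQ.exists_right_inv
  have hQi' : Qi * Q = 1 := mul_eq_one_comm.mp hQi
  have hone : ((1 : Matrix ι ι L).map φ)ᵀ = 1 := by
    ext i j
    simp [Matrix.one_apply, apply_ite φ, eq_comm]
  have h1 : (Qi.map φ)ᵀ * (Q.map φ)ᵀ = 1 := by
    rw [← Groth.Agent.Lib.Helper86.Herm.star_mul, hQi, hone]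
  refine ⟨Qi, IsUnit.of_mul_eq_one Q hQi', ?_⟩
  calc (Qi.map φ)ᵀ * ((Q.map φ)ᵀ * X * Q) * Qi
      = ((Qi.map φ)ᵀ * (Q.map φ)ᵀ) * X * (Q * Qi) := by simp only [Matrix.mul_assoc]
    _ = X := by rw [h1, hQi, Matrix.one_mul, Matrix.mul_one]

end Cong

/-! ### a skew `2 × 2` block with a square root of its discriminant -/

section TwoByTwo

variable {L : Type*} [CommRing L] (φ : L →+* L) (hφ : ∀ a, φ (φ a) = a) (h : L) (hh : h * 2 = 1)

include hφ hh in
theorem cong_J2_of_sqrt (α β γ βi y v yi : L) (hα : φ α = -α) (hγ : φ γ = -γ)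
    (hβ : β * βi = 1) (hy : y * y = 1 + α * (φ βi * γ * βi)) (hφy : φ y = y)
    (hv : (1 + y) * v = 1) (hyi : y * yi = 1) :
    CongTo φ !![α, β; -φ β, γ] (J2 L) := by
  have hφh := fixed_half φ hh
  have s1 : CongTo φ !![α, β; -φ β, γ] !![α, 1; -1, φ βi * γ * βi] :=
    cong_scale φ α β γ βi hβ
  obtain ⟨γ₁, hγ₁⟩ : ∃ γ₁, γ₁ = φ βi * γ * βi := ⟨_, rfl⟩
  have hγ₁' : φ γ₁ = -γ₁ := by
    rw [hγ₁]
    simp only [map_mul, hφ, hγ]
    ring
  rw [← hγ₁] at s1 hy
  obtain ⟨s, hs⟩ : ∃ s, s = α * γ₁ := ⟨_, rfl⟩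
  rw [← hs] at hy
  have hφs : φ s = s := by
    rw [hs, map_mul, hα, hγ₁']
    ring
  have hφv : φ v = v := fixed_of_mul_eq_one φ hv (by rw [map_add, map_one, hφy])
  have key : 1 - 2 * v - s * v * v = 0 := by
    linear_combination (v * v) * hy - (1 + (1 + y) * v - 2 * v) * hv
  obtain ⟨x, hx⟩ : ∃ x, x = -(α * v) := ⟨_, rfl⟩
  have hφx : φ x = -x := by
    rw [hx, map_neg, map_mul, hα, hφv]
    ring
  obtain ⟨β₂, hβ₂⟩ : ∃ β₂, β₂ = 1 + s * v := ⟨_, rfl⟩
  have hβ₂y : β₂ = y := by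
    rw [hβ₂]
    linear_combination (-v) * hy + (y - 1) * hv
  have hφβ₂ : φ β₂ = β₂ := by
    rw [hβ₂, map_add, map_one, map_mul, hφs, hφv]
  have s2 : CongTo φ !![α, 1; -1, γ₁] !![0, β₂; -φ β₂, γ₁] := by
    refine ⟨!![1, 0; x, 1], isUnit_fin_two _ _ _ _ (by simp), ?_⟩
    rw [star_mul_mul_fin_two, hφβ₂]
    ext i j
    fin_cases i <;> fin_cases j <;> simp [hφx]
    · rw [hx]
      linear_combination α * key + (α * v * v) * hs
    · rw [hβ₂, hx, hs]
      ring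
    · rw [hβ₂, hx, hs]
      ring
  have hβ₂i : β₂ * yi = 1 := by rw [hβ₂y, hyi]
  have s3 := cong_scale φ 0 β₂ γ₁ yi hβ₂i
  obtain ⟨γ₂, hγ₂⟩ : ∃ γ₂, γ₂ = φ yi * γ₁ * yi := ⟨_, rfl⟩
  have hγ₂' : φ γ₂ = -γ₂ := by
    rw [hγ₂]
    simp only [map_mul, hφ, hγ₁']
    ring
  rw [← hγ₂] at s3
  have s4 : CongTo φ !![0, 1; -1, γ₂] (J2 L) := by
    refine ⟨!![1, γ₂ * h; 0, 1], isUnit_fin_two _ _ _ _ (by simp), ?_⟩
    rw [star_mul_mul_fin_two]
    unfold J2
    ext i j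
    fin_cases i <;> fin_cases j <;> simp [hγ₂', hφh]
    linear_combination (-γ₂) * hh
  exact s1.trans (s2.trans (s3.trans s4))

end TwoByTwo

/-! ### étale-local congruence near a prime -/

section Near

variable {S : Type u} {R : Type v} [CommRing S] [CommRing R] [Algebra S R] (lam : R ≃ₐ[S] R)

/-- an integral matrix over any ring -/
abbrev stdOf {m : Type*} (W₀ : Matrix m m ℤ) (K : Type*) [CommRing K] : Matrix m m K :=
  W₀.map (Int.castRingHom K)

lemma stdOf_map {m : Type*} (W₀ : Matrix m m ℤ) {K K' : Type*} [CommRing K] [CommRing K']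
    (f : K →+* K') : (stdOf W₀ K).map f = stdOf W₀ K' := by
  ext i j
  simp [stdOf]

lemma stdOf_J2 (K : Type*) [CommRing K] : stdOf (J2 ℤ) K = J2 K := J2_map _

lemma stdOf_Jstd (K : Type*) [CommRing K] (n : ℕ) : stdOf (Jstd ℤ n) K = Jstd K n := Jstd_map _ n

lemma stdOf_one {m : Type*} [DecidableEq m] (K : Type*) [CommRing K] :
    stdOf (1 : Matrix m m ℤ) K = 1 := by
  ext i j
  by_cases h : i = j
  · subst h
    simp [stdOf]
  · simp [stdOf, Matrix.one_apply_ne h]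

lemma GMap_comp {E E' E'' : Type*} [CommRing E] [Algebra S E] [CommRing E'] [Algebra S E']
    [CommRing E''] [Algebra S E''] (ρ : E →ₐ[S] E') (ρ' : E' →ₐ[S] E'') (k : E ⊗[S] R) :
    GMap (R := R) (ρ'.comp ρ) k = GMap (R := R) ρ' (GMap (R := R) ρ k) := by
  induction k using TensorProduct.induction_on with
  | zero => simp
  | tmul e r => simp [GMap]
  | add x y hx hy => rw [map_add, map_add, map_add, hx, hy]

lemma map_GMap_comp {m : Type*} {E E' E'' : Type*} [CommRing E] [Algebra S E] [CommRing E']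
    [Algebra S E'] [CommRing E''] [Algebra S E''] (ρ : E →ₐ[S] E') (ρ' : E' →ₐ[S] E'')
    (V : Matrix m m (E ⊗[S] R)) :
    (V.map (GMap (R := R) ρ)).map (GMap (R := R) ρ') = V.map (GMap (R := R) (ρ'.comp ρ)) := by
  ext i j
  simp only [Matrix.map_apply]
  rw [GMap_comp]

lemma GMap_id {E : Type*} [CommRing E] [Algebra S E] (k : E ⊗[S] R) :
    GMap (R := R) (AlgHom.id S E) k = k := by
  induction k using TensorProduct.induction_on with
  | zero => simp
  | tmul e r => simp [GMap]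
  | add x y hx hy => rw [map_add, hx, hy]

/-- étale locally near `P`, the matrix `V` is congruent to the integral matrix `W₀` -/
def NearCong {m : Type*} [Fintype m] [DecidableEq m] (W₀ : Matrix m m ℤ)
    (E : Type u) [CommRing E] [Algebra S E] (P : Ideal E) (V : Matrix m m (E ⊗[S] R)) : Prop :=
  ∃ (E'' : Type u) (_ : CommRing E'') (_ : Algebra S E'') (_ : Algebra.Etale S E'')
    (ρ : E →ₐ[S] E'') (P'' : Ideal E''), P''.IsPrime ∧ P''.comap ρ = P ∧
    CongTo (lamE lam E'' : E'' ⊗[S] R →+* E'' ⊗[S] R) (V.map (GMap (R := R) ρ))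
      (stdOf W₀ (E'' ⊗[S] R))

variable {lam}

section Lemmas

variable {m : Type*} [Fintype m] [DecidableEq m] {W₀ : Matrix m m ℤ}
  {E : Type u} [CommRing E] [Algebra S E] {P : Ideal E} {V : Matrix m m (E ⊗[S] R)}

lemma NearCong.of_refine (E' : Type u) [CommRing E'] [Algebra S E'] (ρ : E →ₐ[S] E')
    (P' : Ideal E') (hP' : P'.comap ρ = P)
    (h : NearCong lam W₀ E' P' (V.map (GMap (R := R) ρ))) : NearCong lam W₀ E P V := by
  obtain ⟨E'', _, _, hEt, ρ', P'', hprime, hcomap, hc⟩ := h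
  refine ⟨E'', inferInstance, inferInstance, hEt, ρ'.comp ρ, P'', hprime, ?_, ?_⟩
  · rw [← hP', ← hcomap]
    rfl
  · rwa [map_GMap_comp] at hc

lemma NearCong.of_congTo {V' : Matrix m m (E ⊗[S] R)}
    (c : CongTo (lamE lam E : E ⊗[S] R →+* E ⊗[S] R) V V') (h : NearCong lam W₀ E P V') :
    NearCong lam W₀ E P V := by
  obtain ⟨E'', _, _, hEt, ρ, P'', hprime, hcomap, hc⟩ := h
  exact ⟨E'', inferInstance, inferInstance, hEt, ρ, P'', hprime, hcomap,
    (CongTo.map (GMap (R := R) ρ).toRingHom (fun k => map_lamE lam ρ k) c).trans hc⟩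

lemma NearCong.of_congTo_std [Algebra.Etale S E] [P.IsPrime]
    (c : CongTo (lamE lam E : E ⊗[S] R →+* E ⊗[S] R) V (stdOf W₀ (E ⊗[S] R))) :
    NearCong lam W₀ E P V := by
  refine ⟨E, inferInstance, inferInstance, inferInstance, AlgHom.id S E, P, inferInstance, rfl, ?_⟩
  have : V.map (GMap (R := R) (AlgHom.id S E)) = V := by
    ext i j
    simp only [Matrix.map_apply]
    rw [GMap_id]
  rw [this]
  exact c

lemma NearCong.reindex {m' : Type*} [Fintype m'] [DecidableEq m'] (e : m ≃ m')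
    (h : NearCong lam W₀ E P V) :
    NearCong lam (Matrix.reindex e e W₀) E P (Matrix.reindex e e V) := by
  obtain ⟨E'', _, _, hEt, ρ, P'', hprime, hcomap, hc⟩ := h
  exact ⟨E'', inferInstance, inferInstance, hEt, ρ, P'', hprime, hcomap, hc.reindex e⟩

end Lemmas

lemma NearCong.blocks {m₁ m₂ : Type*} [Fintype m₁] [DecidableEq m₁] [Fintype m₂] [DecidableEq m₂]
    {W₁ : Matrix m₁ m₁ ℤ} {W₂ : Matrix m₂ m₂ ℤ}
    {E : Type u} [CommRing E] [Algebra S E] {P : Ideal E}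
    {B : Matrix m₁ m₁ (E ⊗[S] R)} {D : Matrix m₂ m₂ (E ⊗[S] R)}
    (hB : NearCong lam W₁ E P B)
    (hD : ∀ (E' : Type u) [CommRing E'] [Algebra S E'] [Algebra.Etale S E'] (ρ : E →ₐ[S] E')
      (P' : Ideal E') [P'.IsPrime], P'.comap ρ = P →
        NearCong lam W₂ E' P' (D.map (GMap (R := R) ρ))) :
    NearCong lam (Matrix.fromBlocks W₁ 0 0 W₂) E P (Matrix.fromBlocks B 0 0 D) := by
  obtain ⟨E₁, _, _, hEt₁, ρ₁, P₁, hprime₁, hcomap₁, cB⟩ := hB
  haveI := hprime₁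
  haveI := hEt₁
  obtain ⟨E₂, _, _, hEt₂, ρ₂, P₂, hprime₂, hcomap₂, cD⟩ := hD E₁ ρ₁ P₁ hcomap₁
  refine ⟨E₂, inferInstance, inferInstance, hEt₂, ρ₂.comp ρ₁, P₂, hprime₂, ?_, ?_⟩
  · rw [← hcomap₁, ← hcomap₂]
    rfl
  · have cB' := CongTo.map (φ' := (lamE lam E₂ : E₂ ⊗[S] R →+* E₂ ⊗[S] R))
      (GMap (R := R) ρ₂).toRingHom (fun k => map_lamE lam ρ₂ k) cB
    have e1 : (Matrix.fromBlocks B 0 0 D).map (GMap (R := R) (ρ₂.comp ρ₁)) =
        Matrix.fromBlocks ((B.map (GMap (R := R) ρ₁)).map (GMap (R := R) ρ₂)) 0 0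
          ((D.map (GMap (R := R) ρ₁)).map (GMap (R := R) ρ₂)) := by
      rw [map_GMap_comp, map_GMap_comp, Matrix.fromBlocks_map]
      congr 1
    have e2 : stdOf (Matrix.fromBlocks W₁ 0 0 W₂) (E₂ ⊗[S] R) =
        Matrix.fromBlocks (stdOf W₁ (E₂ ⊗[S] R)) 0 0 (stdOf W₂ (E₂ ⊗[S] R)) := by
      unfold stdOf
      rw [Matrix.fromBlocks_map]
      congr 1 <;> ext i j <;> simp
    rw [e1, e2]
    refine CongTo.fromBlocks ?_ cD
    have e3 := stdOf_map W₁ (GMap (R := R) ρ₂).toRingHom (K := E₁ ⊗[S] R) (K' := E₂ ⊗[S] R)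
    rw [← e3]
    exact cB'

end Near

/-! ### ramified primes -/

section Ram

variable {S : Type u} {R : Type v} [CommRing S] [CommRing R] [Algebra S R] (lam : R ≃ₐ[S] R)
  (hlam : ∀ r, lam (lam r) = r) (hfix : RInv.IsFixedRing S R lam.toRingEquiv)

/-- the involution is ramified over the prime `p` of `S` -/
def RamAt (p : Ideal S) : Prop :=
  ∀ (r : R) (d : S), algebraMap S R d = (lam r - r) * (lam r - r) → d ∈ p

include hlam hfix in
/-- over a ramified prime there is a prime of `E ⊗ R` containing all `λ k - k` -/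
lemma exists_ram_prime {p : Ideal S} (hram : RamAt lam p)
    (E : Type u) [CommRing E] [Algebra S E] [Module.Flat S E] (P : Ideal E) [P.IsPrime]
    (hP : P.comap (algebraMap S E) = p) :
    ∃ q : Ideal (E ⊗[S] R), q.IsPrime ∧ q.comap (algebraMap E (E ⊗[S] R)) = P ∧
      ∀ k, lamE lam E k - k ∈ q := by
  have hfixK := isFixedRing_lamE_of_flat lam hlam hfix E
  haveI := isIntegral_lamE lam hlam E hfixK
  obtain ⟨q, -, hqprime, hqP⟩ := Ideal.exists_ideal_over_prime_of_isIntegral P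
    (⊥ : Ideal (E ⊗[S] R)) (by
      intro x hx
      rw [Ideal.mem_comap, Ideal.mem_bot] at hx
      have : x = 0 := hfixK.1 (by rw [hx, map_zero])
      rw [this]
      exact P.zero_mem)
  haveI := hqprime
  refine ⟨q, hqprime, hqP, fun k => ?_⟩
  induction k using TensorProduct.induction_on with
  | zero => simp
  | tmul e r =>
    rw [lamE_tmul, ← TensorProduct.tmul_sub]
    have h1 : e ⊗ₜ[S] (lam r - r) =
        (e ⊗ₜ[S] (1 : R)) * ((1 : E) ⊗ₜ[S] (lam r - r)) := by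
      rw [Algebra.TensorProduct.tmul_mul_tmul, mul_one, one_mul]
    rw [h1]
    apply q.mul_mem_left
    have hfixd : lam ((lam r - r) * (lam r - r)) = (lam r - r) * (lam r - r) := by
      rw [map_mul, map_sub, hlam]
      ring
    obtain ⟨d, hd⟩ := (hfix.2 _).mp hfixd
    have hdp : d ∈ p := hram r d hd
    have hdP : algebraMap S E d ∈ P := by
      rw [← hP] at hdp
      exact hdp
    have hdq : algebraMap E (E ⊗[S] R) (algebraMap S E d) ∈ q := by
      rw [← hqP] at hdP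
      exact hdP
    have hsq : ((1 : E) ⊗ₜ[S] (lam r - r)) * ((1 : E) ⊗ₜ[S] (lam r - r)) =
        algebraMap E (E ⊗[S] R) (algebraMap S E d) := by
      rw [Algebra.TensorProduct.tmul_mul_tmul, mul_one, ← hd,
        Algebra.TensorProduct.algebraMap_apply, Algebra.algebraMap_eq_smul_one (A := R),
        TensorProduct.tmul_smul, TensorProduct.smul_tmul', Algebra.algebraMap_self_apply,
        Algebra.algebraMap_eq_smul_one (A := E)]
    rw [← hsq] at hdq
    exact (hqprime.mem_or_mem hdq).elim id id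
  | add x y hx hy =>
    have : lamE lam E (x + y) - (x + y) = (lamE lam E x - x) + (lamE lam E y - y) := by
      rw [map_add]; ring
    rw [this]
    exact q.add_mem hx hy

end Ram

/-! ### square roots of `1 + c` near a prime containing `c` -/

section Sqrt

variable {S : Type u} [CommRing S]
  (hsq : ∀ (S₁ : Type u) [CommRing S₁] [Algebra S S₁] [Algebra.Etale S S₁] (x : S₁ˣ),
      ∃ (S₂ : Type u) (_ : CommRing S₂) (_ : Algebra S₁ S₂) (_ : Algebra.Etale S₁ S₂)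
        (_ : Module.FaithfullyFlat S₁ S₂) (y : S₂), y * y = algebraMap S₁ S₂ ↑x)
  (h2 : IsUnit (2 : S))

include hsq h2 in
theorem exists_sqrt_near (E : Type u) [CommRing E] [Algebra S E] [Algebra.Etale S E]
    (P : Ideal E) [P.IsPrime] (c : E) (hc : c ∈ P) :
    ∃ (E₃ : Type u) (_ : CommRing E₃) (_ : Algebra S E₃) (_ : Algebra.Etale S E₃)
      (ρ : E →ₐ[S] E₃) (P₃ : Ideal E₃), P₃.IsPrime ∧ P₃.comap ρ = P ∧
      ∃ y v yi : E₃, y * y = ρ (1 + c) ∧ (1 + y) * v = 1 ∧ y * yi = 1 := by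
  classical
  have hPne : (1 : E) ∉ P := fun h => (‹P.IsPrime›).ne_top ((Ideal.eq_top_iff_one _).mpr h)
  obtain ⟨x₁, hx₁def⟩ : ∃ x₁, x₁ = 1 + c := ⟨_, rfl⟩
  have hx₁ : x₁ ∉ P := by
    intro h
    apply hPne
    have := P.sub_mem h hc
    rw [hx₁def] at this
    simpa using this
  let E₁ := Localization.Away x₁
  haveI : Algebra.Etale S E₁ := Algebra.Etale.comp S E E₁
  let ρ₁ : E →ₐ[S] E₁ := IsScalarTower.toAlgHom S E E₁
  have hux : IsUnit (ρ₁ x₁) := IsLocalization.Away.algebraMap_isUnit x₁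
  obtain ⟨P₁, hP₁prime, hP₁⟩ := exists_prime_away P x₁ hx₁
  obtain ⟨E₂, _, _, hEt₂, hFF₂, y₀, hy₀⟩ := hsq E₁ hux.unit
  letI : Algebra S E₂ := ((algebraMap E₁ E₂).comp (algebraMap S E₁)).toAlgebra
  haveI : IsScalarTower S E₁ E₂ := IsScalarTower.of_algebraMap_eq (fun _ => rfl)
  haveI : Algebra.Etale S E₂ := Algebra.Etale.comp S E₁ E₂
  let ρ₂ : E →ₐ[S] E₂ := (IsScalarTower.toAlgHom S E₁ E₂).comp ρ₁
  obtain ⟨P₂, hP₂⟩ := PrimeSpectrum.comap_surjective_of_faithfullyFlat (A := E₁) (B := E₂)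
    ⟨P₁, hP₁prime⟩
  have hP₂comap : P₂.asIdeal.comap ρ₂ = P := by
    have h1 : P₂.asIdeal.comap (algebraMap E₁ E₂) = P₁ := congrArg PrimeSpectrum.asIdeal hP₂
    rw [← hP₁, ← h1]
    rfl
  have hy₀' : y₀ * y₀ = ρ₂ x₁ := by
    rw [hy₀]
    rfl
  have hcP₂ : ρ₂ c ∈ P₂.asIdeal := by
    rw [← hP₂comap] at hc
    exact hc
  have hprod : (y₀ - 1) * (y₀ + 1) ∈ P₂.asIdeal := by
    have : (y₀ - 1) * (y₀ + 1) = ρ₂ c := by
      have e : ρ₂ x₁ = 1 + ρ₂ c := by rw [hx₁def, map_add, map_one]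
      linear_combination hy₀' + e
    rw [this]
    exact hcP₂
  obtain ⟨y, hy, hy1⟩ : ∃ y : E₂, y * y = ρ₂ x₁ ∧ y - 1 ∈ P₂.asIdeal := by
    rcases P₂.2.mem_or_mem hprod with h | h
    · exact ⟨y₀, hy₀', h⟩
    · refine ⟨-y₀, by rw [neg_mul_neg, hy₀'], ?_⟩
      have : -y₀ - 1 = -(y₀ + 1) := by ring
      rw [this]
      exact P₂.asIdeal.neg_mem h
  obtain ⟨s₂, hs₂⟩ := h2.exists_left_inv
  have h2E : algebraMap S E₂ s₂ * 2 = 1 := by
    rw [← map_ofNat (algebraMap S E₂) 2, ← map_mul, hs₂, map_one]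
  have hx₃ : (1 + y) ∉ P₂.asIdeal := by
    intro h
    apply P₂.2.ne_top
    rw [Ideal.eq_top_iff_one]
    have h3 : (2 : E₂) ∈ P₂.asIdeal := by
      have := P₂.asIdeal.sub_mem h hy1
      have e : (1 + y) - (y - 1) = 2 := by ring
      rwa [e] at this
    rw [← h2E]
    exact P₂.asIdeal.mul_mem_left _ h3
  have hyu : IsUnit y := by
    have : IsUnit (y * y) := by
      rw [hy]
      exact hux.map (IsScalarTower.toAlgHom S E₁ E₂)
    exact isUnit_of_mul_isUnit_left this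
  let E₃ := Localization.Away (1 + y)
  haveI : Algebra.Etale S E₃ := Algebra.Etale.comp S E₂ E₃
  let ρ₃ : E →ₐ[S] E₃ := (IsScalarTower.toAlgHom S E₂ E₃).comp ρ₂
  haveI := P₂.2
  obtain ⟨P₃, hP₃prime, hP₃⟩ := exists_prime_away P₂.asIdeal (1 + y) hx₃
  obtain ⟨v, hv⟩ := (IsLocalization.Away.algebraMap_isUnit (S := E₃) (1 + y)).exists_right_inv
  obtain ⟨yi, hyi⟩ := (hyu.map (algebraMap E₂ E₃)).exists_right_inv
  refine ⟨E₃, inferInstance, inferInstance, inferInstance, ρ₃, P₃, hP₃prime, ?_,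
    algebraMap E₂ E₃ y, v, yi, ?_, ?_, hyi⟩
  · rw [← hP₂comap, ← hP₃]
    rfl
  · rw [← map_mul, hy, hx₁def]
    rfl
  · rw [map_add, map_one] at hv
    exact hv

end Sqrt

/-! ### the classification near a ramified prime -/

section Main

variable {S : Type u} {R : Type v} [CommRing S] [CommRing R] [Algebra S R] (lam : R ≃ₐ[S] R)
  (hlam : ∀ r, lam (lam r) = r) (hfix : RInv.IsFixedRing S R lam.toRingEquiv)
  (hsq : ∀ (S₁ : Type u) [CommRing S₁] [Algebra S S₁] [Algebra.Etale S S₁] (x : S₁ˣ),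
      ∃ (S₂ : Type u) (_ : CommRing S₂) (_ : Algebra S₁ S₂) (_ : Algebra.Etale S₁ S₂)
        (_ : Module.FaithfullyFlat S₁ S₂) (y : S₂), y * y = algebraMap S₁ S₂ ↑x)
  (h2 : IsUnit (2 : S)) {p : Ideal S} (hram : RamAt lam p)

lemma herm_neg_one_map {m : Type*} {E E' : Type*} [CommRing E] [Algebra S E] [CommRing E']
    [Algebra S E'] (ρ : E →ₐ[S] E') (V : Matrix m m (E ⊗[S] R))
    (h : Herm (lamE lam E : E ⊗[S] R →+* E ⊗[S] R) (-1) V) :
    Herm (lamE lam E' : E' ⊗[S] R →+* E' ⊗[S] R) (-1) (V.map (GMap (R := R) ρ)) := by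
  unfold Herm at h ⊢
  ext i j
  have h1 := congrFun (congrFun h i) j
  simp only [Matrix.smul_apply, Matrix.transpose_apply, Matrix.map_apply, smul_eq_mul, neg_mul,
    one_mul] at h1 ⊢
  rw [← h1, map_neg]
  congr 1
  exact (map_lamE lam ρ (V j i)).symm

lemma comap_algebraMap_of_comap {E E' : Type*} [CommRing E] [Algebra S E] [CommRing E']
    [Algebra S E'] (ρ : E →ₐ[S] E') (P : Ideal E) (P' : Ideal E') (hP' : P'.comap ρ = P) :
    P'.comap (algebraMap S E') = P.comap (algebraMap S E) := by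
  have halg : algebraMap S E' = (ρ : E →+* E').comp (algebraMap S E) := by
    ext s
    exact (ρ.commutes s).symm
  rw [halg, ← Ideal.comap_comap]
  have h3 : P'.comap (ρ : E →+* E') = P := hP'
  rw [h3]

include hlam hfix hsq h2 hram in
/-- a skew `2 × 2` block with unit off-diagonal entry is, étale locally near a ramified prime,
congruent to `J2` -/
theorem nearCong_block (E : Type u) [CommRing E] [Algebra S E] [Algebra.Etale S E]
    (P : Ideal E) [P.IsPrime] (hP : P.comap (algebraMap S E) = p)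
    (B : Matrix (Fin 2) (Fin 2) (E ⊗[S] R))
    (hB : Herm (lamE lam E : E ⊗[S] R →+* E ⊗[S] R) (-1) B) (hu : IsUnit (B 0 1)) :
    NearCong lam (J2 ℤ) E P B := by
  classical
  have hφ : ∀ a, (lamE lam E : E ⊗[S] R →+* E ⊗[S] R) ((lamE lam E : E ⊗[S] R →+* E ⊗[S] R) a) = a :=
    lamE_lamE lam E hlam
  have hfixK := isFixedRing_lamE_of_flat lam hlam hfix E
  obtain ⟨q, hqprime, hqP, hqram⟩ := exists_ram_prime lam hlam hfix hram E P hP
  obtain ⟨s₂, hs₂⟩ := h2.exists_left_inv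
  obtain ⟨hK, hhK⟩ : ∃ hK : E ⊗[S] R, hK = algebraMap S (E ⊗[S] R) s₂ := ⟨_, rfl⟩
  have hhK2 : hK * 2 = 1 := by
    rw [hhK, ← map_ofNat (algebraMap S (E ⊗[S] R)) 2, ← map_mul, hs₂, map_one]
  obtain ⟨α, hα⟩ : ∃ α, α = B 0 0 := ⟨_, rfl⟩
  obtain ⟨β, hβ⟩ : ∃ β, β = B 0 1 := ⟨_, rfl⟩
  obtain ⟨γ, hγ⟩ : ∃ γ, γ = B 1 1 := ⟨_, rfl⟩
  have h10 : B 1 0 = -lamE lam E β := by
    rw [herm_apply _ (-1) B hB 1 0, hβ]
    simp
  have hα' : lamE lam E α = -α := by
    have := herm_apply _ (-1) B hB 0 0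
    rw [← hα] at this
    have h3 : α = -1 * lamE lam E α := this
    linear_combination h3
  have hγ' : lamE lam E γ = -γ := by
    have := herm_apply _ (-1) B hB 1 1
    rw [← hγ] at this
    have h3 : γ = -1 * lamE lam E γ := this
    linear_combination h3
  have hBeq : B = !![α, β; -lamE lam E β, γ] := by
    rw [hα, hγ, ← h10, hβ]
    exact Matrix.eta_fin_two B
  rw [← hβ] at hu
  obtain ⟨βi, hβi⟩ := hu.exists_right_inv
  obtain ⟨γ₁, hγ₁⟩ : ∃ γ₁, γ₁ = lamE lam E βi * γ * βi := ⟨_, rfl⟩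
  have hγ₁' : lamE lam E γ₁ = -γ₁ := by
    rw [hγ₁, map_mul, map_mul, lamE_lamE lam E hlam, hγ']
    ring
  have hαq : α ∈ q := by
    have : α = (lamE lam E α - α) * (-hK) := by
      rw [hα']
      linear_combination (-α) * hhK2
    rw [this]
    exact q.mul_mem_right _ (hqram α)
  obtain ⟨s, hs⟩ : ∃ s, s = α * γ₁ := ⟨_, rfl⟩
  have hφs : lamE lam E s = s := by
    rw [hs, map_mul, hα', hγ₁']
    ring
  obtain ⟨c, hc⟩ := (hfixK.2 s).mp hφs
  have hcP : c ∈ P := by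
    rw [← hqP, Ideal.mem_comap]
    have : algebraMap E (E ⊗[S] R) c = s := hc
    rw [this, hs]
    exact q.mul_mem_right _ hαq
  obtain ⟨E₃, _, _, hEt₃, ρ, P₃, hP₃prime, hP₃, y, v, yi, hy, hv, hyi⟩ :=
    exists_sqrt_near hsq h2 E P c hcP
  haveI := hP₃prime
  haveI := hEt₃
  apply NearCong.of_refine E₃ ρ P₃ hP₃
  apply NearCong.of_congTo_std
  rw [stdOf_J2]
  have hG : ∀ k, GMap (R := R) ρ (lamE lam E k) = lamE lam E₃ (GMap (R := R) ρ k) :=
    fun k => map_lamE lam ρ k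
  have hBmap : B.map (GMap (R := R) ρ) =
      !![GMap (R := R) ρ α, GMap (R := R) ρ β;
        -(lamE lam E₃ : E₃ ⊗[S] R →+* E₃ ⊗[S] R) (GMap (R := R) ρ β), GMap (R := R) ρ γ] := by
    rw [hBeq]
    ext i j
    fin_cases i <;> fin_cases j <;> simp [hG]
  rw [hBmap]
  have hh₃ : algebraMap S (E₃ ⊗[S] R) s₂ * 2 = 1 := by
    rw [← map_ofNat (algebraMap S (E₃ ⊗[S] R)) 2, ← map_mul, hs₂, map_one]
  refine cong_J2_of_sqrt (lamE lam E₃ : E₃ ⊗[S] R →+* E₃ ⊗[S] R) (lamE_lamE lam E₃ hlam)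
    (algebraMap S (E₃ ⊗[S] R) s₂) hh₃ _ _ _ (GMap (R := R) ρ βi)
    (algebraMap E₃ (E₃ ⊗[S] R) y) (algebraMap E₃ (E₃ ⊗[S] R) v) (algebraMap E₃ (E₃ ⊗[S] R) yi)
    ?_ ?_ ?_ ?_ ?_ ?_ ?_
  · show lamE lam E₃ (GMap (R := R) ρ α) = -GMap (R := R) ρ α
    rw [← hG, hα', map_neg]
  · show lamE lam E₃ (GMap (R := R) ρ γ) = -GMap (R := R) ρ γ
    rw [← hG, hγ', map_neg]
  · rw [← map_mul, hβi, map_one]
  · show _ = 1 + GMap (R := R) ρ α *
      (lamE lam E₃ (GMap (R := R) ρ βi) * GMap (R := R) ρ γ * GMap (R := R) ρ βi)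
    rw [← map_mul, hy, ← hG, ← map_mul, ← map_mul, ← map_mul, ← hγ₁, ← hs]
    have : algebraMap E (E ⊗[S] R) c = s := hc
    rw [← this, map_algebraMap', map_add, map_one, map_add, map_one]
  · exact lamE_algebraMap lam E₃ y
  · have := congrArg (algebraMap E₃ (E₃ ⊗[S] R)) hv
    rwa [map_mul, map_add, map_one] at this
  · rw [← map_mul, hyi, map_one]

include hlam hfix hsq h2 hram in
/-- a skew-hermitian unit matrix is, étale locally near a ramified prime, congruent to the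
standard form -/
theorem nearCong_skew : ∀ (n : ℕ) (E : Type u) [CommRing E] [Algebra S E] [Algebra.Etale S E]
    (P : Ideal E) [P.IsPrime] (hP : P.comap (algebraMap S E) = p)
    (V : Matrix (Fin n) (Fin n) (E ⊗[S] R)), IsUnit V →
    Herm (lamE lam E : E ⊗[S] R →+* E ⊗[S] R) (-1) V → NearCong lam (Jstd ℤ n) E P V := by
  classical
  intro n
  induction n using Nat.twoStepInduction with
  | zero =>
    intro E _ _ _ P _ hP V _ _
    apply NearCong.of_congTo_std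
    exact CongTo.of_eq _ (Subsingleton.elim _ _)
  | one =>
    intro E _ _ _ P _ hP V hV hVh
    exfalso
    obtain ⟨q, hqprime, hqP, hqram⟩ := exists_ram_prime lam hlam hfix hram E P hP
    obtain ⟨s₂, hs₂⟩ := h2.exists_left_inv
    have hhK2 : algebraMap S (E ⊗[S] R) s₂ * 2 = 1 := by
      rw [← map_ofNat (algebraMap S (E ⊗[S] R)) 2, ← map_mul, hs₂, map_one]
    have h1 : IsUnit (V 0 0) := by
      have := (Matrix.isUnit_iff_isUnit_det _).mp hV
      rwa [Matrix.det_fin_one] at this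
    have h3 : lamE lam E (V 0 0) = -V 0 0 := by
      have := herm_apply _ (-1) V hVh 0 0
      have h4 : V 0 0 = -1 * lamE lam E (V 0 0) := this
      linear_combination h4
    have hmem : V 0 0 ∈ q := by
      have : V 0 0 = (lamE lam E (V 0 0) - V 0 0) * (-algebraMap S (E ⊗[S] R) s₂) := by
        rw [h3]
        linear_combination (-V 0 0) * hhK2
      rw [this]
      exact q.mul_mem_right _ (hqram _)
    exact hqprime.ne_top (Ideal.eq_top_of_isUnit_mem _ hmem h1)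
  | more n ih _ =>
    intro E _ _ _ P _ hP V hV hVh
    have hfixK := isFixedRing_lamE_of_flat lam hlam hfix E
    obtain ⟨q, hqprime, hqP, hqram⟩ := exists_ram_prime lam hlam hfix hram E P hP
    haveI := hqprime
    obtain ⟨s₂, hs₂⟩ := h2.exists_left_inv
    have hhK2 : algebraMap S (E ⊗[S] R) s₂ * 2 = 1 := by
      rw [← map_ofNat (algebraMap S (E ⊗[S] R)) 2, ← map_mul, hs₂, map_one]
    have hskewq : ∀ a : E ⊗[S] R, lamE lam E a = -a → a ∈ q := by
      intro a ha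
      have : a = (lamE lam E a - a) * (-algebraMap S (E ⊗[S] R) s₂) := by
        rw [ha]
        linear_combination (-a) * hhK2
      rw [this]
      exact q.mul_mem_right _ (hqram _)
    have hstab : ∀ a : E ⊗[S] R, a ∉ q → lamE lam E a ∉ q := by
      intro a ha h
      apply ha
      have := q.sub_mem h (hqram a)
      simpa using this
    have hdiagskew : ∀ i, lamE lam E (V i i) = -V i i := by
      intro i
      have := herm_apply _ (-1) V hVh i i
      have h4 : V i i = -1 * lamE lam E (V i i) := this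
      linear_combination h4
    obtain ⟨j, hj⟩ := exists_row_notMem q hqprime.ne_top V hV 0
    have hj0 : j ≠ 0 := by
      rintro rfl
      exact hj (hskewq _ (hdiagskew 0))
    obtain ⟨β, hβ⟩ : ∃ β, β = V 0 j := ⟨_, rfl⟩
    rw [← hβ] at hj
    obtain ⟨α, hα⟩ : ∃ α, α = V 0 0 := ⟨_, rfl⟩
    obtain ⟨γ, hγ⟩ : ∃ γ, γ = V j j := ⟨_, rfl⟩
    have hα' : lamE lam E α = -α := by rw [hα]; exact hdiagskew 0
    have hγ' : lamE lam E γ = -γ := by rw [hγ]; exact hdiagskew j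
    have hVj0 : V j 0 = -lamE lam E β := by
      rw [herm_apply _ (-1) V hVh j 0, hβ]
      simp
    have hNfix : lamE lam E (β * lamE lam E β) = β * lamE lam E β := by
      rw [map_mul, lamE_lamE lam E hlam, mul_comm]
    obtain ⟨b, hb⟩ := (hfixK.2 _).mp hNfix
    have hb' : algebraMap E (E ⊗[S] R) b = β * lamE lam E β := hb
    have hNq : β * lamE lam E β ∉ q := fun h =>
      (hqprime.mem_or_mem h).elim hj (hstab β hj)
    have hbP : b ∉ P := by
      intro h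
      rw [← hqP, Ideal.mem_comap, hb'] at h
      exact hNq h
    have hdetfix : lamE lam E (α * γ + β * lamE lam E β) = α * γ + β * lamE lam E β := by
      rw [map_add, hNfix, map_mul, hα', hγ']
      ring
    obtain ⟨d, hd⟩ := (hfixK.2 _).mp hdetfix
    have hd' : algebraMap E (E ⊗[S] R) d = α * γ + β * lamE lam E β := hd
    have hdP : d ∉ P := by
      intro h
      rw [← hqP, Ideal.mem_comap, hd'] at h
      apply hNq
      have := q.sub_mem h (q.mul_mem_right γ (hskewq α hα'))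
      simpa using this
    obtain ⟨x, hxdef⟩ : ∃ x, x = b * d := ⟨_, rfl⟩
    have hx : x ∉ P := fun h => by
      rw [hxdef] at h
      exact ((‹P.IsPrime›).mem_or_mem h).elim hbP hdP
    let E₁ := Localization.Away x
    haveI : Algebra.Etale S E₁ := Algebra.Etale.comp S E E₁
    let ρ₁ : E →ₐ[S] E₁ := IsScalarTower.toAlgHom S E E₁
    obtain ⟨P₁, hP₁prime, hP₁⟩ := exists_prime_away P x hx
    haveI := hP₁prime
    have hP₁ρ : P₁.comap ρ₁ = P := hP₁
    apply NearCong.of_refine E₁ ρ₁ P₁ hP₁ρ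
    have hP₁' : P₁.comap (algebraMap S E₁) = p := by
      rw [comap_algebraMap_of_comap ρ₁ P P₁ hP₁ρ, hP]
    have hux : IsUnit (ρ₁ b * ρ₁ d) := by
      have h0 : IsUnit (ρ₁ x) := IsLocalization.Away.algebraMap_isUnit x
      have e : ρ₁ x = ρ₁ b * ρ₁ d := by
        rw [← map_mul]
        exact congrArg ρ₁ hxdef
      rwa [e] at h0
    have hub : IsUnit (ρ₁ b) := isUnit_of_mul_isUnit_left hux
    have hud : IsUnit (ρ₁ d) := isUnit_of_mul_isUnit_right hux
    have hG : ∀ k, GMap (R := R) ρ₁ (lamE lam E k) = lamE lam E₁ (GMap (R := R) ρ₁ k) :=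
      fun k => map_lamE lam ρ₁ k
    obtain ⟨V₁, hV₁def⟩ : ∃ V₁, V₁ = V.map (GMap (R := R) ρ₁) := ⟨_, rfl⟩
    rw [← hV₁def]
    have hV₁ : IsUnit V₁ := by
      rw [hV₁def]
      exact hV.map (GMap (R := R) ρ₁).toRingHom.mapMatrix
    have hV₁h : Herm (lamE lam E₁ : E₁ ⊗[S] R →+* E₁ ⊗[S] R) (-1) V₁ := by
      rw [hV₁def]
      exact herm_neg_one_map lam ρ₁ V hVh
    have hV₁0j : V₁ 0 j = GMap (R := R) ρ₁ β := by rw [hV₁def, hβ]; rfl
    have hV₁00 : V₁ 0 0 = GMap (R := R) ρ₁ α := by rw [hV₁def, hα]; rfl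
    have hV₁jj : V₁ j j = GMap (R := R) ρ₁ γ := by rw [hV₁def, hγ]; rfl
    have hV₁j0 : V₁ j 0 = -lamE lam E₁ (GMap (R := R) ρ₁ β) := by
      rw [hV₁def, Matrix.map_apply, hVj0, map_neg, hG]
    have hβ₁u : IsUnit (GMap (R := R) ρ₁ β) := by
      have h1 : GMap (R := R) ρ₁ β * lamE lam E₁ (GMap (R := R) ρ₁ β) =
          algebraMap E₁ (E₁ ⊗[S] R) (ρ₁ b) := by
        rw [← hG, ← map_mul, ← hb', map_algebraMap']
      exact isUnit_of_mul_isUnit_left (h1 ▸ hub.map _)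
    -- the permutation
    let σ : Fin (n + 2) ≃ Fin (n + 2) := Equiv.swap 1 j
    have hσ0 : σ 0 = 0 := Equiv.swap_apply_of_ne_of_ne (by simp) (Ne.symm hj0)
    have hσ1 : σ 1 = j := Equiv.swap_apply_left 1 j
    have c1 : CongTo (lamE lam E₁ : E₁ ⊗[S] R →+* E₁ ⊗[S] R) V₁ (V₁.submatrix σ σ) :=
      CongTo.submatrix_perm σ V₁
    have hV₁' := c1.isUnit hV₁
    have hV₁h' := c1.herm (lamE_lamE lam E₁ hlam) hV₁h
    obtain ⟨V₂, hV₂⟩ : ∃ V₂, V₂ = Matrix.reindex (e2 n).symm (e2 n).symm (V₁.submatrix σ σ) :=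
      ⟨_, rfl⟩
    have hV₂u : IsUnit V₂ := by rw [hV₂]; exact isUnit_reindex _ _ hV₁'
    have hV₂h : Herm (lamE lam E₁ : E₁ ⊗[S] R →+* E₁ ⊗[S] R) (-1) V₂ := by
      rw [hV₂]; exact herm_reindex _ (-1) _ _ hV₁h'
    have hblk := Matrix.fromBlocks_toBlocks V₂
    obtain ⟨B, hB⟩ : ∃ B, B = V₂.toBlocks₁₁ := ⟨_, rfl⟩
    obtain ⟨C, hC⟩ : ∃ C, C = V₂.toBlocks₁₂ := ⟨_, rfl⟩
    obtain ⟨C', hC'⟩ : ∃ C', C' = V₂.toBlocks₂₁ := ⟨_, rfl⟩
    obtain ⟨D, hD⟩ : ∃ D, D = V₂.toBlocks₂₂ := ⟨_, rfl⟩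
    rw [← hB, ← hC, ← hC', ← hD] at hblk
    have hBij : ∀ a b : Fin 2, B a b = V₁ (σ (e2 n (Sum.inl a))) (σ (e2 n (Sum.inl b))) := by
      intro a b
      rw [hB, hV₂]
      simp only [Matrix.toBlocks₁₁, Matrix.of_apply, Matrix.reindex_apply, Equiv.symm_symm,
        Matrix.submatrix_apply]
    have hB01 : B 0 1 = GMap (R := R) ρ₁ β := by
      rw [hBij, e2_inl_zero, e2_inl_one, hσ0, hσ1, hV₁0j]
    have hB00 : B 0 0 = GMap (R := R) ρ₁ α := by
      rw [hBij, e2_inl_zero, hσ0, hV₁00]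
    have hB11 : B 1 1 = GMap (R := R) ρ₁ γ := by
      rw [hBij, e2_inl_one, hσ1, hV₁jj]
    have hB10 : B 1 0 = -lamE lam E₁ (GMap (R := R) ρ₁ β) := by
      rw [hBij, e2_inl_zero, e2_inl_one, hσ0, hσ1, hV₁j0]
    have hBh : Herm (lamE lam E₁ : E₁ ⊗[S] R →+* E₁ ⊗[S] R) (-1) B := by
      rw [← hblk] at hV₂h
      exact (herm_blocks _ (-1) B C C' D hV₂h).1
    have hBdet : IsUnit B.det := by
      rw [Matrix.det_fin_two, hB00, hB11, hB01, hB10]
      have : GMap (R := R) ρ₁ α * GMap (R := R) ρ₁ γ -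
          GMap (R := R) ρ₁ β * -lamE lam E₁ (GMap (R := R) ρ₁ β) =
          algebraMap E₁ (E₁ ⊗[S] R) (ρ₁ d) := by
        rw [← hG, ← map_algebraMap', hd', map_add, map_mul, map_mul]
        ring
      rw [this]
      exact hud.map _
    obtain ⟨Bi, hBi⟩ := ((Matrix.isUnit_iff_isUnit_det _).mpr hBdet).exists_right_inv
    have c3 : CongTo (lamE lam E₁ : E₁ ⊗[S] R →+* E₁ ⊗[S] R) V₂
        (Matrix.fromBlocks B 0 0 (D - C' * Bi * C)) := by
      rw [← hblk] at hV₂h ⊢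
      exact schur_block _ (lamE_lamE lam E₁ hlam) (-1) (by ring) B C C' D hV₂h Bi hBi
    have hD'u : IsUnit (D - C' * Bi * C) := by
      have := c3.isUnit hV₂u
      rw [Matrix.isUnit_iff_isUnit_det, Matrix.det_fromBlocks_zero₂₁] at this
      rw [Matrix.isUnit_iff_isUnit_det]
      exact isUnit_of_mul_isUnit_right this
    have hD'h : Herm (lamE lam E₁ : E₁ ⊗[S] R →+* E₁ ⊗[S] R) (-1) (D - C' * Bi * C) :=
      (herm_blocks _ (-1) _ _ _ _ (c3.herm (lamE_lamE lam E₁ hlam) hV₂h)).2.2.2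
    have c5 := c3.reindex (e2 n)
    have hback : Matrix.reindex (e2 n) (e2 n) V₂ = V₁.submatrix σ σ := by
      rw [hV₂]
      ext i j
      simp
    rw [hback] at c5
    apply NearCong.of_congTo (c1.trans c5)
    show NearCong lam (Matrix.reindex (e2 n) (e2 n)
      (Matrix.fromBlocks (J2 ℤ) 0 0 (Jstd ℤ n))) E₁ P₁ _
    apply NearCong.reindex
    apply NearCong.blocks
    · exact nearCong_block lam hlam hfix hsq h2 hram E₁ P₁ hP₁' B hBh (by rw [hB01]; exact hβ₁u)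
    · intro E' _ _ _ ρ P' _ hP'
      refine ih E' P' ?_ _ (hD'u.map (GMap (R := R) ρ).toRingHom.mapMatrix)
        (herm_neg_one_map lam ρ _ hD'h)
      rw [comap_algebraMap_of_comap ρ P₁ P' hP', hP₁']

end Main

end Groth.Agent.Lib.Helper52.SkewRam
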