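import Mathlib
import Groth.Agent.Lib.Helper52.SkewRam
import Groth.Agent.Lib.Helper52.OrdFinal
import Groth.Agent.Lib.Helper52.NFGen

/-!
# Two involutions of the same type are locally isomorphic: local comparisons
-/

set_option autoImplicit false
set_option linter.style.haveILetI false
set_option linter.unusedSectionVars false
set_option linter.unusedVariables false
set_option linter.unusedSimpArgs false

namespace Groth.Agent.Lib.Helper52.PairFinal

open scoped TensorProduct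
open Matrix
open AzInv Groth.Agent.Lib.Helper52.AzSplitMU Groth.Agent.Lib.Helper52.RamNF
  Groth.Agent.Lib.Helper52.InvFix Groth.Agent.Lib.Helper52.InvIso
  Groth.Agent.Lib.Helper52.InvHyper Groth.Agent.Lib.Helper52.RamMark
  Groth.Agent.Lib.Helper52.RamStd Groth.Agent.Lib.Helper52.MatNF
  Groth.Agent.Lib.Helper52.HermLocal Groth.Agent.Lib.Helper52.HermSqrt
  Groth.Agent.Lib.Helper52.RamGlue Groth.Agent.Lib.Helper52.SkewStd
  Groth.Agent.Lib.Helper52.SkewRam Groth.Agent.Lib.Helper52.RamFinal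
  Groth.Agent.Lib.Helper52.RamNFExists Groth.Agent.Lib.Helper86.Herm
  Groth.Agent.Lib.Helper52.RamSign

universe u v w w'

section Local

variable {S : Type u} {R : Type v} [CommRing S] [CommRing R] [Algebra S R] (lam : R ≃ₐ[S] R)
  (hlam : ∀ r, lam (lam r) = r) (hfix : RInv.IsFixedRing S R lam.toRingEquiv)
  (hsq : ∀ (S₁ : Type u) [CommRing S₁] [Algebra S S₁] [Algebra.Etale S S₁] (x : S₁ˣ),
      ∃ (S₂ : Type u) (_ : CommRing S₂) (_ : Algebra S₁ S₂) (_ : Algebra.Etale S₁ S₂)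
        (_ : Module.FaithfullyFlat S₁ S₂) (y : S₂), y * y = algebraMap S₁ S₂ ↑x)
  {A : Type w} [Ring A] [Algebra S A] [Algebra R A] [IsScalarTower S R A]
  {A' : Type w'} [Ring A'] [Algebra S A'] [Algebra R A'] [IsScalarTower S R A']
  (t : LamInv R A lam) (t' : LamInv R A' lam) (n : ℕ) (hn : 0 < n)
  [IsAzumaya R A] [IsAzumaya R A']
  (hrank : ∀ p : PrimeSpectrum R, Module.rankAtStalk (R := R) A p = n ^ 2)
  (hrank' : ∀ p : PrimeSpectrum R, Module.rankAtStalk (R := R) A' p = n ^ 2)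

include hlam hn hrank hrank' in
/-- congruent Gram matrices give isomorphic involutions -/
lemma mIso_of_congTo (C : Type u) [CommRing C] [Algebra S C]
    {V V' : Matrix (Fin n) (Fin n) (C ⊗[S] R)} (hMat : MatNF t C n V) (hMat' : MatNF t' C n V')
    (c : CongTo (lamE lam C : C ⊗[S] R →+* C ⊗[S] R) V V') :
    MIso C ((t.linS S lam).baseChange C) ((t'.linS S lam).baseChange C)
      (fun r : R => (1 : C) ⊗ₜ[S] algebraMap R A r)
      (fun r : R => (1 : C) ⊗ₜ[S] algebraMap R A' r) := by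
  classical
  obtain ⟨Vu, hVu, h1⟩ := hMat.mIso t n hn hrank C
  obtain ⟨Vu', hVu', h1'⟩ := hMat'.mIso t' n hn hrank' C
  obtain ⟨Q, hQ, hQV⟩ := c
  obtain ⟨Qu, hQu⟩ := hQ
  have hlamK : ∀ k, lamE lam C (lamE lam C k) = k := lamE_lamE lam C hlam
  let τ : LamInv (C ⊗[S] R) (Matrix (Fin n) (Fin n) (C ⊗[S] R)) (lamE lam C) :=
    LamInv.transpose (lamE lam C) (Fin n) hlamK
  let W : (Matrix (Fin n) (Fin n) (C ⊗[S] R))ˣ :=
    ⟨τ ↑Qu, τ ↑Qu⁻¹, by rw [← τ.map_mul, Units.inv_mul, τ.map_one],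
      by rw [← τ.map_mul, Units.mul_inv, τ.map_one]⟩
  have hcong : Cong (trK lam C n) Vu Vu' := by
    refine ⟨W, 1, 1, one_mul 1, ?_⟩
    rw [hVu, hVu', trK_eq, one_smul]
    show τ ↑Qu * V * τ (τ ↑Qu) = V'
    rw [τ.invol, ← hQV, ← hQu]
    rfl
  have h2 := Cong.mIso (trK_mul lam hlam C n) (trK_one lam hlam C n) hcong
    (fun r : R => Matrix.scalar (Fin n) ((1 : C) ⊗ₜ[S] r))
    (fun r x => Matrix.scalar_commute _ (fun r' => Commute.all _ _) x)
  exact h1.trans (h2.trans h1'.symm)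

/-- the goal at a prime of `S` -/
def LocGoal2 (p : PrimeSpectrum S) : Prop :=
  ∃ (C : Type u) (_ : CommRing C) (_ : Algebra S C) (_ : Algebra.Etale S C),
    MIso C ((t.linS S lam).baseChange C) ((t'.linS S lam).baseChange C)
      (fun r : R => (1 : C) ⊗ₜ[S] algebraMap R A r)
      (fun r : R => (1 : C) ⊗ₜ[S] algebraMap R A' r) ∧
    p ∈ Set.range (PrimeSpectrum.comap (algebraMap S C))

/-- gluing the local goals -/
theorem locIsoEt_of_locGoal2 (h : ∀ p, LocGoal2 lam t t' p) : LocIsoEt S lam t t' := by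
  have hglue := mIso_glue (R := S) (t.linS S lam) (t'.linS S lam)
    (fun r : R => algebraMap R A r) (fun r : R => algebraMap R A' r) h
  obtain ⟨R', _, _, hEt', hFF', f, hf, hfa⟩ := hglue
  refine ⟨R', inferInstance, inferInstance, hEt', hFF', f, fun r x => ?_, hf⟩
  rw [map_mul]
  congr 1
  exact hfa r

include hlam hn hrank hrank' in
/-- the pair lemma: a common étale-local normal form of the Gram matrices -/
theorem locGoal2_of_nearCong (W₀ : Matrix (Fin n) (Fin n) ℤ)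
    (E : Type u) [CommRing E] [Algebra S E] [Algebra.Etale S E]
    (P : Ideal E) [P.IsPrime] (p : PrimeSpectrum S) (hP : P.comap (algebraMap S E) = p.asIdeal)
    {V V' : Matrix (Fin n) (Fin n) (E ⊗[S] R)} (hMat : MatNF t E n V) (hMat' : MatNF t' E n V')
    (hV : NearCong lam W₀ E P V)
    (hV' : ∀ (E' : Type u) [CommRing E'] [Algebra S E'] [Algebra.Etale S E'] (ρ : E →ₐ[S] E')
      (P' : Ideal E') [P'.IsPrime], P'.comap ρ = P →
        NearCong lam W₀ E' P' (V'.map (GMap (R := R) ρ))) :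
    LocGoal2 lam t t' p := by
  obtain ⟨E₁, _, _, hEt₁, ρ₁, P₁, hprime₁, hcomap₁, c₁⟩ := hV
  haveI := hprime₁
  haveI := hEt₁
  obtain ⟨E₂, _, _, hEt₂, ρ₂, P₂, hprime₂, hcomap₂, c₂⟩ := hV' E₁ ρ₁ P₁ hcomap₁
  haveI := hEt₂
  refine ⟨E₂, inferInstance, inferInstance, hEt₂, ?_, ⟨⟨P₂, hprime₂⟩, ?_⟩⟩
  · have c₁' := CongTo.map (φ' := (lamE lam E₂ : E₂ ⊗[S] R →+* E₂ ⊗[S] R))
      (GMap (R := R) ρ₂).toRingHom (fun k => map_lamE lam ρ₂ k) c₁
    have e3 := stdOf_map W₀ (GMap (R := R) ρ₂).toRingHom (K := E₁ ⊗[S] R) (K' := E₂ ⊗[S] R)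
    rw [e3] at c₁'
    exact mIso_of_congTo lam hlam t t' n hn hrank hrank' E₂ ((hMat.map ρ₁).map ρ₂)
      ((hMat'.map ρ₁).map ρ₂) (CongTo.trans c₁' (CongTo.symm c₂))
  · apply PrimeSpectrum.ext
    show P₂.comap (algebraMap S E₂) = p.asIdeal
    rw [comap_algebraMap_of_comap ρ₂ P₁ P₂ hcomap₂, comap_algebraMap_of_comap ρ₁ P P₁ hcomap₁, hP]

include hlam hfix hsq in
/-- hermitian unit matrices are étale locally congruent to the identity -/
lemma nearCong_one_of_herm (E : Type u) [CommRing E] [Algebra S E] [Algebra.Etale S E]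
    (P : Ideal E) [P.IsPrime] (V : Matrix (Fin n) (Fin n) (E ⊗[S] R)) (hV : IsUnit V)
    (hherm : lamTr (lamE lam E) V = V) (hcase : Odd n ∨ IsUnit (2 : S)) :
    NearCong lam (1 : Matrix (Fin n) (Fin n) ℤ) E P V := by
  obtain ⟨E'', _, _, hEt'', ρ, P'', hP''prime, hP'', Q, hQ⟩ :=
    exists_cong_one_near_prime lam hlam hfix hsq E n V hV hherm hcase P
  refine ⟨E'', inferInstance, inferInstance, hEt'', ρ, P'', hP''prime, hP'', ?_⟩
  rw [stdOf_one]
  refine ⟨lamTr (lamE lam E'') Q.val, isUnit_star _ _ Q.isUnit, ?_⟩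
  have : ((lamTr (lamE lam E'') Q.val).map
      (lamE lam E'' : E'' ⊗[S] R →+* E'' ⊗[S] R))ᵀ = Q.val := by
    ext i j
    simp [lamE_lamE lam E'' hlam]
  rw [this]
  exact hQ

lemma herm_map_GMap {E E' : Type*} [CommRing E] [Algebra S E] [CommRing E'] [Algebra S E']
    (ρ : E →ₐ[S] E') (V : Matrix (Fin n) (Fin n) (E ⊗[S] R)) (ε : E ⊗[S] R)
    (h : lamTr (lamE lam E) V = ε • V) :
    lamTr (lamE lam E') (V.map (GMap (R := R) ρ)) =
      GMap (R := R) ρ ε • V.map (GMap (R := R) ρ) := by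
  ext i j
  have h1 := congrFun (congrFun h i) j
  simp only [lamTr_apply, Matrix.smul_apply, smul_eq_mul] at h1
  simp only [lamTr_apply, Matrix.map_apply, Matrix.smul_apply, smul_eq_mul]
  rw [← map_lamE, ← map_mul]
  congr 1

include hlam hfix hsq hn hrank hrank' in
/-- the comparison near a prime when both Gram matrices are hermitian -/
theorem locGoal2_of_herm (E : Type u) [CommRing E] [Algebra S E] [Algebra.Etale S E]
    (P : Ideal E) [P.IsPrime] (p : PrimeSpectrum S) (hP : P.comap (algebraMap S E) = p.asIdeal)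
    {V V' : Matrix (Fin n) (Fin n) (E ⊗[S] R)} (hV : IsUnit V) (hV' : IsUnit V')
    (hherm : lamTr (lamE lam E) V = V) (hherm' : lamTr (lamE lam E) V' = V')
    (hMat : MatNF t E n V) (hMat' : MatNF t' E n V') (hcase : Odd n ∨ IsUnit (2 : S)) :
    LocGoal2 lam t t' p := by
  refine locGoal2_of_nearCong lam hlam t t' n hn hrank hrank' 1 E P p hP hMat hMat'
    (nearCong_one_of_herm lam hlam hfix hsq n E P V hV hherm hcase) ?_
  intro E' _ _ _ ρ P' _ hP'
  refine nearCong_one_of_herm lam hlam hfix hsq n E' P' _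
    (hV'.map (GMap (R := R) ρ).toRingHom.mapMatrix) ?_ hcase
  have := herm_map_GMap lam n ρ V' 1 (by rw [one_smul]; exact hherm')
  rw [map_one, one_smul] at this
  exact this

lemma herm_of_lamTr_neg {E₀ : Type*} [CommRing E₀] [Algebra S E₀]
    (X : Matrix (Fin n) (Fin n) (E₀ ⊗[S] R)) (h : lamTr (lamE lam E₀) X = -X) :
    Herm (lamE lam E₀ : E₀ ⊗[S] R →+* E₀ ⊗[S] R) (-1) X := by
  unfold Herm
  show (-1 : E₀ ⊗[S] R) • lamTr (lamE lam E₀) X = X
  rw [h, neg_smul, one_smul, neg_neg]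

include hlam hfix hsq hn hrank hrank' in
/-- the comparison near a ramified prime when both Gram matrices are skew-hermitian -/
theorem locGoal2_of_skew (h2 : IsUnit (2 : S))
    (E : Type u) [CommRing E] [Algebra S E] [Algebra.Etale S E]
    (P : Ideal E) [P.IsPrime] (p : PrimeSpectrum S) (hP : P.comap (algebraMap S E) = p.asIdeal)
    (hram : RamAt lam p.asIdeal)
    {V V' : Matrix (Fin n) (Fin n) (E ⊗[S] R)} (hV : IsUnit V) (hV' : IsUnit V')
    (hskew : lamTr (lamE lam E) V = -V) (hskew' : lamTr (lamE lam E) V' = -V')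
    (hMat : MatNF t E n V) (hMat' : MatNF t' E n V') :
    LocGoal2 lam t t' p := by
  refine locGoal2_of_nearCong lam hlam t t' n hn hrank hrank' (Jstd ℤ n) E P p hP hMat hMat'
    (nearCong_skew lam hlam hfix hsq h2 hram n E P hP V hV (herm_of_lamTr_neg lam n V hskew)) ?_
  intro E' _ _ _ ρ P' _ hP'
  refine nearCong_skew lam hlam hfix hsq h2 hram n E' P' ?_ _
    (hV'.map (GMap (R := R) ρ).toRingHom.mapMatrix)
    (herm_neg_one_map lam ρ V' (herm_of_lamTr_neg lam n V' hskew'))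
  rw [comap_algebraMap_of_comap ρ P P' hP', hP]

include hlam hfix hsq hn hrank hrank' in
/-- the comparison near a prime of a ring carrying normal forms of both involutions -/
theorem locGoal2_of_hasNF (h2 : IsUnit (2 : S))
    (H : ∀ q : PrimeSpectrum R, (∀ r : R, lam r - r ∈ q.asIdeal) →
      (sgnRank t q.asIdeal = Nat.choose (n + 1) 2 ↔ sgnRank t' q.asIdeal = Nat.choose (n + 1) 2))
    (E : Type u) [CommRing E] [Algebra S E] [Algebra.Etale S E] (ε ε' : E)
    (hε : ε = 1 ∨ ε = -1) (hε' : ε' = 1 ∨ ε' = -1) (hN : HasNF t E n ε) (hN' : HasNF t' E n ε')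
    (P : Ideal E) [P.IsPrime] (p : PrimeSpectrum S) (hP : P.comap (algebraMap S E) = p.asIdeal) :
    LocGoal2 lam t t' p := by
  classical
  have plus : ∀ (E₀ : Type u) [CommRing E₀] [Algebra S E₀] [Algebra.Etale S E₀] (P₀ : Ideal E₀)
      [P₀.IsPrime] (hP₀ : P₀.comap (algebraMap S E₀) = p.asIdeal) (k : HasNF t E₀ n 1)
      (k' : HasNF t' E₀ n 1), LocGoal2 lam t t' p := by
    intro E₀ _ _ _ P₀ _ hP₀ k k'
    obtain ⟨V, hV, hherm, hMat⟩ := matNF_of_hasNF t n hn hrank E₀ k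
    obtain ⟨V', hV', hherm', hMat'⟩ := matNF_of_hasNF t' n hn hrank' E₀ k'
    rw [one_smul] at hherm hherm'
    exact locGoal2_of_herm lam hlam hfix hsq t t' n hn hrank hrank' E₀ P₀ p hP₀ hV hV' hherm
      hherm' hMat hMat' (Or.inr h2)
  by_cases hram : RamAt lam p.asIdeal
  · obtain ⟨q, hqprime, hqP, hqram⟩ := exists_ram_prime lam hlam hfix hram E P hP
    have hall : ∀ (k : E ⊗[S] R) (d : E),
        algebraMap E (E ⊗[S] R) d = (lamE lam E k - k) * (lamE lam E k - k) → d ∈ P := by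
      intro k d hd
      rw [← hqP, Ideal.mem_comap, hd]
      exact q.mul_mem_left _ (hqram k)
    obtain ⟨s₂, hs₂⟩ := h2.exists_left_inv
    have hc₂ : algebraMap S R s₂ * 2 = 1 := by
      rw [← map_ofNat (algebraMap S R) 2, ← map_mul, hs₂, map_one]
    have hlc : lam (algebraMap S R s₂) = algebraMap S R s₂ := lam.commutes s₂
    rcases hε with rfl | rfl <;> rcases hε' with rfl | rfl
    · exact plus E P hP hN hN'
    · exact (no_opposite lam hlam hfix h2 n n hn hn hrank hrank' t t' H _ hc₂ hlc E 1 (-1)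
        (Or.inl ⟨rfl, rfl⟩) hN hN' P hall).elim
    · exact (no_opposite lam hlam hfix h2 n n hn hn hrank hrank' t t' H _ hc₂ hlc E (-1) 1
        (Or.inr ⟨rfl, rfl⟩) hN hN' P hall).elim
    · obtain ⟨V, hV, hskew, hMat⟩ := matNF_of_hasNF t n hn hrank E hN
      obtain ⟨V', hV', hskew', hMat'⟩ := matNF_of_hasNF t' n hn hrank' E hN'
      rw [neg_smul, one_smul] at hskew hskew'
      exact locGoal2_of_skew lam hlam hfix hsq t t' n hn hrank hrank' h2 E P p hP hram hV hV'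
        hskew hskew' hMat hMat'
  · unfold RamAt at hram
    push Not at hram
    obtain ⟨r, d, hd, hdp⟩ := hram
    obtain ⟨x, hxdef⟩ : ∃ x, x = algebraMap S E d := ⟨_, rfl⟩
    have hxP : x ∉ P := by
      intro h
      apply hdp
      rw [← hP, Ideal.mem_comap, ← hxdef]
      exact h
    let E₁ := Localization.Away x
    haveI : Algebra.Etale S E₁ := Algebra.Etale.comp S E E₁
    let g : E →ₐ[S] E₁ := IsScalarTower.toAlgHom S E E₁
    obtain ⟨P₁, hP₁prime, hP₁⟩ := exists_prime_away P x hxP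
    haveI := hP₁prime
    have hP₁' : P₁.comap (algebraMap S E₁) = p.asIdeal := by
      have h3 : P₁.comap g = P := hP₁
      rw [comap_algebraMap_of_comap g P P₁ h3, hP]
    obtain ⟨δ, hδdef⟩ : ∃ δ : E₁ ⊗[S] R, δ = (1 : E₁) ⊗ₜ[S] (lam r - r) := ⟨_, rfl⟩
    have hgx : g x = algebraMap S E₁ d := by
      have h3 : g x = g (algebraMap S E d) := congrArg g hxdef
      rw [h3]
      exact (IsScalarTower.algebraMap_apply S E E₁ d).symm
    have hδδ : δ * δ = algebraMap E₁ (E₁ ⊗[S] R) (g x) := by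
      rw [hδdef, Algebra.TensorProduct.tmul_mul_tmul, mul_one, ← hd, hgx,
        Algebra.TensorProduct.algebraMap_apply, Algebra.algebraMap_eq_smul_one (A := R),
        TensorProduct.tmul_smul, TensorProduct.smul_tmul', Algebra.algebraMap_self_apply,
        Algebra.algebraMap_eq_smul_one (A := E₁)]
    have hunit : g x * IsLocalization.Away.invSelf (S := E₁) x = 1 :=
      IsLocalization.Away.mul_invSelf x
    have hδ : δ * (δ * algebraMap E₁ (E₁ ⊗[S] R)
        (IsLocalization.Away.invSelf (S := E₁) x)) = 1 := by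
      rw [← mul_assoc, hδδ, ← map_mul, hunit, map_one]
    have hl : lamE lam E₁ δ = -δ := by
      rw [hδdef, lamE_tmul, ← TensorProduct.tmul_neg, map_sub, hlam, neg_sub]
    have k1 : HasNF t E₁ n 1 := by
      rcases hε with rfl | rfl
      · have := hN.map g
        rwa [map_one] at this
      · have := (hN.map g).flip δ _ hδ hl
        rwa [map_neg, map_one, neg_neg] at this
    have k1' : HasNF t' E₁ n 1 := by
      rcases hε' with rfl | rfl
      · have := hN'.map g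
        rwa [map_one] at this
      · have := (hN'.map g).flip δ _ hδ hl
        rwa [map_neg, map_one, neg_neg] at this
    exact plus E₁ P₁ hP₁' k1 k1'

include hlam hfix hsq hn hrank hrank' in
/-- the case where `2` is invertible -/
theorem locIsoEt_of_two (h2 : IsUnit (2 : S)) (hST : SameType S lam t t') :
    LocIsoEt S lam t t' := by
  classical
  apply locIsoEt_of_locGoal2
  obtain ⟨s₂, hs₂⟩ := h2.exists_left_inv
  have hc₂ : algebraMap S R s₂ * 2 = 1 := by
    rw [← map_ofNat (algebraMap S R) 2, ← map_mul, hs₂, map_one]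
  have hlc : lam (algebraMap S R s₂) = algebraMap S R s₂ := lam.commutes s₂
  have H : ∀ q : PrimeSpectrum R, (∀ r : R, lam r - r ∈ q.asIdeal) →
      (sgnRank t q.asIdeal = Nat.choose (n + 1) 2 ↔
        sgnRank t' q.asIdeal = Nat.choose (n + 1) 2) := fun q hq =>
    forward lam n n hn hn hrank hrank' t t' _ hc₂ hlc hST q hq
  obtain ⟨E₁, _, _, hEt₁, hFF₁, hNF₁⟩ := exists_hasNF0 lam hlam hfix h2 t n hn hrank
  obtain ⟨E₂, _, _, hEt₂, hFF₂, hNF₂⟩ := exists_hasNF0 lam hlam hfix h2 t' n hn hrank'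
  haveI : Algebra.Etale S (E₁ ⊗[S] E₂) := Algebra.Etale.comp S E₁ (E₁ ⊗[S] E₂)
  haveI : Module.FaithfullyFlat S (E₁ ⊗[S] E₂) := Module.FaithfullyFlat.trans S E₁ (E₁ ⊗[S] E₂)
  have hNF : HasNF0 t (E₁ ⊗[S] E₂) n := hNF₁.map Algebra.TensorProduct.includeLeft
  have hNF' : HasNF0 t' (E₁ ⊗[S] E₂) n := hNF₂.map Algebra.TensorProduct.includeRight
  obtain ⟨a, b, hab, hNa, hNb⟩ := exists_sign lam hlam hfix h2 t n hn hrank (E₁ ⊗[S] E₂) hNF
  obtain ⟨a', b', hab', hNa', hNb'⟩ :=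
    exists_sign lam hlam hfix h2 t' n hn hrank' (E₁ ⊗[S] E₂) hNF'
  intro p
  obtain ⟨P, hP⟩ := PrimeSpectrum.comap_surjective_of_faithfullyFlat (A := S)
    (B := E₁ ⊗[S] E₂) p
  haveI := P.2
  have hPp : P.asIdeal.comap (algebraMap S (E₁ ⊗[S] E₂)) = p.asIdeal :=
    congrArg PrimeSpectrum.asIdeal hP
  have hh : algebraMap S (E₁ ⊗[S] E₂) s₂ * 2 = 1 := by
    rw [← map_ofNat (algebraMap S (E₁ ⊗[S] E₂)) 2, ← map_mul, hs₂, map_one]
  have h4 : ∀ x y : E₁ ⊗[S] E₂, x + y = 4 → x ∉ P.asIdeal ∨ y ∉ P.asIdeal := by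
    intro x y hxy
    by_contra hcon
    rw [not_or, not_not, not_not] at hcon
    have h1 : (4 : E₁ ⊗[S] E₂) ∈ P.asIdeal := by
      rw [← hxy]
      exact P.asIdeal.add_mem hcon.1 hcon.2
    apply P.2.ne_top
    rw [Ideal.eq_top_iff_one]
    have h5 : (1 : E₁ ⊗[S] E₂) = (algebraMap S (E₁ ⊗[S] E₂) s₂ *
        algebraMap S (E₁ ⊗[S] E₂) s₂) * 4 := by
      linear_combination (-(algebraMap S (E₁ ⊗[S] E₂) s₂ * 2) - 1) * hh
    rw [h5]
    exact P.asIdeal.mul_mem_left _ h1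
  have hfin : ∀ (x₀ : E₁ ⊗[S] E₂) (hx₀ : x₀ ∉ P.asIdeal) (ε ε' : E₁ ⊗[S] E₂)
      (hε : ε = 1 ∨ ε = -1) (hε' : ε' = 1 ∨ ε' = -1)
      (k : HasNF t (Localization.Away x₀) n (algebraMap (E₁ ⊗[S] E₂) (Localization.Away x₀) ε))
      (k' : HasNF t' (Localization.Away x₀) n
        (algebraMap (E₁ ⊗[S] E₂) (Localization.Away x₀) ε')), LocGoal2 lam t t' p := by
    intro x₀ hx₀ ε ε' hε hε' k k'
    obtain ⟨P₀, hP₀prime, hP₀⟩ := exists_prime_away P.asIdeal x₀ hx₀
    haveI := hP₀prime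
    haveI : Algebra.Etale S (Localization.Away x₀) := Algebra.Etale.comp S (E₁ ⊗[S] E₂) _
    have hmap : ∀ e : E₁ ⊗[S] E₂, (e = 1 ∨ e = -1) →
        (algebraMap (E₁ ⊗[S] E₂) (Localization.Away x₀) e = 1 ∨
          algebraMap (E₁ ⊗[S] E₂) (Localization.Away x₀) e = -1) := by
      rintro e (rfl | rfl)
      · exact Or.inl (map_one _)
      · exact Or.inr (by rw [map_neg, map_one])
    refine locGoal2_of_hasNF lam hlam hfix hsq t t' n hn hrank hrank' h2 H (Localization.Away x₀)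
      _ _ (hmap ε hε) (hmap ε' hε') k k' P₀ p ?_
    rw [IsScalarTower.algebraMap_eq S (E₁ ⊗[S] E₂) (Localization.Away x₀), ← Ideal.comap_comap,
      hP₀, hPp]
  have hNa1 : HasNF t (Localization.Away a) n
      (algebraMap (E₁ ⊗[S] E₂) (Localization.Away a) 1) := by
    rw [map_one]; exact hNa
  have hNb1 : HasNF t (Localization.Away b) n
      (algebraMap (E₁ ⊗[S] E₂) (Localization.Away b) (-1)) := by
    rw [map_neg, map_one]; exact hNb
  have hNa1' : HasNF t' (Localization.Away a') n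
      (algebraMap (E₁ ⊗[S] E₂) (Localization.Away a') 1) := by
    rw [map_one]; exact hNa'
  have hNb1' : HasNF t' (Localization.Away b') n
      (algebraMap (E₁ ⊗[S] E₂) (Localization.Away b') (-1)) := by
    rw [map_neg, map_one]; exact hNb'
  have hunitL := fun x y : E₁ ⊗[S] E₂ => Groth.Agent.Lib.Helper52.OrdFinal.isUnit_away_left x y
  have hunitR := fun x y : E₁ ⊗[S] E₂ => Groth.Agent.Lib.Helper52.OrdFinal.isUnit_away_right x y
  rcases h4 a b hab with ha | hb <;> rcases h4 a' b' hab' with ha' | hb'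
  · exact hfin (a * a') (fun h => (P.2.mem_or_mem h).elim ha ha') 1 1 (Or.inl rfl) (Or.inl rfl)
      (HasNF.of_away hNa1 (IsScalarTower.toAlgHom S (E₁ ⊗[S] E₂) (Localization.Away (a * a')))
        (hunitL a a'))
      (HasNF.of_away hNa1' (IsScalarTower.toAlgHom S (E₁ ⊗[S] E₂) (Localization.Away (a * a')))
        (hunitR a a'))
  · exact hfin (a * b') (fun h => (P.2.mem_or_mem h).elim ha hb') 1 (-1) (Or.inl rfl)
      (Or.inr rfl)
      (HasNF.of_away hNa1 (IsScalarTower.toAlgHom S (E₁ ⊗[S] E₂) (Localization.Away (a * b')))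
        (hunitL a b'))
      (HasNF.of_away hNb1' (IsScalarTower.toAlgHom S (E₁ ⊗[S] E₂) (Localization.Away (a * b')))
        (hunitR a b'))
  · exact hfin (b * a') (fun h => (P.2.mem_or_mem h).elim hb ha') (-1) 1 (Or.inr rfl)
      (Or.inl rfl)
      (HasNF.of_away hNb1 (IsScalarTower.toAlgHom S (E₁ ⊗[S] E₂) (Localization.Away (b * a')))
        (hunitL b a'))
      (HasNF.of_away hNa1' (IsScalarTower.toAlgHom S (E₁ ⊗[S] E₂) (Localization.Away (b * a')))
        (hunitR b a'))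
  · exact hfin (b * b') (fun h => (P.2.mem_or_mem h).elim hb hb') (-1) (-1) (Or.inr rfl)
      (Or.inr rfl)
      (HasNF.of_away hNb1 (IsScalarTower.toAlgHom S (E₁ ⊗[S] E₂) (Localization.Away (b * b')))
        (hunitL b b'))
      (HasNF.of_away hNb1' (IsScalarTower.toAlgHom S (E₁ ⊗[S] E₂) (Localization.Away (b * b')))
        (hunitR b b'))

include hlam hfix hsq hn hrank hrank' in
/-- the case of odd degree -/
theorem locIsoEt_of_odd (hodd : Odd n) : LocIsoEt S lam t t' := by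
  classical
  apply locIsoEt_of_locGoal2
  obtain ⟨E₁, _, _, hEt₁, hFF₁, hNF₁⟩ :=
    Groth.Agent.Lib.Helper52.NFGen.exists_hasNF0_flat lam hlam hfix t n hn hrank
  obtain ⟨E₂, _, _, hEt₂, hFF₂, hNF₂⟩ :=
    Groth.Agent.Lib.Helper52.NFGen.exists_hasNF0_flat lam hlam hfix t' n hn hrank'
  haveI : Algebra.Etale S (E₁ ⊗[S] E₂) := Algebra.Etale.comp S E₁ (E₁ ⊗[S] E₂)
  haveI : Module.FaithfullyFlat S (E₁ ⊗[S] E₂) := Module.FaithfullyFlat.trans S E₁ (E₁ ⊗[S] E₂)
  have hNF : HasNF0 t (E₁ ⊗[S] E₂) n := hNF₁.map Algebra.TensorProduct.includeLeft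
  have hNF' : HasNF0 t' (E₁ ⊗[S] E₂) n := hNF₂.map Algebra.TensorProduct.includeRight
  obtain ⟨V, hV, hherm, hMat⟩ := exists_matNF_of_odd lam hlam t n hn hrank (E₁ ⊗[S] E₂) hodd hNF
  obtain ⟨V', hV', hherm', hMat'⟩ :=
    exists_matNF_of_odd lam hlam t' n hn hrank' (E₁ ⊗[S] E₂) hodd hNF'
  intro p
  obtain ⟨P, hP⟩ := PrimeSpectrum.comap_surjective_of_faithfullyFlat (A := S)
    (B := E₁ ⊗[S] E₂) p
  haveI := P.2
  have hPp : P.asIdeal.comap (algebraMap S (E₁ ⊗[S] E₂)) = p.asIdeal :=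
    congrArg PrimeSpectrum.asIdeal hP
  exact locGoal2_of_herm lam hlam hfix hsq t t' n hn hrank hrank' (E₁ ⊗[S] E₂) P.asIdeal p hPp
    hV hV' hherm hherm' hMat hMat' (Or.inl hodd)

end Local

end Groth.Agent.Lib.Helper52.PairFinal
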