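import Mathlib
import Groth.Agent.Lib.Helper52.InvQuad
import Groth.Agent.Lib.Helper52.InvQuad2
import Groth.Agent.Lib.Helper46.Azumaya

/-!
# Two `lam`-involutions on Azumaya algebras of the same degree are locally isomorphic in the
quadratic étale case
-/

set_option autoImplicit false
set_option linter.style.haveILetI false
set_option linter.unusedSectionVars false
set_option linter.unusedVariables false
set_option linter.unusedSimpArgs false

namespace Groth.Agent.Lib.Helper52.QuadPair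

open scoped TensorProduct
open AzInv Groth.Agent.Lib.Helper52.AzuCharpoly Groth.Agent.Lib.Helper52.InvGlue
  Groth.Agent.Lib.Helper52.InvSplitExists Groth.Agent.Lib.Helper52.InvIso
  Groth.Agent.Lib.Helper52.InvQuad

universe u v w w'

variable {S : Type u} {R : Type v} [CommRing S] [CommRing R] [Algebra S R] (lam : R ≃ₐ[S] R)
  (hlam : ∀ r, lam (lam r) = r) (hfix : RInv.IsFixedRing S R lam.toRingEquiv)
  {A : Type w} [Ring A] [Algebra S A] [Algebra R A] [IsScalarTower S R A]
  {A' : Type w'} [Ring A'] [Algebra S A'] [Algebra R A'] [IsScalarTower S R A']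
  (t : LamInv R A lam) (t' : LamInv R A' lam) (n : ℕ) (hn : 0 < n)
  [IsAzumaya R A] [IsAzumaya R A']
  (hrank : ∀ p : PrimeSpectrum R, Module.rankAtStalk (R := R) A p = n ^ 2)
  (hrank' : ∀ p : PrimeSpectrum R, Module.rankAtStalk (R := R) A' p = n ^ 2)

/-- a splitting isomorphism gives a splitting homomorphism with bijective lift -/
lemma psiLift_bijective_of_algEquiv {C : Type*} [CommRing C] [Algebra R C]
    {B : Type*} [Ring B] [Algebra R B] {m : Type*} [Fintype m] [DecidableEq m]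
    (g : C ⊗[R] B ≃ₐ[C] Matrix m m C) :
    Function.Bijective (psiLift C
      ((g.toAlgHom.restrictScalars R).comp (Algebra.TensorProduct.includeRight : B →ₐ[R] C ⊗[R] B))) := by
  have h : ⇑(psiLift C ((g.toAlgHom.restrictScalars R).comp
      (Algebra.TensorProduct.includeRight : B →ₐ[R] C ⊗[R] B))) = ⇑g := by
    funext x
    induction x using TensorProduct.induction_on with
    | zero => simp
    | tmul c X =>
      rw [psiLift_tmul]
      show c • g ((1 : C) ⊗ₜ[R] X) = g (c ⊗ₜ[R] X)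
      rw [← map_smul, TensorProduct.smul_tmul', smul_eq_mul, mul_one]
    | add x y hx hy => rw [map_add, map_add, hx, hy]
  rw [h]
  exact AlgEquiv.bijective _

include hlam hfix hn hrank hrank' in
theorem locIsoEt_of_quad (hq : RInv.IsQuadEtale S R) : LocIsoEt S lam t t' := by
  classical
  obtain ⟨C₁, _, _, _, _, hEt₁, hFF₁, ⟨g₁⟩⟩ := exists_cover hq hfix.1 (A := A) n hrank
  haveI := hEt₁
  haveI := hFF₁
  haveI : IsAzumaya C₁ (C₁ ⊗[R] A') :=
    Groth.Agent.Lib.Helper46.Azumaya.isAzumaya_baseChange R C₁ A'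
  haveI : Module.Finite R A' := IsAzumaya.toFinite
  haveI : Module.Projective R A' := inferInstance
  have hrank₁ : ∀ q : PrimeSpectrum C₁,
      Module.rankAtStalk (R := C₁) (C₁ ⊗[R] A') q = n ^ 2 := by
    intro q
    rw [Module.rankAtStalk_baseChange, hrank']
  obtain ⟨C₂, _, _, hEt₂, hFF₂, ⟨g₀, _⟩⟩ := invIso_glue (R := C₁)
    (0 : C₁ ⊗[R] A' →ₗ[C₁] C₁ ⊗[R] A')
    (0 : Matrix (Fin n) (Fin n) C₁ →ₗ[C₁] Matrix (Fin n) (Fin n) C₁) (fun P => by
      obtain ⟨C, _, _, _, 𝔓, _, h𝔓, ⟨φ⟩⟩ := exists_splitting C₁ (C₁ ⊗[R] A') n hrank₁ P.asIdeal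
      refine ⟨C, inferInstance, inferInstance, inferInstance,
        ⟨φ.trans (matrixBaseChange C₁ C (Fin n)).symm, fun x => ?_⟩,
        ⟨⟨𝔓, inferInstance⟩, PrimeSpectrum.ext h𝔓⟩⟩
      simp)
  haveI := hEt₂
  haveI := hFF₂
  letI : Algebra R C₂ := ((algebraMap C₁ C₂).comp (algebraMap R C₁)).toAlgebra
  haveI : IsScalarTower R C₁ C₂ := IsScalarTower.of_algebraMap_eq (fun _ => rfl)
  letI : Algebra S C₂ := ((algebraMap C₁ C₂).comp (algebraMap S C₁)).toAlgebra
  haveI : IsScalarTower S C₁ C₂ := IsScalarTower.of_algebraMap_eq (fun _ => rfl)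
  haveI : IsScalarTower S R C₂ := IsScalarTower.of_algebraMap_eq (fun s => by
    show algebraMap C₁ C₂ (algebraMap S C₁ s) = algebraMap C₁ C₂ (algebraMap R C₁ (algebraMap S R s))
    rw [← IsScalarTower.algebraMap_apply S R C₁])
  haveI : Algebra.Etale S C₂ := Algebra.Etale.comp S C₁ C₂
  haveI : Module.FaithfullyFlat S C₂ := Module.FaithfullyFlat.trans S C₁ C₂
  let G₁ : C₂ ⊗[R] A ≃ₐ[C₂] Matrix (Fin n) (Fin n) C₂ := splitBaseChange g₁ C₂
  let G₂ : C₂ ⊗[R] A' ≃ₐ[C₂] Matrix (Fin n) (Fin n) C₂ :=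
    (cancelEquiv R A' C₁ C₂).trans (g₀.trans (matrixBaseChange C₁ C₂ (Fin n)))
  obtain ⟨f, hf₁, hf₂⟩ := exists_algEquiv_of_split lam hlam hfix hq C₂ t t' _ _
    (psiLift_bijective_of_algEquiv G₁) (psiLift_bijective_of_algEquiv G₂)
  exact ⟨C₂, inferInstance, inferInstance, inferInstance, inferInstance, f, hf₁, hf₂⟩

end Groth.Agent.Lib.Helper52.QuadPair
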