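import Mathlib
import Groth.Agent.Lib.Helper52.RedNormForm

/-!
# The reduced characteristic polynomial of a central simple algebra

For a finite Galois extension `L/K` and a splitting `e : L ⊗[K] A ≃ₐ[L] M_n(L)` of a central
simple `K`-algebra `A`, the characteristic polynomial of `e (1 ⊗ x)` has coefficients in `K`
(Skolem–Noether + Galois descent): this is the reduced characteristic polynomial `P` of `x`.
It is monic of degree `n`, kills `x`, and divides the `n`-th power of the minimal polynomial.
-/

open scoped TensorProduct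
open Polynomial

namespace Groth.Agent.Lib.Helper52.RedCharpoly

section DetTrick

theorem exists_mul_sub_eq {R : Type*} [CommRing R] {S : Type*} [Ring S] [Algebra R S] (a b : S)
    (hab : Commute a b) (p : R[X]) : ∃ Q : S, aeval a p - aeval b p = Q * (a - b) := by
  induction p using Polynomial.induction_on' with
  | add p q hp hq =>
    obtain ⟨Q1, h1⟩ := hp
    obtain ⟨Q2, h2⟩ := hq
    exact ⟨Q1 + Q2, by rw [map_add, map_add, add_mul, ← h1, ← h2]; abel⟩
  | monomial k c =>
    refine ⟨algebraMap R S c * ∑ i ∈ Finset.range k, a ^ i * b ^ (k - 1 - i), ?_⟩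
    rw [aeval_monomial, aeval_monomial, mul_assoc, hab.geom_sum₂_mul, mul_sub]

/-- **Determinant trick**: if `p(M) = 0` then the characteristic polynomial of `M` divides
`p ^ n`. -/
theorem charpoly_dvd_pow_of_aeval_eq_zero {R : Type*} [CommRing R] {n : Type*} [Fintype n]
    [DecidableEq n] (M : Matrix n n R) (p : R[X]) (hp : aeval M p = 0) :
    M.charpoly ∣ p ^ Fintype.card n := by
  let a : Matrix n n R[X] := algebraMap R[X] (Matrix n n R[X]) X
  let b : Matrix n n R[X] := (CAlgHom (R := R)).mapMatrix M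
  have hab : Commute a b := Algebra.commute_algebraMap_left _ _
  obtain ⟨Q, hQ⟩ := exists_mul_sub_eq (R := R) a b hab p
  have ha : aeval a p = algebraMap R[X] (Matrix n n R[X]) p := by
    rw [aeval_algebraMap_apply, aeval_X_left_apply]
  have hb : aeval b p = 0 := by
    rw [aeval_algHom_apply, hp, map_zero]
  have hchar : a - b = M.charmatrix := by
    ext i j
    simp [a, b, Matrix.charmatrix, Matrix.algebraMap_matrix_apply, Matrix.scalar_apply,
      Matrix.diagonal_apply]
  rw [ha, hb, sub_zero, hchar] at hQ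
  have hdet := congrArg Matrix.det hQ
  rw [Matrix.det_mul, Matrix.algebraMap_eq_diagonal, Matrix.det_diagonal] at hdet
  simp only [Pi.algebraMap_apply, Algebra.algebraMap_self, RingHom.id_apply, Finset.prod_const,
    Finset.card_univ] at hdet
  exact ⟨Q.det, by rw [hdet, mul_comm]; rfl⟩

end DetTrick

variable {K : Type*} [Field K] {A : Type*} [Ring A] [Algebra K A]
variable {L : Type*} [Field L] [Algebra K L]
variable {n : ℕ}
variable [Algebra.IsCentral K A] [IsSimpleRing A] [FiniteDimensional K A]

omit [Algebra.IsCentral K A] [IsSimpleRing A] [FiniteDimensional K A] in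
theorem tmul_aeval (e : L ⊗[K] A ≃ₐ[L] Matrix (Fin n) (Fin n) L) (x : A) (P : K[X]) :
    e (1 ⊗ₜ[K] aeval x P) = aeval (e (1 ⊗ₜ[K] x)) (P.map (algebraMap K L)) := by
  let f : A →ₐ[K] Matrix (Fin n) (Fin n) L :=
    (e.toAlgHom.restrictScalars K).comp Algebra.TensorProduct.includeRight
  have h1 : f (aeval x P) = aeval (f x) P := (aeval_algHom_apply f x P).symm
  rw [aeval_map_algebraMap]
  exact h1

omit [Algebra.IsCentral K A] [FiniteDimensional K A] in
theorem tmul_injective (e : L ⊗[K] A ≃ₐ[L] Matrix (Fin n) (Fin n) L) :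
    Function.Injective fun a : A => e (1 ⊗ₜ[K] a) := by
  have h := Algebra.TensorProduct.includeRight_injective (R := K) (A := L) (B := A)
    (algebraMap K L).injective
  exact e.injective.comp h

variable [FiniteDimensional K L] [IsGalois K L]

/-- **Existence of the reduced characteristic polynomial.** -/
theorem exists_redCharpoly (e : L ⊗[K] A ≃ₐ[L] Matrix (Fin n) (Fin n) L) (x : A) :
    ∃ P : K[X], P.Monic ∧ P.natDegree = n ∧
      P.map (algebraMap K L) = (e (1 ⊗ₜ[K] x)).charpoly := by
  classical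
  obtain ⟨M, hM⟩ : ∃ M, M = e (1 ⊗ₜ[K] x) := ⟨_, rfl⟩
  rw [← hM]
  have hfix : ∀ σ : L ≃ₐ[K] L, M.charpoly.map (σ : L →+* L) = M.charpoly := by
    intro σ
    obtain ⟨u, hu⟩ := Groth.Agent.Lib.Helper52.RedNormForm.exists_conj e σ
    rw [← Matrix.charpoly_map, hM, hu x, Matrix.coe_units_inv, Matrix.charpoly_units_conj]
  have hmem : M.charpoly ∈ Polynomial.lifts (algebraMap K L) := by
    rw [Polynomial.lifts_iff_coeff_lifts]
    intro k
    rw [IsGalois.mem_range_algebraMap_iff_fixed]
    intro σ
    have := congrArg (fun q => Polynomial.coeff q k) (hfix σ)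
    simpa [Polynomial.coeff_map] using this
  obtain ⟨P, hP, hdeg, hmon⟩ :=
    Polynomial.lifts_and_degree_eq_and_monic hmem (Matrix.charpoly_monic M)
  refine ⟨P, hmon, ?_, hP⟩
  rw [Polynomial.natDegree_eq_of_degree_eq hdeg, Matrix.charpoly_natDegree_eq_dim,
    Fintype.card_fin]

omit [Algebra.IsCentral K A] [FiniteDimensional K A] [FiniteDimensional K L] [IsGalois K L] in
/-- Cayley–Hamilton for the reduced characteristic polynomial. -/
theorem aeval_eq_zero (e : L ⊗[K] A ≃ₐ[L] Matrix (Fin n) (Fin n) L) (x : A) (P : K[X])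
    (hP : P.map (algebraMap K L) = (e (1 ⊗ₜ[K] x)).charpoly) : aeval x P = 0 := by
  apply tmul_injective e
  show e (1 ⊗ₜ[K] aeval x P) = e (1 ⊗ₜ[K] 0)
  rw [tmul_aeval, hP, Matrix.aeval_self_charpoly, TensorProduct.tmul_zero, map_zero]

omit [Algebra.IsCentral K A] [IsSimpleRing A] [FiniteDimensional K A] [FiniteDimensional K L]
  [IsGalois K L] in
/-- The reduced characteristic polynomial divides the `n`-th power of any polynomial killing
`x`. -/
theorem dvd_pow_of_aeval_eq_zero (e : L ⊗[K] A ≃ₐ[L] Matrix (Fin n) (Fin n) L) (x : A)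
    (P : K[X]) (hP : P.map (algebraMap K L) = (e (1 ⊗ₜ[K] x)).charpoly) (q : K[X])
    (hq : aeval x q = 0) : P ∣ q ^ n := by
  rw [← Polynomial.map_dvd_map' (algebraMap K L), hP, Polynomial.map_pow]
  have := charpoly_dvd_pow_of_aeval_eq_zero (e (1 ⊗ₜ[K] x)) (q.map (algebraMap K L)) (by
    rw [← tmul_aeval, hq, TensorProduct.tmul_zero, map_zero])
  rwa [Fintype.card_fin] at this

end Groth.Agent.Lib.Helper52.RedCharpoly
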