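import Mathlib

/-!
# Algebras from structure constants

Given structure constants `c i j l` (the coefficient of `e_l` in `e_i e_j`) on a finite index type
with a distinguished index `o` (the unit), satisfying the unit and associativity identities, we build
an algebra `Alg c h`, free with basis `bas` and multiplication table `c`.  The algebra is realised as
the subalgebra of matrices spanned by the left multiplication matrices.
-/

set_option autoImplicit false

namespace Groth.Agent.Lib.Helper52.SCAlg

variable {C : Type*} [CommRing C] {ι : Type*} [Fintype ι] [DecidableEq ι] (o : ι)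

/-- The identities satisfied by structure constants of a unital associative algebra with unit
`e_o`. -/
structure IsSC (c : ι → ι → ι → C) : Prop where
  unitL : ∀ j l, c o j l = if j = l then 1 else 0
  unitR : ∀ i l, c i o l = if i = l then 1 else 0
  assoc : ∀ i j k l, ∑ m, c i j m * c m k l = ∑ m, c j k m * c i m l

variable {o}

/-- Left multiplication matrices. -/
def Lm (c : ι → ι → ι → C) (i : ι) : Matrix ι ι C := Matrix.of fun l k => c i k l

theorem Lm_apply (c : ι → ι → ι → C) (i l k : ι) : Lm c i l k = c i k l := rfl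

theorem Lm_o {c : ι → ι → ι → C} (h : IsSC o c) : Lm c o = 1 := by
  ext l k
  rw [Lm_apply, h.unitL, Matrix.one_apply]
  by_cases hkl : k = l
  · subst hkl; simp
  · rw [if_neg hkl, if_neg (fun h' => hkl h'.symm)]

theorem Lm_mul {c : ι → ι → ι → C} (h : IsSC o c) (i j : ι) :
    Lm c i * Lm c j = ∑ m, c i j m • Lm c m := by
  ext l k
  rw [Matrix.mul_apply, Matrix.sum_apply]
  simp only [Lm_apply, Matrix.smul_apply, smul_eq_mul]
  rw [h.assoc i j k l]
  exact Finset.sum_congr rfl fun m _ => mul_comm _ _

theorem Lm_col_o {c : ι → ι → ι → C} (h : IsSC o c) (i l : ι) :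
    Lm c i l o = if i = l then 1 else 0 := by
  rw [Lm_apply, h.unitR]

/-- The algebra with structure constants `c`. -/
def Alg (c : ι → ι → ι → C) (h : IsSC o c) : Subalgebra C (Matrix ι ι C) :=
  (Submodule.span C (Set.range (Lm c))).toSubalgebra
    (by rw [← Lm_o h]; exact Submodule.subset_span ⟨o, rfl⟩)
    (by
      intro x y hx hy
      have h1 : x * y ∈ Submodule.span C (Set.range (Lm c)) * Submodule.span C (Set.range (Lm c)) :=
        Submodule.mul_mem_mul hx hy
      rw [Submodule.span_mul_span] at h1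
      refine Submodule.span_le.mpr ?_ h1
      rintro _ ⟨_, ⟨i, rfl⟩, _, ⟨j, rfl⟩, rfl⟩
      change Lm c i * Lm c j ∈ _
      rw [Lm_mul h]
      exact Submodule.sum_mem _ fun m _ =>
        Submodule.smul_mem _ _ (Submodule.subset_span ⟨m, rfl⟩))

theorem mem_Alg {c : ι → ι → ι → C} (h : IsSC o c) (x : Matrix ι ι C) :
    x ∈ Alg c h ↔ x ∈ Submodule.span C (Set.range (Lm c)) := Iff.rfl

/-- The basis vectors. -/
def bv (c : ι → ι → ι → C) (h : IsSC o c) (i : ι) : Alg c h :=
  ⟨Lm c i, Submodule.subset_span ⟨i, rfl⟩⟩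

theorem bv_val (c : ι → ι → ι → C) (h : IsSC o c) (i : ι) :
    ((bv c h i : Alg c h) : Matrix ι ι C) = Lm c i := rfl

theorem sum_smul_bv_val (c : ι → ι → ι → C) (h : IsSC o c) (g : ι → C) :
    ((∑ i, g i • bv c h i : Alg c h) : Matrix ι ι C) = ∑ i, g i • Lm c i := by
  rw [← Subalgebra.coe_val, map_sum]
  refine Finset.sum_congr rfl fun i _ => ?_
  rw [map_smul]; rfl

theorem sum_smul_Lm_col {c : ι → ι → ι → C} (h : IsSC o c) (g : ι → C) (l : ι) :
    (∑ i, g i • Lm c i) l o = g l := by
  rw [Matrix.sum_apply]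
  simp only [Matrix.smul_apply, smul_eq_mul, Lm_col_o h]
  simp

theorem linearIndependent_bv (c : ι → ι → ι → C) (h : IsSC o c) :
    LinearIndependent C (bv c h) := by
  rw [Fintype.linearIndependent_iff]
  intro g hg l
  have h1 := congrArg (fun x : Alg c h => (x : Matrix ι ι C) l o) hg
  simp only [sum_smul_bv_val, sum_smul_Lm_col h] at h1
  simpa using h1

theorem span_bv (c : ι → ι → ι → C) (h : IsSC o c) :
    ⊤ ≤ Submodule.span C (Set.range (bv c h)) := by
  rintro ⟨x, hx⟩ -
  rw [mem_Alg, Submodule.mem_span_range_iff_exists_fun] at hx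
  obtain ⟨g, rfl⟩ := hx
  rw [Submodule.mem_span_range_iff_exists_fun]
  refine ⟨g, ?_⟩
  apply Subtype.ext
  rw [sum_smul_bv_val]

/-- The basis of `Alg c h`. -/
noncomputable def bas (c : ι → ι → ι → C) (h : IsSC o c) : Module.Basis ι C (Alg c h) :=
  Module.Basis.mk (linearIndependent_bv c h) (span_bv c h)

@[simp] theorem bas_apply (c : ι → ι → ι → C) (h : IsSC o c) (i : ι) : bas c h i = bv c h i := by
  simp [bas]

theorem bas_o (c : ι → ι → ι → C) (h : IsSC o c) : bas c h o = 1 := by
  rw [bas_apply]
  apply Subtype.ext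
  rw [bv_val, Lm_o h]; rfl

theorem bas_mul (c : ι → ι → ι → C) (h : IsSC o c) (i j : ι) :
    bas c h i * bas c h j = ∑ m, c i j m • bas c h m := by
  simp only [bas_apply]
  apply Subtype.ext
  rw [sum_smul_bv_val]
  change Lm c i * Lm c j = _
  rw [Lm_mul h]

theorem repr_bas_mul (c : ι → ι → ι → C) (h : IsSC o c) (i j l : ι) :
    (bas c h).repr (bas c h i * bas c h j) l = c i j l := by
  rw [bas_mul, map_sum]
  simp only [map_smul, Module.Basis.repr_self, Finsupp.coe_finsetSum, Finsupp.coe_smul,
    Finset.sum_apply, Pi.smul_apply, smul_eq_mul, Finsupp.single_apply]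
  simp

end Groth.Agent.Lib.Helper52.SCAlg
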