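import Mathlib
import Groth.Agent.Lib.Helper52.SCAlg

/-!
# Structure constants and the Azumaya condition

For an algebra `A` with a finite basis `b` we compute the matrix of `AlgHom.mulLeftRight` in terms of
the structure constants, characterise its bijectivity by a determinant, and extract a separability
matrix from bijectivity.
-/

set_option autoImplicit false
set_option linter.unusedSectionVars false

namespace Groth.Agent.Lib.Helper52.SCAzu

open Groth.Agent.Lib.Helper52.SCAlg Module TensorProduct

variable {K : Type*} [CommRing K] {A : Type*} [Ring A] [Algebra K A]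
  {ι : Type*} [Fintype ι] [DecidableEq ι] (b : Basis ι K A)

/-- structure constants of a basis -/
noncomputable def sc (i j l : ι) : K := b.repr (b i * b j) l

theorem sc_def (i j l : ι) : sc b i j l = b.repr (b i * b j) l := rfl

theorem repr_mul_basis (x : A) (k l : ι) :
    b.repr (x * b k) l = ∑ m, b.repr x m * sc b m k l := by
  conv_lhs => rw [← b.sum_repr x]
  rw [Finset.sum_mul, map_sum, Finsupp.coe_finsetSum, Finset.sum_apply]
  refine Finset.sum_congr rfl fun m _ => ?_
  rw [smul_mul_assoc, map_smul, Finsupp.smul_apply, smul_eq_mul, sc_def]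

theorem repr_basis_mul (i : ι) (y : A) (l : ι) :
    b.repr (b i * y) l = ∑ m, b.repr y m * sc b i m l := by
  conv_lhs => rw [← b.sum_repr y]
  rw [Finset.mul_sum, map_sum, Finsupp.coe_finsetSum, Finset.sum_apply]
  refine Finset.sum_congr rfl fun m _ => ?_
  rw [mul_smul_comm, map_smul, Finsupp.smul_apply, smul_eq_mul, sc_def]

theorem isSC_sc {o : ι} (ho : b o = 1) : IsSC o (sc b) where
  unitL j l := by
    rw [sc_def, ho, one_mul, Basis.repr_self, Finsupp.single_apply]
  unitR i l := by
    rw [sc_def, ho, mul_one, Basis.repr_self, Finsupp.single_apply]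
  assoc i j k l := by
    have h1 := repr_mul_basis b (b i * b j) k l
    have h2 := repr_basis_mul b i (b j * b k) l
    rw [mul_assoc] at h1
    rw [h1] at h2
    exact h2

/-- The matrix of `x ⊗ y ↦ (z ↦ x z y)` in terms of structure constants. -/
def Dm (c : ι → ι → ι → K) : Matrix (ι × ι) (ι × ι) K :=
  Matrix.of fun lk ij => ∑ m, c ij.1 lk.2 m * c m ij.2 lk.1

theorem Dm_apply (c : ι → ι → ι → K) (l k i j : ι) :
    Dm c (l, k) (i, j) = ∑ m, c i k m * c m j l := rfl

/-- the basis of `A ⊗ Aᵐᵒᵖ` -/
noncomputable def tb : Basis (ι × ι) K (A ⊗[K] Aᵐᵒᵖ) :=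
  b.tensorProduct (b.map (MulOpposite.opLinearEquiv K))

theorem tb_apply (i j : ι) : tb b (i, j) = b i ⊗ₜ[K] MulOpposite.op (b j) := by
  rw [tb, Basis.tensorProduct_apply, Basis.map_apply]
  rfl

theorem toMatrix_mulLeftRight :
    LinearMap.toMatrix (tb b) b.end (AlgHom.mulLeftRight K A).toLinearMap = Dm (sc b) := by
  ext ⟨l, k⟩ ⟨i, j⟩
  rw [LinearMap.toMatrix_apply, Basis.end_repr_apply, AlgHom.toLinearMap_apply, tb_apply, Dm_apply]
  have h1 : ((Matrix.stdBasis K ι ι).repr
      ((LinearMap.toMatrix b b) ((AlgHom.mulLeftRight K A) (b i ⊗ₜ[K] MulOpposite.op (b j)))))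
        (l, k) =
      (LinearMap.toMatrix b b) ((AlgHom.mulLeftRight K A) (b i ⊗ₜ[K] MulOpposite.op (b j))) l k := by
    simp [Matrix.stdBasis]
  rw [h1, LinearMap.toMatrix_apply, AlgHom.mulLeftRight_apply, MulOpposite.unop_op,
    repr_mul_basis]
  refine Finset.sum_congr rfl fun m _ => ?_
  rw [sc_def, sc_def]

theorem bijective_of_isUnit_det (h : IsUnit (Dm (sc b)).det) :
    Function.Bijective (AlgHom.mulLeftRight K A) := by
  rw [← toMatrix_mulLeftRight] at h
  have h2 := (LinearEquiv.ofIsUnitDet h).bijective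
  have h3 : ⇑(LinearEquiv.ofIsUnitDet h) = ⇑(AlgHom.mulLeftRight K A) := by
    funext x
    have := congrArg (fun f : (A ⊗[K] Aᵐᵒᵖ) →ₗ[K] Module.End K A => f x)
      (LinearEquiv.coe_ofIsUnitDet h)
    exact this
  rwa [h3] at h2

theorem isUnit_det_of_bijective (h : Function.Bijective (AlgHom.mulLeftRight K A)) :
    IsUnit (Dm (sc b)).det := by
  rw [← toMatrix_mulLeftRight]
  exact LinearEquiv.isUnit_det (LinearEquiv.ofBijective (AlgHom.mulLeftRight K A).toLinearMap h)
    (tb b) b.end

theorem repr_tb_tmul (x y : A) (s t : ι) :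
    (tb b).repr (x ⊗ₜ[K] MulOpposite.op y) (s, t) = b.repr y t * b.repr x s := by
  rw [tb, Basis.tensorProduct_repr_tmul_apply, smul_eq_mul]
  congr 1

/-- A separability matrix extracted from bijectivity of `mulLeftRight`. -/
theorem exists_sep {o : ι} (ho : b o = 1) (h : Function.Bijective (AlgHom.mulLeftRight K A)) :
    ∃ E : ι → ι → K, (∀ l, ∑ i, ∑ j, E i j * sc b i j l = if l = o then 1 else 0) ∧
      (∀ r s t, ∑ i, E i t * sc b r i s = ∑ j, E s j * sc b j r t) := by
  -- the projection onto the unit line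
  let ε' : Module.End K A := (LinearMap.toSpanSingleton K A 1).comp (b.coord o)
  have hε' : ∀ x, ε' x = b.repr x o • (1 : A) := fun x => rfl
  obtain ⟨e, he⟩ := h.2 ε'
  let E : ι → ι → K := fun i j => (tb b).repr e (i, j)
  have hexp : e = ∑ i, ∑ j, E i j • (b i ⊗ₜ[K] MulOpposite.op (b j)) := by
    conv_lhs => rw [← (tb b).sum_repr e]
    rw [Fintype.sum_prod_type]
    refine Finset.sum_congr rfl fun i _ => Finset.sum_congr rfl fun j _ => ?_
    rw [tb_apply]
  refine ⟨E, ?_, ?_⟩
  · intro l
    have h1 : AlgHom.mulLeftRight K A e 1 = 1 := by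
      rw [he, hε', ← ho, Basis.repr_self, Finsupp.single_eq_same, one_smul]
    rw [hexp] at h1
    simp only [map_sum, map_smul, LinearMap.sum_apply, LinearMap.smul_apply,
      AlgHom.mulLeftRight_apply, MulOpposite.unop_op, mul_one] at h1
    have h2 := congrArg (fun x => b.repr x l) h1
    simp only [map_sum, map_smul, Finsupp.coe_finsetSum, Finsupp.coe_smul, Finset.sum_apply,
      Pi.smul_apply, smul_eq_mul] at h2
    rw [← ho, Basis.repr_self, Finsupp.single_apply] at h2
    simp only [sc_def]
    rw [h2]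
    by_cases hl : l = o
    · rw [if_pos hl, if_pos hl.symm]
    · rw [if_neg hl, if_neg (fun h' => hl h'.symm)]
  · intro r s t
    have h1 : ((b r ⊗ₜ[K] (1 : Aᵐᵒᵖ)) * e : A ⊗[K] Aᵐᵒᵖ) =
        ((1 : A) ⊗ₜ[K] MulOpposite.op (b r)) * e := by
      apply h.1
      rw [map_mul, map_mul, he]
      apply LinearMap.ext
      intro x
      rw [Module.End.mul_apply, Module.End.mul_apply, hε', AlgHom.mulLeftRight_apply,
        AlgHom.mulLeftRight_apply, MulOpposite.unop_one, MulOpposite.unop_op, mul_one, one_mul,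
        mul_smul_comm, smul_mul_assoc, mul_one, one_mul]
    have h2 := congrArg (fun x => (tb b).repr x (s, t)) h1
    rw [hexp] at h2
    simp only [Finset.mul_sum, mul_smul_comm, Algebra.TensorProduct.tmul_mul_tmul, one_mul,
      map_sum, map_smul, Finsupp.coe_finsetSum, Finsupp.coe_smul, Finset.sum_apply,
      Pi.smul_apply, smul_eq_mul, ← MulOpposite.op_mul, repr_tb_tmul,
      Basis.repr_self, Finsupp.single_apply] at h2
    simp only [sc_def]
    convert h2 using 1
    · rw [Finset.sum_comm]
      simp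
    · simp

end Groth.Agent.Lib.Helper52.SCAzu
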