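import Mathlib

/-!
# Lifting associative multiplications along square-zero ideals (separable case)

Let `J` be an ideal of `C` with `J * J = 0` and `μ` a bilinear multiplication on `ι → C`, unital for
`e o`, associative modulo `J`, together with a matrix `E` which is a separability idempotent modulo
`J`.  Then there is an associative unital multiplication `μ'` congruent to `μ` modulo `J`.
(Vanishing of the Hochschild obstruction in `H³` for separable algebras.)
-/

set_option autoImplicit false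

namespace Groth.Agent.Lib.Helper52.SCLift

variable {C : Type*} [CommRing C] {ι : Type*} [Fintype ι] [DecidableEq ι]

/-- standard basis vector -/
def e (i : ι) : ι → C := Pi.single i 1

omit [Fintype ι] in
theorem e_apply (i l : ι) : (e i : ι → C) l = if l = i then 1 else 0 := by
  simp [e, Pi.single_apply]

theorem sum_smul_e (x : ι → C) : ∑ i, x i • (e i : ι → C) = x := by
  funext l
  simp [Finset.sum_apply, e_apply]

theorem map_expand {W : Type*} [AddCommGroup W] [Module C W] (g : (ι → C) →ₗ[C] W) (x : ι → C) :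
    g x = ∑ i, x i • g (e i) := by
  conv_lhs => rw [← sum_smul_e x]
  rw [map_sum]
  simp [map_smul]

variable (J : Ideal C)

/-- all coordinates in `J` -/
def InJ (w : ι → C) : Prop := ∀ l, w l ∈ J

variable {J}

omit [Fintype ι] [DecidableEq ι] in
theorem InJ.add {w w' : ι → C} (h : InJ J w) (h' : InJ J w') : InJ J (w + w') :=
  fun l => J.add_mem (h l) (h' l)

omit [Fintype ι] [DecidableEq ι] in
theorem InJ.sub {w w' : ι → C} (h : InJ J w) (h' : InJ J w') : InJ J (w - w') :=
  fun l => J.sub_mem (h l) (h' l)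

omit [Fintype ι] [DecidableEq ι] in
theorem InJ.smul {w : ι → C} (h : InJ J w) (a : C) : InJ J (a • w) :=
  fun l => J.mul_mem_left a (h l)

omit [Fintype ι] [DecidableEq ι] in
theorem InJ.zero : InJ J (0 : ι → C) := fun _ => J.zero_mem

omit [Fintype ι] [DecidableEq ι] in
theorem InJ.sum {κ : Type*} (s : Finset κ) (g : κ → ι → C) (h : ∀ k ∈ s, InJ J (g k)) :
    InJ J (∑ k ∈ s, g k) := by
  intro l
  rw [Finset.sum_apply]
  exact J.sum_mem fun k hk => h k hk l

omit [Fintype ι] [DecidableEq ι] in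
theorem InJ.smul_mem (a : C) (ha : a ∈ J) (w : ι → C) : InJ J (a • w) :=
  fun _ => J.mul_mem_right _ ha

section Main

variable (hJ : ∀ a ∈ J, ∀ b ∈ J, a * b = 0)
include hJ

omit [Fintype ι] [DecidableEq ι] in
theorem smul_eq_zero_of_mem {a : C} (ha : a ∈ J) {w : ι → C} (hw : InJ J w) : a • w = 0 := by
  funext l
  exact hJ a ha (w l) (hw l)

variable (μ : (ι → C) →ₗ[C] (ι → C) →ₗ[C] (ι → C))

omit hJ in
theorem mu_expand_left (x y : ι → C) : μ x y = ∑ i, x i • μ (e i) y := by
  rw [map_expand μ x]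
  simp [LinearMap.sum_apply]

omit hJ in
theorem mu_expand_right (x y : ι → C) : μ x y = ∑ j, y j • μ x (e j) := map_expand (μ x) y

omit hJ in
theorem InJ_mu_left {x : ι → C} (hx : InJ J x) (y : ι → C) : InJ J (μ x y) := by
  rw [mu_expand_left]
  exact InJ.sum _ _ fun i _ => InJ.smul_mem (x i) (hx i) _

omit hJ in
theorem InJ_mu_right (x : ι → C) {y : ι → C} (hy : InJ J y) : InJ J (μ x y) := by
  rw [mu_expand_right]
  exact InJ.sum _ _ fun i _ => InJ.smul_mem (y i) (hy i) _

theorem mu_eq_zero {x y : ι → C} (hx : InJ J x) (hy : InJ J y) : μ x y = 0 := by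
  rw [mu_expand_left]
  exact Finset.sum_eq_zero fun i _ => smul_eq_zero_of_mem hJ (hx i) (InJ_mu_right μ _ hy)

/-- The associator with fixed first argument, as a bilinear map. -/
noncomputable def alX (x : ι → C) : (ι → C) →ₗ[C] (ι → C) →ₗ[C] (ι → C) :=
  μ.comp (μ x) - μ.compr₂ (μ x)

omit hJ in
theorem alX_apply (x y z : ι → C) : alX μ x y z = μ (μ x y) z - μ x (μ y z) := by
  simp [alX, LinearMap.compr₂_apply]

omit hJ in
theorem alX_sum_smul (a : ι → C) (v : ι → ι → C) (y z : ι → C) :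
    alX μ (∑ i, a i • v i) y z = ∑ i, a i • alX μ (v i) y z := by
  simp only [alX_apply, map_sum, map_smul, LinearMap.sum_apply, LinearMap.smul_apply,
    Finset.sum_sub_distrib, smul_sub]

omit hJ in
theorem pentagon (x y z w : ι → C) :
    μ x (alX μ y z w) - alX μ (μ x y) z w + alX μ x (μ y z) w - alX μ x y (μ z w)
      + μ (alX μ x y z) w = 0 := by
  simp only [alX_apply, map_sub, LinearMap.sub_apply]
  abel

variable (hB : ∀ x y z, InJ J (alX μ x y z))
include hB

theorem alX_eq_zero_1 {x : ι → C} (hx : InJ J x) (y z : ι → C) : alX μ x y z = 0 := by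
  rw [← sum_smul_e x, alX_sum_smul]
  exact Finset.sum_eq_zero fun i _ => smul_eq_zero_of_mem hJ (hx i) (hB _ _ _)

theorem alX_eq_zero_2 (x : ι → C) {y : ι → C} (hy : InJ J y) (z : ι → C) : alX μ x y z = 0 := by
  rw [map_expand (alX μ x) y]
  simp only [LinearMap.sum_apply, LinearMap.smul_apply]
  exact Finset.sum_eq_zero fun i _ => smul_eq_zero_of_mem hJ (hy i) (hB _ _ _)

theorem alX_eq_zero_3 (x y : ι → C) {z : ι → C} (hz : InJ J z) : alX μ x y z = 0 := by
  rw [map_expand (alX μ x y) z]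
  exact Finset.sum_eq_zero fun i _ => smul_eq_zero_of_mem hJ (hz i) (hB _ _ _)

/-- associativity holds as soon as one argument is in `J`. -/
theorem assoc_3 (x y : ι → C) {z : ι → C} (hz : InJ J z) : μ (μ x y) z = μ x (μ y z) := by
  have := alX_eq_zero_3 hJ μ hB x y hz
  rw [alX_apply, sub_eq_zero] at this
  exact this

theorem assoc_2 (x : ι → C) {y : ι → C} (hy : InJ J y) (z : ι → C) : μ (μ x y) z = μ x (μ y z) := by
  have := alX_eq_zero_2 hJ μ hB x hy z
  rw [alX_apply, sub_eq_zero] at this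
  exact this

variable (E : ι → ι → C)

/-- weighted double sums -/
def SS (g : ι → ι → ι → C) : ι → C := ∑ i, ∑ j, E i j • g i j

omit hJ hB [DecidableEq ι] in
theorem mu_SS_right (x : ι → C) (g : ι → ι → ι → C) :
    μ x (SS E g) = SS E fun i j => μ x (g i j) := by
  simp [SS, map_sum, map_smul]

omit hJ hB [DecidableEq ι] in
theorem mu_SS_left (y : ι → C) (g : ι → ι → ι → C) :
    μ (SS E g) y = SS E fun i j => μ (g i j) y := by
  simp [SS, map_sum, map_smul, LinearMap.sum_apply]

omit hJ hB [DecidableEq ι] in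
theorem SS_sub (g g' : ι → ι → ι → C) : SS E (fun i j => g i j - g' i j) = SS E g - SS E g' := by
  simp [SS, smul_sub, Finset.sum_sub_distrib]

omit hJ hB [DecidableEq ι] in
theorem SS_add (g g' : ι → ι → ι → C) : SS E (fun i j => g i j + g' i j) = SS E g + SS E g' := by
  simp [SS, smul_add, Finset.sum_add_distrib]

omit hJ hB [DecidableEq ι] in
theorem SS_zero : SS E (fun _ _ => (0 : ι → C)) = 0 := by
  simp [SS]

omit hJ hB [DecidableEq ι] in
theorem InJ_SS (g : ι → ι → ι → C) (hg : ∀ i j, InJ J (g i j)) : InJ J (SS E g) :=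
  InJ.sum _ _ fun i _ => InJ.sum _ _ fun j _ => (hg i j).smul _

/-- the correcting cochain -/
noncomputable def fL : (ι → C) →ₗ[C] (ι → C) →ₗ[C] (ι → C) :=
  ∑ i, ∑ j, E i j • (alX μ (e j)).compr₂ (μ (e i))

omit hJ hB in
theorem fL_apply (x y : ι → C) : fL μ E x y = SS E fun i j => μ (e i) (alX μ (e j) x y) := by
  simp [fL, SS, LinearMap.sum_apply, LinearMap.compr₂_apply]

omit hJ in
theorem InJ_fL (x y : ι → C) : InJ J (fL μ E x y) := by
  rw [fL_apply]
  exact InJ_SS E _ fun i j => InJ_mu_right μ _ (hB _ _ _)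

theorem fL_eq_zero_1 {x : ι → C} (hx : InJ J x) (y : ι → C) : fL μ E x y = 0 := by
  rw [fL_apply]
  simp only [alX_eq_zero_2 hJ μ hB _ hx, map_zero]
  exact SS_zero E

theorem fL_eq_zero_2 (x : ι → C) {y : ι → C} (hy : InJ J y) : fL μ E x y = 0 := by
  rw [fL_apply]
  simp only [alX_eq_zero_3 hJ μ hB _ _ hy, map_zero]
  exact SS_zero E

variable (hS2 : ∀ r s t, (∑ i, E i t * μ (e r) (e i) s) - ∑ j, E s j * μ (e j) (e r) t ∈ J)

include hS2 in
omit hB in
/-- The balancing property of the separability matrix against bilinear maps with values in `J`. -/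
theorem balance (Φ : (ι → C) →ₗ[C] (ι → C) →ₗ[C] (ι → C)) (hΦ : ∀ x y, InJ J (Φ x y))
    (a : ι → C) :
    SS E (fun i j => Φ (μ a (e i)) (e j)) = SS E (fun i j => Φ (e i) (μ (e j) a)) := by
  -- both sides as sums over the basis
  have hL : SS E (fun i j => Φ (μ a (e i)) (e j)) =
      ∑ s, ∑ t, (∑ i, E i t * μ a (e i) s) • Φ (e s) (e t) := by
    have h1 : ∀ i j, Φ (μ a (e i)) (e j) = ∑ s, μ a (e i) s • Φ (e s) (e j) := by
      intro i j
      rw [map_expand Φ (μ a (e i))]
      simp [LinearMap.sum_apply]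
    simp only [SS, h1, Finset.smul_sum, smul_smul, Finset.sum_smul]
    -- ∑ i ∑ j ∑ s = ∑ s ∑ t ∑ i
    calc ∑ i, ∑ j, ∑ s, (E i j * μ a (e i) s) • Φ (e s) (e j)
        = ∑ i, ∑ s, ∑ j, (E i j * μ a (e i) s) • Φ (e s) (e j) :=
          Finset.sum_congr rfl fun i _ => Finset.sum_comm
      _ = ∑ s, ∑ i, ∑ j, (E i j * μ a (e i) s) • Φ (e s) (e j) := Finset.sum_comm
      _ = ∑ s, ∑ t, ∑ i, (E i t * μ a (e i) s) • Φ (e s) (e t) :=
          Finset.sum_congr rfl fun s _ => Finset.sum_comm
  have hR : SS E (fun i j => Φ (e i) (μ (e j) a)) =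
      ∑ s, ∑ t, (∑ j, E s j * μ (e j) a t) • Φ (e s) (e t) := by
    have h1 : ∀ i j, Φ (e i) (μ (e j) a) = ∑ t, μ (e j) a t • Φ (e i) (e t) := by
      intro i j
      rw [map_expand (Φ (e i)) (μ (e j) a)]
    simp only [SS, h1, Finset.smul_sum, smul_smul, Finset.sum_smul]
    exact Finset.sum_congr rfl fun s _ => Finset.sum_comm
  rw [hL, hR, ← sub_eq_zero, ← Finset.sum_sub_distrib]
  refine Finset.sum_eq_zero fun s _ => ?_
  rw [← Finset.sum_sub_distrib]
  refine Finset.sum_eq_zero fun t _ => ?_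
  rw [← sub_smul]
  refine smul_eq_zero_of_mem hJ ?_ (hΦ _ _)
  -- the coefficient lies in `J`
  have h2 : ∀ i, μ a (e i) s = ∑ r, a r * μ (e r) (e i) s := by
    intro i
    rw [mu_expand_left μ a (e i), Finset.sum_apply]
    rfl
  have h3 : ∀ j, μ (e j) a t = ∑ r, a r * μ (e j) (e r) t := by
    intro j
    rw [mu_expand_right μ (e j) a, Finset.sum_apply]
    rfl
  have h4 : (∑ i, E i t * μ a (e i) s) - ∑ j, E s j * μ (e j) a t =
      ∑ r, a r * ((∑ i, E i t * μ (e r) (e i) s) - ∑ j, E s j * μ (e j) (e r) t) := by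
    simp only [h2, h3, Finset.mul_sum, mul_sub, Finset.sum_sub_distrib]
    congr 1
    · rw [Finset.sum_comm]
      exact Finset.sum_congr rfl fun r _ => Finset.sum_congr rfl fun i _ => by ring
    · rw [Finset.sum_comm]
      exact Finset.sum_congr rfl fun r _ => Finset.sum_congr rfl fun i _ => by ring
  rw [h4]
  exact J.sum_mem fun r _ => J.mul_mem_left _ (hS2 r s t)

variable (o : ι)
variable (hS1 : InJ J (SS E (fun i j => μ (e i) (e j)) - e o))
variable (hu1 : ∀ y, μ (e o) y = y) (hu2 : ∀ x, μ x (e o) = x)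

include hS1 hS2 hu1 in
/-- The key identity `α = δ f`. -/
theorem key (a b c : ι → C) :
    alX μ a b c - μ a (fL μ E b c) + fL μ E (μ a b) c - fL μ E a (μ b c) + μ (fL μ E a b) c = 0 := by
  set w := alX μ a b c with hw
  have hwJ : InJ J w := hB _ _ _
  -- T1
  have T1 : SS E (fun i j => μ (e i) (μ (e j) w)) = w := by
    have h1 : ∀ i j, μ (e i) (μ (e j) w) = μ (μ (e i) (e j)) w := fun i j =>
      (assoc_3 hJ μ hB _ _ hwJ).symm
    simp only [h1]
    rw [← mu_SS_left]
    have h2 : SS E (fun i j => μ (e i) (e j)) =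
        e o + (SS E (fun i j => μ (e i) (e j)) - e o) := by abel
    rw [h2, map_add, LinearMap.add_apply, hu1, mu_eq_zero hJ μ hS1 hwJ, add_zero]
  -- T2
  have T2 : SS E (fun i j => μ (e i) (alX μ (μ (e j) a) b c)) = μ a (fL μ E b c) := by
    set Φ : (ι → C) →ₗ[C] (ι → C) →ₗ[C] (ι → C) :=
      LinearMap.mk₂ C (fun x y => μ x (alX μ y b c))
        (fun x x' y => by simp only [map_add, LinearMap.add_apply])
        (fun r x y => by simp only [map_smul, LinearMap.smul_apply])
        (fun x y y' => by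
          simp only [alX_apply, map_add, LinearMap.add_apply, map_sub]
          abel)
        (fun r x y => by
          simp only [alX_apply, map_smul, LinearMap.smul_apply, map_sub, smul_sub]) with hΦ
    have hΦa : ∀ x y, Φ x y = μ x (alX μ y b c) := fun x y => rfl
    have hΦJ : ∀ x y, InJ J (Φ x y) := fun x y => by
      rw [hΦa]; exact InJ_mu_right μ _ (hB _ _ _)
    have hbal := balance hJ μ E hS2 Φ hΦJ a
    simp only [hΦa] at hbal
    rw [← hbal]
    have h1 : ∀ i j, μ (μ a (e i)) (alX μ (e j) b c) = μ a (μ (e i) (alX μ (e j) b c)) :=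
      fun i j => assoc_3 hJ μ hB _ _ (hB _ _ _)
    simp only [h1]
    rw [← mu_SS_right, ← fL_apply]
  -- T5
  have T5 : SS E (fun i j => μ (e i) (μ (alX μ (e j) a b) c)) = μ (fL μ E a b) c := by
    have h1 : ∀ i j, μ (e i) (μ (alX μ (e j) a b) c) = μ (μ (e i) (alX μ (e j) a b)) c :=
      fun i j => (assoc_2 hJ μ hB _ (hB _ _ _) _).symm
    simp only [h1]
    rw [← mu_SS_left, ← fL_apply]
  -- the pentagon, summed
  have hsum : SS E (fun i j => μ (e i) (μ (e j) w))
      - SS E (fun i j => μ (e i) (alX μ (μ (e j) a) b c))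
      + SS E (fun i j => μ (e i) (alX μ (e j) (μ a b) c))
      - SS E (fun i j => μ (e i) (alX μ (e j) a (μ b c)))
      + SS E (fun i j => μ (e i) (μ (alX μ (e j) a b) c)) = 0 := by
    rw [← SS_sub, ← SS_add, ← SS_sub, ← SS_add]
    have : (fun i j => μ (e i) (μ (e j) w) - μ (e i) (alX μ (μ (e j) a) b c)
        + μ (e i) (alX μ (e j) (μ a b) c) - μ (e i) (alX μ (e j) a (μ b c))
        + μ (e i) (μ (alX μ (e j) a b) c)) = fun _ _ => (0 : ι → C) := by
      funext i j
      have hp := congrArg (μ (e i)) (pentagon μ (e j) a b c)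
      simpa only [map_add, map_sub, map_zero] using hp
    rw [this, SS_zero]
  rw [T1, T2, T5, ← fL_apply, ← fL_apply] at hsum
  exact hsum

include hS1 hS2 hu1 hu2 in
/-- **Lifting theorem**: an associative unital multiplication congruent to `μ` modulo `J`. -/
theorem exists_assoc :
    ∃ μ' : (ι → C) →ₗ[C] (ι → C) →ₗ[C] (ι → C),
      (∀ x y z, μ' (μ' x y) z = μ' x (μ' y z)) ∧ (∀ y, μ' (e o) y = y) ∧ (∀ x, μ' x (e o) = x) ∧
        ∀ x y, InJ J (μ' x y - μ x y) := by
  refine ⟨μ + fL μ E, ?_, ?_, ?_, ?_⟩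
  · intro a b c
    have hk := key hJ μ hB E hS2 o hS1 hu1 a b c
    simp only [LinearMap.add_apply, map_add]
    rw [fL_eq_zero_1 hJ μ hB E (InJ_fL μ hB E a b) c, fL_eq_zero_2 hJ μ hB E a (InJ_fL μ hB E b c)]
    rw [alX_apply] at hk
    rw [← sub_eq_zero]
    rw [← hk]
    abel
  · intro y
    rw [LinearMap.add_apply, LinearMap.add_apply, hu1, fL_apply]
    have : (fun i j => μ (e i) (alX μ (e j) (e o) y)) = fun _ _ => (0 : ι → C) := by
      funext i j
      rw [alX_apply, hu2, hu1, sub_self, map_zero]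
    rw [this, SS_zero, add_zero]
  · intro x
    rw [LinearMap.add_apply, LinearMap.add_apply, hu2, fL_apply]
    have : (fun i j => μ (e i) (alX μ (e j) x (e o))) = fun _ _ => (0 : ι → C) := by
      funext i j
      rw [alX_apply, hu2, hu2, sub_self, map_zero]
    rw [this, SS_zero, add_zero]
  · intro x y
    rw [LinearMap.add_apply, LinearMap.add_apply, add_sub_cancel_left]
    exact InJ_fL μ hB E x y

end Main

end Groth.Agent.Lib.Helper52.SCLift
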