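import Mathlib
import Groth.Agent.Lib.Helper52.SCAlg
import Groth.Agent.Lib.Helper52.SCLift
import Groth.Agent.Lib.Helper52.SCAzu

/-!
# Lifting structure constants along square-zero ideals

If `J` is a square-zero ideal of `C` and `c̄` are structure constants over `C ⧸ J` whose algebra is
Azumaya (the determinant of `Dm c̄` is a unit), then `c̄` lifts to structure constants over `C`.
-/

set_option autoImplicit false
set_option linter.unusedSectionVars false
set_option linter.unusedTactic false

namespace Groth.Agent.Lib.Helper52.SCBridge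

open Groth.Agent.Lib.Helper52.SCAlg Groth.Agent.Lib.Helper52.SCLift Groth.Agent.Lib.Helper52.SCAzu

variable {C : Type*} [CommRing C] {ι : Type*} [Fintype ι] [DecidableEq ι]

/-- the bilinear multiplication with structure constants `c` -/
noncomputable def muOf (c : ι → ι → ι → C) : (ι → C) →ₗ[C] (ι → C) →ₗ[C] (ι → C) :=
  LinearMap.mk₂ C (fun x y l => ∑ i, ∑ j, x i * y j * c i j l)
    (fun x x' y => by
      funext l
      simp only [Pi.add_apply, add_mul, Finset.sum_add_distrib])
    (fun r x y => by
      funext l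
      simp only [Pi.smul_apply, smul_eq_mul, Finset.mul_sum, mul_assoc])
    (fun x y y' => by
      funext l
      simp only [Pi.add_apply, mul_add, add_mul, Finset.sum_add_distrib])
    (fun r x y => by
      funext l
      simp only [Pi.smul_apply, smul_eq_mul, Finset.mul_sum]
      refine Finset.sum_congr rfl fun i _ => Finset.sum_congr rfl fun j _ => by ring)

theorem muOf_apply (c : ι → ι → ι → C) (x y : ι → C) (l : ι) :
    muOf c x y l = ∑ i, ∑ j, x i * y j * c i j l := rfl

theorem muOf_e_left (c : ι → ι → ι → C) (i : ι) (y : ι → C) (l : ι) :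
    muOf c (e i) y l = ∑ m, y m * c i m l := by
  rw [muOf_apply]
  simp only [e_apply, ite_mul, one_mul, zero_mul]
  rw [Finset.sum_eq_single i]
  · simp
  · intro i' _ hi'
    simp [hi']
  · simp

theorem muOf_e_right (c : ι → ι → ι → C) (x : ι → C) (k : ι) (l : ι) :
    muOf c x (e k) l = ∑ m, x m * c m k l := by
  rw [muOf_apply]
  refine Finset.sum_congr rfl fun m _ => ?_
  simp only [e_apply, mul_ite, mul_one, mul_zero, ite_mul, zero_mul]
  simp

theorem muOf_e_e (c : ι → ι → ι → C) (i j l : ι) : muOf c (e i) (e j) l = c i j l := by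
  rw [muOf_e_left]
  simp [e_apply]

/-- structure constants from an associative unital multiplication -/
theorem isSC_of_mu (o : ι) (μ : (ι → C) →ₗ[C] (ι → C) →ₗ[C] (ι → C))
    (hass : ∀ x y z, μ (μ x y) z = μ x (μ y z)) (hu1 : ∀ y, μ (e o) y = y)
    (hu2 : ∀ x, μ x (e o) = x) : IsSC o (fun i j l => μ (e i) (e j) l) where
  unitL j l := by
    change μ (e o) (e j) l = _
    rw [hu1, e_apply]
    by_cases h : j = l
    · rw [if_pos h, if_pos h.symm]
    · rw [if_neg h, if_neg (fun h' => h h'.symm)]
  unitR i l := by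
    change μ (e i) (e o) l = _
    rw [hu2, e_apply]
    by_cases h : i = l
    · rw [if_pos h, if_pos h.symm]
    · rw [if_neg h, if_neg (fun h' => h h'.symm)]
  assoc i j k l := by
    change ∑ m, μ (e i) (e j) m * μ (e m) (e k) l = ∑ m, μ (e j) (e k) m * μ (e i) (e m) l
    have h1 : μ (μ (e i) (e j)) (e k) l = ∑ m, μ (e i) (e j) m * μ (e m) (e k) l := by
      rw [mu_expand_left μ (μ (e i) (e j)) (e k), Finset.sum_apply]
      rfl
    have h2 : μ (e i) (μ (e j) (e k)) l = ∑ m, μ (e j) (e k) m * μ (e i) (e m) l := by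
      rw [mu_expand_right μ (e i) (μ (e j) (e k)), Finset.sum_apply]
      rfl
    rw [← h1, ← h2, hass]

variable (J : Ideal C)

/-- associator of `muOf c` on the basis -/
theorem alX_muOf_basis (c : ι → ι → ι → C) (i j k l : ι) :
    alX (muOf c) (e i) (e j) (e k) l =
      (∑ m, c i j m * c m k l) - ∑ m, c j k m * c i m l := by
  rw [alX_apply, Pi.sub_apply, muOf_e_right, muOf_e_left]
  simp only [muOf_e_e]

theorem InJ_alX_of_basis (μ : (ι → C) →ₗ[C] (ι → C) →ₗ[C] (ι → C))
    (h : ∀ i j k, InJ J (alX μ (e i) (e j) (e k))) (x y z : ι → C) : InJ J (alX μ x y z) := by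
  have hx : alX μ x y z = ∑ i, x i • alX μ (e i) y z := by
    conv_lhs => rw [← sum_smul_e x]
    rw [alX_sum_smul]
  rw [hx]
  refine InJ.sum _ _ fun i _ => InJ.smul ?_ _
  rw [map_expand (alX μ (e i)) y]
  simp only [LinearMap.sum_apply, LinearMap.smul_apply]
  refine InJ.sum _ _ fun j _ => InJ.smul ?_ _
  rw [map_expand (alX μ (e i) (e j)) z]
  exact InJ.sum _ _ fun k _ => InJ.smul (h i j k) _

/-- **Lifting structure constants** along a square-zero ideal in the Azumaya case. -/
theorem exists_lift_sc (hJ : ∀ a ∈ J, ∀ b ∈ J, a * b = 0) (o : ι) (cb : ι → ι → ι → C ⧸ J)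
    (hb : IsSC o cb) (hdet : IsUnit (Dm cb).det) :
    ∃ c : ι → ι → ι → C, IsSC o c ∧ ∀ i j l, Ideal.Quotient.mk J (c i j l) = cb i j l := by
  classical
  -- the separability matrix over the quotient
  have hsc : sc (bas cb hb) = cb := by
    funext i j l
    exact repr_bas_mul cb hb i j l
  have hbij : Function.Bijective (AlgHom.mulLeftRight (C ⧸ J) (Alg cb hb)) := by
    apply bijective_of_isUnit_det (bas cb hb)
    rw [hsc]
    exact hdet
  obtain ⟨Eb, hE1, hE2⟩ := exists_sep (bas cb hb) (bas_o cb hb) hbij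
  rw [hsc] at hE1 hE2
  -- lifts
  have hsurj := Ideal.Quotient.mk_surjective (I := J)
  choose lift hlift using hsurj
  let c₀ : ι → ι → ι → C := fun i j l =>
    if i = o then (if j = l then 1 else 0) else
      if j = o then (if i = l then 1 else 0) else lift (cb i j l)
  have hc₀ : ∀ i j l, Ideal.Quotient.mk J (c₀ i j l) = cb i j l := by
    intro i j l
    simp only [c₀]
    by_cases hi : i = o
    · rw [if_pos hi, hi, hb.unitL]
      split_ifs <;> simp
    · rw [if_neg hi]
      by_cases hj : j = o
      · rw [if_pos hj, hj, hb.unitR]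
        split_ifs <;> simp
      · rw [if_neg hj, hlift]
  have hc₀L : ∀ j l, c₀ o j l = if j = l then 1 else 0 := by
    intro j l
    simp only [c₀, if_true]
  have hc₀R : ∀ i l, c₀ i o l = if i = l then 1 else 0 := by
    intro i l
    simp only [c₀, if_true]
    by_cases hi : i = o
    · rw [if_pos hi, hi]
    · rw [if_neg hi]
  let E : ι → ι → C := fun i j => lift (Eb i j)
  have hE : ∀ i j, Ideal.Quotient.mk J (E i j) = Eb i j := fun i j => hlift _
  let μ := muOf c₀
  have hu1 : ∀ y, μ (e o) y = y := by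
    intro y
    funext l
    change muOf c₀ (e o) y l = y l
    rw [muOf_e_left]
    simp only [hc₀L]
    simp
  have hu2 : ∀ x, μ x (e o) = x := by
    intro x
    funext l
    change muOf c₀ x (e o) l = x l
    rw [muOf_e_right]
    simp only [hc₀R]
    simp
  have hB : ∀ x y z, InJ J (alX μ x y z) := by
    apply InJ_alX_of_basis
    intro i j k l
    change alX (muOf c₀) (e i) (e j) (e k) l ∈ J
    rw [alX_muOf_basis, ← Ideal.Quotient.eq_zero_iff_mem]
    simp only [map_sub, map_sum, map_mul, hc₀]
    rw [hb.assoc, sub_self]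
  have hS2 : ∀ r s t, (∑ i, E i t * μ (e r) (e i) s) - ∑ j, E s j * μ (e j) (e r) t ∈ J := by
    intro r s t
    change (∑ i, E i t * muOf c₀ (e r) (e i) s) - ∑ j, E s j * muOf c₀ (e j) (e r) t ∈ J
    simp only [muOf_e_e]
    rw [← Ideal.Quotient.eq_zero_iff_mem]
    simp only [map_sub, map_sum, map_mul, hc₀, hE]
    rw [hE2, sub_self]
  have hS1 : InJ J (SS E (fun i j => μ (e i) (e j)) - e o) := by
    intro l
    change (SS E (fun i j => muOf c₀ (e i) (e j)) - (e o : ι → C)) l ∈ J
    rw [Pi.sub_apply, SS, Finset.sum_apply]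
    simp only [Finset.sum_apply, Pi.smul_apply, smul_eq_mul, muOf_e_e, e_apply]
    rw [← Ideal.Quotient.eq_zero_iff_mem]
    simp only [map_sub, map_sum, map_mul, hc₀, hE]
    rw [hE1]
    split_ifs <;> simp
  obtain ⟨μ', hass, hu1', hu2', hcong⟩ := exists_assoc hJ μ hB E hS2 o hS1 hu1 hu2
  refine ⟨fun i j l => μ' (e i) (e j) l, isSC_of_mu o μ' hass hu1' hu2', ?_⟩
  intro i j l
  rw [← hc₀ i j l, Ideal.Quotient.eq]
  have := hcong (e i) (e j) l
  rw [Pi.sub_apply] at this
  change μ' (e i) (e j) l - muOf c₀ (e i) (e j) l ∈ J at this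
  rwa [muOf_e_e] at this

end Groth.Agent.Lib.Helper52.SCBridge
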