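import Mathlib
import Groth.Agent.Lib.Helper52.SCAlg
import Groth.Agent.Lib.Helper52.SCAzu
import Groth.Agent.Lib.Helper52.SCBridge

/-!
# The moduli algebra of Azumaya structure constants

`B R ι o` is the `R`-algebra representing structure constants `c` (unit `e_o`) together with an
inverse `t` of the determinant of `Dm c`.  It is smooth over `R`.
-/

set_option autoImplicit false
set_option linter.unusedSectionVars false
set_option linter.unusedTactic false

namespace Groth.Agent.Lib.Helper52.SCModuli

open Groth.Agent.Lib.Helper52.SCAlg Groth.Agent.Lib.Helper52.SCAzu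
  Groth.Agent.Lib.Helper52.SCBridge MvPolynomial

universe u

section Maps

variable {S S' : Type*} [CommRing S] [CommRing S'] {ι : Type*} [Fintype ι] [DecidableEq ι]

theorem IsSC.map {o : ι} {c : ι → ι → ι → S} (h : IsSC o c) (f : S →+* S') :
    IsSC o (fun i j l => f (c i j l)) where
  unitL j l := by
    change f (c o j l) = _
    rw [h.unitL]
    split_ifs <;> simp
  unitR i l := by
    change f (c i o l) = _
    rw [h.unitR]
    split_ifs <;> simp
  assoc i j k l := by
    change ∑ m, f (c i j m) * f (c m k l) = ∑ m, f (c j k m) * f (c i m l)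
    have := congrArg f (h.assoc i j k l)
    simpa only [map_sum, map_mul] using this

theorem Dm_map (f : S →+* S') (c : ι → ι → ι → S) :
    f.mapMatrix (Dm c) = Dm (fun i j l => f (c i j l)) := by
  ext ⟨l, k⟩ ⟨i, j⟩
  rw [RingHom.mapMatrix_apply, Matrix.map_apply, Dm_apply, Dm_apply, map_sum]
  simp only [map_mul]

theorem det_Dm_map (f : S →+* S') (c : ι → ι → ι → S) :
    f (Dm c).det = (Dm (fun i j l => f (c i j l))).det := by
  rw [RingHom.map_det, Dm_map]

end Maps

variable (R : Type u) [CommRing R] (ι : Type u) [Fintype ι] [DecidableEq ι] (o : ι)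

/-- variables: the structure constants and the inverse of the determinant -/
abbrev Var : Type u := (ι × ι × ι) ⊕ PUnit.{u + 1}

/-- the polynomial ring -/
abbrev P : Type u := MvPolynomial (Var ι) R

/-- generic structure constants -/
noncomputable def cg (i j l : ι) : P R ι := X (Sum.inl (i, j, l))

/-- generic inverse determinant -/
noncomputable def tg : P R ι := X (Sum.inr PUnit.unit)

/-- index type of relations -/
abbrev Rel : Type u := (ι × ι) ⊕ (ι × ι) ⊕ (ι × ι × ι × ι) ⊕ PUnit.{u + 1}

/-- the relations -/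
noncomputable def rel : Rel ι → P R ι
  | Sum.inl (j, l) => cg R ι o j l - (if j = l then 1 else 0)
  | Sum.inr (Sum.inl (i, l)) => cg R ι i o l - (if i = l then 1 else 0)
  | Sum.inr (Sum.inr (Sum.inl (i, j, k, l))) =>
      (∑ m, cg R ι i j m * cg R ι m k l) - ∑ m, cg R ι j k m * cg R ι i m l
  | Sum.inr (Sum.inr (Sum.inr _)) => (Dm (cg R ι)).det * tg R ι - 1

/-- the ideal of relations -/
noncomputable def I : Ideal (P R ι) := Ideal.span (Set.range (rel R ι o))

/-- the moduli algebra -/
abbrev B : Type u := P R ι ⧸ I R ι o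

/-- universal structure constants -/
noncomputable def cB (i j l : ι) : B R ι o := Ideal.Quotient.mk _ (cg R ι i j l)

/-- universal inverse determinant -/
noncomputable def tB : B R ι o := Ideal.Quotient.mk _ (tg R ι)

theorem mk_rel (r : Rel ι) : Ideal.Quotient.mk (I R ι o) (rel R ι o r) = 0 :=
  Ideal.Quotient.eq_zero_iff_mem.mpr (Ideal.subset_span ⟨r, rfl⟩)

theorem isSC_cB : IsSC o (cB R ι o) where
  unitL j l := by
    have := mk_rel R ι o (Sum.inl (j, l))
    simp only [rel, map_sub] at this
    rw [sub_eq_zero] at this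
    rw [cB, this]
    split_ifs <;> simp
  unitR i l := by
    have := mk_rel R ι o (Sum.inr (Sum.inl (i, l)))
    simp only [rel, map_sub] at this
    rw [sub_eq_zero] at this
    rw [cB, this]
    split_ifs <;> simp
  assoc i j k l := by
    have := mk_rel R ι o (Sum.inr (Sum.inr (Sum.inl (i, j, k, l))))
    simp only [rel, map_sub, map_sum, map_mul] at this
    rw [sub_eq_zero] at this
    exact this

theorem det_cB : (Dm (cB R ι o)).det * tB R ι o = 1 := by
  have := mk_rel R ι o (Sum.inr (Sum.inr (Sum.inr PUnit.unit)))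
  simp only [rel, map_sub, map_mul, map_one] at this
  rw [sub_eq_zero, det_Dm_map] at this
  exact this

instance : Algebra.FinitePresentation R (B R ι o) := by
  have : Algebra.FinitePresentation R (P R ι) := Algebra.FinitePresentation.mvPolynomial R R _
  exact Algebra.FinitePresentation.quotient (Submodule.fg_span (Set.finite_range _))

section Points

variable {R ι o}
variable {S : Type*} [CommRing S] [Algebra R S]

/-- evaluation of variables -/
def ev (c : ι → ι → ι → S) (t : S) : Var ι → S :=
  Sum.elim (fun p => c p.1 p.2.1 p.2.2) (fun _ => t)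

theorem aeval_cg (c : ι → ι → ι → S) (t : S) (i j l : ι) :
    aeval (R := R) (ev c t) (cg R ι i j l) = c i j l := by
  rw [cg, aeval_X]
  rfl

theorem aeval_tg (c : ι → ι → ι → S) (t : S) :
    aeval (R := R) (ev c t) (tg R ι) = t := by
  rw [tg, aeval_X]
  rfl

/-- the point of `B` given by structure constants and an inverse determinant -/
noncomputable def ofPt (c : ι → ι → ι → S) (t : S) (hc : IsSC o c) (ht : (Dm c).det * t = 1) :
    B R ι o →ₐ[R] S :=
  Ideal.Quotient.liftₐ (I R ι o) (aeval (ev c t)) (by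
    intro a ha
    have hle : I R ι o ≤ RingHom.ker (aeval (R := R) (ev c t)).toRingHom := by
      rw [I, Ideal.span_le]
      rintro _ ⟨r, rfl⟩
      change (aeval (R := R) (ev c t)) (rel R ι o r) = 0
      rcases r with ⟨j, l⟩ | ⟨i, l⟩ | ⟨i, j, k, l⟩ | _
      · simp only [rel, map_sub, aeval_cg]
        rw [hc.unitL]
        split_ifs <;> simp
      · simp only [rel, map_sub, aeval_cg]
        rw [hc.unitR]
        split_ifs <;> simp
      · simp only [rel, map_sub, map_sum, map_mul, aeval_cg]
        rw [hc.assoc, sub_self]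
      · simp only [rel, map_sub, map_mul, map_one, aeval_tg]
        have h1 : (aeval (R := R) (ev c t)) (Dm (cg R ι)).det = (Dm c).det := by
          have := det_Dm_map (aeval (R := R) (ev c t)).toRingHom (cg R ι)
          simp only [AlgHom.toRingHom_eq_coe, RingHom.coe_coe, aeval_cg] at this
          exact this
        rw [h1, ht, sub_self]
    exact hle ha)

theorem ofPt_cB (c : ι → ι → ι → S) (t : S) (hc : IsSC o c) (ht : (Dm c).det * t = 1)
    (i j l : ι) : ofPt (R := R) c t hc ht (cB R ι o i j l) = c i j l := by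
  rw [ofPt, cB, Ideal.Quotient.liftₐ_apply, Ideal.Quotient.lift_mk]
  exact aeval_cg c t i j l

theorem ofPt_tB (c : ι → ι → ι → S) (t : S) (hc : IsSC o c) (ht : (Dm c).det * t = 1) :
    ofPt (R := R) c t hc ht (tB R ι o) = t := by
  rw [ofPt, tB, Ideal.Quotient.liftₐ_apply, Ideal.Quotient.lift_mk]
  exact aeval_tg c t

theorem hom_ext {φ ψ : B R ι o →ₐ[R] S} (hc : ∀ i j l, φ (cB R ι o i j l) = ψ (cB R ι o i j l))
    (ht : φ (tB R ι o) = ψ (tB R ι o)) : φ = ψ := by
  apply Ideal.Quotient.algHom_ext
  apply MvPolynomial.algHom_ext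
  rintro (⟨i, j, l⟩ | _)
  · exact hc i j l
  · exact ht

end Points

instance : Algebra.FormallySmooth R (B R ι o) := by
  refine Algebra.FormallySmooth.of_comp_surjective fun S _ _ J hJ g => ?_
  have hJ' : ∀ a ∈ J, ∀ b ∈ J, a * b = 0 := by
    intro a ha b hb
    have h1 : a * b ∈ J ^ 2 := by
      rw [pow_two]
      exact Ideal.mul_mem_mul ha hb
    rw [hJ] at h1
    exact h1
  have hcb : IsSC o (fun i j l => g (cB R ι o i j l)) := IsSC.map (isSC_cB R ι o) g.toRingHom
  have hdet : (Dm (fun i j l => g (cB R ι o i j l))).det * g (tB R ι o) = 1 := by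
    have h1 := congrArg g (det_cB R ι o)
    rw [map_mul, map_one] at h1
    have h2 := det_Dm_map g.toRingHom (cB R ι o)
    simp only [AlgHom.toRingHom_eq_coe, RingHom.coe_coe] at h2
    rw [← h2]
    exact h1
  obtain ⟨c, hc, hcmk⟩ := exists_lift_sc J hJ' o _ hcb (IsUnit.of_mul_eq_one _ hdet)
  have hmkdet : Ideal.Quotient.mk J (Dm c).det = (Dm (fun i j l => g (cB R ι o i j l))).det := by
    rw [det_Dm_map]
    simp only [hcmk]
  have hu : IsUnit (Dm c).det := by
    rw [← IsNilpotent.isUnit_quotient_mk_iff (I := J) ⟨2, hJ⟩, hmkdet]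
    exact IsUnit.of_mul_eq_one _ hdet
  obtain ⟨u, hu⟩ := hu
  have hut : (Dm c).det * ((u⁻¹ : Sˣ) : S) = 1 := by
    rw [← hu]
    exact u.mul_inv
  refine ⟨ofPt c ((u⁻¹ : Sˣ) : S) hc hut, ?_⟩
  apply hom_ext
  · intro i j l
    rw [AlgHom.comp_apply, ofPt_cB]
    exact hcmk i j l
  · rw [AlgHom.comp_apply, ofPt_tB]
    change Ideal.Quotient.mk J ((u⁻¹ : Sˣ) : S) = g (tB R ι o)
    have h1 : (Dm (fun i j l => g (cB R ι o i j l))).det * Ideal.Quotient.mk J ((u⁻¹ : Sˣ) : S)
        = 1 := by
      rw [← hmkdet, ← map_mul, hut, map_one]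
    -- uniqueness of inverses
    calc Ideal.Quotient.mk J ((u⁻¹ : Sˣ) : S)
        = Ideal.Quotient.mk J ((u⁻¹ : Sˣ) : S) *
            ((Dm (fun i j l => g (cB R ι o i j l))).det * g (tB R ι o)) := by
          rw [hdet, mul_one]
      _ = ((Dm (fun i j l => g (cB R ι o i j l))).det * Ideal.Quotient.mk J ((u⁻¹ : Sˣ) : S)) *
            g (tB R ι o) := by ring
      _ = g (tB R ι o) := by rw [h1, one_mul]

instance : Algebra.Smooth R (B R ι o) := {}

end Groth.Agent.Lib.Helper52.SCModuli
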