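import Mathlib
import Groth.Prelude.Def_GSzCSA
import Groth.Agent.Lib.Helper86.H90Alg
import Groth.Agent.Lib.Helper22.RedNormA
import Groth.Agent.Lib.Helper52.RedNormForm
import Groth.Agent.Lib.Helper52.CSATensor

/-!
# Reduced norms and the Galois action on `K ⊗[k] A`

Compatibilities of the reduced norm (in the sense of `CSAGal.IsRedNorm`) with a chosen splitting,
with base change and with the Galois action, and the description of Galois-fixed units.
-/

set_option autoImplicit false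
set_option linter.unusedSectionVars false
set_option linter.style.haveILetI false

open scoped TensorProduct
attribute [local instance] CSAGal.tensorAction GpH1.unitsAction

namespace Groth.Agent.Lib.Helper52.SL1H1

universe u v w

variable {k : Type u} [Field k] {K : Type v} [Field K] [Algebra k K]
  {A : Type w} [Ring A] [Algebra k A] [Algebra.IsCentral k A] [IsSimpleRing A]
  [FiniteDimensional k A] {n : ℕ} (ψ : K ⊗[k] A ≃ₐ[K] Matrix (Fin n) (Fin n) K)

/-- the reduced norm of `K ⊗ A` is the determinant through any splitting -/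
theorem redNorm_eq_det {NK : (K ⊗[k] A) →* K} (hNK : CSAGal.IsRedNorm K (K ⊗[k] A) NK)
    (z : K ⊗[k] A) : NK z = (ψ z).det := by
  obtain ⟨K', _, _, hfin, m, φ, hφ⟩ := hNK
  haveI : IsSimpleRing (K ⊗[k] A) :=
    Groth.Agent.Lib.Helper52.CSATensor.isSimpleRing_tensor_csa k K A
  let φ₂ : K ⊗[K] (K ⊗[k] A) ≃ₐ[K] Matrix (Fin n) (Fin n) K :=
    (Algebra.TensorProduct.lid K (K ⊗[k] A)).trans ψ
  have h := Groth.Agent.Lib.Helper22.RedNorm.det_map_eq (k := K) (A := K ⊗[k] A)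
    (AlgHom.id K K') (Algebra.ofId K K') φ φ₂ z
  rw [← hφ] at h
  apply (algebraMap K K').injective
  rw [AlgHom.id_apply] at h
  rw [h]
  simp [φ₂, Algebra.ofId_apply]

variable [FiniteDimensional k K]

/-- the determinant through a splitting computes the reduced norm of `A` -/
theorem det_one_tmul {N : A →* k} (hN : CSAGal.IsRedNorm k A N) (x : A) :
    (ψ ((1 : K) ⊗ₜ[k] x)).det = algebraMap k K (N x) := by
  obtain ⟨K', _, _, hfin, m, φ, hφ⟩ := hN
  haveI : Module.Finite k K' := hfin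
  haveI : Algebra.IsAlgebraic k K' := Algebra.IsAlgebraic.of_finite k K'
  haveI : Algebra.IsAlgebraic k K := Algebra.IsAlgebraic.of_finite k K
  let i₁ : K' →ₐ[k] AlgebraicClosure k := IsAlgClosed.lift
  let i₂ : K →ₐ[k] AlgebraicClosure k := IsAlgClosed.lift
  have h := Groth.Agent.Lib.Helper22.RedNorm.det_map_eq i₁ i₂ φ ψ x
  rw [← hφ, AlgHom.commutes] at h
  apply (i₂ : K →+* AlgebraicClosure k).injective
  change i₂ _ = i₂ _
  rw [← h, AlgHom.commutes]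

/-- Galois equivariance of the determinant through a splitting -/
theorem det_smul (σ : K ≃ₐ[k] K) (z : K ⊗[k] A) : (ψ (σ • z)).det = σ (ψ z).det := by
  obtain ⟨u, hu⟩ := Groth.Agent.Lib.Helper52.RedNormForm.exists_conj ψ σ
  have key : ∀ z : K ⊗[k] A, (ψ z).map (σ : K →+* K) =
      (u : Matrix (Fin n) (Fin n) K) * ψ (σ • z) *
        ((u⁻¹ : (Matrix (Fin n) (Fin n) K)ˣ) : Matrix (Fin n) (Fin n) K) := by
    intro z
    induction z using TensorProduct.induction_on with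
    | zero =>
      rw [smul_zero, map_zero, mul_zero, zero_mul]
      ext i j
      simp
    | tmul c a =>
      have h1 : c ⊗ₜ[k] a = c • ((1 : K) ⊗ₜ[k] a) := by
        rw [TensorProduct.smul_tmul', smul_eq_mul, mul_one]
      have h2 : σ • (c ⊗ₜ[k] a) = σ c • ((1 : K) ⊗ₜ[k] a) := by
        rw [TensorProduct.smul_tmul' (σ c), smul_eq_mul, mul_one]
        rfl
      rw [h2, h1, map_smul, map_smul, mul_smul_comm, smul_mul_assoc, ← hu a]
      ext i j
      simp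
    | add x y hx hy =>
      rw [smul_add, map_add, map_add, mul_add, add_mul, ← hx, ← hy]
      ext i j
      simp
  have h := congrArg Matrix.det (key z)
  rw [Matrix.det_units_conj] at h
  rw [← h]
  exact (RingHom.map_det (σ : K →+* K) (ψ z)).symm

variable [IsGalois k K]

omit [Algebra.IsCentral k A] [IsSimpleRing A] [FiniteDimensional k A] in
/-- Galois-fixed elements of `K ⊗ A` come from `A`. -/
theorem exists_eq_one_tmul (z : K ⊗[k] A) (hz : ∀ σ : K ≃ₐ[k] K, σ • z = z) :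
    ∃ x : A, z = (1 : K) ⊗ₜ[k] x := by
  obtain ⟨l, hl⟩ := Groth.Agent.Lib.Helper86.GaloisDescent.exists_retraction k K
  exact ⟨_, Groth.Agent.Lib.Helper86.GaloisDescent.eq_one_tmul_of_fixed l hl z hz⟩

omit [Algebra.IsCentral k A] [IsSimpleRing A] [FiniteDimensional k A] in
/-- Galois-fixed units of `K ⊗ A` come from units of `A`. -/
theorem exists_unit_eq_one_tmul (y : (K ⊗[k] A)ˣ) (hy : ∀ σ : K ≃ₐ[k] K, σ • y = y) :
    ∃ x : Aˣ, (y : K ⊗[k] A) = (1 : K) ⊗ₜ[k] (x : A) := by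
  have h1 : ∀ σ : K ≃ₐ[k] K, σ • (y : K ⊗[k] A) = y := fun σ =>
    congrArg (fun u : (K ⊗[k] A)ˣ => (u : K ⊗[k] A)) (hy σ)
  have h2 : ∀ σ : K ≃ₐ[k] K, σ • ((y⁻¹ : (K ⊗[k] A)ˣ) : K ⊗[k] A) = (y⁻¹ : (K ⊗[k] A)ˣ) :=
    fun σ => congrArg (fun u : (K ⊗[k] A)ˣ => ((u⁻¹ : (K ⊗[k] A)ˣ) : K ⊗[k] A)) (hy σ)
  obtain ⟨x, hx⟩ := exists_eq_one_tmul (y : K ⊗[k] A) h1
  obtain ⟨x', hx'⟩ := exists_eq_one_tmul ((y⁻¹ : (K ⊗[k] A)ˣ) : K ⊗[k] A) h2
  have hinj := Groth.Agent.Lib.Helper86.GaloisDescent.one_tmul_injective (k := k) (K := K) (W := A)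
  have e1 : x * x' = 1 := by
    apply hinj
    change (1 : K) ⊗ₜ[k] (x * x') = (1 : K) ⊗ₜ[k] (1 : A)
    rw [← Algebra.TensorProduct.one_def, ← y.mul_inv, hx, hx',
      Algebra.TensorProduct.tmul_mul_tmul, one_mul]
  have e2 : x' * x = 1 := by
    apply hinj
    change (1 : K) ⊗ₜ[k] (x' * x) = (1 : K) ⊗ₜ[k] (1 : A)
    rw [← Algebra.TensorProduct.one_def, ← y.inv_mul, hx, hx',
      Algebra.TensorProduct.tmul_mul_tmul, one_mul]
  exact ⟨⟨x, x', e1, e2⟩, hx⟩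

section Main

variable {N : A →* k} (hN : CSAGal.IsRedNorm k A N)
  {NK : (K ⊗[k] A) →* K} (hNK : CSAGal.IsRedNorm K (K ⊗[k] A) NK)

include ψ hNK in
theorem NK_smul (σ : K ≃ₐ[k] K) (z : K ⊗[k] A) : NK (σ • z) = σ (NK z) := by
  rw [redNorm_eq_det ψ hNK, det_smul, ← redNorm_eq_det ψ hNK]

include ψ hNK hN in
theorem NK_one_tmul (x : A) : NK ((1 : K) ⊗ₜ[k] x) = algebraMap k K (N x) := by
  rw [redNorm_eq_det ψ hNK, det_one_tmul ψ hN]

omit [Algebra.IsCentral k A] [IsSimpleRing A] [FiniteDimensional k A] [FiniteDimensional k K]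
  [IsGalois k K] in
theorem NK_inv_mul (b : (K ⊗[k] A)ˣ) :
    NK ((b⁻¹ : (K ⊗[k] A)ˣ) : K ⊗[k] A) * NK (b : K ⊗[k] A) = 1 := by
  rw [← map_mul, Units.inv_mul, map_one]

include ψ hNK in
theorem part1 (a : GpH1.OneCocycle (K ≃ₐ[k] K) (K ⊗[k] A)ˣ)
    (ha : ∀ σ, NK (a σ : K ⊗[k] A) = 1) :
    ∃ (c : kˣ) (b : (K ⊗[k] A)ˣ), NK (b : K ⊗[k] A) = algebraMap k K (c : k) ∧
      ∀ σ : K ≃ₐ[k] K, a σ = b⁻¹ * σ • b := by
  obtain ⟨b, hb⟩ := Groth.Agent.Lib.Helper86.H90Alg.exists_unit_of_cocycle a.1 a.2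
  have hfix : ∀ σ : K ≃ₐ[k] K, σ (NK (b : K ⊗[k] A)) = NK (b : K ⊗[k] A) := by
    intro σ
    have h1 := ha σ
    have h0 : (a σ : (K ⊗[k] A)ˣ) = b⁻¹ * σ • b := hb σ
    rw [h0, Units.val_mul, map_mul] at h1
    have h2 : ((σ • b : (K ⊗[k] A)ˣ) : K ⊗[k] A) = σ • (b : K ⊗[k] A) := rfl
    rw [h2, NK_smul ψ hNK] at h1
    have h3 := NK_inv_mul (NK := NK) b
    -- both are inverses of `NK b⁻¹`
    have hne : NK ((b⁻¹ : (K ⊗[k] A)ˣ) : K ⊗[k] A) ≠ 0 := by
      intro h0'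
      rw [h0', zero_mul] at h3
      exact zero_ne_one h3
    exact mul_left_cancel₀ hne (h1.trans h3.symm)
  obtain ⟨c₀, hc₀⟩ := (IsGalois.mem_range_algebraMap_iff_fixed (F := k) (E := K)
    (NK (b : K ⊗[k] A))).mpr hfix
  have hc₀ne : c₀ ≠ 0 := by
    rintro rfl
    rw [map_zero] at hc₀
    have h3 := NK_inv_mul (NK := NK) b
    rw [← hc₀, mul_zero] at h3
    exact zero_ne_one h3
  exact ⟨Units.mk0 c₀ hc₀ne, b, hc₀.symm, hb⟩

include ψ hNK hN in
theorem part2 (c c' : kˣ) (b b' : (K ⊗[k] A)ˣ)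
    (hb : NK (b : K ⊗[k] A) = algebraMap k K (c : k))
    (hb' : NK (b' : K ⊗[k] A) = algebraMap k K (c' : k)) :
    (∃ s : (K ⊗[k] A)ˣ, NK (s : K ⊗[k] A) = 1 ∧
        ∀ σ : K ≃ₐ[k] K, b'⁻¹ * σ • b' = s⁻¹ * (b⁻¹ * σ • b) * σ • s) ↔
      ∃ x : Aˣ, (c' : k) = N (x : A) * (c : k) := by
  constructor
  · rintro ⟨s, hs1, hs⟩
    -- the fixed unit
    have hy : ∀ σ : K ≃ₐ[k] K, σ • (b' * (b * s)⁻¹) = b' * (b * s)⁻¹ := by
      intro σ
      have h1 : σ • b' = b' * (s⁻¹ * (b⁻¹ * σ • b) * σ • s) := by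
        rw [← hs σ, mul_inv_cancel_left]
      rw [smul_mul', smul_inv', smul_mul', h1]
      group
    obtain ⟨x, hx⟩ := exists_unit_eq_one_tmul (b' * (b * s)⁻¹) hy
    refine ⟨x, ?_⟩
    have h2 : (b' : K ⊗[k] A) = ((b' * (b * s)⁻¹ : (K ⊗[k] A)ˣ) : K ⊗[k] A) * (b * s) := by
      rw [← Units.val_mul, ← Units.val_mul, inv_mul_cancel_right]
    apply (algebraMap k K).injective
    rw [← hb', h2, map_mul, map_mul, hx, NK_one_tmul ψ hN hNK, hs1, mul_one, hb, map_mul]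
  · rintro ⟨x, hx⟩
    let y : (K ⊗[k] A)ˣ := Units.map
      ((Algebra.TensorProduct.includeRight : A →ₐ[k] K ⊗[k] A) : A →* K ⊗[k] A) x
    have hyv : (y : K ⊗[k] A) = (1 : K) ⊗ₜ[k] (x : A) := rfl
    have hyfix : ∀ σ : K ≃ₐ[k] K, σ • y = y := by
      intro σ
      apply Units.ext
      change σ • (y : K ⊗[k] A) = y
      rw [hyv]
      exact Groth.Agent.Lib.Helper86.H90Alg.gal_smul_one_tmul σ (x : A)
    obtain ⟨s, hs⟩ : ∃ s : (K ⊗[k] A)ˣ, b' = y * b * s := ⟨b⁻¹ * y⁻¹ * b', by group⟩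
    subst hs
    refine ⟨s, ?_, ?_⟩
    · rw [Units.val_mul, Units.val_mul, map_mul, map_mul, hyv, NK_one_tmul ψ hN hNK, hb, hx,
        map_mul] at hb'
      have hne : algebraMap k K (N (x : A)) * algebraMap k K (c : k) ≠ 0 := by
        rw [← map_mul, ← hx]
        exact (map_ne_zero (algebraMap k K)).mpr c'.ne_zero
      have : algebraMap k K (N (x : A)) * algebraMap k K (c : k) * NK (s : K ⊗[k] A) =
          algebraMap k K (N (x : A)) * algebraMap k K (c : k) * 1 := by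
        rw [mul_one]; exact hb'
      exact mul_left_cancel₀ hne this
    · intro σ
      rw [smul_mul', smul_mul', hyfix σ]
      group

end Main

end Groth.Agent.Lib.Helper52.SL1H1
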