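import Mathlib
import Groth.Prelude.Def_W4c4lgringredgrpLG

/-!
# Semilocal rings are LG-rings
-/

set_option autoImplicit false
set_option linter.style.haveILetI false

namespace Groth.Agent.Lib.Helper52.SemilocalLG

universe u

theorem isLGRing_of_finite_maximalSpectrum (R : Type u) [CommRing R]
    [Finite (MaximalSpectrum R)] : LGRing.IsLGRing R := by
  classical
  intro n f h
  have hs : ∀ m : MaximalSpectrum R, ∃ s : Fin n → R,
      MvPolynomial.aeval s f ∉ m.asIdeal := by
    intro m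
    haveI := m.isMaximal
    obtain ⟨s, hs⟩ := h m.asIdeal
    choose t ht using fun i => Ideal.Quotient.mk_surjective (s i)
    refine ⟨t, fun hmem => ?_⟩
    have h1 := MvPolynomial.comp_aeval_apply (f := t) (Ideal.Quotient.mkₐ R m.asIdeal) f
    have h2 : (fun i => Ideal.Quotient.mkₐ R m.asIdeal (t i)) = s := funext ht
    rw [h2] at h1
    rw [← h1] at hs
    have h0 : Ideal.Quotient.mkₐ R m.asIdeal (MvPolynomial.aeval t f) = 0 :=
      Ideal.Quotient.eq_zero_iff_mem.mpr hmem
    rw [h0] at hs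
    haveI : Nontrivial (R ⧸ m.asIdeal) := Ideal.Quotient.nontrivial_iff.mpr m.isMaximal.ne_top
    exact not_isUnit_zero hs
  choose s hs using hs
  have hcop : Pairwise (Function.onFun IsCoprime fun m : MaximalSpectrum R => m.asIdeal) := by
    intro m m' hne
    exact Ideal.isCoprime_of_isMaximal (MaximalSpectrum.ext_iff.ne.mp hne)
  choose t ht using fun i : Fin n =>
    Ideal.exists_forall_sub_mem_ideal hcop (fun m => s m i)
  refine ⟨t, ?_⟩
  by_contra hu
  obtain ⟨I, hI, hmem⟩ := exists_max_ideal_of_mem_nonunits (show MvPolynomial.aeval t f ∈ nonunits R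
    from hu)
  apply hs ⟨I, hI⟩
  show MvPolynomial.aeval (s ⟨I, hI⟩) f ∈ I
  rw [← Ideal.Quotient.eq_zero_iff_mem] at hmem ⊢
  have h1 := MvPolynomial.comp_aeval_apply (f := t) (Ideal.Quotient.mkₐ R I) f
  have h2 := MvPolynomial.comp_aeval_apply (f := s ⟨I, hI⟩) (Ideal.Quotient.mkₐ R I) f
  have h3 : (fun i => Ideal.Quotient.mkₐ R I (t i)) =
      (fun i => Ideal.Quotient.mkₐ R I (s ⟨I, hI⟩ i)) := by
    funext i
    exact Ideal.Quotient.eq.mpr (ht i ⟨I, hI⟩)
  rw [h3] at h1
  have h4 : Ideal.Quotient.mkₐ R I (MvPolynomial.aeval (s ⟨I, hI⟩) f) =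
      Ideal.Quotient.mkₐ R I (MvPolynomial.aeval t f) := h2.trans h1.symm
  exact h4.trans hmem

end Groth.Agent.Lib.Helper52.SemilocalLG
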