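import Mathlib
import Groth.Agent.Lib.Helper52.SkewStd

/-!
# Skew-hermitian unit matrices over a local ring whose involution is trivial on the residue field

Block diagonalisation into `2 × 2` blocks `[[α, 1], [-1, γ]]` with `α, γ` in the maximal ideal.
-/

set_option autoImplicit false
set_option linter.style.haveILetI false
set_option linter.unusedSectionVars false
set_option linter.unusedVariables false
set_option linter.unusedSimpArgs false

namespace Groth.Agent.Lib.Helper52.SkewBlocks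

open Matrix Groth.Agent.Lib.Helper86.Herm Groth.Agent.Lib.Helper52.SkewStd

variable {L : Type*} [CommRing L]

/-- the block conditions -/
def BlkCond (J : Ideal L) {n : ℕ} (W : Matrix (Fin n) (Fin n) L) : Prop :=
  ∀ i j : Fin n,
    (i.val / 2 ≠ j.val / 2 → W i j = 0) ∧
    (i.val / 2 = j.val / 2 → (Even i.val ↔ Even j.val) → W i j ∈ J) ∧
    (i.val / 2 = j.val / 2 → Even i.val → ¬ Even j.val → W i j - 1 ∈ J) ∧
    (i.val / 2 = j.val / 2 → ¬ Even i.val → Even j.val → W i j + 1 ∈ J)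

lemma e2_inl_val (n : ℕ) (a : Fin 2) : (e2 n (Sum.inl a)).val = a.val := by
  simp [e2]

lemma e2_inr_val (n : ℕ) (k : Fin n) : (e2 n (Sum.inr k)).val = k.val + 2 := by
  simp [e2]

lemma blkCond_blocks (J : Ideal L) {n : ℕ} (B : Matrix (Fin 2) (Fin 2) L)
    (W' : Matrix (Fin n) (Fin n) L) (h00 : B 0 0 ∈ J) (h11 : B 1 1 ∈ J) (h01 : B 0 1 = 1)
    (h10 : B 1 0 = -1) (hW' : BlkCond J W') :
    BlkCond J (Matrix.reindex (e2 n) (e2 n) (Matrix.fromBlocks B 0 0 W')) := by
  intro i j
  obtain ⟨i', rfl⟩ := (e2 n).surjective i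
  obtain ⟨j', rfl⟩ := (e2 n).surjective j
  simp only [Matrix.reindex_apply, Matrix.submatrix_apply, Equiv.symm_apply_apply]
  rcases i' with a | k <;> rcases j' with b | k'
  · simp only [Matrix.fromBlocks_apply₁₁, e2_inl_val]
    fin_cases a <;> fin_cases b <;> simp [h00, h11, h01, h10]
  · simp only [Matrix.fromBlocks_apply₁₂, e2_inl_val, e2_inr_val]
    refine ⟨fun _ => rfl, fun h => ?_, fun h => ?_, fun h => ?_⟩ <;>
    · exfalso
      have := a.2
      omega
  · simp only [Matrix.fromBlocks_apply₂₁, e2_inl_val, e2_inr_val]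
    refine ⟨fun _ => rfl, fun h => ?_, fun h => ?_, fun h => ?_⟩ <;>
    · exfalso
      have := b.2
      omega
  · simp only [Matrix.fromBlocks_apply₂₂, e2_inr_val]
    obtain ⟨c1, c2, c3, c4⟩ := hW' k k'
    have e1 : (k.val + 2) / 2 = k.val / 2 + 1 := by omega
    have e2' : (k'.val + 2) / 2 = k'.val / 2 + 1 := by omega
    have p1 : Even (k.val + 2) ↔ Even k.val := by
      rw [Nat.even_add]; simp
    have p2 : Even (k'.val + 2) ↔ Even k'.val := by
      rw [Nat.even_add]; simp
    rw [e1, e2', p1, p2]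
    refine ⟨fun h => c1 (by omega), fun h => c2 (by omega), fun h => c3 (by omega),
      fun h => c4 (by omega)⟩

section Main

variable [IsLocalRing L] (φ : L →+* L) (hφ : ∀ a, φ (φ a) = a) (h : L) (hh : h * 2 = 1)
  (hm : ∀ a, φ a - a ∈ IsLocalRing.maximalIdeal L)

include hh hm in
lemma mem_maximalIdeal_of_skew {a : L} (ha : φ a = -a) : a ∈ IsLocalRing.maximalIdeal L := by
  have h1 := hm a
  rw [ha] at h1
  have : a = (-a - a) * (-h) := by linear_combination (-a) * hh
  rw [this]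
  exact Ideal.mul_mem_right _ _ h1

include hφ hh hm in
/-- block diagonalisation of skew-hermitian unit matrices -/
theorem skew_blocks :
    ∀ (n : ℕ) (V : Matrix (Fin n) (Fin n) L), IsUnit V → Herm φ (-1) V →
      Even n ∧ ∃ W : Matrix (Fin n) (Fin n) L, CongTo φ V W ∧
        BlkCond (IsLocalRing.maximalIdeal L) W := by
  intro n
  induction n using Nat.twoStepInduction with
  | zero =>
    intro V _ _
    exact ⟨Even.zero, V, CongTo.refl φ V, fun i => i.elim0⟩
  | one =>
    intro V hV hVh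
    exfalso
    have h1 : IsUnit (V 0 0) := by
      have := (Matrix.isUnit_iff_isUnit_det _).mp hV
      rwa [Matrix.det_fin_one] at this
    have h2 : φ (V 0 0) = -V 0 0 := by
      have := herm_apply φ (-1) V hVh 0 0
      linear_combination this
    exact (IsLocalRing.mem_maximalIdeal _).mp (mem_maximalIdeal_of_skew φ h hh hm h2) h1
  | more n ih _ =>
    intro V hV hVh
    have hdiag : ∀ i, V i i ∈ IsLocalRing.maximalIdeal L := by
      intro i
      have h2 : φ (V i i) = -V i i := by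
        have := herm_apply φ (-1) V hVh i i
        linear_combination this
      exact mem_maximalIdeal_of_skew φ h hh hm h2
    obtain ⟨j, hj⟩ := exists_row_notMem (IsLocalRing.maximalIdeal L) Ideal.IsPrime.ne_top' V hV 0
    have hju : IsUnit (V 0 j) := by
      by_contra hcon
      exact hj ((IsLocalRing.mem_maximalIdeal _).mpr hcon)
    have hj0 : j ≠ 0 := by
      rintro rfl
      exact hj (hdiag 0)
    let σ : Fin (n + 2) ≃ Fin (n + 2) := Equiv.swap 1 j
    have hσ0 : σ 0 = 0 := Equiv.swap_apply_of_ne_of_ne (by simp) (Ne.symm hj0)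
    have hσ1 : σ 1 = j := Equiv.swap_apply_left 1 j
    have c1 : CongTo φ V (V.submatrix σ σ) := CongTo.submatrix_perm σ V
    have hV₁ := c1.isUnit hV
    have hV₁h := c1.herm hφ hVh
    obtain ⟨V₂, hV₂⟩ : ∃ V₂, V₂ = Matrix.reindex (e2 n).symm (e2 n).symm (V.submatrix σ σ) :=
      ⟨_, rfl⟩
    have hV₂u : IsUnit V₂ := by rw [hV₂]; exact isUnit_reindex _ _ hV₁
    have hV₂h : Herm φ (-1) V₂ := by rw [hV₂]; exact herm_reindex φ (-1) _ _ hV₁h
    have hblk := Matrix.fromBlocks_toBlocks V₂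
    obtain ⟨B, hB⟩ : ∃ B, B = V₂.toBlocks₁₁ := ⟨_, rfl⟩
    obtain ⟨C, hC⟩ : ∃ C, C = V₂.toBlocks₁₂ := ⟨_, rfl⟩
    obtain ⟨C', hC'⟩ : ∃ C', C' = V₂.toBlocks₂₁ := ⟨_, rfl⟩
    obtain ⟨D, hD⟩ : ∃ D, D = V₂.toBlocks₂₂ := ⟨_, rfl⟩
    rw [← hB, ← hC, ← hC', ← hD] at hblk
    have hBij : ∀ a b : Fin 2, B a b = V (σ (e2 n (Sum.inl a))) (σ (e2 n (Sum.inl b))) := by
      intro a b
      rw [hB, hV₂]
      simp only [Matrix.toBlocks₁₁, Matrix.of_apply, Matrix.reindex_apply, Equiv.symm_symm,
        Matrix.submatrix_apply]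
    have hB01 : B 0 1 = V 0 j := by
      rw [hBij, e2_inl_zero, e2_inl_one, hσ0, hσ1]
    have hB00 : B 0 0 = V 0 0 := by
      rw [hBij, e2_inl_zero, hσ0]
    have hB11 : B 1 1 = V j j := by
      rw [hBij, e2_inl_one, hσ1]
    have hBh : Herm φ (-1) B := by
      rw [← hblk] at hV₂h
      exact (herm_blocks φ (-1) B C C' D hV₂h).1
    obtain ⟨α, hα⟩ : ∃ α, α = B 0 0 := ⟨_, rfl⟩
    obtain ⟨β, hβ⟩ : ∃ β, β = B 0 1 := ⟨_, rfl⟩
    obtain ⟨γ, hγ⟩ : ∃ γ, γ = B 1 1 := ⟨_, rfl⟩
    have h10 : B 1 0 = -φ β := by rw [herm_apply φ (-1) B hBh 1 0, hβ]; ring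
    have hγ' : φ γ = -γ := by
      have := herm_apply φ (-1) B hBh 1 1
      rw [← hγ] at this
      linear_combination this
    have hBeq : B = !![α, β; -φ β, γ] := by
      rw [hα, hγ, ← h10, hβ]
      exact Matrix.eta_fin_two B
    have hβu : IsUnit β := by rw [hβ, hB01]; exact hju
    have hαm : α ∈ IsLocalRing.maximalIdeal L := by rw [hα, hB00]; exact hdiag 0
    have hBdet : IsUnit B.det := by
      rw [hBeq, Matrix.det_fin_two_of]
      have hu : IsUnit (β * φ β) := hβu.mul (hβu.map φ)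
      have e : α * γ - β * -φ β = β * φ β + α * γ := by ring
      rw [e]
      by_contra hcon
      have h1 : β * φ β + α * γ ∈ IsLocalRing.maximalIdeal L :=
        (IsLocalRing.mem_maximalIdeal _).mpr hcon
      have h2 : β * φ β ∈ IsLocalRing.maximalIdeal L := by
        have := Ideal.sub_mem _ h1 (Ideal.mul_mem_right γ _ hαm)
        simpa using this
      exact (IsLocalRing.mem_maximalIdeal _).mp h2 hu
    obtain ⟨Bi, hBi⟩ := ((Matrix.isUnit_iff_isUnit_det _).mpr hBdet).exists_right_inv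
    have c3 : CongTo φ V₂ (Matrix.fromBlocks B 0 0 (D - C' * Bi * C)) := by
      rw [← hblk] at hV₂h ⊢
      exact schur_block φ hφ (-1) (by ring) B C C' D hV₂h Bi hBi
    have hD'u : IsUnit (D - C' * Bi * C) := by
      have := c3.isUnit hV₂u
      rw [Matrix.isUnit_iff_isUnit_det, Matrix.det_fromBlocks_zero₂₁] at this
      rw [Matrix.isUnit_iff_isUnit_det]
      exact isUnit_of_mul_isUnit_right this
    have hD'h : Herm φ (-1) (D - C' * Bi * C) :=
      (herm_blocks φ (-1) _ _ _ _ (c3.herm hφ hV₂h)).2.2.2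
    obtain ⟨hev, W', cW', condW'⟩ := ih _ hD'u hD'h
    obtain ⟨βi, hβi⟩ := hβu.exists_right_inv
    have cB : CongTo φ B !![α, 1; -1, φ βi * γ * βi] := by
      rw [hBeq]
      exact cong_scale φ α β γ βi hβi
    have hγ₁m : φ βi * γ * βi ∈ IsLocalRing.maximalIdeal L := by
      have : γ ∈ IsLocalRing.maximalIdeal L := mem_maximalIdeal_of_skew φ h hh hm hγ'
      have e : φ βi * γ * βi = γ * (φ βi * βi) := by ring
      rw [e]
      exact Ideal.mul_mem_right _ _ this
    have c4 := CongTo.fromBlocks cB cW'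
    have c5 := (c3.trans c4).reindex (e2 n)
    have hback : Matrix.reindex (e2 n) (e2 n) V₂ = V.submatrix σ σ := by
      rw [hV₂]
      ext i j
      simp
    rw [hback] at c5
    refine ⟨?_, _, c1.trans c5, ?_⟩
    · rcases hev with ⟨k, hk⟩
      exact ⟨k + 1, by omega⟩
    · apply blkCond_blocks _ _ _ _ _ _ _ condW'
      · simpa using hαm
      · simpa using hγ₁m
      · simp
      · simp

end Main

end Groth.Agent.Lib.Helper52.SkewBlocks
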