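import Mathlib
import Groth.Agent.S0209
import Groth.Agent.Lib.Helper87.TsenLangBasic

/-!
# Singular points from weight conditions

Let `P` be a form of degree `m ≥ 2` over an algebraically closed field all of whose monomials have
weight `≤ 0` for weights `g`.  If for some `c > 0` there are fewer indices `i` with
`g i + (m - 1) • c ≤ 0` than indices `j` with `c ≤ g j`, then `P` has a non-zero singular point
(supported on the coordinates of weight `≥ c`).
-/

set_option autoImplicit false
set_option linter.unusedSectionVars false

namespace Groth.Agent.Lib.Helper52.SmoothStable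

open MvPolynomial

variable {k : Type*} [Field k] {n : ℕ}
variable {G : Type*} [AddCommGroup G] [LinearOrder G] [IsOrderedAddMonoid G]

/-- weight of an exponent vector -/
def wt (g : Fin n → G) (μ : Fin n →₀ ℕ) : G := ∑ j, μ j • g j

theorem wt_add (g : Fin n → G) (μ ν : Fin n →₀ ℕ) : wt g (μ + ν) = wt g μ + wt g ν := by
  simp only [wt, Finsupp.add_apply, add_smul, Finset.sum_add_distrib]

theorem wt_single (g : Fin n → G) (i : Fin n) : wt g (Finsupp.single i 1) = g i := by
  classical
  simp only [wt, Finsupp.single_apply]
  rw [Finset.sum_eq_single i]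
  · simp
  · intro j _ hj
    rw [if_neg (fun h => hj h.symm), zero_smul]
  · simp

theorem sum_eq_degree (μ : Fin n →₀ ℕ) : ∑ j, μ j = μ.degree := by
  rw [Finsupp.degree]
  symm
  apply Finset.sum_subset (Finset.subset_univ _)
  intro j _ hj
  simpa using hj

theorem le_wt (g : Fin n → G) (ν : Fin n →₀ ℕ) (c : G) (h : ∀ j, ν j ≠ 0 → c ≤ g j) :
    ν.degree • c ≤ wt g ν := by
  rw [← sum_eq_degree, Finset.sum_smul, wt]
  refine Finset.sum_le_sum fun j _ => ?_
  by_cases hj : ν j = 0
  · rw [hj, zero_smul, zero_smul]
  · exact nsmul_le_nsmul_right (h j hj) _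

variable [IsAlgClosed k]

theorem exists_sing (P : MvPolynomial (Fin n) k) (m : ℕ) (hm : 2 ≤ m) (hP : P.IsHomogeneous m)
    (g : Fin n → G) (hw : ∀ μ ∈ P.support, wt g μ ≤ 0) (c : G)
    (hcard : (Finset.univ.filter fun i => g i + (m - 1) • c ≤ 0).card <
      (Finset.univ.filter fun j => c ≤ g j).card) :
    ∃ w : Fin n → k, w ≠ 0 ∧ ∀ i, eval w (pderiv i P) = 0 := by
  classical
  set S : Finset (Fin n) := Finset.univ.filter fun j => c ≤ g j with hS
  set T : Finset (Fin n) := Finset.univ.filter fun i => g i + (m - 1) • c ≤ 0 with hT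
  let φ : Fin n → MvPolynomial S k := fun j => if h : j ∈ S then X ⟨j, h⟩ else 0
  have hφ : ∀ j, (φ j).IsHomogeneous 1 := by
    intro j
    simp only [φ]
    split_ifs with h
    · exact isHomogeneous_X _ _
    · exact isHomogeneous_zero _ _ _
  let f : T → MvPolynomial S k := fun i => aeval φ (pderiv i.1 P)
  have hf : ∀ i, (f i).IsHomogeneous (m - 1) := by
    intro i
    have := (hP.pderiv (i := i.1)).aeval φ hφ
    rwa [one_mul] at this
  obtain ⟨a, ha, hz⟩ := Groth.Agent.Lib.Helper87.TsenLang.isCi_general (Groth.Agent.S0209.result k)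
    f (fun _ => m - 1) hf (fun _ => by omega) (by
      simp only [pow_zero, Finset.sum_const, Finset.card_univ, smul_eq_mul, mul_one,
        Fintype.card_coe]
      exact hcard)
  let w : Fin n → k := fun j => if h : j ∈ S then a ⟨j, h⟩ else 0
  have hwS : ∀ j, w j ≠ 0 → j ∈ S := by
    intro j hj
    by_contra h
    apply hj
    simp only [w, dif_neg h]
  have hev : ∀ Q : MvPolynomial (Fin n) k, eval a (aeval φ Q) = eval w Q := by
    intro Q
    have h1 : ((eval a).comp (aeval φ : MvPolynomial (Fin n) k →ₐ[k] MvPolynomial S k).toRingHom)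
        = eval w := by
      apply MvPolynomial.ringHom_ext
      · intro r
        simp
      · intro j
        simp only [RingHom.comp_apply, AlgHom.toRingHom_eq_coe, RingHom.coe_coe, aeval_X, eval_X]
        simp only [φ, w]
        split_ifs with h
        · rw [eval_X]
        · rw [map_zero]
    exact RingHom.congr_fun h1 Q
  refine ⟨w, ?_, ?_⟩
  · intro hw0
    apply ha
    funext s
    have := congrFun hw0 s.1
    simp only [w, dif_pos s.2, Pi.zero_apply] at this
    exact this
  · intro i
    by_cases hi : i ∈ T
    · rw [← hev]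
      exact hz ⟨i, hi⟩
    · -- all monomials vanish
      have hPsum : P = ∑ μ ∈ P.support, monomial μ (coeff μ P) := P.as_sum
      rw [hPsum, map_sum, map_sum]
      refine Finset.sum_eq_zero fun μ hμ => ?_
      rw [pderiv_monomial, eval_monomial, Finsupp.prod_fintype _ _ (fun j => pow_zero _)]
      by_cases hμi : μ i = 0
      · rw [hμi, Nat.cast_zero, mul_zero, zero_mul]
      · by_contra hne
        have hprod : ∏ j, w j ^ ((μ - Finsupp.single i 1 : Fin n →₀ ℕ) j) ≠ 0 :=
          right_ne_zero_of_mul hne
        have hsupp : ∀ j, (μ - Finsupp.single i 1 : Fin n →₀ ℕ) j ≠ 0 → c ≤ g j := by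
          intro j hj
          have hwj : w j ≠ 0 := by
            intro h0
            apply hprod
            apply Finset.prod_eq_zero (Finset.mem_univ j)
            rw [h0, zero_pow hj]
          have := hwS j hwj
          rw [hS, Finset.mem_filter] at this
          exact this.2
        have hμeq : μ = (μ - Finsupp.single i 1) + Finsupp.single i 1 := by
          ext j
          by_cases hji : j = i
          · subst hji
            simp only [Finsupp.add_apply, Finsupp.tsub_apply, Finsupp.single_eq_same]
            omega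
          · simp [Ne.symm hji]
        have hdeg : (μ - Finsupp.single i 1 : Fin n →₀ ℕ).degree = m - 1 := by
          have h1 : μ.degree = m := by
            have := hP (mem_support_iff.mp hμ)
            rw [Finsupp.degree_eq_weight_one]
            exact this
          have h2 := congrArg Finsupp.degree hμeq
          rw [map_add, Finsupp.degree_single, h1] at h2
          omega
        have h3 := le_wt g _ c hsupp
        rw [hdeg] at h3
        have h4 := hw μ hμ
        rw [hμeq, wt_add, wt_single] at h4
        apply hi
        rw [hT, Finset.mem_filter]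
        refine ⟨Finset.mem_univ _, ?_⟩
        calc g i + (m - 1) • c ≤ g i + wt g (μ - Finsupp.single i 1) := by
              exact add_le_add_right h3 _
          _ = wt g (μ - Finsupp.single i 1) + g i := add_comm _ _
          _ ≤ 0 := h4

section Numeric

omit [IsAlgClosed k] in
/-- the final numerical contradiction -/
theorem numeric_false {r : ℕ} (x : Fin (r + 1) → G) (hsum : ∑ s, x s = 0) (hpos : 0 < x 0)
    (H : ∀ s, 0 < x s → x (Fin.rev s) + 2 • x s ≤ 0) : False := by
  have hy : ∀ s, x s + x (Fin.rev s) ≤ 0 := by
    intro s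
    by_cases h1 : 0 < x s
    · have := H s h1
      rw [two_nsmul] at this
      have h2 : x s + x (Fin.rev s) = (x (Fin.rev s) + (x s + x s)) - x s := by abel
      rw [h2]
      exact (sub_nonpos.2 (this.trans h1.le))
    · by_cases h2 : 0 < x (Fin.rev s)
      · have := H (Fin.rev s) h2
        rw [Fin.rev_rev, two_nsmul] at this
        have h3 : x s + x (Fin.rev s) = (x s + (x (Fin.rev s) + x (Fin.rev s))) - x (Fin.rev s) := by
          abel
        rw [h3]
        exact (sub_nonpos.2 (this.trans h2.le))
      · exact add_nonpos (not_lt.1 h1) (not_lt.1 h2)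
  have hy0 : x 0 + x (Fin.rev 0) < 0 := by
    have := H 0 hpos
    rw [two_nsmul] at this
    have h2 : x 0 + x (Fin.rev 0) = (x (Fin.rev 0) + (x 0 + x 0)) - x 0 := by abel
    rw [h2]
    exact sub_neg.2 (lt_of_le_of_lt this hpos)
  have hlt : ∑ s, (x s + x (Fin.rev s)) < 0 := by
    have := Finset.sum_lt_sum (s := Finset.univ) (f := fun s => x s + x (Fin.rev s))
      (g := fun _ => (0 : G)) (fun s _ => hy s) ⟨0, Finset.mem_univ _, hy0⟩
    simpa using this
  rw [Finset.sum_add_distrib, hsum, zero_add] at hlt
  have hrev : ∑ s, x (Fin.rev s) = ∑ s, x s := Equiv.sum_comp Fin.revPerm x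
  rw [hrev, hsum] at hlt
  exact lt_irrefl _ hlt

omit [IsAlgClosed k] in
/-- from the cardinality condition to the pairing inequality, for sorted weights -/
theorem pair_ineq {r : ℕ} (x : Fin (r + 1) → G) (hanti : ∀ i j, i ≤ j → x j ≤ x i) (m : ℕ)
    (hm : 3 ≤ m) (s : Fin (r + 1)) (hs : 0 < x s)
    (hcard : (Finset.univ.filter fun t => x s ≤ x t).card ≤
      (Finset.univ.filter fun t => x t + (m - 1) • x s ≤ 0).card) :
    x (Fin.rev s) + 2 • x s ≤ 0 := by
  have h1 : x (Fin.rev s) + (m - 1) • x s ≤ 0 := by
    by_contra hcon
    push Not at hcon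
    have hsub : (Finset.univ.filter fun t => x t + (m - 1) • x s ≤ 0) ⊆ Finset.Ioi (Fin.rev s) := by
      intro t ht
      rw [Finset.mem_filter] at ht
      rw [Finset.mem_Ioi]
      by_contra hle
      push Not at hle
      have := hanti t (Fin.rev s) hle
      have h2 : x (Fin.rev s) + (m - 1) • x s ≤ x t + (m - 1) • x s := add_le_add_left this _
      exact absurd (h2.trans ht.2) (not_le.2 hcon)
    have hsup : Finset.Iic s ⊆ (Finset.univ.filter fun t => x s ≤ x t) := by
      intro t ht
      rw [Finset.mem_Iic] at ht
      rw [Finset.mem_filter]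
      exact ⟨Finset.mem_univ _, hanti t s ht⟩
    have c1 := Finset.card_le_card hsub
    have c2 := Finset.card_le_card hsup
    rw [Fin.card_Ioi] at c1
    rw [Fin.card_Iic] at c2
    have hrev : (Fin.rev s : ℕ) = r - s := by
      rw [Fin.val_rev]
      omega
    have := s.2
    omega
  have h2 : 2 • x s ≤ (m - 1) • x s := nsmul_le_nsmul_left hs.le (by omega)
  exact (add_le_add_right h2 _).trans h1

end Numeric

end Groth.Agent.Lib.Helper52.SmoothStable
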