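import Mathlib
import Groth.Agent.Lib.Helper52.SmoothStableA
import Groth.Agent.Lib.Helper75.HMGenD
import Groth.Agent.Lib.Helper75.FormDeriv

/-!
# Smooth hypersurfaces of degree `≥ 3` are stable

Via the Hilbert–Mumford criterion of helper75 (`StableWeightsAdd`), the singular point lemma
`exists_sing` and a numerical argument.
-/

set_option autoImplicit false
set_option linter.unusedSectionVars false
set_option linter.style.haveILetI false
universe u

open TensorProduct CoordGrp

namespace Groth.Agent.Lib.Helper52.SmoothStable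

open Groth.Agent.Lib.Helper75.BinForm Groth.Agent.Lib.Helper75.HMGen
open Groth.Agent.Lib.Helper75.FormDeriv

variable {k : Type u} [Field k] [IsAlgClosed k] [CharZero k]

theorem isHomogeneous_formPoly {n d : ℕ} (b : FormIdx n d → k) :
    (formPoly b).IsHomogeneous d := by
  rw [formPoly]
  apply MvPolynomial.IsHomogeneous.sum
  intro μ _
  apply MvPolynomial.isHomogeneous_monomial
  exact μ.2

theorem exists_sort' {r : ℕ} {G : Type*} [LinearOrder G] (g : Fin r → G) :
    ∃ σ : Equiv.Perm (Fin r), ∀ i j : Fin r, i ≤ j → g (σ j) ≤ g (σ i) := by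
  refine ⟨Tuple.sort (fun j => OrderDual.toDual (g j)), fun i j hij => ?_⟩
  exact (Tuple.monotone_sort (fun j => OrderDual.toDual (g j))) hij

theorem stableWeightsAdd_of_smooth (n m : ℕ) (hm : 3 ≤ m) (a : FormIdx (n + 1) m → k)
    (hsmooth : ∀ w : Fin (n + 1) → k, w ≠ 0 →
      ∃ i : Fin (n + 1), MvPolynomial.eval w (MvPolynomial.pderiv i (formPoly a)) ≠ 0) :
    StableWeightsAdd a := by
  classical
  haveI : Infinite k := IsAlgClosed.instInfinite
  intro G _ _ _ g hsum hne N hN
  by_contra hcon
  push Not at hcon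
  set P := formPoly (mv k N a) with hPdef
  have hPhom : P.IsHomogeneous m := isHomogeneous_formPoly _
  have hPw : ∀ μ ∈ P.support, wt g μ ≤ 0 := by
    intro μ hμ
    have hdeg : μ.degree = m := by
      have := hPhom (MvPolynomial.mem_support_iff.mp hμ)
      rw [Finsupp.degree_eq_weight_one]
      exact this
    have hc := coeff_formPoly (mv k N a) ⟨μ, hdeg⟩
    have hne0 : mv k N a ⟨μ, hdeg⟩ ≠ 0 := by
      intro h0
      rw [h0, mul_zero] at hc
      exact (MvPolynomial.mem_support_iff.mp hμ) hc
    exact hcon ⟨μ, hdeg⟩ hne0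
  -- smoothness of the translate
  have hNN : N * N⁻¹ = 1 := Matrix.mul_nonsing_inv N (by rw [hN]; exact isUnit_one)
  have hNN' : N⁻¹ * N = 1 := Matrix.nonsing_inv_mul N (by rw [hN]; exact isUnit_one)
  have hPsm : ∀ w : Fin (n + 1) → k, w ≠ 0 →
      ¬ ∀ i, MvPolynomial.eval w (MvPolynomial.pderiv i P) = 0 := by
    intro w hw hsing
    have h1 : Sing (tau N (formPoly a)) w := by
      rw [← formPoly_mv]
      exact hsing
    rw [sing_tau_iff _ N N⁻¹ hNN] at h1
    have hw' : N.mulVec w ≠ 0 := by
      intro h0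
      apply hw
      have := congrArg (N⁻¹).mulVec h0
      rw [Matrix.mulVec_mulVec, hNN', Matrix.one_mulVec, Matrix.mulVec_zero] at this
      exact this
    obtain ⟨i, hi⟩ := hsmooth _ hw'
    exact hi (h1 i)
  -- sort the weights
  obtain ⟨σ, hσ⟩ := exists_sort' g
  set x : Fin (n + 1) → G := fun t => g (σ t) with hx
  have hsumx : ∑ s, x s = 0 := by
    rw [← hsum]
    exact Equiv.sum_comp σ g
  have hpos : 0 < x 0 := by
    by_contra hle
    push Not at hle
    have hall : ∀ s ∈ Finset.univ, x s ≤ 0 := fun s _ => (hσ 0 s (Fin.zero_le s)).trans hle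
    have hz := (Finset.sum_eq_zero_iff_of_nonpos hall).1 hsumx
    obtain ⟨j, hj⟩ := hne
    apply hj
    have := hz (σ.symm j) (Finset.mem_univ _)
    simpa [hx] using this
  apply numeric_false x hsumx hpos
  intro s hs
  apply pair_ineq x hσ m hm s hs
  by_contra hlt
  push Not at hlt
  -- transfer the cardinalities
  have e1 : (Finset.univ.filter fun t => x t + (m - 1) • x s ≤ 0).card =
      (Finset.univ.filter fun i => g i + (m - 1) • x s ≤ 0).card := by
    apply Finset.card_bijective σ σ.bijective
    intro t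
    simp [hx]
  have e2 : (Finset.univ.filter fun t => x s ≤ x t).card =
      (Finset.univ.filter fun j => x s ≤ g j).card := by
    apply Finset.card_bijective σ σ.bijective
    intro t
    simp [hx]
  rw [e1, e2] at hlt
  obtain ⟨w, hw0, hws⟩ := exists_sing P m (by omega) hPhom g hPw (x s) hlt
  exact hPsm w hw0 hws

/-- **Smooth hypersurfaces of degree at least three are stable.** -/
theorem isStableVec_of_smooth (n m : ℕ) (hm : 3 ≤ m) (a : FormIdx (n + 1) m → k)
    (hsmooth : ∀ w : Fin (n + 1) → k, w ≠ 0 →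
      ∃ i : Fin (n + 1), MvPolynomial.eval w (MvPolynomial.pderiv i (formPoly a)) ≠ 0) :
    @GLin.IsStableVec k _ (SLn (n + 1) k) _ _ (FormIdx (n + 1) m)
      (GLin.comodAlong (phiSL (n + 1) k) (formsCoact k (n + 1) m))
      (GLin.isCoactAlg_comodAlong (phiSL (n + 1) k) (formsCoact k (n + 1) m)
        (formsCoact_isCoactAlg k (n + 1) m))
      a := by
  apply isStableVec_of_stableWeights
  apply StableWeightsAdd.stableWeights
  exact stableWeightsAdd_of_smooth n m hm a hsmooth

end Groth.Agent.Lib.Helper52.SmoothStable
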