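import Mathlib
import Groth.Agent.Lib.Helper52.HermSpread

/-!
# Spreading out congruences of hermitian matrices from `B_p` to `B_b`

Tools for S17364: the rings `T[X_1..X_l]/(X_k^2 - σ_k)`, their behaviour under localisation of `T`,
and spreading out a congruence over `T' ⊗ A` where `T'` is a localisation of `C''`.
-/

set_option autoImplicit false
set_option linter.style.haveILetI false
set_option linter.unusedSectionVars false
set_option linter.unusedVariables false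
set_option linter.unusedSimpArgs false

namespace Groth.Agent.Lib.Helper52.SpreadQuad

open scoped TensorProduct
open Matrix Groth.Agent.Lib.Helper52.HermSpread

universe u v

section LamC

variable {B : Type u} {A : Type v} [CommRing B] [CommRing A] [Algebra B A] (lam : A ≃ₐ[B] A)

/-- the involution `id ⊗ lam` on `C ⊗ A` -/
noncomputable abbrev lamC (C : Type*) [CommRing C] [Algebra B C] : C ⊗[B] A ≃ₐ[C] C ⊗[B] A :=
  Algebra.TensorProduct.congr (AlgEquiv.refl : C ≃ₐ[C] C) lam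

lemma lamC_tmul (C : Type*) [CommRing C] [Algebra B C] (c : C) (a : A) :
    lamC lam C (c ⊗ₜ[B] a) = c ⊗ₜ[B] lam a := by
  simp [lamC]

/-- the base change map -/
noncomputable abbrev GM {C C' : Type*} [CommRing C] [Algebra B C] [CommRing C'] [Algebra B C']
    (ρ : C →ₐ[B] C') : C ⊗[B] A →ₐ[B] C' ⊗[B] A :=
  Algebra.TensorProduct.map ρ (AlgHom.id B A)

lemma GM_lamC {C C' : Type*} [CommRing C] [Algebra B C] [CommRing C'] [Algebra B C']
    (ρ : C →ₐ[B] C') (k : C ⊗[B] A) :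
    GM (A := A) ρ (lamC lam C k) = lamC lam C' (GM (A := A) ρ k) := by
  induction k using TensorProduct.induction_on with
  | zero => simp
  | tmul c a =>
    rw [lamC_tmul, Algebra.TensorProduct.map_tmul, Algebra.TensorProduct.map_tmul, lamC_tmul]
    rfl
  | add x y hx hy => rw [map_add, map_add, hx, hy, map_add, map_add]

lemma map_includeRight {C C' : Type*} [CommRing C] [Algebra B C] [CommRing C'] [Algebra B C']
    (ρ : C →ₐ[B] C') {n : Type*} (h : Matrix n n A) :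
    (h.map (Algebra.TensorProduct.includeRight : A →ₐ[B] C ⊗[B] A)).map (GM (A := A) ρ) =
      h.map (Algebra.TensorProduct.includeRight : A →ₐ[B] C' ⊗[B] A) := by
  ext i j
  simp only [Matrix.map_apply, Algebra.TensorProduct.includeRight_apply,
    Algebra.TensorProduct.map_tmul, map_one, AlgHom.coe_id, id_eq]

end LamC

section Chart

variable {B : Type u} {A : Type v} [CommRing B] [CommRing A] [Algebra B A] (lam : A ≃ₐ[B] A)

/-- spreading out a congruence over `T ⊗ A`, `T` a localisation of `C''` at a submonoid coming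
from `N ⊆ B` -/
theorem spread_chart (N : Submonoid B) (C'' T : Type u) [CommRing C''] [Algebra B C'']
    [CommRing T] [Algebra B T] [Algebra C'' T] [IsScalarTower B C'' T]
    (M'' : Submonoid C'') [IsLocalization M'' T]
    (hM'' : ∀ m ∈ M'', ∃ n ∈ N, algebraMap B C'' n = m)
    (n : ℕ) (h h' : Matrix (Fin n) (Fin n) A) (v : Matrix (Fin n) (Fin n) (T ⊗[B] A))
    (hv : IsUnit v)
    (hcong : (v.map (lamC lam T)).transpose *
      h.map (Algebra.TensorProduct.includeRight : A →ₐ[B] T ⊗[B] A) * v =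
        h'.map (Algebra.TensorProduct.includeRight : A →ₐ[B] T ⊗[B] A)) :
    ∃ n₀ ∈ N, ∀ (C : Type u) [CommRing C] [Algebra B C] (ρ : C'' →ₐ[B] C),
      IsUnit (algebraMap B C n₀) →
      ∃ Q : Matrix (Fin n) (Fin n) (C ⊗[B] A), IsUnit Q ∧
        (Q.map (lamC lam C)).transpose *
          h.map (Algebra.TensorProduct.includeRight : A →ₐ[B] C ⊗[B] A) * Q =
            h'.map (Algebra.TensorProduct.includeRight : A →ₐ[B] C ⊗[B] A) := by
  classical
  let g : C'' →ₐ[B] T := IsScalarTower.toAlgHom B C'' T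
  let G : C'' ⊗[B] A →ₐ[B] T ⊗[B] A := GM (A := A) g
  letI algK : Algebra (C'' ⊗[B] A) (T ⊗[B] A) := G.toRingHom.toAlgebra
  haveI : IsScalarTower C'' (C'' ⊗[B] A) (T ⊗[B] A) := IsScalarTower.of_algebraMap_eq (fun x => by
    show algebraMap C'' (T ⊗[B] A) x = G (algebraMap C'' (C'' ⊗[B] A) x)
    rw [Algebra.TensorProduct.algebraMap_apply, Algebra.TensorProduct.algebraMap_apply]
    show _ = Algebra.TensorProduct.map g (AlgHom.id B A) (_ ⊗ₜ[B] (1 : A))
    rw [Algebra.TensorProduct.map_tmul]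
    rfl)
  haveI hloc : IsLocalization (Algebra.algebraMapSubmonoid (C'' ⊗[B] A) M'') (T ⊗[B] A) := by
    apply IsLocalization.tensorProduct_tensorProduct B A M'' T
    ext a
    show G ((1 : C'') ⊗ₜ[B] a) = (1 : T) ⊗ₜ[B] a
    show Algebra.TensorProduct.map g (AlgHom.id B A) ((1 : C'') ⊗ₜ[B] a) = _
    rw [Algebra.TensorProduct.map_tmul, map_one]
    rfl
  have hfixM : ∀ m ∈ Algebra.algebraMapSubmonoid (C'' ⊗[B] A) M'',
      (lamC lam C'' : C'' ⊗[B] A →+* C'' ⊗[B] A) m = m := by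
    intro m hm
    obtain ⟨x, _, rfl⟩ := hm
    exact (lamC lam C'').commutes x
  obtain ⟨m, s₁, s₂, v₀, v₀', h1, h2⟩ := spread_to
    (Algebra.algebraMapSubmonoid (C'' ⊗[B] A) M'') (L := T ⊗[B] A)
    (lamC lam C'' : C'' ⊗[B] A →+* C'' ⊗[B] A) (lamC lam T : T ⊗[B] A →+* T ⊗[B] A)
    (fun k => (GM_lamC lam g k).symm) hfixM
    (h.map (Algebra.TensorProduct.includeRight : A →ₐ[B] C'' ⊗[B] A))
    (h'.map (Algebra.TensorProduct.includeRight : A →ₐ[B] C'' ⊗[B] A)) v hv
    (by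
      have e1 := map_includeRight (A := A) g h
      have e2 := map_includeRight (A := A) g h'
      show _ * (h.map (Algebra.TensorProduct.includeRight : A →ₐ[B] C'' ⊗[B] A)).map G * v =
        (h'.map (Algebra.TensorProduct.includeRight : A →ₐ[B] C'' ⊗[B] A)).map G
      rw [e1, e2]
      exact hcong)
  obtain ⟨x₁, hx₁M, hx₁⟩ := m.2
  obtain ⟨x₂, hx₂M, hx₂⟩ := s₁.2
  obtain ⟨x₃, hx₃M, hx₃⟩ := s₂.2
  obtain ⟨n₁, hn₁, hn₁x⟩ := hM'' x₁ hx₁M
  obtain ⟨n₂, hn₂, hn₂x⟩ := hM'' x₂ hx₂M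
  obtain ⟨n₃, hn₃, hn₃x⟩ := hM'' x₃ hx₃M
  refine ⟨n₁ * n₂ * n₃, N.mul_mem (N.mul_mem hn₁ hn₂) hn₃, ?_⟩
  intro C _ _ ρ hρ
  rw [map_mul, map_mul] at hρ
  have hu₃ : IsUnit (algebraMap B C n₃) := isUnit_of_mul_isUnit_right hρ
  have hu₁₂ : IsUnit (algebraMap B C n₁ * algebraMap B C n₂) := isUnit_of_mul_isUnit_left hρ
  have hu₁ : IsUnit (algebraMap B C n₁) := isUnit_of_mul_isUnit_left hu₁₂
  have hu₂ : IsUnit (algebraMap B C n₂) := isUnit_of_mul_isUnit_right hu₁₂
  have hunit : ∀ (nn : B) (x : C'') (k : C'' ⊗[B] A), algebraMap B C'' nn = x →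
      algebraMap C'' (C'' ⊗[B] A) x = k → IsUnit (algebraMap B C nn) →
      IsUnit ((GM (A := A) ρ).toRingHom k) := by
    intro nn x k hx hk hy
    rw [← hk, ← hx]
    show IsUnit (GM (A := A) ρ (algebraMap C'' (C'' ⊗[B] A) (algebraMap B C'' nn)))
    rw [Algebra.TensorProduct.algebraMap_apply]
    show IsUnit (Algebra.TensorProduct.map ρ (AlgHom.id B A) (_ ⊗ₜ[B] (1 : A)))
    rw [Algebra.TensorProduct.map_tmul]
    have : ρ (algebraMap C'' C'' (algebraMap B C'' nn)) = algebraMap B C nn := by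
      rw [Algebra.algebraMap_self_apply, AlgHom.commutes]
    rw [this]
    exact hy.map (Algebra.TensorProduct.includeLeft : C →ₐ[B] C ⊗[B] A)
  obtain ⟨Q', hQ', hQV'⟩ := spread_to_use (lamC lam C'' : C'' ⊗[B] A →+* C'' ⊗[B] A)
    (GM (A := A) ρ).toRingHom (lamC lam C : C ⊗[B] A →+* C ⊗[B] A)
    (fun k => GM_lamC lam ρ k) (m : C'' ⊗[B] A) (s₁ : C'' ⊗[B] A) (s₂ : C'' ⊗[B] A)
    (hunit n₁ x₁ _ hn₁x hx₁ hu₁) (hunit n₂ x₂ _ hn₂x hx₂ hu₂) (hunit n₃ x₃ _ hn₃x hx₃ hu₃)
    (by rw [← hx₂]; exact (lamC lam C'').commutes x₂)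
    (h.map (Algebra.TensorProduct.includeRight : A →ₐ[B] C'' ⊗[B] A))
    (h'.map (Algebra.TensorProduct.includeRight : A →ₐ[B] C'' ⊗[B] A)) v₀ v₀' h1 h2
  refine ⟨Q', hQ', ?_⟩
  have e1 := map_includeRight (A := A) ρ h
  have e2 := map_includeRight (A := A) ρ h'
  rw [← e1, ← e2]
  exact hQV'

end Chart

section Dq

open MvPolynomial

variable (T : Type*) [CommRing T] {l : ℕ}

/-- the ideal `(X_k^2 - σ_k)` -/
noncomputable abbrev sqIdeal (σ : Fin l → T) : Ideal (MvPolynomial (Fin l) T) :=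
  Ideal.span (Set.range fun k : Fin l => X k ^ 2 - C (σ k))

/-- `T[X_1..X_l]/(X_k^2 - σ_k)` -/
abbrev Dq (σ : Fin l → T) : Type _ := MvPolynomial (Fin l) T ⧸ sqIdeal T σ

variable {T} {T' : Type*} [CommRing T']

lemma sqIdeal_le_comap (j : T →+* T') (σ : Fin l → T) (σ' : Fin l → T')
    (hσ : ∀ k, j (σ k) = σ' k) :
    sqIdeal T σ ≤ (sqIdeal T' σ').comap (MvPolynomial.map j) := by
  rw [sqIdeal, Ideal.span_le]
  rintro _ ⟨k, rfl⟩
  show MvPolynomial.map j (X k ^ 2 - C (σ k)) ∈ sqIdeal T' σ'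
  rw [map_sub, map_pow, MvPolynomial.map_X, MvPolynomial.map_C, hσ]
  exact Ideal.subset_span ⟨k, rfl⟩

/-- functoriality of `Dq` -/
noncomputable def DqMap (j : T →+* T') (σ : Fin l → T) (σ' : Fin l → T')
    (hσ : ∀ k, j (σ k) = σ' k) : Dq T σ →+* Dq T' σ' :=
  Ideal.quotientMap (sqIdeal T' σ') (MvPolynomial.map j) (sqIdeal_le_comap j σ σ' hσ)

lemma DqMap_mk (j : T →+* T') (σ : Fin l → T) (σ' : Fin l → T')
    (hσ : ∀ k, j (σ k) = σ' k) (x : MvPolynomial (Fin l) T) :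
    DqMap j σ σ' hσ (Ideal.Quotient.mk _ x) = Ideal.Quotient.mk _ (MvPolynomial.map j x) :=
  Ideal.quotientMap_mk

lemma sqIdeal_map (j : T →+* T') (σ : Fin l → T) (σ' : Fin l → T')
    (hσ : ∀ k, j (σ k) = σ' k) :
    (sqIdeal T σ).map (MvPolynomial.map j) = sqIdeal T' σ' := by
  rw [sqIdeal, Ideal.map_span, sqIdeal]
  congr 1
  ext y
  constructor
  · rintro ⟨_, ⟨k, rfl⟩, rfl⟩
    refine ⟨k, ?_⟩
    simp only [map_sub, map_pow, MvPolynomial.map_X, MvPolynomial.map_C, hσ]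
  · rintro ⟨k, rfl⟩
    refine ⟨_, ⟨k, rfl⟩, ?_⟩
    simp only [map_sub, map_pow, MvPolynomial.map_X, MvPolynomial.map_C, hσ]

attribute [local instance] MvPolynomial.algebraMvPolynomial in
/-- `Dq` of a localisation is a localisation of `Dq` -/
lemma Dq_isLocalization [Algebra T T'] (N : Submonoid T) [IsLocalization N T']
    (σ : Fin l → T) (σ' : Fin l → T') (hσ : ∀ k, algebraMap T T' (σ k) = σ' k) :
    letI := (DqMap (algebraMap T T') σ σ' hσ).toAlgebra
    IsLocalization (N.map ((Ideal.Quotient.mk (sqIdeal T σ)).comp (C : T →+* MvPolynomial (Fin l) T)))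
      (Dq T' σ') := by
  letI := (DqMap (algebraMap T T') σ σ' hσ).toAlgebra
  have h1 := IsLocalization.of_surjective (N.map (C : T →+* MvPolynomial (Fin l) T))
    (MvPolynomial (Fin l) T') (Ideal.Quotient.mk (sqIdeal T σ)) Ideal.Quotient.mk_surjective
    (Ideal.Quotient.mk (sqIdeal T' σ')) Ideal.Quotient.mk_surjective
    (by
      ext x
      · show Ideal.Quotient.mk (sqIdeal T' σ') (algebraMap (MvPolynomial (Fin l) T)
          (MvPolynomial (Fin l) T') (C x)) = DqMap (algebraMap T T') σ σ' hσ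
            (Ideal.Quotient.mk _ (C x))
        rw [DqMap_mk]
        rfl
      · show Ideal.Quotient.mk (sqIdeal T' σ') (algebraMap (MvPolynomial (Fin l) T)
          (MvPolynomial (Fin l) T') (X x)) = DqMap (algebraMap T T') σ σ' hσ
            (Ideal.Quotient.mk _ (X x))
        rw [DqMap_mk]
        rfl)
    (by
      rw [Ideal.mk_ker, Ideal.mk_ker]
      have := sqIdeal_map (algebraMap T T') σ σ' hσ
      rw [← this]
      exact le_refl _)
  have e : (N.map (C : T →+* MvPolynomial (Fin l) T)).map (Ideal.Quotient.mk (sqIdeal T σ)) =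
      N.map ((Ideal.Quotient.mk (sqIdeal T σ)).comp (C : T →+* MvPolynomial (Fin l) T)) := by
    ext y
    constructor
    · rintro ⟨_, ⟨x, hx, rfl⟩, rfl⟩
      exact ⟨x, hx, rfl⟩
    · rintro ⟨x, hx, rfl⟩
      exact ⟨_, ⟨x, hx, rfl⟩, rfl⟩
  rw [← e]
  exact h1

lemma Dq_algebraMap {B : Type*} [CommRing B] [Algebra B T] (σ : Fin l → T) (x : B) :
    algebraMap B (Dq T σ) x = Ideal.Quotient.mk _ (C (algebraMap B T x)) := rfl

lemma DqMap_algebraMap {B : Type*} [CommRing B] [Algebra B T] [Algebra B T'] (j : T →+* T')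
    (hj : ∀ x, j (algebraMap B T x) = algebraMap B T' x)
    (σ : Fin l → T) (σ' : Fin l → T') (hσ : ∀ k, j (σ k) = σ' k) (x : B) :
    DqMap j σ σ' hσ (algebraMap B (Dq T σ) x) = algebraMap B (Dq T' σ') x := by
  rw [Dq_algebraMap, Dq_algebraMap, DqMap_mk, MvPolynomial.map_C, hj]

end Dq

end Groth.Agent.Lib.Helper52.SpreadQuad
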