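import Mathlib.LinearAlgebra.Matrix.ToLin
import Mathlib.Data.Real.Basic
import Mathlib.Algebra.Module.Submodule.Ker
import Mathlib.LinearAlgebra.Matrix.Symmetric
import Mathlib.Tactic

/-!
The quadratic form of a symmetric matrix with non-negative off-diagonal entries, rewritten in terms of the
ratios `y i = x i / m i` (helper52).
-/

set_option autoImplicit false
open Finset

namespace Groth.Agent.Lib.Helper52

variable {n : ℕ} (A : Matrix (Fin n) (Fin n) ℝ) (m y : Fin n → ℝ)

/-- The key identity: `(m y)ᵀ A (m y) = ∑ᵢ (A m)ᵢ mᵢ yᵢ² - ½ ∑ᵢⱼ aᵢⱼ mᵢ mⱼ (yᵢ - yⱼ)²` for symmetric `A`. -/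
theorem key_identity (hsymm : A.IsSymm) :
    ∑ i, ∑ j, A i j * (m i * y i) * (m j * y j) =
      ∑ i, (∑ j, A i j * m j) * m i * y i ^ 2 -
        (1 / 2) * ∑ i, ∑ j, A i j * m i * m j * (y i - y j) ^ 2 := by
  have h1 : ∑ i, ∑ j, A i j * m i * m j * (y i - y j) ^ 2 =
      ∑ i, ∑ j, A i j * m i * m j * y i ^ 2 + ∑ i, ∑ j, A i j * m i * m j * y j ^ 2
        - 2 * ∑ i, ∑ j, A i j * (m i * y i) * (m j * y j) := by
    rw [Finset.mul_sum, ← Finset.sum_add_distrib, ← Finset.sum_sub_distrib]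
    refine Finset.sum_congr rfl fun i _ => ?_
    rw [Finset.mul_sum, ← Finset.sum_add_distrib, ← Finset.sum_sub_distrib]
    refine Finset.sum_congr rfl fun j _ => ?_
    ring
  have h2 : ∑ i, ∑ j, A i j * m i * m j * y i ^ 2 = ∑ i, (∑ j, A i j * m j) * m i * y i ^ 2 := by
    refine Finset.sum_congr rfl fun i _ => ?_
    rw [Finset.sum_mul, Finset.sum_mul]
    refine Finset.sum_congr rfl fun j _ => ?_
    ring
  have h3 : ∑ i, ∑ j, A i j * m i * m j * y j ^ 2 = ∑ i, (∑ j, A i j * m j) * m i * y i ^ 2 := by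
    rw [Finset.sum_comm]
    refine Finset.sum_congr rfl fun j _ => ?_
    rw [Finset.sum_mul, Finset.sum_mul]
    refine Finset.sum_congr rfl fun i _ => ?_
    rw [hsymm.apply i j]
  rw [h1, h2, h3]; ring

/-- The quadratic form `xᵀ A x` as a double sum. -/
theorem dotProduct_mulVec_eq (x : Fin n → ℝ) :
    dotProduct x (A.mulVec x) = ∑ i, ∑ j, A i j * x i * x j := by
  simp only [dotProduct, Matrix.mulVec, Finset.mul_sum]
  refine Finset.sum_congr rfl fun i _ => Finset.sum_congr rfl fun j _ => ?_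
  ring

variable {A m}

theorem term1_nonpos (hm : ∀ i, 0 < m i) (hs : ∀ i, ∑ j, A i j * m j ≤ 0) (i : Fin n) :
    (∑ j, A i j * m j) * m i * y i ^ 2 ≤ 0 :=
  mul_nonpos_of_nonpos_of_nonneg (mul_nonpos_of_nonpos_of_nonneg (hs i) (hm i).le) (sq_nonneg _)

theorem term2_nonneg (hA : ∀ i j, i ≠ j → 0 ≤ A i j) (hm : ∀ i, 0 < m i) (i j : Fin n) :
    0 ≤ A i j * m i * m j * (y i - y j) ^ 2 := by
  by_cases h : i = j
  · subst h; simp
  · exact mul_nonneg (mul_nonneg (mul_nonneg (hA i j h) (hm i).le) (hm j).le) (sq_nonneg _)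

theorem form_eq (hsymm : A.IsSymm) (hm : ∀ i, 0 < m i) (x : Fin n → ℝ) :
    dotProduct x (A.mulVec x) =
      ∑ i, (∑ j, A i j * m j) * m i * (x i / m i) ^ 2 -
        (1 / 2) * ∑ i, ∑ j, A i j * m i * m j * (x i / m i - x j / m j) ^ 2 := by
  rw [dotProduct_mulVec_eq, ← key_identity A m (fun i => x i / m i) hsymm]
  refine Finset.sum_congr rfl fun i _ => Finset.sum_congr rfl fun j _ => ?_
  rw [mul_div_cancel₀ _ (hm i).ne', mul_div_cancel₀ _ (hm j).ne']

/-- The quadratic form is non-positive. -/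
theorem form_nonpos (hsymm : A.IsSymm) (hA : ∀ i j, i ≠ j → 0 ≤ A i j) (hm : ∀ i, 0 < m i)
    (hs : ∀ i, ∑ j, A i j * m j ≤ 0) (x : Fin n → ℝ) : dotProduct x (A.mulVec x) ≤ 0 := by
  rw [form_eq hsymm hm]
  have h1 : ∑ i, (∑ j, A i j * m j) * m i * (x i / m i) ^ 2 ≤ 0 :=
    Finset.sum_nonpos fun i _ => term1_nonpos (fun i => x i / m i) hm hs i
  have h2 : 0 ≤ ∑ i, ∑ j, A i j * m i * m j * (x i / m i - x j / m j) ^ 2 :=
    Finset.sum_nonneg fun i _ => Finset.sum_nonneg fun j _ => term2_nonneg (fun i => x i / m i) hA hm i j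
  linarith

/-- The quadratic form vanishes exactly when every term of the decomposition vanishes. -/
theorem form_eq_zero_iff (hsymm : A.IsSymm) (hA : ∀ i j, i ≠ j → 0 ≤ A i j) (hm : ∀ i, 0 < m i)
    (hs : ∀ i, ∑ j, A i j * m j ≤ 0) (x : Fin n → ℝ) :
    dotProduct x (A.mulVec x) = 0 ↔
      (∀ i, (∑ j, A i j * m j) = 0 ∨ x i = 0) ∧ ∀ i j, A i j = 0 ∨ x i / m i = x j / m j := by
  rw [form_eq hsymm hm]
  have h1 : ∑ i, (∑ j, A i j * m j) * m i * (x i / m i) ^ 2 ≤ 0 :=
    Finset.sum_nonpos fun i _ => term1_nonpos (fun i => x i / m i) hm hs i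
  have h2 : 0 ≤ ∑ i, ∑ j, A i j * m i * m j * (x i / m i - x j / m j) ^ 2 :=
    Finset.sum_nonneg fun i _ => Finset.sum_nonneg fun j _ => term2_nonneg (fun i => x i / m i) hA hm i j
  constructor
  · intro h
    have e1 : ∑ i, (∑ j, A i j * m j) * m i * (x i / m i) ^ 2 = 0 := by linarith
    have e2 : ∑ i, ∑ j, A i j * m i * m j * (x i / m i - x j / m j) ^ 2 = 0 := by linarith
    rw [Finset.sum_eq_zero_iff_of_nonpos (fun i _ => term1_nonpos (fun i => x i / m i) hm hs i)] at e1
    rw [Finset.sum_eq_zero_iff_of_nonneg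
      (fun i _ => Finset.sum_nonneg fun j _ => term2_nonneg (fun i => x i / m i) hA hm i j)] at e2
    refine ⟨fun i => ?_, fun i j => ?_⟩
    · have := e1 i (Finset.mem_univ i)
      rcases mul_eq_zero.1 this with h | h
      · rcases mul_eq_zero.1 h with h | h
        · exact Or.inl h
        · exact absurd h (hm i).ne'
      · right
        have := pow_eq_zero_iff (two_ne_zero) |>.1 h
        rcases div_eq_zero_iff.1 this with h | h
        · exact h
        · exact absurd h (hm i).ne'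
    · have := e2 i (Finset.mem_univ i)
      rw [Finset.sum_eq_zero_iff_of_nonneg (fun j _ => term2_nonneg (fun i => x i / m i) hA hm i j)] at this
      have := this j (Finset.mem_univ j)
      rcases mul_eq_zero.1 this with h | h
      · rcases mul_eq_zero.1 h with h | h
        · rcases mul_eq_zero.1 h with h | h
          · exact Or.inl h
          · exact absurd h (hm i).ne'
        · exact absurd h (hm j).ne'
      · right
        exact sub_eq_zero.1 (pow_eq_zero_iff (two_ne_zero) |>.1 h)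
  · rintro ⟨c1, c2⟩
    have e1 : ∑ i, (∑ j, A i j * m j) * m i * (x i / m i) ^ 2 = 0 :=
      Finset.sum_eq_zero fun i _ => by
        rcases c1 i with h | h
        · rw [h]; ring
        · rw [h]; ring
    have e2 : ∑ i, ∑ j, A i j * m i * m j * (x i / m i - x j / m j) ^ 2 = 0 :=
      Finset.sum_eq_zero fun i _ => Finset.sum_eq_zero fun j _ => by
        rcases c2 i j with h | h
        · rw [h]; ring
        · rw [h]; ring
    rw [e1, e2]; ring

end Groth.Agent.Lib.Helper52
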