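import Mathlib

/-!
# Matrix combinatorics for tensor powers of matrix algebras

`MatN n T` is the matrix algebra indexed by functions `Fin n → Fin n` (i.e. `End (V^{⊗n})` for
`V = T^n`), `Psi0 m` is the Kronecker product `m 0 ⊗ ⋯ ⊗ m (n-1)`, and `s0` is the matrix
`ω ω^*` of the antisymmetrizer up to normalisation, `ω = ∑_σ sgn σ e_σ`.
-/

set_option autoImplicit false
set_option linter.unusedSectionVars false
set_option linter.unusedVariables false
set_option linter.unusedSimpArgs false

namespace Groth.Agent.Lib.Helper52.TPowMat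

open Matrix

variable {n : ℕ} {T : Type*} [CommRing T]

/-- index type of the big matrix algebra -/
abbrev Idx (n : ℕ) : Type := Fin n → Fin n

/-- the big matrix algebra `M_{n^n}(T)` -/
abbrev MatN (n : ℕ) (T : Type*) : Type _ := Matrix (Idx n) (Idx n) T

/-- Kronecker product of `n` matrices of size `n` -/
def Psi0 (m : Fin n → Matrix (Fin n) (Fin n) T) : MatN n T :=
  Matrix.of fun I J => ∏ k, m k (I k) (J k)

lemma Psi0_apply (m : Fin n → Matrix (Fin n) (Fin n) T) (I J : Idx n) :
    Psi0 m I J = ∏ k, m k (I k) (J k) := rfl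

lemma Psi0_one : Psi0 (1 : Fin n → Matrix (Fin n) (Fin n) T) = 1 := by
  ext I J
  rw [Psi0_apply, Matrix.one_apply]
  split_ifs with h
  · subst h
    simp
  · obtain ⟨k, hk⟩ := Function.ne_iff.mp h
    exact Finset.prod_eq_zero (Finset.mem_univ k) (by simp [Matrix.one_apply, hk])

lemma Psi0_mul (m m' : Fin n → Matrix (Fin n) (Fin n) T) :
    Psi0 (m * m') = Psi0 m * Psi0 m' := by
  ext I J
  rw [Psi0_apply, Matrix.mul_apply]
  simp only [Pi.mul_apply, Matrix.mul_apply, Psi0_apply]
  rw [Finset.prod_univ_sum]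
  simp only [Fintype.piFinset_univ, Finset.prod_mul_distrib]

lemma Psi0_map {T' : Type*} [CommRing T'] (f : T →+* T')
    (m : Fin n → Matrix (Fin n) (Fin n) T) :
    (Psi0 m).map f = Psi0 (fun k => (m k).map f) := by
  ext I J
  simp [Psi0_apply, map_prod]

/-- the sign of an index function: the sign if it is a permutation, else `0` -/
noncomputable def sg (I : Idx n) : ℤ := by
  classical
  exact if h : Function.Bijective I then (Equiv.Perm.sign (Equiv.ofBijective I h) : ℤ) else 0

lemma sg_perm (σ : Equiv.Perm (Fin n)) : sg (σ : Idx n) = Equiv.Perm.sign σ := by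
  classical
  have h : Function.Bijective (σ : Idx n) := σ.bijective
  rw [sg, dif_pos h]
  congr 2
  ext x
  rfl

lemma sg_of_not_bijective (I : Idx n) (h : ¬ Function.Bijective I) : sg I = 0 := by
  classical
  rw [sg, dif_neg h]

lemma sg_id : sg (id : Idx n) = 1 := by
  have := sg_perm (1 : Equiv.Perm (Fin n))
  simpa using this

/-- the antisymmetrizer matrix `ω ω^*` -/
noncomputable def s0 (n : ℕ) (T : Type*) [CommRing T] : MatN n T :=
  Matrix.of fun I J => ((sg I * sg J : ℤ) : T)

lemma s0_apply (I J : Idx n) : s0 n T I J = ((sg I * sg J : ℤ) : T) := rfl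

lemma s0_map {T' : Type*} [CommRing T'] (f : T →+* T') : (s0 n T).map f = s0 n T' := by
  ext I J
  simp [s0_apply]

lemma s0_id_id : s0 n T id id = 1 := by
  simp [s0_apply, sg_id]

/-- sums against `sg` are sums over permutations -/
lemma sum_sg_mul (f : Idx n → T) :
    ∑ K : Idx n, ((sg K : ℤ) : T) * f K =
      ∑ σ : Equiv.Perm (Fin n), ((Equiv.Perm.sign σ : ℤ) : T) * f σ := by
  classical
  have hinj : Function.Injective (fun σ : Equiv.Perm (Fin n) => (σ : Idx n)) :=
    fun σ τ h => Equiv.ext (congrFun h)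
  rw [← Finset.sum_subset (Finset.subset_univ (Finset.univ.image
    (fun σ : Equiv.Perm (Fin n) => (σ : Idx n))))]
  · rw [Finset.sum_image (fun σ _ τ _ h => hinj h)]
    refine Finset.sum_congr rfl (fun σ _ => ?_)
    rw [sg_perm]
  · intro K _ hK
    have : ¬ Function.Bijective K := by
      intro hb
      apply hK
      rw [Finset.mem_image]
      exact ⟨Equiv.ofBijective K hb, Finset.mem_univ _, rfl⟩
    rw [sg_of_not_bijective K this]
    simp

lemma det_submatrix_left (u : Matrix (Fin n) (Fin n) T) (I : Idx n) :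
    (u.submatrix I id).det = ((sg I : ℤ) : T) * u.det := by
  classical
  by_cases h : Function.Bijective I
  · have h1 : u.submatrix I id = u.submatrix (Equiv.ofBijective I h) id := rfl
    rw [h1, Matrix.det_permute]
    have h2 : sg I = Equiv.Perm.sign (Equiv.ofBijective I h) := by
      have := sg_perm (Equiv.ofBijective I h)
      exact this
    rw [h2]
  · rw [sg_of_not_bijective I h]
    have hni : ¬ Function.Injective I := fun hi => h (Finite.injective_iff_bijective.mp hi)
    rw [Function.Injective] at hni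
    push Not at hni
    obtain ⟨k, l, hkl, hne⟩ := hni
    rw [Matrix.det_zero_of_row_eq hne (by ext j; simp [hkl])]
    simp

lemma det_submatrix_right (u : Matrix (Fin n) (Fin n) T) (J : Idx n) :
    (u.submatrix id J).det = ((sg J : ℤ) : T) * u.det := by
  rw [← Matrix.det_transpose, Matrix.transpose_submatrix, det_submatrix_left,
    Matrix.det_transpose]

lemma sum_sign_prod_left (u : Matrix (Fin n) (Fin n) T) (I : Idx n) :
    ∑ K : Idx n, ((sg K : ℤ) : T) * ∏ k, u (I k) (K k) = ((sg I : ℤ) : T) * u.det := by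
  rw [sum_sg_mul, ← det_submatrix_left, ← Matrix.det_transpose, Matrix.det_apply']
  rfl

lemma sum_sign_prod_right (u : Matrix (Fin n) (Fin n) T) (J : Idx n) :
    ∑ K : Idx n, ((sg K : ℤ) : T) * ∏ k, u (K k) (J k) = ((sg J : ℤ) : T) * u.det := by
  rw [sum_sg_mul, ← det_submatrix_right, Matrix.det_apply']
  rfl

lemma Psi0_const_mul_s0 (u : Matrix (Fin n) (Fin n) T) :
    Psi0 (fun _ => u) * s0 n T = u.det • s0 n T := by
  ext I J
  rw [Matrix.mul_apply, Matrix.smul_apply, s0_apply, smul_eq_mul]
  simp only [Psi0_apply, s0_apply]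
  have : ∀ K : Idx n, (∏ k, u (I k) (K k)) * ((sg K * sg J : ℤ) : T) =
      (((sg K : ℤ) : T) * ∏ k, u (I k) (K k)) * ((sg J : ℤ) : T) := by
    intro K
    push_cast
    ring
  simp only [this]
  rw [← Finset.sum_mul, sum_sign_prod_left]
  push_cast
  ring

lemma s0_mul_Psi0_const (u : Matrix (Fin n) (Fin n) T) :
    s0 n T * Psi0 (fun _ => u) = u.det • s0 n T := by
  ext I J
  rw [Matrix.mul_apply, Matrix.smul_apply, s0_apply, smul_eq_mul]
  simp only [Psi0_apply, s0_apply]
  have : ∀ K : Idx n, ((sg I * sg K : ℤ) : T) * (∏ k, u (K k) (J k)) =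
      ((sg I : ℤ) : T) * (((sg K : ℤ) : T) * ∏ k, u (K k) (J k)) := by
    intro K
    push_cast
    ring
  simp only [this]
  rw [← Finset.mul_sum, sum_sign_prod_right]
  push_cast
  ring

/-- conjugation by a Kronecker power fixes `s0` -/
lemma conj_s0 (u v : Matrix (Fin n) (Fin n) T) (huv : u * v = 1) :
    Psi0 (fun _ => u) * s0 n T * Psi0 (fun _ => v) = s0 n T := by
  rw [Psi0_const_mul_s0, Matrix.smul_mul, s0_mul_Psi0_const, smul_smul, ← Matrix.det_mul, huv,
    Matrix.det_one, one_smul]

/-- `s0 X s0` is a multiple of `s0` -/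
lemma s0_mul_mul_s0 (X : MatN n T) :
    s0 n T * X * s0 n T =
      (∑ K : Idx n, ∑ L : Idx n, ((sg K : ℤ) : T) * X K L * ((sg L : ℤ) : T)) • s0 n T := by
  ext I J
  rw [Matrix.mul_apply, Matrix.smul_apply, smul_eq_mul]
  simp only [Matrix.mul_apply, s0_apply, Finset.sum_mul, Finset.mul_sum]
  rw [Finset.sum_comm]
  refine Finset.sum_congr rfl (fun K _ => Finset.sum_congr rfl (fun L _ => ?_))
  push_cast
  ring

/-- the elementary matrices are in the two-sided ideal generated by `s0` -/
lemma single_eq (K L : Idx n) :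
    Matrix.single K L (1 : T) =
      Matrix.single K (id : Idx n) (1 : T) * s0 n T * Matrix.single (id : Idx n) L (1 : T) := by
  rw [Matrix.single_mul_mul_single, s0_id_id]
  simp

lemma one_eq_sum :
    (1 : MatN n T) = ∑ K : Idx n,
      Matrix.single K (id : Idx n) (1 : T) * s0 n T * Matrix.single (id : Idx n) K (1 : T) := by
  simp only [← single_eq]
  ext I J
  rw [Matrix.sum_apply, Matrix.one_apply]
  simp only [Matrix.single_apply]
  by_cases h : I = J
  · subst h
    rw [if_pos rfl, Finset.sum_eq_single I]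
    · simp
    · intro K _ hK
      rw [if_neg]
      rintro ⟨h1, -⟩
      exact hK h1
    · intro h
      exact absurd (Finset.mem_univ I) h
  · rw [if_neg h]
    symm
    apply Finset.sum_eq_zero
    intro K _
    rw [if_neg]
    rintro ⟨h1, h2⟩
    exact h (h1.symm.trans h2)

/-- a multiple `X s0` is determined by its `id`-column -/
lemma mul_s0_apply (X : MatN n T) (I J : Idx n) :
    (X * s0 n T) I J = (X * s0 n T) I id * ((sg J : ℤ) : T) := by
  simp only [Matrix.mul_apply, s0_apply, Finset.sum_mul]
  refine Finset.sum_congr rfl (fun K _ => ?_)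
  rw [sg_id]
  push_cast
  ring

end Groth.Agent.Lib.Helper52.TPowMat
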