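import Mathlib
import Groth.Agent.Lib.Helper52.TPowMat

/-!
# The algebra map from a tensor power to the big matrix algebra

For an `R`-algebra map `ϑ : A → M_n(T)` we construct `psi ϑ : A^{⊗n} → M_{n^n}(T)`, its
`T`-linear extension `psiT ϑ : T ⊗ A^{⊗n} → M_{n^n}(T)`, prove naturality in `T`, behaviour under
conjugation, and bijectivity of `psiT` when `ϑ` comes from a splitting.
-/

set_option autoImplicit false
set_option linter.style.haveILetI false
set_option linter.unusedSectionVars false
set_option linter.unusedVariables false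
set_option linter.unusedSimpArgs false

namespace Groth.Agent.Lib.Helper52.TPowPsi

open scoped TensorProduct
open Groth.Agent.Lib.Helper52.TPowMat PiTensorProduct

section Rank

variable (R : Type*) [CommRing R] (A : Type*) [AddCommGroup A] [Module R A] [Module.Finite R A]
  [Module.Projective R A]

/-- `A^{⊗(m+1)} ≃ A^{⊗m} ⊗ A` -/
noncomputable def succEquiv (m : ℕ) :
    ((⨂[R] _ : Fin m, A) ⊗[R] A) ≃ₗ[R] (⨂[R] _ : Fin (m + 1), A) :=
  (TensorProduct.congr (LinearEquiv.refl R _)
    (PiTensorProduct.subsingletonEquiv (R := R) (s := fun _ : Fin 1 => A) (0 : Fin 1)).symm).trans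
    ((PiTensorProduct.tmulEquiv R A).trans
      (PiTensorProduct.reindex R (fun _ => A) finSumFinEquiv))

theorem tpow_projective_rank (d : ℕ)
    (hrank : ∀ p : PrimeSpectrum R, Module.rankAtStalk (R := R) A p = d) (m : ℕ) :
    Module.Projective R (⨂[R] _ : Fin m, A) ∧
      ∀ p : PrimeSpectrum R, Module.rankAtStalk (R := R) (⨂[R] _ : Fin m, A) p = d ^ m := by
  induction m with
  | zero =>
    refine ⟨Module.Projective.of_equiv (PiTensorProduct.isEmptyEquiv (R := R)
      (s := fun _ : Fin 0 => A) (Fin 0)).symm, fun p => ?_⟩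
    haveI : Nontrivial R := p.nontrivial
    rw [Module.rankAtStalk_eq_of_equiv (PiTensorProduct.isEmptyEquiv (R := R)
      (s := fun _ : Fin 0 => A) (Fin 0)), Module.rankAtStalk_self]
    simp
  | succ m ih =>
    obtain ⟨hp, hr⟩ := ih
    haveI := hp
    refine ⟨Module.Projective.of_equiv (succEquiv R A m), fun p => ?_⟩
    rw [← Module.rankAtStalk_eq_of_equiv (succEquiv R A m), Module.rankAtStalk_tensorProduct,
      Pi.mul_apply, hr p, hrank p, pow_succ]

end Rank

section Psi

variable {R : Type*} [CommRing R] {A : Type*} [Ring A] [Algebra R A] {n : ℕ}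
  {T : Type*} [CommRing T] [Algebra R T]

/-- one entry of the Kronecker product as a multilinear map -/
noncomputable def psiEntry (ϑ : A →ₐ[R] Matrix (Fin n) (Fin n) T) (I J : Idx n) :
    MultilinearMap R (fun _ : Fin n => A) T :=
  (MultilinearMap.mkPiAlgebra R (Fin n) T).compLinearMap
    (fun k => (Matrix.entryLinearMap R T (I k) (J k)) ∘ₗ ϑ.toLinearMap)

/-- the Kronecker product as a multilinear map -/
noncomputable def psiML (ϑ : A →ₐ[R] Matrix (Fin n) (Fin n) T) :
    MultilinearMap R (fun _ : Fin n => A) (MatN n T) :=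
  (Matrix.ofLinearEquiv R).toLinearMap.compMultilinearMap
    (MultilinearMap.pi fun I => MultilinearMap.pi fun J => psiEntry ϑ I J)

lemma psiML_apply (ϑ : A →ₐ[R] Matrix (Fin n) (Fin n) T) (a : Fin n → A) :
    psiML ϑ a = Psi0 (fun k => ϑ (a k)) := by
  ext I J
  simp [psiML, psiEntry, Psi0_apply]

/-- the algebra map `A^{⊗n} → M_{n^n}(T)` -/
noncomputable def psi (ϑ : A →ₐ[R] Matrix (Fin n) (Fin n) T) :
    (⨂[R] _ : Fin n, A) →ₐ[R] MatN n T :=
  PiTensorProduct.liftAlgHom (psiML ϑ)
    (by
      rw [psiML_apply]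
      have : (fun k : Fin n => ϑ ((1 : Fin n → A) k)) = 1 := by
        funext k
        simp
      rw [this, Psi0_one])
    (by
      intro x y
      rw [psiML_apply, psiML_apply, psiML_apply, ← Psi0_mul]
      congr 1
      funext k
      simp)

lemma psi_tprod (ϑ : A →ₐ[R] Matrix (Fin n) (Fin n) T) (a : Fin n → A) :
    psi ϑ (tprod R a) = Psi0 (fun k => ϑ (a k)) := by
  rw [psi, PiTensorProduct.liftAlgHom_apply, PiTensorProduct.lift.tprod, psiML_apply]

/-- naturality in `T` -/
lemma psi_map {T' : Type*} [CommRing T'] [Algebra R T'] (f : T →ₐ[R] T')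
    (ϑ : A →ₐ[R] Matrix (Fin n) (Fin n) T) (b : ⨂[R] _ : Fin n, A) :
    psi (f.mapMatrix.comp ϑ) b = (psi ϑ b).map f := by
  have : (psi (f.mapMatrix.comp ϑ)).toLinearMap =
      (f.mapMatrix (m := Idx n)).toLinearMap ∘ₗ (psi ϑ).toLinearMap := by
    apply PiTensorProduct.ext
    ext a : 1
    simp only [LinearMap.compMultilinearMap_apply, AlgHom.toLinearMap_apply, LinearMap.coe_comp,
      Function.comp_apply, psi_tprod]
    rw [AlgHom.mapMatrix_apply]
    exact (Psi0_map (f : T →+* T') _).symm
  exact congrArg (fun g => g b) this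

/-- behaviour under conjugation -/
lemma psi_conj (ϑ₁ ϑ₂ : A →ₐ[R] Matrix (Fin n) (Fin n) T) (u v : Matrix (Fin n) (Fin n) T)
    (h : ∀ a, ϑ₂ a = u * ϑ₁ a * v) (b : ⨂[R] _ : Fin n, A) :
    psi ϑ₂ b = Psi0 (fun _ => u) * psi ϑ₁ b * Psi0 (fun _ => v) := by
  have : (psi ϑ₂).toLinearMap =
      (LinearMap.mulLeft R (Psi0 (fun _ => u))) ∘ₗ (LinearMap.mulRight R (Psi0 (fun _ => v))) ∘ₗ
        (psi ϑ₁).toLinearMap := by
    apply PiTensorProduct.ext
    ext a : 1
    simp only [LinearMap.compMultilinearMap_apply, AlgHom.toLinearMap_apply, LinearMap.coe_comp,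
      Function.comp_apply, psi_tprod, LinearMap.mulLeft_apply, LinearMap.mulRight_apply]
    rw [← mul_assoc, ← Psi0_mul, ← Psi0_mul]
    congr 1
    funext k
    simp [h]
  have h2 := congrArg (fun g => g b) this
  simp only [LinearMap.coe_comp, Function.comp_apply, AlgHom.toLinearMap_apply,
    LinearMap.mulLeft_apply, LinearMap.mulRight_apply] at h2
  rw [h2, mul_assoc]

/-- the `T`-linear extension -/
noncomputable def psiT (ϑ : A →ₐ[R] Matrix (Fin n) (Fin n) T) :
    T ⊗[R] (⨂[R] _ : Fin n, A) →ₐ[T] MatN n T :=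
  Algebra.TensorProduct.lift (Algebra.ofId T (MatN n T)) (psi ϑ)
    (fun t b => Algebra.commutes t (psi ϑ b))

lemma psiT_tmul (ϑ : A →ₐ[R] Matrix (Fin n) (Fin n) T) (t : T) (b : ⨂[R] _ : Fin n, A) :
    psiT ϑ (t ⊗ₜ[R] b) = t • psi ϑ b := by
  rw [psiT, Algebra.TensorProduct.lift_tmul, Algebra.smul_def]
  rfl

end Psi

section Split

variable {R : Type*} [CommRing R] {A : Type*} [Ring A] [Algebra R A] {n : ℕ}
  {T : Type*} [CommRing T] [Algebra R T]

/-- the algebra map `A → M_n(T)` of a splitting -/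
noncomputable def spl (θ : T ⊗[R] A ≃ₐ[T] Matrix (Fin n) (Fin n) T) :
    A →ₐ[R] Matrix (Fin n) (Fin n) T :=
  ((θ : T ⊗[R] A →ₐ[T] Matrix (Fin n) (Fin n) T).restrictScalars R).comp
    Algebra.TensorProduct.includeRight

lemma spl_apply (θ : T ⊗[R] A ≃ₐ[T] Matrix (Fin n) (Fin n) T) (a : A) :
    spl θ a = θ (1 ⊗ₜ[R] a) := rfl

lemma span_range_spl (θ : T ⊗[R] A ≃ₐ[T] Matrix (Fin n) (Fin n) T) :
    Submodule.span T (Set.range (spl θ)) = ⊤ := by
  have key : ∀ y : T ⊗[R] A, θ y ∈ Submodule.span T (Set.range (spl θ)) := by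
    intro y
    induction y using TensorProduct.induction_on with
    | zero => simp
    | tmul t a =>
      have : t ⊗ₜ[R] a = t • ((1 : T) ⊗ₜ[R] a) := by
        rw [TensorProduct.smul_tmul', smul_eq_mul, mul_one]
      rw [this, map_smul]
      exact Submodule.smul_mem _ _ (Submodule.subset_span ⟨a, rfl⟩)
    | add x y hx hy =>
      rw [map_add]
      exact Submodule.add_mem _ hx hy
  rw [eq_top_iff]
  intro x _
  obtain ⟨y, rfl⟩ := θ.surjective x
  exact key y

/-- `Psi0` as a `T`-multilinear map -/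
lemma Psi0_eq_psiML (m : Fin n → Matrix (Fin n) (Fin n) T) :
    Psi0 m = psiML (AlgHom.id T (Matrix (Fin n) (Fin n) T)) m := by
  rw [psiML_apply]
  rfl

lemma Psi0_mem_range (θ : T ⊗[R] A ≃ₐ[T] Matrix (Fin n) (Fin n) T)
    (m : Fin n → Matrix (Fin n) (Fin n) T) :
    Psi0 m ∈ LinearMap.range (psiT (spl θ)).toLinearMap := by
  classical
  have key : ∀ (J : Finset (Fin n)) (m : Fin n → Matrix (Fin n) (Fin n) T),
      (∀ k, k ∉ J → m k ∈ Set.range (spl θ)) →
      Psi0 m ∈ LinearMap.range (psiT (spl θ)).toLinearMap := by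
    intro J
    induction J using Finset.induction_on with
    | empty =>
      intro m hm
      choose a ha using fun k => hm k (Finset.notMem_empty k)
      refine ⟨(1 : T) ⊗ₜ[R] tprod R a, ?_⟩
      rw [AlgHom.toLinearMap_apply, psiT_tmul, one_smul, psi_tprod]
      congr 1
      funext k
      exact ha k
    | insert k₀ J hk₀ ih =>
      intro m hm
      let L : Matrix (Fin n) (Fin n) T →ₗ[T] MatN n T :=
        (psiML (AlgHom.id T (Matrix (Fin n) (Fin n) T))).toLinearMap m k₀
      have hL : ∀ x, L x = Psi0 (Function.update m k₀ x) := by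
        intro x
        rw [Psi0_eq_psiML]
        rfl
      have hle : Submodule.span T (Set.range (spl θ)) ≤
          (LinearMap.range (psiT (spl θ)).toLinearMap).comap L := by
        rw [Submodule.span_le]
        rintro _ ⟨a, rfl⟩
        rw [SetLike.mem_coe, Submodule.mem_comap, hL]
        apply ih
        intro k hk
        by_cases hkk : k = k₀
        · subst hkk
          rw [Function.update_self]
          exact ⟨a, rfl⟩
        · rw [Function.update_of_ne hkk]
          apply hm
          rw [Finset.mem_insert]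
          push Not
          exact ⟨hkk, hk⟩
      have hmem : m k₀ ∈ (LinearMap.range (psiT (spl θ)).toLinearMap).comap L := by
        apply hle
        rw [span_range_spl]
        trivial
      rw [Submodule.mem_comap, hL, Function.update_eq_self] at hmem
      exact hmem
  exact key Finset.univ m (fun k hk => absurd (Finset.mem_univ k) hk)

lemma Psi0_single (I J : Idx n) :
    Psi0 (fun k => Matrix.single (I k) (J k) (1 : T)) = Matrix.single I J (1 : T) := by
  classical
  ext I' J'
  rw [Psi0_apply, Matrix.single_apply]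
  simp only [Matrix.single_apply]
  split_ifs with h
  · obtain ⟨h1, h2⟩ := h
    subst h1 h2
    simp
  · rw [not_and_or] at h
    rcases h with h | h
    · obtain ⟨k, hk⟩ := Function.ne_iff.mp h
      exact Finset.prod_eq_zero (Finset.mem_univ k) (by rw [if_neg]; rintro ⟨h1, -⟩; exact hk h1)
    · obtain ⟨k, hk⟩ := Function.ne_iff.mp h
      exact Finset.prod_eq_zero (Finset.mem_univ k) (by rw [if_neg]; rintro ⟨-, h1⟩; exact hk h1)

lemma psiT_surjective (θ : T ⊗[R] A ≃ₐ[T] Matrix (Fin n) (Fin n) T) :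
    Function.Surjective (psiT (spl θ)) := by
  classical
  intro X
  have : X ∈ LinearMap.range (psiT (spl θ)).toLinearMap := by
    rw [Matrix.matrix_eq_sum_single X]
    refine Submodule.sum_mem _ (fun I _ => Submodule.sum_mem _ (fun J _ => ?_))
    have : Matrix.single I J (X I J) = X I J • Matrix.single I J (1 : T) := by
      rw [Matrix.smul_single, smul_eq_mul, mul_one]
    rw [this, ← Psi0_single]
    exact Submodule.smul_mem _ _ (Psi0_mem_range θ _)
  obtain ⟨y, hy⟩ := this
  exact ⟨y, hy⟩

variable [Module.Finite R A] [Module.Projective R A]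

lemma psiT_bijective (hrank : ∀ p : PrimeSpectrum R, Module.rankAtStalk (R := R) A p = n ^ 2)
    (θ : T ⊗[R] A ≃ₐ[T] Matrix (Fin n) (Fin n) T) :
    Function.Bijective (psiT (spl θ)) := by
  classical
  obtain ⟨hproj, hr⟩ := tpow_projective_rank R A (n ^ 2) hrank n
  haveI := hproj
  have hsurj : Function.Surjective (psiT (spl θ)).toLinearMap := psiT_surjective θ
  refine Module.bijective_of_surjective_of_rankAtStalk_eq hsurj (fun m _ => ?_)
  haveI : Nontrivial T := (⟨m, inferInstance⟩ : PrimeSpectrum T).nontrivial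
  rw [Module.rankAtStalk_baseChange, hr, Module.rankAtStalk_eq_finrank_of_free,
    Module.finrank_matrix]
  simp only [Fintype.card_pi, Fintype.card_fin, Finset.prod_const, Finset.card_univ,
    Module.finrank_self, mul_one, Pi.natCast_apply, Nat.cast_id]
  rw [← pow_mul, ← pow_two, ← pow_mul, mul_comm]

/-- the splitting of the tensor power -/
noncomputable def psiTEquiv
    (hrank : ∀ p : PrimeSpectrum R, Module.rankAtStalk (R := R) A p = n ^ 2)
    (θ : T ⊗[R] A ≃ₐ[T] Matrix (Fin n) (Fin n) T) :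
    T ⊗[R] (⨂[R] _ : Fin n, A) ≃ₐ[T] MatN n T :=
  AlgEquiv.ofBijective (psiT (spl θ)) (psiT_bijective hrank θ)

lemma psiTEquiv_apply
    (hrank : ∀ p : PrimeSpectrum R, Module.rankAtStalk (R := R) A p = n ^ 2)
    (θ : T ⊗[R] A ≃ₐ[T] Matrix (Fin n) (Fin n) T) (x : T ⊗[R] (⨂[R] _ : Fin n, A)) :
    psiTEquiv hrank θ x = psiT (spl θ) x := rfl

end Split

end Groth.Agent.Lib.Helper52.TPowPsi
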