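import Mathlib
import Groth.Agent.S5705
import Groth.Agent.Lib.Helper52.AzuCharpoly
import Groth.Agent.Lib.Helper52.TPowPsi

/-!
# Independence of the antisymmetrizer from the splitting

If `x ∈ T ⊗ A^{⊗n}` maps to the antisymmetrizer matrix `s0` under the map induced by one
splitting `T ⊗ A ≃ M_n(T)`, then it does so for every splitting (localise and use the local
Skolem–Noether theorem).
-/

set_option autoImplicit false
set_option linter.style.haveILetI false
set_option linter.unusedSectionVars false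
set_option linter.unusedVariables false
set_option linter.unusedSimpArgs false

namespace Groth.Agent.Lib.Helper52.TPowInv

open scoped TensorProduct
open Groth.Agent.Lib.Helper52.TPowMat Groth.Agent.Lib.Helper52.TPowPsi PiTensorProduct
  Groth.Agent.Lib.Helper52.AzuCharpoly

universe u v w

variable {R : Type u} [CommRing R] {A : Type v} [Ring A] [Algebra R A] {n : ℕ}
  {T : Type w} [CommRing T] [Algebra R T]

/-- naturality of `psiT` -/
lemma psiT_map {T' : Type*} [CommRing T'] [Algebra R T'] (f : T →ₐ[R] T')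
    (ϑ : A →ₐ[R] Matrix (Fin n) (Fin n) T) (x : T ⊗[R] (⨂[R] _ : Fin n, A)) :
    psiT (f.mapMatrix.comp ϑ)
      (Algebra.TensorProduct.map f (AlgHom.id R (⨂[R] _ : Fin n, A)) x) =
      (psiT ϑ x).map f := by
  induction x using TensorProduct.induction_on with
  | zero => simp
  | tmul t b =>
    rw [Algebra.TensorProduct.map_tmul, psiT_tmul, psiT_tmul, psi_map]
    ext I J
    simp [Matrix.smul_apply]
  | add x y hx hy =>
    rw [map_add, map_add, map_add, hx, hy]
    ext I J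
    simp

/-- `psiT` under conjugation -/
lemma psiT_conj (ϑ₁ ϑ₂ : A →ₐ[R] Matrix (Fin n) (Fin n) T) (u v : Matrix (Fin n) (Fin n) T)
    (h : ∀ a, ϑ₂ a = u * ϑ₁ a * v) (x : T ⊗[R] (⨂[R] _ : Fin n, A)) :
    psiT ϑ₂ x = Psi0 (fun _ => u) * psiT ϑ₁ x * Psi0 (fun _ => v) := by
  induction x using TensorProduct.induction_on with
  | zero => simp
  | tmul t b =>
    rw [psiT_tmul, psiT_tmul, psi_conj ϑ₁ ϑ₂ u v h, Matrix.mul_smul, Matrix.smul_mul]
  | add x y hx hy =>
    rw [map_add, map_add, hx, hy, mul_add, add_mul]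

/-- local case -/
lemma psiT_eq_s0_local [IsLocalRing T] (hn : 0 < n)
    (θ₁ θ₂ : T ⊗[R] A ≃ₐ[T] Matrix (Fin n) (Fin n) T) (x : T ⊗[R] (⨂[R] _ : Fin n, A))
    (h : psiT (spl θ₁) x = s0 n T) : psiT (spl θ₂) x = s0 n T := by
  haveI : Nonempty (Fin n) := ⟨⟨0, hn⟩⟩
  haveI : IsAzumaya T (Matrix (Fin n) (Fin n) T) := IsAzumaya.matrix _ (Fin n)
  obtain ⟨⟨a, ha⟩, -⟩ := Groth.Agent.S5705.result T (Matrix (Fin n) (Fin n) T)
    (θ₁.symm.trans θ₂)
  have hconj : ∀ y : A, spl θ₂ y = (a : Matrix (Fin n) (Fin n) T) * spl θ₁ y *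
      ((a⁻¹ : (Matrix (Fin n) (Fin n) T)ˣ) : Matrix (Fin n) (Fin n) T) := by
    intro y
    rw [← ha (spl θ₁ y), spl_apply, spl_apply, AlgEquiv.trans_apply, AlgEquiv.symm_apply_apply]
  rw [psiT_conj (spl θ₁) (spl θ₂) _ _ hconj x, h]
  exact conj_s0 _ _ (Units.mul_inv a)

/-- general case -/
theorem psiT_eq_s0 (hn : 0 < n)
    (θ₁ θ₂ : T ⊗[R] A ≃ₐ[T] Matrix (Fin n) (Fin n) T) (x : T ⊗[R] (⨂[R] _ : Fin n, A))
    (h : psiT (spl θ₁) x = s0 n T) : psiT (spl θ₂) x = s0 n T := by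
  classical
  ext I J
  rw [← sub_eq_zero]
  apply eq_zero_of_localization
  intro 𝔮 h𝔮
  haveI : 𝔮.IsPrime := h𝔮.isPrime
  rw [map_sub, sub_eq_zero]
  let f : T →ₐ[R] Localization.AtPrime 𝔮 := IsScalarTower.toAlgHom R T (Localization.AtPrime 𝔮)
  have hspl : ∀ θ : T ⊗[R] A ≃ₐ[T] Matrix (Fin n) (Fin n) T,
      spl (splitBaseChange θ (Localization.AtPrime 𝔮)) = f.mapMatrix.comp (spl θ) := by
    intro θ
    ext1 y
    rw [spl_apply, splitBaseChange_one_tmul]
    rfl
  have h1 := psiT_map f (spl θ₁) x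
  have hs0 : (s0 n T).map f = s0 n (Localization.AtPrime 𝔮) :=
    s0_map (f : T →+* Localization.AtPrime 𝔮)
  rw [h, hs0, ← hspl] at h1
  have h2 := psiT_eq_s0_local hn (splitBaseChange θ₁ (Localization.AtPrime 𝔮))
    (splitBaseChange θ₂ (Localization.AtPrime 𝔮)) _ h1
  rw [hspl, psiT_map f (spl θ₂) x] at h2
  have h3 := congrFun (congrFun h2 I) J
  rw [Matrix.map_apply, s0_apply] at h3
  rw [s0_apply]
  show f (psiT (spl θ₂) x I J) = f _
  rw [h3]
  simp

end Groth.Agent.Lib.Helper52.TPowInv
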