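import Mathlib
import Groth.Agent.S1156
import Groth.Agent.Lib.Helper52.TPowInv

/-!
# Descent of the antisymmetrizer

For a faithfully flat `R`-algebra `S` splitting `A`, the element of `S ⊗ A^{⊗n}` corresponding to
the antisymmetrizer matrix descends to an element `s` of `A^{⊗n}`.
-/

set_option autoImplicit false
set_option linter.style.haveILetI false
set_option linter.unusedSectionVars false
set_option linter.unusedVariables false
set_option linter.unusedSimpArgs false

namespace Groth.Agent.Lib.Helper52.TPowDesc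

open scoped TensorProduct
open Groth.Agent.Lib.Helper52.TPowMat Groth.Agent.Lib.Helper52.TPowPsi PiTensorProduct
  Groth.Agent.Lib.Helper52.AzuCharpoly Groth.Agent.Lib.Helper52.TPowInv

universe u v w

section SplitMap

variable {R : Type u} [CommRing R] {A : Type v} [Ring A] [Algebra R A] {n : ℕ}
  {T : Type w} [CommRing T] [Algebra R T] {T' : Type*} [CommRing T'] [Algebra R T']

/-- base change of a splitting along an `R`-algebra map -/
noncomputable def splitMap (f : T →ₐ[R] T') (θ : T ⊗[R] A ≃ₐ[T] Matrix (Fin n) (Fin n) T) :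
    T' ⊗[R] A ≃ₐ[T'] Matrix (Fin n) (Fin n) T' :=
  letI := f.toRingHom.toAlgebra
  haveI : IsScalarTower R T T' := IsScalarTower.of_algebraMap_eq (fun r => (f.commutes r).symm)
  splitBaseChange θ T'

lemma spl_splitMap (f : T →ₐ[R] T') (θ : T ⊗[R] A ≃ₐ[T] Matrix (Fin n) (Fin n) T) :
    spl (splitMap f θ) = f.mapMatrix.comp (spl θ) := by
  letI := f.toRingHom.toAlgebra
  haveI : IsScalarTower R T T' := IsScalarTower.of_algebraMap_eq (fun r => (f.commutes r).symm)
  ext1 y
  rw [spl_apply]
  show splitBaseChange θ T' ((1 : T') ⊗ₜ[R] y) = _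
  rw [splitBaseChange_one_tmul]
  rfl

end SplitMap

section Descent

variable {R S A : Type u} [CommRing R] [CommRing S] [Algebra R S] [Ring A] [Algebra R A]
  [Module.Finite R A] [Module.Projective R A] {n : ℕ}

lemma assoc_map_right (M : Type*) [AddCommGroup M] [Module R M] (y : S ⊗[R] M) :
    TensorProduct.assoc R S S M
      (LinearMap.rTensor M (Algebra.TensorProduct.includeRight : S →ₐ[R] S ⊗[R] S).toLinearMap y) =
      TensorProduct.mk R S (S ⊗[R] M) 1 y := by
  induction y using TensorProduct.induction_on with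
  | zero => simp
  | tmul t b => simp
  | add x y hx hy => rw [map_add, map_add, map_add, hx, hy]

lemma assoc_map_left (M : Type*) [AddCommGroup M] [Module R M] (y : S ⊗[R] M) :
    TensorProduct.assoc R S S M
      (LinearMap.rTensor M (Algebra.TensorProduct.includeLeft : S →ₐ[R] S ⊗[R] S).toLinearMap y) =
      LinearMap.lTensor S (TensorProduct.mk R S M 1) y := by
  induction y using TensorProduct.induction_on with
  | zero => simp
  | tmul t b => simp
  | add x y hx hy => rw [map_add, map_add, map_add, hx, hy]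

lemma map_eq_rTensor {T T' : Type*} [CommRing T] [Algebra R T] [CommRing T'] [Algebra R T']
    (f : T →ₐ[R] T') (M : Type*) [Ring M] [Algebra R M] (y : T ⊗[R] M) :
    Algebra.TensorProduct.map f (AlgHom.id R M) y = LinearMap.rTensor M f.toLinearMap y := by
  induction y using TensorProduct.induction_on with
  | zero => simp
  | tmul t b => simp
  | add x y hx hy => rw [map_add, map_add, hx, hy]

/-- the antisymmetrizer descends -/
theorem exists_antisymmetrizer [Module.FaithfullyFlat R S] (hn : 0 < n)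
    (hrank : ∀ p : PrimeSpectrum R, Module.rankAtStalk (R := R) A p = n ^ 2)
    (θ : S ⊗[R] A ≃ₐ[S] Matrix (Fin n) (Fin n) S) :
    ∃ s : ⨂[R] _ : Fin n, A, psi (spl θ) s = s0 n S := by
  classical
  -- the element over `S`
  obtain ⟨x, hx⟩ : ∃ x : S ⊗[R] (⨂[R] _ : Fin n, A), psiT (spl θ) x = s0 n S :=
    (psiT_bijective hrank θ).2 _
  -- the two base changes to `S ⊗ S`
  let j₁ : S →ₐ[R] S ⊗[R] S := Algebra.TensorProduct.includeLeft
  let j₂ : S →ₐ[R] S ⊗[R] S := Algebra.TensorProduct.includeRight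
  have hs0 : ∀ j : S →ₐ[R] S ⊗[R] S, (s0 n S).map j = s0 n (S ⊗[R] S) := fun j =>
    s0_map (j : S →+* S ⊗[R] S)
  have e2 : psiT (spl (splitMap j₂ θ))
      (Algebra.TensorProduct.map j₂ (AlgHom.id R (⨂[R] _ : Fin n, A)) x) = s0 n (S ⊗[R] S) := by
    rw [spl_splitMap, psiT_map, hx, hs0]
  have e1' : psiT (spl (splitMap j₁ θ))
      (Algebra.TensorProduct.map j₁ (AlgHom.id R (⨂[R] _ : Fin n, A)) x) = s0 n (S ⊗[R] S) := by
    rw [spl_splitMap, psiT_map, hx, hs0]
  have e1 : psiT (spl (splitMap j₂ θ))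
      (Algebra.TensorProduct.map j₁ (AlgHom.id R (⨂[R] _ : Fin n, A)) x) = s0 n (S ⊗[R] S) :=
    psiT_eq_s0 hn (splitMap j₁ θ) (splitMap j₂ θ) _ e1'
  have heq : Algebra.TensorProduct.map j₂ (AlgHom.id R (⨂[R] _ : Fin n, A)) x =
      Algebra.TensorProduct.map j₁ (AlgHom.id R (⨂[R] _ : Fin n, A)) x :=
    (psiT_bijective hrank (splitMap j₂ θ)).1 (e2.trans e1.symm)
  rw [map_eq_rTensor, map_eq_rTensor] at heq
  have hdesc : TensorProduct.mk R S (S ⊗[R] (⨂[R] _ : Fin n, A)) 1 x =
      LinearMap.lTensor S (TensorProduct.mk R S (⨂[R] _ : Fin n, A) 1) x := by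
    rw [← assoc_map_right, ← assoc_map_left]
    exact congrArg _ heq
  obtain ⟨s, hs⟩ := Groth.Agent.S1156.result R S (⨂[R] _ : Fin n, A) x hdesc
  refine ⟨s, ?_⟩
  have : psiT (spl θ) ((1 : S) ⊗ₜ[R] s) = s0 n S := by
    rw [← hx, ← hs]
    rfl
  rwa [psiT_tmul, one_smul] at this

end Descent

end Groth.Agent.Lib.Helper52.TPowDesc
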