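import Mathlib

/-!
# A Morita-type lemma for a "rank one" element

Let `B` be an `R`-algebra and `s ∈ B` with `r s = 0 → r = 0`, `s B s ⊆ R s` and `B s B = B`.
Then the left ideal `B s` is a finitely generated projective `R`-module and the action map
`B → End_R (B s)` is bijective.
-/

set_option autoImplicit false
set_option linter.style.haveILetI false
set_option linter.unusedSectionVars false
set_option linter.unusedVariables false
set_option linter.unusedSimpArgs false

namespace Groth.Agent.Lib.Helper52.TPowMorita

variable {R : Type*} [CommRing R] {B : Type*} [Ring B] [Algebra R B] (s : B)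

variable (R) in
/-- the left ideal `B s` as an `R`-submodule -/
def leftIdeal : Submodule R B := LinearMap.range (LinearMap.mulRight R s)

lemma mem_leftIdeal {z : B} : z ∈ leftIdeal R s ↔ ∃ w, w * s = z := by
  rw [leftIdeal, LinearMap.mem_range]
  simp only [LinearMap.mulRight_apply]

lemma mul_self_mem (w : B) : w * s ∈ leftIdeal R s := (mem_leftIdeal s).2 ⟨w, rfl⟩

lemma mul_mem_leftIdeal (b : B) {z : B} (hz : z ∈ leftIdeal R s) : b * z ∈ leftIdeal R s := by
  obtain ⟨w, rfl⟩ := (mem_leftIdeal s).1 hz
  exact (mem_leftIdeal s).2 ⟨b * w, mul_assoc _ _ _⟩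

variable (R) in
/-- the action of `B` on `B s` -/
def actHom : B →ₐ[R] Module.End R (leftIdeal R s) :=
  AlgHom.ofLinearMap
    { toFun := fun b => (LinearMap.mulLeft R b).restrict (fun z hz => mul_mem_leftIdeal s b hz)
      map_add' := fun b b' => by
        ext z
        simp [LinearMap.restrict_apply, add_mul]
      map_smul' := fun r b => by
        ext z
        simp [LinearMap.restrict_apply] }
    (by
      ext z
      simp [LinearMap.restrict_apply])
    (by
      intro b b'
      ext z
      simp [LinearMap.restrict_apply, mul_assoc])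

lemma actHom_apply (b : B) (z : leftIdeal R s) : ((actHom R s b z : leftIdeal R s) : B) = b * z :=
  rfl

section Main

variable (h3 : ∀ r : R, r • s = 0 → r = 0) (h1 : ∀ x : B, ∃ c : R, s * x * s = c • s)

include h1 in
lemma exists_coef (y : B) (z : leftIdeal R s) : ∃ c : R, s * y * (z : B) = c • s := by
  obtain ⟨w, hw⟩ := (mem_leftIdeal s).1 z.2
  obtain ⟨c, hc⟩ := h1 (y * w)
  refine ⟨c, ?_⟩
  rw [← hw, ← hc]
  noncomm_ring

/-- the coefficient `c` with `s y z = c s` -/
noncomputable def coef (y : B) (z : leftIdeal R s) : R := Classical.choose (exists_coef s h1 y z)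

lemma coef_spec (y : B) (z : leftIdeal R s) : s * y * (z : B) = coef s h1 y z • s :=
  Classical.choose_spec (exists_coef s h1 y z)

include h3 in
lemma coef_unique (y : B) (z : leftIdeal R s) (c : R) (hc : s * y * (z : B) = c • s) :
    coef s h1 y z = c := by
  have := coef_spec s h1 y z
  rw [hc] at this
  have h : (c - coef s h1 y z) • s = 0 := by rw [sub_smul, this, sub_self]
  have := h3 _ h
  exact (sub_eq_zero.mp this).symm

/-- the coefficient functional -/
noncomputable def coefLin (y : B) : leftIdeal R s →ₗ[R] R where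
  toFun := coef s h1 y
  map_add' := fun z z' => by
    apply coef_unique s h3 h1
    rw [Submodule.coe_add, mul_add, coef_spec s h1, coef_spec s h1, add_smul]
  map_smul' := fun r z => by
    apply coef_unique s h3 h1
    rw [Submodule.coe_smul, mul_smul_comm, coef_spec s h1, RingHom.id_apply, smul_eq_mul, mul_smul]

lemma coefLin_apply (y : B) (z : leftIdeal R s) : coefLin s h3 h1 y z = coef s h1 y z := rfl

variable (F : Finset (B × B)) (h2 : ∑ p ∈ F, p.1 * s * p.2 = 1)

include h2 in
lemma sum_coef_smul (z : leftIdeal R s) :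
    ∑ p ∈ F, coef s h1 p.2 z • (p.1 * s) = (z : B) := by
  have : ∀ p : B × B, coef s h1 p.2 z • (p.1 * s) = p.1 * s * p.2 * (z : B) := by
    intro p
    rw [← mul_smul_comm, ← coef_spec s h1]
    noncomm_ring
  simp only [this]
  rw [← Finset.sum_mul, h2, one_mul]

/-- the embedding of `B s` into a free module -/
noncomputable def toFree : leftIdeal R s →ₗ[R] (↥F → R) :=
  LinearMap.pi (fun p => coefLin s h3 h1 p.1.2)

/-- the projection of a free module onto `B s` -/
noncomputable def ofFree : (↥F → R) →ₗ[R] leftIdeal R s :=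
  ∑ p : ↥F, (LinearMap.proj p).smulRight (⟨p.1.1 * s, mul_self_mem s _⟩ : leftIdeal R s)

include h2 in
lemma ofFree_toFree : (ofFree s F).comp (toFree s h3 h1 F) = LinearMap.id := by
  ext z
  simp only [LinearMap.comp_apply, ofFree, toFree, LinearMap.sum_apply, LinearMap.smulRight_apply,
    LinearMap.proj_apply, LinearMap.pi_apply, coefLin_apply, LinearMap.id_apply,
    Submodule.coe_sum, Submodule.coe_smul]
  rw [Finset.sum_coe_sort F (fun p => coef s h1 p.2 z • (p.1 * s))]
  exact sum_coef_smul s h1 F h2 z

include h3 h1 h2 in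
theorem projective_leftIdeal : Module.Projective R (leftIdeal R s) :=
  Module.Projective.of_split (toFree s h3 h1 F) (ofFree s F) (ofFree_toFree s h3 h1 F h2)

include h3 h1 h2 in
theorem finite_leftIdeal : Module.Finite R (leftIdeal R s) := by
  apply Module.Finite.of_surjective (ofFree s F)
  intro z
  exact ⟨toFree s h3 h1 F z, congrArg (fun f => f z) (ofFree_toFree s h3 h1 F h2)⟩

include h2 in
theorem actHom_injective : Function.Injective (actHom R s) := by
  rw [injective_iff_map_eq_zero]
  intro b hb
  have hz : ∀ w : B, b * (w * s) = 0 := by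
    intro w
    have := congrArg (fun f => ((f ⟨w * s, mul_self_mem s w⟩ : leftIdeal R s) : B)) hb
    simpa [actHom_apply] using this
  calc b = b * ∑ p ∈ F, p.1 * s * p.2 := by rw [h2, mul_one]
    _ = ∑ p ∈ F, b * (p.1 * s) * p.2 := by
      rw [Finset.mul_sum]
      refine Finset.sum_congr rfl (fun p _ => ?_)
      noncomm_ring
    _ = 0 := by
      apply Finset.sum_eq_zero
      intro p _
      rw [hz, zero_mul]

include h3 h1 h2 in
theorem actHom_surjective : Function.Surjective (actHom R s) := by
  intro f
  refine ⟨∑ p ∈ F, ((f ⟨p.1 * s, mul_self_mem s _⟩ : leftIdeal R s) : B) * p.2, ?_⟩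
  ext z
  rw [actHom_apply, Finset.sum_mul]
  have key : ∀ p : B × B, ((f ⟨p.1 * s, mul_self_mem s _⟩ : leftIdeal R s) : B) * p.2 * (z : B) =
      ((coef s h1 p.2 z • f ⟨p.1 * s, mul_self_mem s _⟩ : leftIdeal R s) : B) := by
    intro p
    obtain ⟨w, hw⟩ := (mem_leftIdeal s).1 (f ⟨p.1 * s, mul_self_mem s _⟩).2
    rw [Submodule.coe_smul, ← hw, mul_assoc, mul_assoc, ← mul_assoc s, coef_spec s h1,
      mul_smul_comm]
  simp only [key]
  rw [← Submodule.coe_sum]
  congr 1
  simp only [← map_smul, ← map_sum]
  congr 1
  apply Subtype.ext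
  rw [Submodule.coe_sum]
  simp only [Submodule.coe_smul]
  exact sum_coef_smul s h1 F h2 z

include h3 h1 h2 in
theorem actHom_bijective : Function.Bijective (actHom R s) :=
  ⟨actHom_injective s F h2, actHom_surjective s h3 h1 F h2⟩

end Main

end Groth.Agent.Lib.Helper52.TPowMorita
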