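import Mathlib
import Groth.Agent.Lib.Helper52.TPowDesc
import Groth.Agent.Lib.Helper52.TPowMorita

/-!
# The tensor power `A^{⊗n}` of a split-by-`S` algebra is an endomorphism algebra

Given a faithfully flat `R`-algebra `S`, a splitting `θ : S ⊗ A ≃ M_n(S)` and the descended
antisymmetrizer `s ∈ A^{⊗n}`, the left ideal `E = A^{⊗n} s` is finitely generated projective of
rank `n^n` and `A^{⊗n} ≃ End_R(E)`.
-/

set_option autoImplicit false
set_option linter.style.haveILetI false
set_option linter.unusedSectionVars false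
set_option linter.unusedVariables false
set_option linter.unusedSimpArgs false

namespace Groth.Agent.Lib.Helper52.TPowMain

open scoped TensorProduct
open Groth.Agent.Lib.Helper52.TPowMat Groth.Agent.Lib.Helper52.TPowPsi PiTensorProduct
  Groth.Agent.Lib.Helper52.TPowDesc Groth.Agent.Lib.Helper52.TPowMorita

universe u

variable {R S A : Type u} [CommRing R] [CommRing S] [Algebra R S] [Module.FaithfullyFlat R S]
  [Ring A] [Algebra R A] [Module.Finite R A] [Module.Projective R A] {n : ℕ}
  (hrank : ∀ p : PrimeSpectrum R, Module.rankAtStalk (R := R) A p = n ^ 2)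
  (θ : S ⊗[R] A ≃ₐ[S] Matrix (Fin n) (Fin n) S)
  (s : ⨂[R] _ : Fin n, A) (hs : psi (spl θ) s = s0 n S)

lemma psi_eq_psiT (b : ⨂[R] _ : Fin n, A) :
    psi (spl θ) b = psiT (spl θ) ((1 : S) ⊗ₜ[R] b) := by
  rw [psiT_tmul, one_smul]

include hrank in
lemma psi_injective : Function.Injective (psi (spl θ)) := by
  rw [injective_iff_map_eq_zero]
  intro b hb
  rw [psi_eq_psiT, ← map_zero (psiT (spl θ))] at hb
  have := (psiT_bijective hrank θ).1 hb
  exact (Module.FaithfullyFlat.one_tmul_eq_zero_iff R _ b).1 this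

include hs in
lemma smul_s_eq_zero (r : R) (h : r • s = 0) : r = 0 := by
  have h1 : psi (spl θ) (r • s) = 0 := by rw [h, map_zero]
  rw [map_smul, hs] at h1
  have h2 := congrFun (congrFun h1 id) id
  rw [Matrix.smul_apply, s0_id_id, Matrix.zero_apply, Algebra.smul_def, mul_one] at h2
  exact FaithfulSMul.algebraMap_injective R S (by rw [h2, map_zero])

include hrank hs in
lemma s_mul_mul_s (x : ⨂[R] _ : Fin n, A) : ∃ c : R, s * x * s = c • s := by
  classical
  obtain ⟨cS, hcS⟩ : ∃ cS : S, psi (spl θ) (s * x * s) = cS • s0 n S := by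
    rw [map_mul, map_mul, hs, s0_mul_mul_s0]
    exact ⟨_, rfl⟩
  have h1 : (1 : S) ⊗ₜ[R] (s * x * s) = cS • ((1 : S) ⊗ₜ[R] s) := by
    apply (psiT_bijective hrank θ).1
    rw [map_smul, ← psi_eq_psiT, ← psi_eq_psiT, hcS, hs]
  have h2 : Submodule.span R {s * x * s} ≤ Submodule.span R {s} := by
    rw [← Submodule.baseChange_le_iff (A := S), Submodule.baseChange_span,
      Submodule.baseChange_span, Set.image_singleton, Set.image_singleton, Submodule.span_le,
      Set.singleton_subset_iff, SetLike.mem_coe]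
    show (1 : S) ⊗ₜ[R] (s * x * s) ∈ _
    rw [h1]
    exact Submodule.smul_mem _ _ (Submodule.subset_span rfl)
  obtain ⟨c, hc⟩ := Submodule.mem_span_singleton.1 (h2 (Submodule.subset_span rfl))
  exact ⟨c, hc.symm⟩

/-- `x ⊗ y ↦ x s y` -/
noncomputable def sandwich : (⨂[R] _ : Fin n, A) ⊗[R] (⨂[R] _ : Fin n, A) →ₗ[R]
    (⨂[R] _ : Fin n, A) :=
  LinearMap.mul' R (⨂[R] _ : Fin n, A) ∘ₗ
    LinearMap.rTensor (⨂[R] _ : Fin n, A) (LinearMap.mulRight R s)

lemma sandwich_tmul (x y : ⨂[R] _ : Fin n, A) : sandwich s (x ⊗ₜ[R] y) = x * s * y := by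
  simp [sandwich]

lemma mul_mul_mem_baseChange (w w' : S ⊗[R] (⨂[R] _ : Fin n, A)) :
    w * ((1 : S) ⊗ₜ[R] s) * w' ∈ (LinearMap.range (sandwich s)).baseChange S := by
  induction w using TensorProduct.induction_on with
  | zero => simp
  | add x y hx hy =>
    rw [add_mul, add_mul]
    exact Submodule.add_mem _ hx hy
  | tmul t b =>
    induction w' using TensorProduct.induction_on with
    | zero => simp
    | add x y hx hy =>
      rw [mul_add]
      exact Submodule.add_mem _ hx hy
    | tmul t' b' =>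
      rw [Algebra.TensorProduct.tmul_mul_tmul, Algebra.TensorProduct.tmul_mul_tmul]
      exact Submodule.tmul_mem_baseChange_of_mem _ ⟨b ⊗ₜ[R] b', sandwich_tmul s b b'⟩

include hrank hs in
lemma exists_sum_eq_one : ∃ F : Finset ((⨂[R] _ : Fin n, A) × (⨂[R] _ : Fin n, A)),
    ∑ p ∈ F, p.1 * s * p.2 = 1 := by
  classical
  let e := psiTEquiv hrank θ
  have he : e.symm (s0 n S) = (1 : S) ⊗ₜ[R] s := by
    rw [AlgEquiv.symm_apply_eq, psiTEquiv_apply, ← psi_eq_psiT, hs]
  have h1 : (1 : S ⊗[R] (⨂[R] _ : Fin n, A)) ∈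
      (LinearMap.range (sandwich s)).baseChange S := by
    have : (1 : S ⊗[R] (⨂[R] _ : Fin n, A)) = e.symm 1 := (map_one e.symm).symm
    rw [this, one_eq_sum (n := n) (T := S), map_sum]
    refine Submodule.sum_mem _ (fun K _ => ?_)
    rw [map_mul, map_mul, he]
    exact mul_mul_mem_baseChange s _ _
  have h2 : Submodule.span R {(1 : ⨂[R] _ : Fin n, A)} ≤ LinearMap.range (sandwich s) := by
    rw [← Submodule.baseChange_le_iff (A := S), Submodule.baseChange_span,
      Set.image_singleton, Submodule.span_le, Set.singleton_subset_iff, SetLike.mem_coe]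
    exact h1
  obtain ⟨z, hz⟩ := h2 (Submodule.subset_span rfl)
  obtain ⟨F, hF⟩ := TensorProduct.exists_finset z
  refine ⟨F, ?_⟩
  rw [← hz, hF, map_sum]
  exact Finset.sum_congr rfl (fun p _ => (sandwich_tmul s p.1 p.2).symm)

/-! ### The rank of the left ideal -/

section RankE

/-- the `id`-column of a big matrix -/
noncomputable def colLin : MatN n S →ₗ[S] (Idx n → S) :=
  LinearMap.pi (fun I => Matrix.entryLinearMap S S I (id : Idx n))

/-- the comparison map `S ⊗ E → S^{n^n}` -/
noncomputable def gMap : S ⊗[R] (leftIdeal R s) →ₗ[S] (Idx n → S) :=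
  colLin ∘ₗ (psiT (spl θ)).toLinearMap ∘ₗ ((leftIdeal R s).subtype.baseChange S)

lemma exists_eq_mul_s0 (hs : psi (spl θ) s = s0 n S) (z : S ⊗[R] (leftIdeal R s)) :
    ∃ X : MatN n S, psiT (spl θ) ((leftIdeal R s).subtype.baseChange S z) = X * s0 n S := by
  induction z using TensorProduct.induction_on with
  | zero => exact ⟨0, by simp⟩
  | tmul t e =>
    obtain ⟨w, hw⟩ := (mem_leftIdeal s).1 e.2
    refine ⟨t • psi (spl θ) w, ?_⟩
    rw [LinearMap.baseChange_tmul, psiT_tmul, Submodule.subtype_apply, ← hw, map_mul, hs,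
      Matrix.smul_mul]
  | add x y hx hy =>
    obtain ⟨X, hX⟩ := hx
    obtain ⟨Y, hY⟩ := hy
    exact ⟨X + Y, by rw [map_add, map_add, hX, hY, add_mul]⟩

include hrank hs in
lemma gMap_injective : Function.Injective (gMap θ s) := by
  rw [← LinearMap.ker_eq_bot, LinearMap.ker_eq_bot']
  intro z hz
  obtain ⟨X, hX⟩ := exists_eq_mul_s0 θ s hs z
  have h0 : X * s0 n S = 0 := by
    ext I J
    rw [mul_s0_apply, Matrix.zero_apply]
    have := congrFun hz I
    simp only [gMap, colLin, LinearMap.comp_apply, LinearMap.pi_apply,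
      Matrix.entryLinearMap_apply, AlgHom.toLinearMap_apply, Pi.zero_apply] at this
    rw [hX] at this
    rw [this, zero_mul]
  rw [h0, ← map_zero (psiT (spl θ))] at hX
  have h1 := (psiT_bijective hrank θ).1 hX
  have hinj : Function.Injective ((leftIdeal R s).subtype.baseChange S) := by
    rw [LinearMap.baseChange_eq_ltensor]
    exact Module.Flat.lTensor_preserves_injective_linearMap _ Subtype.val_injective
  exact hinj (by rw [h1, map_zero])

lemma mul_one_tmul_mem_range (w : S ⊗[R] (⨂[R] _ : Fin n, A)) :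
    w * ((1 : S) ⊗ₜ[R] s) ∈ LinearMap.range ((leftIdeal R s).subtype.baseChange S) := by
  induction w using TensorProduct.induction_on with
  | zero => simp
  | add x y hx hy =>
    rw [add_mul]
    exact Submodule.add_mem _ hx hy
  | tmul t b =>
    rw [Algebra.TensorProduct.tmul_mul_tmul, mul_one]
    exact ⟨t ⊗ₜ[R] ⟨b * s, mul_self_mem s b⟩, rfl⟩

include hrank hs in
lemma gMap_surjective : Function.Surjective (gMap θ s) := by
  classical
  intro v
  let e := psiTEquiv hrank θ
  let X : MatN n S := Matrix.of fun I K => if K = id then v I else 0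
  obtain ⟨z, hz⟩ := mul_one_tmul_mem_range s (e.symm X)
  refine ⟨z, ?_⟩
  funext I
  simp only [gMap, colLin, LinearMap.comp_apply, LinearMap.pi_apply,
    Matrix.entryLinearMap_apply, AlgHom.toLinearMap_apply]
  rw [hz, map_mul, ← psi_eq_psiT, hs]
  have : psiT (spl θ) (e.symm X) = X := e.apply_symm_apply X
  rw [this, Matrix.mul_apply, Finset.sum_eq_single (id : Idx n)]
  · simp [X, s0_id_id]
  · intro K _ hK
    simp [X, hK]
  · intro h
    exact absurd (Finset.mem_univ _) h

include hrank hs in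
theorem rankAtStalk_leftIdeal [Module.Finite R (leftIdeal R s)] [Module.Flat R (leftIdeal R s)]
    (p : PrimeSpectrum R) : Module.rankAtStalk (R := R) (leftIdeal R s) p = n ^ n := by
  classical
  obtain ⟨q, rfl⟩ := PrimeSpectrum.comap_surjective_of_faithfullyFlat (A := R) (B := S) p
  haveI : Nontrivial S := q.nontrivial
  let g : S ⊗[R] (leftIdeal R s) ≃ₗ[S] (Idx n → S) :=
    LinearEquiv.ofBijective (gMap θ s) ⟨gMap_injective hrank θ s hs, gMap_surjective hrank θ s hs⟩
  rw [← Module.rankAtStalk_baseChange, Module.rankAtStalk_eq_of_equiv g,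
    Module.rankAtStalk_eq_finrank_of_free]
  simp

end RankE

end Groth.Agent.Lib.Helper52.TPowMain
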